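import Mathlib.GroupTheory.Sylow
import Mathlib.Algebra.Group.End

namespace CfsgLib.TwoFusion.ConjUtil

variable {G : Type*} [Group G]

theorem mem_conjMap_iff (g y : G) (H : Subgroup G) :
    y ∈ H.map (MulAut.conj g).toMonoidHom ↔ g⁻¹ * y * g ∈ H := by
  constructor
  · rintro ⟨x, hx, rfl⟩
    simpa [mul_assoc] using hx
  · intro h
    exact ⟨g⁻¹ * y * g, h, by simp [mul_assoc]⟩

theorem conjMap_conjMap (a b : G) (H : Subgroup G) :
    (H.map (MulAut.conj b).toMonoidHom).map (MulAut.conj a).toMonoidHom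
      = H.map (MulAut.conj (a * b)).toMonoidHom := by
  ext y
  simp only [mem_conjMap_iff, mul_inv_rev, mul_assoc]

theorem conjMap_one (H : Subgroup G) : H.map (MulAut.conj (1 : G)).toMonoidHom = H := by
  ext y; simp [mem_conjMap_iff]

theorem conjMap_mono (g : G) {H K : Subgroup G} (h : H ≤ K) :
    H.map (MulAut.conj g).toMonoidHom ≤ K.map (MulAut.conj g).toMonoidHom :=
  Subgroup.map_mono h

theorem card_conjMap (g : G) (H : Subgroup G) :
    Nat.card (H.map (MulAut.conj g).toMonoidHom) = Nat.card H :=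
  Subgroup.card_map_of_injective (MulAut.conj g).injective

theorem conjMap_eq_self_of_le [Finite G] (g : G) {H : Subgroup G}
    (h : H.map (MulAut.conj g).toMonoidHom ≤ H) : H.map (MulAut.conj g).toMonoidHom = H :=
  Subgroup.eq_of_le_of_card_ge h (card_conjMap g H).ge

theorem mem_normalizer_iff_conjMap (g : G) (H : Subgroup G) :
    g ∈ Subgroup.normalizer (H : Set G) ↔ H.map (MulAut.conj g).toMonoidHom = H := by
  rw [Subgroup.mem_normalizer_iff'', SetLike.ext_iff]
  simp only [mem_conjMap_iff]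
  exact forall_congr' fun x => ⟨fun h => h.symm, fun h => h.symm⟩

theorem mem_normalizer_of_conj_mem [Finite G] (g : G) {H : Subgroup G}
    (h : ∀ x ∈ H, g * x * g⁻¹ ∈ H) : g ∈ Subgroup.normalizer (H : Set G) := by
  rw [mem_normalizer_iff_conjMap]
  refine conjMap_eq_self_of_le g ?_
  rintro y ⟨x, hx, rfl⟩
  simpa using h x hx

variable {p : ℕ} [Fact p.Prime]

/-- Any two Sylow subgroups are conjugate, in `map` form. -/
theorem sylow_eq_conjMap [Finite G] (P Q : Sylow p G) :
    ∃ g : G, (Q : Subgroup G) = (P : Subgroup G).map (MulAut.conj g).toMonoidHom := by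
  obtain ⟨g, rfl⟩ := MulAction.exists_smul_eq G P Q
  exact ⟨g, rfl⟩

/-- A `p`-subgroup has a conjugate inside a given Sylow subgroup. -/
theorem exists_conjMap_le [Finite G] (P : Sylow p G) {A : Subgroup G} (hA : IsPGroup p A) :
    ∃ g : G, A.map (MulAut.conj g).toMonoidHom ≤ (P : Subgroup G) := by
  obtain ⟨Q, hQ⟩ := hA.exists_le_sylow
  obtain ⟨g, hg⟩ := sylow_eq_conjMap Q P
  exact ⟨g, hg ▸ conjMap_mono g hQ⟩

/-- A `p`-element has a conjugate inside a given Sylow subgroup. -/
theorem exists_conj_mem [Finite G] (P : Sylow p G) {x : G} {k : ℕ} (hx : orderOf x = p ^ k) :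
    ∃ g : G, g * x * g⁻¹ ∈ P := by
  have hA : IsPGroup p (Subgroup.zpowers x) :=
    IsPGroup.of_card (n := k) (by rw [Nat.card_zpowers, hx])
  obtain ⟨g, hg⟩ := exists_conjMap_le P hA
  exact ⟨g, hg ⟨x, Subgroup.mem_zpowers x, by simp⟩⟩

/-- A Sylow subgroup inside a subgroup `M`, containing a given `p`-subgroup of `M`. -/
theorem exists_sylow_le {A M : Subgroup G} [Finite G] (hA : IsPGroup p A) (hAM : A ≤ M) :
    ∃ P : Sylow p M, A ≤ (P : Subgroup M).map M.subtype := by
  obtain ⟨P, hP⟩ := (hA.of_equiv (Subgroup.subgroupOfEquivOfLe hAM).symm).exists_le_sylow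
  refine ⟨P, fun x hx => ⟨⟨x, hAM hx⟩, hP ?_, rfl⟩⟩
  exact hx

end CfsgLib.TwoFusion.ConjUtil
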