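import Mathlib.GroupTheory.Sylow
import Mathlib.GroupTheory.Nilpotent
import Cfsg.Prelude.Def_CaseTheorems
import Cfsg.Agent.Lib.TwoFusion.ConjUtil

namespace CfsgLib.TwoFusion.PRank

variable {p k : ℕ}

theorem pRankLE_of_injective {X Y : Type*} [Group X] [Group Y] (f : X →* Y)
    (hf : Function.Injective f) (h : Cfsg.PRankLE p k Y) : Cfsg.PRankLE p k X := by
  intro A hA hAp
  rw [← Subgroup.card_map_of_injective (K := A) hf]
  refine h _ ⟨⟨?_⟩⟩ ?_
  · rintro ⟨_, a, ha, rfl⟩ ⟨_, b, hb, rfl⟩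
    have := congrArg Subtype.val (hA.is_comm.comm ⟨a, ha⟩ ⟨b, hb⟩)
    exact Subtype.ext (by simpa [← map_mul] using congrArg f this)
  · rintro _ ⟨a, ha, rfl⟩
    rw [← map_pow, hAp a ha, map_one]

theorem pRankLE_mono {G : Type*} [Group G] {X Y : Subgroup G} (hXY : X ≤ Y)
    (h : Cfsg.PRankLE p k Y) : Cfsg.PRankLE p k X :=
  pRankLE_of_injective (Subgroup.inclusion hXY) (Subgroup.inclusion_injective hXY) h

theorem pRankLE_conjMap {G : Type*} [Group G] (g : G) (X : Subgroup G) :
    Cfsg.PRankLE p k (X.map (MulAut.conj g).toMonoidHom) ↔ Cfsg.PRankLE p k X :=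
  ⟨pRankLE_of_injective (X.equivMapOfInjective _ (MulAut.conj g).injective).toMonoidHom
      (X.equivMapOfInjective _ (MulAut.conj g).injective).injective,
    pRankLE_of_injective
      (X.equivMapOfInjective _ (MulAut.conj g).injective).symm.toMonoidHom
      (X.equivMapOfInjective _ (MulAut.conj g).injective).symm.injective⟩

theorem exists_pSubgroup_of_not_pRankLE {G : Type*} [Group G] {X : Subgroup G} [Fact p.Prime]
    (h : ¬ Cfsg.PRankLE p k X) :
    ∃ A : Subgroup G, A ≤ X ∧ IsPGroup p A ∧ ¬ Cfsg.PRankLE p k A := by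
  simp only [Cfsg.PRankLE, not_forall] at h
  obtain ⟨A, hA, hAp, hcard⟩ := h
  refine ⟨A.map X.subtype, Subgroup.map_subtype_le A, ?_, fun h' => hcard ?_⟩
  · refine IsPGroup.map (fun a => ⟨1, Subtype.ext ?_⟩) _
    simpa using hAp a a.2
  · have e := A.equivMapOfInjective X.subtype X.subtype_injective
    have hA' : Cfsg.PRankLE p k A := pRankLE_of_injective e.toMonoidHom e.injective h'
    have h := hA' ⊤ ⟨⟨fun a b => Subtype.ext (hA.is_comm.comm a b)⟩⟩
      fun a _ => Subtype.ext (by simpa using hAp a a.2)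
    rwa [Subgroup.card_top] at h

variable {G : Type*} [Group G] [Finite G] [Fact p.Prime]

/-- Core of the `k`-generated core criterion. -/
theorem mem_of_rank_intersection (H : Subgroup G) (P : Sylow p H)
    (hPr : ¬ Cfsg.PRankLE p k ↥((P : Subgroup H).map H.subtype))
    (hN : ∀ X : Subgroup G, X ≤ (P : Subgroup H).map H.subtype → ¬ Cfsg.PRankLE p k ↥X →
      Subgroup.normalizer (X : Set G) ≤ H)
    {g : G} {X : Subgroup G} (hX : IsPGroup p X)
    (hXr : ¬ Cfsg.PRankLE p k ↥X) (hXH : X ≤ H) (hXg : X ≤ H.map (MulAut.conj g).toMonoidHom) :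
    g ∈ H := by
  induction hn : Nat.card G - Nat.card X using Nat.strong_induction_on generalizing X with
  | _ n ih =>
  set P' := (P : Subgroup H).map H.subtype with hP'
  -- a conjugate of a `p`-subgroup of `H` lies in `P'`
  have hconj : ∀ Y : Subgroup G, IsPGroup p Y → Y ≤ H →
      ∃ h ∈ H, Y.map (MulAut.conj h).toMonoidHom ≤ P' := by
    intro Y hY hYH
    obtain ⟨h, hh⟩ := ConjUtil.exists_conjMap_le P
      (hY.of_equiv (Subgroup.subgroupOfEquivOfLe hYH).symm)
    refine ⟨h, h.2, ?_⟩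
    rintro _ ⟨y, hy, rfl⟩
    exact ⟨_, hh ⟨⟨y, hYH hy⟩, hy, rfl⟩, rfl⟩
  have hnorm : ∀ Y : Subgroup G, IsPGroup p Y → Y ≤ H → ¬ Cfsg.PRankLE p k ↥Y →
      Subgroup.normalizer (Y : Set G) ≤ H := by
    intro Y hY hYH hYr y hy
    obtain ⟨h, hh, hle⟩ := hconj Y hY hYH
    have hm : h * y * h⁻¹ ∈ Subgroup.normalizer
        ((Y.map (MulAut.conj h).toMonoidHom : Subgroup G) : Set G) := by
      rw [ConjUtil.mem_normalizer_iff_conjMap, ConjUtil.conjMap_conjMap,
        inv_mul_cancel_right, ← ConjUtil.conjMap_conjMap,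
        (ConjUtil.mem_normalizer_iff_conjMap y Y).mp hy]
    have hH := hN _ hle (by rwa [pRankLE_conjMap]) hm
    simpa [mul_assoc] using H.mul_mem (H.mul_mem (H.inv_mem hh) hH) hh
  set X' := X.map (MulAut.conj g⁻¹).toMonoidHom with hX'
  have hX'p : IsPGroup p X' := hX.map _
  have hX'H : X' ≤ H := by
    have h := ConjUtil.conjMap_mono g⁻¹ hXg
    rwa [ConjUtil.conjMap_conjMap, inv_mul_cancel, ConjUtil.conjMap_one] at h
  have hX'r : ¬ Cfsg.PRankLE p k ↥X' := by rwa [hX', pRankLE_conjMap]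
  obtain ⟨Q, hQ⟩ := hX.exists_le_sylow
  by_cases hXQ : (Q : Subgroup G) = X
  · -- `X` is a Sylow subgroup of `G`
    obtain ⟨h₁, hh₁, hle₁⟩ := hconj X hX hXH
    obtain ⟨h₂, hh₂, hle₂⟩ := hconj X' hX'p hX'H
    have hP'p : IsPGroup p P' := P.isPGroup'.map _
    have hmax : Nat.card P' ≤ Nat.card X := by
      obtain ⟨R, hR⟩ := hP'p.exists_le_sylow
      calc Nat.card P' ≤ Nat.card (R : Subgroup G) := Subgroup.card_le_of_le hR
        _ = Nat.card (Q : Subgroup G) := Nat.card_congr (Sylow.equiv R Q).toEquiv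
        _ = Nat.card X := by rw [hXQ]
    have e₁ : X.map (MulAut.conj h₁).toMonoidHom = P' :=
      Subgroup.eq_of_le_of_card_ge hle₁ (by rw [ConjUtil.card_conjMap]; exact hmax)
    have e₂ : X'.map (MulAut.conj h₂).toMonoidHom = P' :=
      Subgroup.eq_of_le_of_card_ge hle₂
        (by rw [ConjUtil.card_conjMap, hX', ConjUtil.card_conjMap]; exact hmax)
    have hn : h₂ * g⁻¹ * h₁⁻¹ ∈ Subgroup.normalizer (P' : Set G) := by
      rw [ConjUtil.mem_normalizer_iff_conjMap]
      conv_lhs => rw [← e₁]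
      rw [ConjUtil.conjMap_conjMap, inv_mul_cancel_right, ← ConjUtil.conjMap_conjMap]
      exact e₂
    have hH := hN P' le_rfl hPr hn
    have h3 := H.mul_mem (H.mul_mem (H.inv_mem hh₂) hH) hh₁
    simp only [mul_assoc, inv_mul_cancel_left, inv_mul_cancel, mul_one] at h3
    simpa using H.inv_mem h3
  · -- grow `X`
    have hlt : X < (Q : Subgroup G) := lt_of_le_of_ne hQ (Ne.symm hXQ)
    have hnil : Group.IsNilpotent (Q : Subgroup G) := Q.isPGroup'.isNilpotent
    have hne : X.subgroupOf (Q : Subgroup G) < ⊤ := lt_top_iff_ne_top.mpr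
      (fun h => hlt.not_ge (Subgroup.subgroupOf_eq_top.mp h))
    have hgrow := Group.normalizerCondition_of_isNilpotent (G := ↥(Q : Subgroup G)) _ hne
    set Y := (Subgroup.normalizer ((X.subgroupOf (Q : Subgroup G)) : Set (Q : Subgroup G))).map
      (Q : Subgroup G).subtype with hYdef
    have hYlt : X < Y := by
      have := Subgroup.map_subtype_le_map_subtype.mpr hgrow.le
      rw [Subgroup.subgroupOf_map_subtype, inf_eq_left.mpr hQ] at this
      refine lt_of_le_of_ne this fun h => hgrow.ne ?_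
      apply Subgroup.map_injective (Q : Subgroup G).subtype_injective
      rw [Subgroup.subgroupOf_map_subtype, inf_eq_left.mpr hQ]
      exact h
    have hYN : Y ≤ Subgroup.normalizer (X : Set G) := by
      rintro _ ⟨y, hy, rfl⟩
      refine ConjUtil.mem_normalizer_of_conj_mem _ fun x hx => ?_
      exact ((Subgroup.mem_normalizer_iff.mp hy) ⟨x, hQ hx⟩).mp hx
    have hYH : Y ≤ H := hYN.trans (hnorm X hX hXH hXr)
    have hYg : Y ≤ H.map (MulAut.conj g).toMonoidHom := by
      intro y hy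
      rw [ConjUtil.mem_conjMap_iff]
      refine hnorm X' hX'p hX'H hX'r ?_
      rw [ConjUtil.mem_normalizer_iff_conjMap, hX', ConjUtil.conjMap_conjMap, mul_assoc,
        mul_inv_cancel, mul_one, ← ConjUtil.conjMap_conjMap,
        (ConjUtil.mem_normalizer_iff_conjMap y X).mp (hYN hy)]
    refine ih (Nat.card G - Nat.card Y) ?_ (Q.isPGroup'.to_le (Subgroup.map_subtype_le _)) ?_ hYH hYg rfl
    · have hc : Nat.card X < Nat.card Y :=
        lt_of_le_of_ne (Subgroup.card_le_of_le hYlt.le)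
          fun h => hYlt.ne (Subgroup.eq_of_le_of_card_ge hYlt.le h.ge)
      have : Nat.card Y ≤ Nat.card G := Subgroup.card_le_card_group Y
      omega
    · exact fun h => hXr (pRankLE_mono hYlt.le h)

end CfsgLib.TwoFusion.PRank
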