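import Cfsg.Prelude.Def_Transfer
import Cfsg.Agent.Lib.Components.GenFittingSub
import Cfsg.Agent.Lib.CharP.Coprime
import Cfsg.Agent.Lib.CharP.Locals
import Cfsg.Agent.Lib.PNilpotent.Basic
import Cfsg.Agent.Lib.Subnormal.Join
import Cfsg.Agent.Lib.Transfer.PResidual

/-!
Bender's maximal subgroup lemma: a subnormal self-centralising subgroup `S` of `F*(A)`, `A` maximal in a
simple group, controls the `p`-cores of the overgroups of `S`.

`T = F(H) ⊓ O_{p'}(H)` is the `p'`-part of the Fitting subgroup throughout.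
-/

set_option autoImplicit false

namespace CfsgLib.TwoFusion.BenderMax

open Subgroup CfsgLib.Components

/-- Coprime stabilisation: `y` centralises a nilpotent `T` that it normalises, if it centralises a
self-centralising subgroup of `T`. -/
theorem commute_of_selfCentralizing {G : Type*} [Group G] [Finite G] {T S0 : Subgroup G}
    (hT : Group.IsNilpotent T) (hS0 : S0 ≤ T) (hC : T ⊓ centralizer (S0 : Set G) ≤ S0) {y : G}
    (hy : ∀ n ∈ T, y * n * y⁻¹ ∈ T) (hcop : (orderOf y).Coprime (Nat.card T))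
    (hyS : ∀ s ∈ S0, Commute y s) : ∀ n ∈ T, Commute y n := by
  by_contra hcon
  push Not at hcon
  obtain ⟨n0, hn0, hn0y⟩ := hcon
  set S1 : Subgroup G := T ⊓ centralizer ({y} : Set G) with hS1
  have mem1 : ∀ {n : G}, n ∈ S1 ↔ n ∈ T ∧ Commute y n := by
    intro n
    rw [hS1, mem_inf, mem_centralizer_singleton_iff]
    exact and_congr_right fun _ => ⟨fun h => h.symm, fun h => h.symm⟩
  have h01 : S0 ≤ S1 := fun s hs => mem1.mpr ⟨hS0 hs, hyS s hs⟩
  haveI := hT
  have hlt : S1.subgroupOf T < ⊤ := by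
    rw [lt_top_iff_ne_top, Ne, subgroupOf_eq_top]
    exact fun h => hn0y (mem1.mp (h hn0)).2
  obtain ⟨⟨n, hnT⟩, hn, hnS⟩ :=
    SetLike.exists_of_lt (Group.normalizerCondition_of_isNilpotent _ hlt)
  apply hnS
  rw [mem_subgroupOf, mem1]
  refine ⟨hnT, ?_⟩
  set d : G := n⁻¹ * (y * n * y⁻¹) with hd
  have hdT : d ∈ T := T.mul_mem (T.inv_mem hnT) (hy n hnT)
  have hdC : ∀ s ∈ S0, s * d = d * s := by
    intro s hs
    have h1 : n * s * n⁻¹ ∈ S1 :=
      (mem_normalizer_iff.mp hn ⟨s, hS0 hs⟩).mp (h01 hs)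
    have h2 : y * (n * s * n⁻¹) * y⁻¹ = n * s * n⁻¹ := by
      rw [(mem1.mp h1).2.eq]
      group
    have h3 : y⁻¹ * s * y = s := by
      calc y⁻¹ * s * y = y⁻¹ * (s * y) := by group
        _ = y⁻¹ * (y * s) := by rw [(hyS s hs).eq]
        _ = s := by group
    have h4 : d * s * d⁻¹ = s := by
      calc d * s * d⁻¹ = n⁻¹ * (y * (n * (y⁻¹ * s * y) * n⁻¹) * y⁻¹) * n := by rw [hd]; group
        _ = n⁻¹ * (n * s * n⁻¹) * n := by rw [h3, h2]
        _ = s := by group
    calc s * d = d * s * d⁻¹ * d := by rw [h4]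
      _ = d * s := by group
  have hyd : Commute y d := hyS d (hC ⟨hdT, mem_centralizer_iff.mpr hdC⟩)
  have hk : ∀ k : ℕ, y ^ k * n * (y ^ k)⁻¹ = n * d ^ k := by
    intro k
    induction k with
    | zero => simp
    | succ k ih =>
      calc y ^ (k + 1) * n * (y ^ (k + 1))⁻¹ = y * (y ^ k * n * (y ^ k)⁻¹) * y⁻¹ := by
            rw [pow_succ']; group
        _ = (y * n * y⁻¹) * (y * d ^ k * y⁻¹) := by rw [ih]; group
        _ = n * d * d ^ k := by
            rw [(hyd.pow_right k).eq, mul_inv_cancel_right, hd]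
            group
        _ = n * d ^ (k + 1) := by rw [pow_succ', mul_assoc]
  have h5 := hk (orderOf y)
  rw [pow_orderOf_eq_one] at h5
  have h6 : d ^ orderOf y = 1 := by simpa using h5.symm
  have h7 : orderOf d = 1 := Nat.eq_one_of_dvd_coprimes hcop (orderOf_dvd_of_pow_eq_one h6)
    (T.orderOf_dvd_natCard hdT)
  rw [orderOf_eq_one_iff] at h7
  have h8 : y * n * y⁻¹ = n := by
    calc y * n * y⁻¹ = n * d := by rw [hd]; group
      _ = n := by rw [h7, mul_one]
  calc y * n = y * n * y⁻¹ * y := by group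
    _ = n * y := by rw [h8]

variable {H : Type*} [Group H] [Finite H] {p : ℕ} [Fact p.Prime]

omit [Fact p.Prime] in
theorem isSubnormal_zpowers_fit {x : H} (hx : x ∈ Cfsg.fittingSubgroup H) :
    (zpowers x).IsSubnormal := by
  haveI := CfsgLib.Solvable.fittingSubgroup_isNilpotent H
  exact IsSubnormal.trans (zpowers_le.mpr hx)
    (CfsgLib.Subnormal.isSubnormal_of_normalizerCondition
      Group.normalizerCondition_of_isNilpotent _)
    (Normal.isSubnormal inferInstance)

omit [Fact p.Prime] in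
theorem mem_part_of_coprime {x : H} (hx : x ∈ Cfsg.fittingSubgroup H)
    (hc : (orderOf x).Coprime p) : x ∈ Cfsg.fittingSubgroup H ⊓ Cfsg.pPrimeCore p H :=
  ⟨hx, le_pPrimeCore_of_isSubnormal (isSubnormal_zpowers_fit hx) (by rwa [Nat.card_zpowers])
    (mem_zpowers x)⟩

theorem mem_pCore_of_pow {x : H} (hx : x ∈ Cfsg.fittingSubgroup H) {k : ℕ}
    (hk : orderOf x = p ^ k) : x ∈ Cfsg.pCore p H :=
  le_pCore_of_isSubnormal (isSubnormal_zpowers_fit hx)
    (IsPGroup.of_card (n := k) (by rw [Nat.card_zpowers, hk])) (mem_zpowers x)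

theorem commute_pCore_part {a b : H} (ha : a ∈ Cfsg.pCore p H)
    (hb : b ∈ Cfsg.fittingSubgroup H ⊓ Cfsg.pPrimeCore p H) : Commute a b := by
  obtain ⟨k, hk⟩ := (isPGroup_pCore (G := H) p).exists_card_eq
  refine commute_of_normal_of_disjoint _ _ inferInstance inferInstance
    (disjoint_iff.mpr (inf_eq_bot_of_coprime ?_)) a b ha hb.2
  rw [hk]
  exact Nat.Coprime.pow_left _ (coprime_card_pPrimeCore p).symm

/-- What commutes with the `p`-part and the `p'`-part of `F(H)` commutes with `F(H)`. -/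
theorem commute_fit_of_parts {K : Subgroup H} {z : H}
    (h1 : ∀ a ∈ Cfsg.pCore p H, a ∈ K → Commute z a)
    (h2 : ∀ b ∈ Cfsg.fittingSubgroup H ⊓ Cfsg.pPrimeCore p H, b ∈ K → Commute z b)
    {f : H} (hf : f ∈ Cfsg.fittingSubgroup H) (hfK : f ∈ K) : Commute z f := by
  obtain ⟨a, b, hab, ⟨k, hk⟩, hb⟩ := CfsgLib.PNilpotent.exists_pPart_decomp (p := p) f
  rw [← hab]
  exact (h1 _ (mem_pCore_of_pow (pow_mem hf a) hk) (pow_mem hfK a)).mul_right
    (h2 _ (mem_part_of_coprime (pow_mem hf b) hb) (pow_mem hfK b))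

omit [Fact p.Prime] in
theorem commute_layer_fit {e f : H} (he : e ∈ Cfsg.layer H) (hf : f ∈ Cfsg.fittingSubgroup H) :
    Commute e f :=
  (le_centralizer_of_commutator_eq_bot layer_commutator_fitting he f hf).symm

omit [Finite H] [Fact p.Prime] in
/-- A subnormal self-centralising subgroup of `F*` contains the layer. -/
theorem layer_le {S : Subgroup H} (hSsn : S.IsSubnormal)
    (hSC : Cfsg.generalizedFittingSubgroup H ⊓ centralizer (S : Set H) ≤ S) :
    Cfsg.layer H ≤ S :=
  sSup_le fun L hL => (component_le_or_commutator hL hSsn).elim id fun h =>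
    (le_inf (component_le_genFitting hL) (le_centralizer_of_commutator_eq_bot h)).trans hSC

omit [Fact p.Prime] in
/-- An element of `F*` that centralises `E` and `S ⊓ F` lies in `S`. -/
theorem mem_of_commute {S : Subgroup H} (hSsn : S.IsSubnormal)
    (hSF : S ≤ Cfsg.generalizedFittingSubgroup H)
    (hSC : Cfsg.generalizedFittingSubgroup H ⊓ centralizer (S : Set H) ≤ S) {x : H}
    (hx : x ∈ Cfsg.generalizedFittingSubgroup H)
    (hE : ∀ e ∈ Cfsg.layer H, Commute e x)
    (hF : ∀ f ∈ Cfsg.fittingSubgroup H, f ∈ S → Commute f x) : x ∈ S := by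
  have hle : S ≤ centralizer ({x} : Set H) := by
    rw [CfsgLib.GenFittingSub.subnormal_le_genFitting_eq hSsn hSF]
    refine sup_le (sSup_le fun K hK k hk => ?_) fun f hf => ?_
    · exact mem_centralizer_singleton_iff.mpr (hE k (component_le_layer hK.1 hk)).eq
    · exact mem_centralizer_singleton_iff.mpr (hF f hf.1 hf.2).eq
  exact hSC ⟨hx, fun s hs => mem_centralizer_singleton_iff.mp (hle hs)⟩

/-- The `p'`-part of `F(H)` is centralised in itself by `S` only inside `S`. -/
theorem part_inf_centralizer_le {S : Subgroup H} (hSsn : S.IsSubnormal)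
    (hSF : S ≤ Cfsg.generalizedFittingSubgroup H)
    (hSC : Cfsg.generalizedFittingSubgroup H ⊓ centralizer (S : Set H) ≤ S) :
    (Cfsg.fittingSubgroup H ⊓ Cfsg.pPrimeCore p H) ⊓
      centralizer ((S ⊓ (Cfsg.fittingSubgroup H ⊓ Cfsg.pPrimeCore p H) : Subgroup H) : Set H) ≤
      S ⊓ (Cfsg.fittingSubgroup H ⊓ Cfsg.pPrimeCore p H) := by
  rintro x ⟨hxT, hxC⟩
  refine ⟨mem_of_commute hSsn hSF hSC (fitting_le_genFitting hxT.1)
    (fun e he => commute_layer_fit he hxT.1) (fun f hf hfS => ?_), hxT⟩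
  exact (commute_fit_of_parts (p := p) (K := S)
    (fun a ha _ => (commute_pCore_part ha hxT).symm)
    (fun b hb hbS => (mem_centralizer_iff.mp hxC b ⟨hbS, hb⟩).symm) hf hfS).symm

/-- A `p`-subgroup normalised by `S` centralises the layer and the `p'`-part of `F(H)`. -/
theorem pgroup_commute {S : Subgroup H} (hSsn : S.IsSubnormal)
    (hSF : S ≤ Cfsg.generalizedFittingSubgroup H)
    (hSC : Cfsg.generalizedFittingSubgroup H ⊓ centralizer (S : Set H) ≤ S)
    {P : Subgroup H} (hP : IsPGroup p P) (hSP : S ≤ normalizer (P : Set H)) {y : H} (hy : y ∈ P) :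
    (∀ e ∈ Cfsg.layer H, Commute y e) ∧
      ∀ t ∈ Cfsg.fittingSubgroup H ⊓ Cfsg.pPrimeCore p H, Commute y t := by
  set T := Cfsg.fittingSubgroup H ⊓ Cfsg.pPrimeCore p H with hT
  refine ⟨fun e he => ?_, ?_⟩
  · haveI := hP.isNilpotent
    have h := layer_commutator_solvable (H := P) inferInstance
      ((layer_le hSsn hSC).trans hSP)
    exact le_centralizer_of_commutator_eq_bot h he y hy
  have hTn : Group.IsNilpotent T := by
    haveI := CfsgLib.Solvable.fittingSubgroup_isNilpotent H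
    exact Subgroup.isNilpotent_of_ker_le_center (inclusion (inf_le_left : T ≤ Cfsg.fittingSubgroup H))
      (le_trans (le_of_eq ((MonoidHom.ker_eq_bot_iff _).mpr (inclusion_injective _))) bot_le)
  have hTc : (Nat.card T).Coprime p :=
    Nat.Coprime.coprime_dvd_left (card_dvd_of_le inf_le_right) (coprime_card_pPrimeCore p)
  haveI : T.Normal := hT ▸ inferInstance
  refine commute_of_selfCentralizing (S0 := S ⊓ T) hTn inf_le_right
    (part_inf_centralizer_le hSsn hSF hSC) (fun n hn => Normal.conj_mem inferInstance n hn y) ?_ ?_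
  · obtain ⟨j, hj⟩ := IsPGroup.iff_orderOf.mp hP ⟨y, hy⟩
    rw [orderOf_mk] at hj
    rw [hj]
    exact Nat.Coprime.pow_left _ hTc.symm
  · intro s hs
    have h1 : s * y⁻¹ * s⁻¹ ∈ P := (mem_normalizer_iff.mp (hSP hs.1) y⁻¹).mp (P.inv_mem hy)
    have h2 : y * s * y⁻¹ * s⁻¹ ∈ P := by
      have := P.mul_mem hy h1
      simpa [mul_assoc] using this
    have h3 : y * s * y⁻¹ * s⁻¹ ∈ T :=
      T.mul_mem (Normal.conj_mem inferInstance s hs.2 y) (T.inv_mem hs.2)
    have h4 := CfsgLib.CharP.eq_one_of_mem_pgroup hP h2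
      (Nat.Coprime.coprime_dvd_left (T.orderOf_dvd_natCard h3) hTc)
    show y * s = s * y
    calc y * s = y * s * y⁻¹ * s⁻¹ * (s * y) := by group
      _ = s * y := by rw [h4, one_mul]

/-- Elements of `F*` of order prime to `p` lie in `E` times the `p'`-part of `F`. -/
theorem mem_layer_sup_part {w : H} (hw : w ∈ Cfsg.generalizedFittingSubgroup H)
    (hc : (orderOf w).Coprime p) :
    w ∈ Cfsg.layer H ⊔ (Cfsg.fittingSubgroup H ⊓ Cfsg.pPrimeCore p H) := by
  set M := Cfsg.layer H ⊔ (Cfsg.fittingSubgroup H ⊓ Cfsg.pPrimeCore p H) with hM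
  haveI : M.Normal := hM ▸ inferInstance
  obtain ⟨e, he, f, hf, hef⟩ :=
    CfsgLib.GenFittingSub.exists_mul_of_mem_sup_of_commute layer_commutator_fitting hw
  obtain ⟨a, b, hab, ⟨k, hk⟩, hb⟩ := CfsgLib.PNilpotent.exists_pPart_decomp (p := p) f
  have hq : QuotientGroup.mk' M w = QuotientGroup.mk' M (f ^ a) := by
    have h1 : QuotientGroup.mk' M e = 1 :=
      (QuotientGroup.eq_one_iff e).mpr (mem_sup_left he)
    have h2 : QuotientGroup.mk' M (f ^ b) = 1 :=
      (QuotientGroup.eq_one_iff _).mpr (mem_sup_right (mem_part_of_coprime (pow_mem hf b) hb))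
    conv_lhs => rw [← hef, ← hab, map_mul, map_mul, h1, h2, one_mul, mul_one]
  have h3 : orderOf (QuotientGroup.mk' M w) ∣ orderOf w := orderOf_map_dvd _ w
  have h4 : orderOf (QuotientGroup.mk' M w) ∣ p ^ k := hk ▸ hq ▸ orderOf_map_dvd _ (f ^ a)
  have h5 := Nat.eq_one_of_dvd_coprimes (hc.pow_right k) h3 h4
  rw [orderOf_eq_one_iff] at h5
  exact (QuotientGroup.eq_one_iff w).mp h5

/-- The layer is generated by its elements of order prime to `p`. -/
theorem layer_le_of_coprime {K : Subgroup H}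
    (h : ∀ e ∈ Cfsg.layer H, (orderOf e).Coprime p → e ∈ K) : Cfsg.layer H ≤ K := by
  have htop : Cfsg.pResidual p ↥(Cfsg.layer H) = ⊤ := by
    haveI := layer_isPerfect (G := H)
    by_contra hne
    set N := Cfsg.pResidual p ↥(Cfsg.layer H) with hN
    haveI : N.Normal := hN ▸ inferInstance
    haveI := (CfsgLib.Transfer.isPGroup_quotient_pResidual (G := ↥(Cfsg.layer H)) (p := p)).isNilpotent
    haveI : Nontrivial (↥(Cfsg.layer H) ⧸ N) := QuotientGroup.nontrivial_iff.mpr hne
    have hlt := Group.IsSolvable.commutator_lt_top_of_nontrivial (↥(Cfsg.layer H) ⧸ N)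
    have hmap := map_commutator (⊤ : Subgroup ↥(Cfsg.layer H)) ⊤ (QuotientGroup.mk' N)
    rw [map_top_of_surjective _ (QuotientGroup.mk'_surjective N), ← commutator_def,
      ← commutator_def, Group.IsPerfect.commutator_eq_top,
      map_top_of_surjective _ (QuotientGroup.mk'_surjective N)] at hmap
    exact hlt.ne hmap.symm
  intro e he
  have hle : Cfsg.pResidual p ↥(Cfsg.layer H) ≤ K.comap (Cfsg.layer H).subtype := by
    rw [Cfsg.pResidual, closure_le]
    intro c hc
    exact h c c.2 (by rw [Subgroup.orderOf_coe]; exact hc)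
  rw [htop] at hle
  exact hle (mem_top (⟨e, he⟩ : ↥(Cfsg.layer H)))

end CfsgLib.TwoFusion.BenderMax
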