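import Mathlib.GroupTheory.Sylow
import Mathlib.GroupTheory.OrderOfElement
import Mathlib.GroupTheory.Subgroup.Centralizer
import Mathlib.Tactic.Group
import Cfsg.Prelude.Def_TwoFusion

/-!
Isolated involutions: elementary properties.
-/

set_option autoImplicit false

namespace CfsgLib.TwoFusion

open Cfsg

variable {G : Type*} [Group G]

/-- The square root of an element of odd order inside the cyclic group it generates. -/
noncomputable def oddSqrt (x : G) : G := x ^ ((orderOf x + 1) / 2)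

theorem oddSqrt_sq {x : G} (hx : Odd (orderOf x)) : oddSqrt x * oddSqrt x = x := by
  obtain ⟨m, hm⟩ := hx
  have h : (orderOf x + 1) / 2 + (orderOf x + 1) / 2 = orderOf x + 1 := by omega
  rw [oddSqrt, ← pow_add, h, pow_succ, pow_orderOf_eq_one, one_mul]

theorem orderOf_sq_of_odd {a : G} (ha : Odd (orderOf a)) : orderOf (a * a) = orderOf a := by
  rw [← pow_two]
  exact Nat.Coprime.orderOf_pow (Nat.coprime_two_right.mpr ha)

theorem oddSqrt_unique {a x : G} (ha : Odd (orderOf a)) (h : a * a = x) : a = oddSqrt x := by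
  subst h
  have e := orderOf_sq_of_odd ha
  obtain ⟨m, hm⟩ := ha
  rw [oddSqrt, e, ← pow_two, ← pow_mul]
  have h2 : 2 * ((orderOf a + 1) / 2) = orderOf a + 1 := by omega
  rw [h2, pow_succ, pow_orderOf_eq_one, one_mul]

theorem oddSqrt_odd {x : G} (hx : Odd (orderOf x)) : Odd (orderOf (oddSqrt x)) :=
  Odd.of_dvd_nat hx (orderOf_pow_dvd _)

theorem sq_injective_of_odd {a b : G} (ha : Odd (orderOf a)) (hb : Odd (orderOf b))
    (h : a * a = b * b) : a = b :=
  (oddSqrt_unique ha h).trans (oddSqrt_unique hb rfl).symm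

theorem oddSqrt_mem {H : Subgroup G} {x : G} (hx : x ∈ H) : oddSqrt x ∈ H :=
  H.pow_mem hx _

theorem commute_oddSqrt {a x : G} (h : Commute a x) : Commute a (oddSqrt x) := h.pow_right _

theorem conj_oddSqrt (g x : G) : g * oddSqrt x * g⁻¹ = oddSqrt (g * x * g⁻¹) := by
  have h : orderOf (g * x * g⁻¹) = orderOf x := orderOf_injective (MulAut.conj g).toMonoidHom
    (MulAut.conj g).injective x
  rw [oddSqrt, oddSqrt, h, conj_pow]

theorem inv_oddSqrt (x : G) : oddSqrt x⁻¹ = (oddSqrt x)⁻¹ := by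
  rw [oddSqrt, oddSqrt, orderOf_inv, inv_pow]

theorem mul_self_of_orderOf_eq_two {z : G} (hz : orderOf z = 2) : z * z = 1 := by
  have := pow_orderOf_eq_one z
  rwa [hz, pow_two] at this

theorem inv_eq_self_of_orderOf_eq_two {z : G} (hz : orderOf z = 2) : z⁻¹ = z :=
  inv_eq_of_mul_eq_one_right (mul_self_of_orderOf_eq_two hz)

theorem orderOf_conj_eq (g x : G) : orderOf (g * x * g⁻¹) = orderOf x :=
  orderOf_injective (MulAut.conj g).toMonoidHom (MulAut.conj g).injective x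

/-- If `r` is inverted by the involution `z`, then conjugating `z` by `r` gives `r² z`. -/
theorem conj_of_inverted {z r : G} (h : z * r * z⁻¹ = r⁻¹) : r * z * r⁻¹ = r * r * z := by
  have h' : z * r⁻¹ * z⁻¹ = r := by rw [← conj_inv, h, inv_inv]
  calc r * z * r⁻¹ = r * (z * r⁻¹ * z⁻¹) * z := by group
    _ = r * r * z := by rw [h']

theorem inverted_pow {z r : G} (h : z * r * z⁻¹ = r⁻¹) (n : ℕ) :
    z * r ^ n * z⁻¹ = (r ^ n)⁻¹ := by
  rw [← conj_pow, h, inv_pow]

theorem right_inverts_mul {s t : G} (hs : orderOf s = 2) (ht : orderOf t = 2) :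
    s * (t * s) * s⁻¹ = (t * s)⁻¹ := by
  rw [mul_inv_rev, inv_eq_self_of_orderOf_eq_two hs, inv_eq_self_of_orderOf_eq_two ht]
  simp only [mul_assoc, mul_self_of_orderOf_eq_two hs, mul_one]

theorem left_inverts_mul {s t : G} (hs : orderOf s = 2) (ht : orderOf t = 2) :
    t * (t * s) * t⁻¹ = (t * s)⁻¹ := by
  rw [mul_inv_rev, inv_eq_self_of_orderOf_eq_two hs, inv_eq_self_of_orderOf_eq_two ht,
    ← mul_assoc, mul_self_of_orderOf_eq_two ht, one_mul]

/-- For involutions `s, t` with `t s` of order `2 * m`: `(t s)^m s` is conjugate to `s` or to `t`. -/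
theorem exists_conj_pow_mul_eq {s t : G} (hs : orderOf s = 2) (ht : orderOf t = 2) (m : ℕ) :
    ∃ r : G, r ∈ Subgroup.closure ({s, t} : Set G) ∧
      (r * s * r⁻¹ = (t * s) ^ m * s ∨ r * t * r⁻¹ = (t * s) ^ m * s) := by
  have hmem : ∀ j : ℕ, (t * s) ^ j ∈ Subgroup.closure ({s, t} : Set G) := fun j =>
    Subgroup.pow_mem _ (Subgroup.mul_mem _ (Subgroup.subset_closure (Set.mem_insert_of_mem _ (Set.mem_singleton _)))
      (Subgroup.subset_closure (Set.mem_insert _ _))) j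
  rcases Nat.even_or_odd m with ⟨j, rfl⟩ | ⟨j, rfl⟩
  · exact ⟨(t * s) ^ j, hmem j, Or.inl (by
      rw [conj_of_inverted (inverted_pow (right_inverts_mul hs ht) j), ← pow_add])⟩
  · refine ⟨(t * s) ^ j, hmem j, Or.inr ?_⟩
    rw [conj_of_inverted (inverted_pow (left_inverts_mul hs ht) j), ← pow_add, pow_succ,
      two_mul]
    simp only [mul_assoc, mul_self_of_orderOf_eq_two hs, mul_one]

namespace Isolated

variable {z : G}

theorem inv_eq (hz : IsIsolatedInvolution z) : z⁻¹ = z := inv_eq_self_of_orderOf_eq_two hz.1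

theorem sq_eq (hz : IsIsolatedInvolution z) : z * z = 1 := mul_self_of_orderOf_eq_two hz.1

theorem orderOf_conj (hz : IsIsolatedInvolution z) (g : G) : orderOf (g * z * g⁻¹) = 2 := by
  rw [orderOf_conj_eq, hz.1]

/-- The product of `z` with any conjugate of `z` has odd order. -/
theorem odd_orderOf_conj_mul [Finite G] (hz : IsIsolatedInvolution z) (g : G) :
    Odd (orderOf (g * z * g⁻¹ * z)) := by
  by_contra hne
  rw [Nat.not_odd_iff_even] at hne
  obtain ⟨m, hm⟩ := hne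
  set t := g * z * g⁻¹ with htdef
  set u := t * z with hu
  have ht : orderOf t = 2 := orderOf_conj hz g
  have hpos : 0 < orderOf u := orderOf_pos u
  have hi : (u ^ m)⁻¹ = u ^ m := by
    apply inv_eq_of_mul_eq_one_right
    rw [← pow_add, ← hm, pow_orderOf_eq_one]
  have hzu : z * u ^ m * z⁻¹ = u ^ m := (inverted_pow (right_inverts_mul hz.1 ht) m).trans hi
  have hc : Commute z (u ^ m * z) := by
    refine Commute.mul_right ?_ (Commute.refl z)
    exact mul_inv_eq_iff_eq_mul.mp hzu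
  obtain ⟨r, -, hr⟩ := exists_conj_pow_mul_eq hz.1 ht m
  obtain ⟨h, hh⟩ : ∃ h : G, h * z * h⁻¹ = u ^ m * z := by
    rcases hr with hr | hr
    · exact ⟨r, hr⟩
    · exact ⟨r * g, by rw [← hr, htdef]; group⟩
  have he := hz.2 h (by rw [hh]; exact hc)
  rw [hh] at he
  have h1 : u ^ m = 1 := mul_eq_right.mp he
  have := Nat.le_of_dvd (by omega) (orderOf_dvd_of_pow_eq_one h1)
  omega

theorem inverts_conj_mul (hz : IsIsolatedInvolution z) (g : G) :
    z * (g * z * g⁻¹ * z) * z⁻¹ = (g * z * g⁻¹ * z)⁻¹ :=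
  right_inverts_mul hz.1 (orderOf_conj hz g)

/-- The canonical element conjugating `z` to `g z g⁻¹`. -/
theorem sqrt_conj [Finite G] (hz : IsIsolatedInvolution z) (g : G) :
    oddSqrt (g * z * g⁻¹ * z) * z * (oddSqrt (g * z * g⁻¹ * z))⁻¹ = g * z * g⁻¹ := by
  rw [conj_of_inverted (z := z), oddSqrt_sq (odd_orderOf_conj_mul hz g), mul_assoc _ z z,
    sq_eq hz, mul_one]
  exact inverted_pow (inverts_conj_mul hz g) _

theorem sqrt_inverted [Finite G] (hz : IsIsolatedInvolution z) (g : G) :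
    z * oddSqrt (g * z * g⁻¹ * z) * z⁻¹ = (oddSqrt (g * z * g⁻¹ * z))⁻¹ :=
  inverted_pow (inverts_conj_mul hz g) _

theorem commute_iff_conj_eq {c z : G} : Commute c z ↔ c * z * c⁻¹ = z := by
  rw [mul_inv_eq_iff_eq_mul]; rfl

/-- Fusion of `z` inside any subgroup containing `z` and the conjugate. -/
theorem conj_in_subgroup [Finite G] (hz : IsIsolatedInvolution z) {H : Subgroup G} {g : G}
    (hzH : z ∈ H) (hg : g * z * g⁻¹ ∈ H) : ∃ h ∈ H, h * z * h⁻¹ = g * z * g⁻¹ :=
  ⟨_, oddSqrt_mem (H.mul_mem hg hzH), sqrt_conj hz g⟩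

/-- The centralizer of an isolated involution controls fusion, relative to any `z`-invariant subgroup. -/
theorem fusion_in_centralizer [Finite G] (hz : IsIsolatedInvolution z) {H : Subgroup G}
    (hzH : z ∈ Subgroup.normalizer (H : Set G)) {x y h : G}
    (hxz : Commute x z) (hyz : Commute y z) (hh : h ∈ H) (hconj : h * x * h⁻¹ = y) :
    ∃ c ∈ H, Commute c z ∧ c * x * c⁻¹ = y := by
  have hx : Commute x (h⁻¹ * z * h⁻¹⁻¹) := by
    show x * _ = _ * x
    have : h * x = y * h := by rw [← hconj]; group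
    calc x * (h⁻¹ * z * h⁻¹⁻¹) = h⁻¹ * (h * x) * (h⁻¹ * z * h) := by group
      _ = h⁻¹ * (y * z) * h := by rw [this]; group
      _ = h⁻¹ * z * (y * h) := by rw [hyz.eq]; group
      _ = (h⁻¹ * z * h⁻¹⁻¹) * x := by rw [← this]; group
  set k := oddSqrt (h⁻¹ * z * h⁻¹⁻¹ * z) with hk
  have hkH : k ∈ H := by
    refine oddSqrt_mem ?_
    have h2 : z * h * z⁻¹ ∈ H := (Subgroup.mem_normalizer_iff.mp hzH h).mp hh
    rw [inv_eq hz] at h2
    have : h⁻¹ * z * h⁻¹⁻¹ * z = h⁻¹ * (z * h * z) := by group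
    rw [this]
    exact H.mul_mem (H.inv_mem hh) h2
  have hkx : Commute x k := commute_oddSqrt (hx.mul_right hxz)
  refine ⟨h * k, H.mul_mem hh hkH, ?_, ?_⟩
  · rw [commute_iff_conj_eq]
    have h3 := sqrt_conj hz h⁻¹
    rw [← hk] at h3
    calc h * k * z * (h * k)⁻¹ = h * (k * z * k⁻¹) * h⁻¹ := by group
      _ = z := by rw [h3]; group
  · calc h * k * x * (h * k)⁻¹ = h * (k * x * k⁻¹) * h⁻¹ := by group
      _ = y := by rw [commute_iff_conj_eq.mp hkx.symm, hconj]

/-- An isolated involution is central in every 2-subgroup containing it. -/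
theorem commute_of_mem_two_group [Finite G] (hz : IsIsolatedInvolution z) {P : Subgroup G}
    (hP : IsPGroup 2 P) (hzP : z ∈ P) {x : G} (hx : x ∈ P) : Commute x z := by
  have hmem : x * z * x⁻¹ * z ∈ P := P.mul_mem (P.mul_mem (P.mul_mem hx hzP) (P.inv_mem hx)) hzP
  obtain ⟨k, hk⟩ := hP ⟨_, hmem⟩
  have hd : orderOf (x * z * x⁻¹ * z) ∣ 2 ^ k := orderOf_dvd_of_pow_eq_one
    (by simpa [Subtype.ext_iff] using hk)
  have h1 : orderOf (x * z * x⁻¹ * z) = 1 := Nat.eq_one_of_dvd_coprimes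
    ((Nat.coprime_two_right.mpr (odd_orderOf_conj_mul hz x)).pow_right k) dvd_rfl hd
  rw [commute_iff_conj_eq]
  rw [orderOf_eq_one_iff] at h1
  calc x * z * x⁻¹ = z⁻¹ := eq_inv_of_mul_eq_one_left h1
    _ = z := inv_eq hz

/-- Odd-order elements inverted by `z` are exactly the products `z^g z`. -/
theorem inverted_odd_iff [Finite G] (hz : IsIsolatedInvolution z) (k : G) :
    (Odd (orderOf k) ∧ z * k * z⁻¹ = k⁻¹) ↔ ∃ g : G, k = g * z * g⁻¹ * z := by
  constructor
  · rintro ⟨ho, hi⟩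
    refine ⟨oddSqrt k, ?_⟩
    rw [conj_of_inverted (z := z), oddSqrt_sq ho, mul_assoc, sq_eq hz, mul_one]
    exact inverted_pow hi _
  · rintro ⟨g, rfl⟩
    exact ⟨odd_orderOf_conj_mul hz g, inverts_conj_mul hz g⟩

/-- The set of odd-order elements inverted by `z` is closed under `(a, b) ↦ a b a`. -/
theorem inverted_odd_mul [Finite G] (hz : IsIsolatedInvolution z) {a b : G}
    (ha : Odd (orderOf a) ∧ z * a * z⁻¹ = a⁻¹) (hb : Odd (orderOf b) ∧ z * b * z⁻¹ = b⁻¹) :
    Odd (orderOf (a * b * a)) ∧ z * (a * b * a) * z⁻¹ = (a * b * a)⁻¹ := by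
  obtain ⟨h, rfl⟩ := (inverted_odd_iff hz b).mp hb
  refine (inverted_odd_iff hz _).mpr ⟨a * h, ?_⟩
  have : z * a = a⁻¹ * z := mul_inv_eq_iff_eq_mul.mp ha.2
  calc a * (h * z * h⁻¹ * z) * a = a * h * z * h⁻¹ * (z * a) := by group
    _ = _ := by rw [this]; group

theorem inverted_odd_sqrt {k : G}
    (hk : Odd (orderOf k) ∧ z * k * z⁻¹ = k⁻¹) :
    Odd (orderOf (oddSqrt k)) ∧ z * oddSqrt k * z⁻¹ = (oddSqrt k)⁻¹ :=
  ⟨oddSqrt_odd hk.1, inverted_pow hk.2 _⟩

theorem inverted_odd_inv {k : G}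
    (hk : Odd (orderOf k) ∧ z * k * z⁻¹ = k⁻¹) :
    Odd (orderOf k⁻¹) ∧ z * k⁻¹ * z⁻¹ = k⁻¹⁻¹ :=
  ⟨by rw [orderOf_inv]; exact hk.1, by rw [← conj_inv, hk.2]⟩

/-- `G ⧸ C(z)` is in bijection with the odd-order elements inverted by `z`. -/
theorem card_eq_centralizer_mul_inverted [Finite G] (hz : IsIsolatedInvolution z) :
    Nat.card G = Nat.card (Subgroup.centralizer ({z} : Set G)) *
      Nat.card {k : G // Odd (orderOf k) ∧ z * k * z⁻¹ = k⁻¹} := by
  set C := Subgroup.centralizer ({z} : Set G)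
  have hmem : ∀ c : G, c ∈ C ↔ Commute c z := by
    intro c; rw [Subgroup.mem_centralizer_singleton_iff]; rfl
  have hrel : ∀ a b : G, a * z * a⁻¹ * z = b * z * b⁻¹ * z ↔ a⁻¹ * b ∈ C := by
    intro a b
    rw [hmem, commute_iff_conj_eq, mul_left_inj]
    constructor
    · intro h
      calc a⁻¹ * b * z * (a⁻¹ * b)⁻¹ = a⁻¹ * (b * z * b⁻¹) * a := by group
        _ = z := by rw [← h]; group
    · intro h
      calc a * z * a⁻¹ = a * (a⁻¹ * b * z * (a⁻¹ * b)⁻¹) * a⁻¹ := by rw [h]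
        _ = _ := by group
  let f : G ⧸ C → {k : G // Odd (orderOf k) ∧ z * k * z⁻¹ = k⁻¹} :=
    Quotient.lift (fun g => ⟨g * z * g⁻¹ * z, (inverted_odd_iff hz _).mpr ⟨g, rfl⟩⟩)
      (fun a b h => Subtype.ext ((hrel a b).mpr (QuotientGroup.leftRel_apply.mp h)))
  have hf : Function.Bijective f := by
    refine ⟨?_, ?_⟩
    · rintro ⟨a⟩ ⟨b⟩ h
      exact Quotient.sound (QuotientGroup.leftRel_apply.mpr ((hrel a b).mp (congrArg Subtype.val h)))
    · rintro ⟨k, hk⟩
      obtain ⟨g, rfl⟩ := (inverted_odd_iff hz k).mp hk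
      exact ⟨QuotientGroup.mk g, rfl⟩
  rw [← Nat.card_eq_of_bijective f hf, Subgroup.card_eq_card_quotient_mul_card_subgroup C,
    mul_comm]

end Isolated

end CfsgLib.TwoFusion
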