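import Mathlib.GroupTheory.SpecificGroups.Dihedral
import Mathlib.GroupTheory.SpecificGroups.Quaternion
import Mathlib.GroupTheory.OrderOfElement
import Mathlib.Tactic.Group

/-!
Recognition of dihedral and generalized quaternion subgroups, and maximal subgroups of 2-groups.
-/

set_option autoImplicit false

namespace CfsgLib.TwoFusion

variable {G : Type*} [Group G]

theorem conj_inv_zpow {a b : G} (h : b * a * b⁻¹ = a⁻¹) (i : ℤ) : b * a ^ i = a ^ (-i) * b := by
  rw [zpow_neg, ← inv_zpow, ← h, conj_zpow, inv_mul_cancel_right]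

/-- The value of `a ^ i` for `i : ZMod m`. -/
noncomputable def zmodPow (a : G) {m : ℕ} (i : ZMod m) : G := a ^ (i.cast : ℤ)

theorem zmodPow_intCast {a : G} {m : ℕ} (hm : a ^ m = 1) (k : ℤ) :
    zmodPow a (k : ZMod m) = a ^ k := by
  rw [zmodPow, ZMod.coe_intCast, ← zpow_eq_zpow_emod' k hm]

theorem exists_dihedral_mulEquiv {m : ℕ} (hm : 0 < m) {a b : G} (ha : orderOf a = m)
    (hb : b * b = 1) (hba : b * a * b⁻¹ = a⁻¹) (hnot : b ∉ Subgroup.zpowers a) (D : Subgroup G)
    (hD : ∀ g, g ∈ D ↔ ∃ i : ℤ, g = a ^ i ∨ g = b * a ^ i) :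
    Nonempty (D ≃* DihedralGroup m) := by
  haveI : NeZero m := ⟨hm.ne'⟩
  have ham : a ^ m = 1 := ha ▸ pow_orderOf_eq_one a
  let φ : DihedralGroup m → G
    | .r i => zmodPow a i
    | .sr i => b * zmodPow a i
  have hmul : ∀ p q, φ (p * q) = φ p * φ q := by
    rintro (i | i) (j | j) <;> obtain ⟨i, rfl⟩ := ZMod.intCast_surjective i <;>
      obtain ⟨j, rfl⟩ := ZMod.intCast_surjective j
    · show zmodPow a ((i : ZMod m) + (j : ZMod m)) = zmodPow a (i : ZMod m) * zmodPow a (j : ZMod m)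
      rw [← Int.cast_add, zmodPow_intCast ham, zmodPow_intCast ham, zmodPow_intCast ham, zpow_add]
    · show b * zmodPow a ((j : ZMod m) - (i : ZMod m)) = zmodPow a (i : ZMod m) * (b * zmodPow a (j : ZMod m))
      rw [← Int.cast_sub, zmodPow_intCast ham, zmodPow_intCast ham, zmodPow_intCast ham,
        ← mul_assoc, show a ^ i = a ^ (-(-i)) by rw [neg_neg], ← conj_inv_zpow hba, mul_assoc,
        ← zpow_add, neg_add_eq_sub]
    · show b * zmodPow a ((i : ZMod m) + (j : ZMod m)) = b * zmodPow a (i : ZMod m) * zmodPow a (j : ZMod m)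
      rw [← Int.cast_add, zmodPow_intCast ham, zmodPow_intCast ham, zmodPow_intCast ham, zpow_add,
        mul_assoc]
    · show zmodPow a ((j : ZMod m) - (i : ZMod m)) = b * zmodPow a (i : ZMod m) * (b * zmodPow a (j : ZMod m))
      rw [← Int.cast_sub, zmodPow_intCast ham, zmodPow_intCast ham, zmodPow_intCast ham,
        conj_inv_zpow hba, mul_assoc, ← mul_assoc b b, hb, one_mul, ← zpow_add, neg_add_eq_sub]
  let f : DihedralGroup m →* G := MonoidHom.mk' φ hmul
  have hinj : Function.Injective f := by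
    rw [injective_iff_map_eq_one]
    rintro (i | i) h <;> obtain ⟨i, rfl⟩ := ZMod.intCast_surjective i
    · change zmodPow a (i : ZMod m) = 1 at h
      rw [zmodPow_intCast ham, ← orderOf_dvd_iff_zpow_eq_one, ha,
        ← ZMod.intCast_zmod_eq_zero_iff_dvd] at h
      rw [h, DihedralGroup.r_zero]
    · change b * zmodPow a (i : ZMod m) = 1 at h
      rw [zmodPow_intCast ham, mul_eq_one_iff_eq_inv, ← zpow_neg] at h
      exact absurd ⟨_, h.symm⟩ hnot
  have hrange : f.range = D := by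
    ext g
    rw [hD]
    constructor
    · rintro ⟨i | i, rfl⟩ <;> obtain ⟨i, rfl⟩ := ZMod.intCast_surjective i
      · exact ⟨i, Or.inl (zmodPow_intCast ham i)⟩
      · exact ⟨i, Or.inr (congrArg (b * ·) (zmodPow_intCast ham i))⟩
    · rintro ⟨i, h | h⟩
      · exact ⟨.r (i : ZMod m), (zmodPow_intCast ham i).trans h.symm⟩
      · exact ⟨.sr (i : ZMod m), (congrArg (b * ·) (zmodPow_intCast ham i)).trans h.symm⟩
  exact ⟨((MonoidHom.ofInjective hinj).trans (MulEquiv.subgroupCongr hrange)).symm⟩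

theorem exists_quaternion_mulEquiv {m : ℕ} (hm : 0 < m) {a b : G} (ha : orderOf a = 2 * m)
    (hb : b * b = a ^ m) (hba : b * a * b⁻¹ = a⁻¹) (hnot : b ∉ Subgroup.zpowers a) (D : Subgroup G)
    (hD : ∀ g, g ∈ D ↔ ∃ i : ℤ, g = a ^ i ∨ g = b * a ^ i) :
    Nonempty (D ≃* QuaternionGroup m) := by
  haveI : NeZero m := ⟨hm.ne'⟩
  have ham : a ^ (2 * m) = 1 := ha ▸ pow_orderOf_eq_one a
  let φ : QuaternionGroup m → G
    | .a i => zmodPow a i
    | .xa i => b * zmodPow a i
  have hmul : ∀ p q, φ (p * q) = φ p * φ q := by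
    rintro (i | i) (j | j) <;> obtain ⟨i, rfl⟩ := ZMod.intCast_surjective i <;>
      obtain ⟨j, rfl⟩ := ZMod.intCast_surjective j
    · show zmodPow a ((i : ZMod (2 * m)) + (j : ZMod (2 * m))) = zmodPow a (i : ZMod (2 * m)) * zmodPow a (j : ZMod (2 * m))
      rw [← Int.cast_add, zmodPow_intCast ham, zmodPow_intCast ham, zmodPow_intCast ham, zpow_add]
    · show b * zmodPow a ((j : ZMod (2 * m)) - (i : ZMod (2 * m))) = zmodPow a (i : ZMod (2 * m)) * (b * zmodPow a (j : ZMod (2 * m)))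
      rw [← Int.cast_sub, zmodPow_intCast ham, zmodPow_intCast ham, zmodPow_intCast ham,
        ← mul_assoc, show a ^ i = a ^ (-(-i)) by rw [neg_neg], ← conj_inv_zpow hba, mul_assoc,
        ← zpow_add, neg_add_eq_sub]
    · show b * zmodPow a ((i : ZMod (2 * m)) + (j : ZMod (2 * m))) = b * zmodPow a (i : ZMod (2 * m)) * zmodPow a (j : ZMod (2 * m))
      rw [← Int.cast_add, zmodPow_intCast ham, zmodPow_intCast ham, zmodPow_intCast ham, zpow_add,
        mul_assoc]
    · show zmodPow a ((m : ZMod (2 * m)) + (j : ZMod (2 * m)) - (i : ZMod (2 * m))) = b * zmodPow a (i : ZMod (2 * m)) * (b * zmodPow a (j : ZMod (2 * m)))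
      rw [← Int.cast_natCast m, ← Int.cast_add, ← Int.cast_sub, zmodPow_intCast ham, zmodPow_intCast ham, zmodPow_intCast ham,
        conj_inv_zpow hba, mul_assoc, ← mul_assoc b b, hb, ← zpow_natCast a m, ← zpow_add, ← zpow_add]
      congr 1
      ring
  let f : QuaternionGroup m →* G := MonoidHom.mk' φ hmul
  have hinj : Function.Injective f := by
    rw [injective_iff_map_eq_one]
    rintro (i | i) h <;> obtain ⟨i, rfl⟩ := ZMod.intCast_surjective i
    · change zmodPow a (i : ZMod (2 * m)) = 1 at h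
      rw [zmodPow_intCast ham, ← orderOf_dvd_iff_zpow_eq_one, ha,
        ← ZMod.intCast_zmod_eq_zero_iff_dvd] at h
      rw [h, QuaternionGroup.a_zero]
    · change b * zmodPow a (i : ZMod (2 * m)) = 1 at h
      rw [zmodPow_intCast ham, mul_eq_one_iff_eq_inv, ← zpow_neg] at h
      exact absurd ⟨_, h.symm⟩ hnot
  have hrange : f.range = D := by
    ext g
    rw [hD]
    constructor
    · rintro ⟨i | i, rfl⟩ <;> obtain ⟨i, rfl⟩ := ZMod.intCast_surjective i
      · exact ⟨i, Or.inl (zmodPow_intCast ham i)⟩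
      · exact ⟨i, Or.inr (congrArg (b * ·) (zmodPow_intCast ham i))⟩
    · rintro ⟨i, h | h⟩
      · exact ⟨.a (i : ZMod (2 * m)), (zmodPow_intCast ham i).trans h.symm⟩
      · exact ⟨.xa (i : ZMod (2 * m)), (congrArg (b * ·) (zmodPow_intCast ham i)).trans h.symm⟩
  exact ⟨((MonoidHom.ofInjective hinj).trans (MulEquiv.subgroupCongr hrange)).symm⟩

/-- The subgroup `{a^i} ∪ {b a^i}` when `b` inverts `a` and `b² ∈ ⟨a⟩`. -/
def cyclicByInverter (a b : G) (hba : b * a * b⁻¹ = a⁻¹) (hb : b * b ∈ Subgroup.zpowers a) :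
    Subgroup G where
  carrier := {g | ∃ i : ℤ, g = a ^ i ∨ g = b * a ^ i}
  one_mem' := ⟨0, Or.inl (zpow_zero a).symm⟩
  mul_mem' := by
    obtain ⟨k, hk⟩ := hb
    have hk : a ^ k = b * b := hk
    rintro _ _ ⟨i, rfl | rfl⟩ ⟨j, rfl | rfl⟩
    · exact ⟨i + j, Or.inl (zpow_add a i j).symm⟩
    · refine ⟨-i + j, Or.inr ?_⟩
      rw [← mul_assoc, show a ^ i = a ^ (-(-i)) by rw [neg_neg], ← conj_inv_zpow hba, mul_assoc,
        zpow_add]
    · exact ⟨i + j, Or.inr (by rw [mul_assoc, zpow_add])⟩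
    · refine ⟨-i + k + j, Or.inl ?_⟩
      rw [conj_inv_zpow hba, mul_assoc, ← mul_assoc b b, ← hk, zpow_add, zpow_add, mul_assoc]
  inv_mem' := by
    obtain ⟨k, hk⟩ := hb
    have hk : a ^ k = b * b := hk
    rintro _ ⟨i, rfl | rfl⟩
    · exact ⟨-i, Or.inl (zpow_neg a i).symm⟩
    · refine ⟨i - k, Or.inr ?_⟩
      apply inv_eq_of_mul_eq_one_right
      rw [conj_inv_zpow hba, mul_assoc, ← mul_assoc b b, ← hk, ← zpow_add, ← zpow_add]
      rw [show -i + (k + (i - k)) = 0 by omega, zpow_zero]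

theorem mem_cyclicByInverter {a b : G} (hba : b * a * b⁻¹ = a⁻¹)
    (hb : b * b ∈ Subgroup.zpowers a) (g : G) :
    g ∈ cyclicByInverter a b hba hb ↔ ∃ i : ℤ, g = a ^ i ∨ g = b * a ^ i := Iff.rfl

end CfsgLib.TwoFusion
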