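import Mathlib.GroupTheory.PGroup
import Mathlib.GroupTheory.OrderOfElement
import Mathlib.GroupTheory.Subgroup.Center
import Mathlib.FieldTheory.Finite.Basic

/-!
Automorphisms of odd order of finite 2-groups: fixing lemmas.
-/

set_option autoImplicit false

namespace CfsgLib.TwoFusion.OddAut

variable {X : Type*} [Group X] {φ : MulAut X} {j : ℕ}

theorem pow_apply_of_step {g α : X} (hg : φ g = g * α) (hα : φ α = α) (i : ℕ) :
    (φ ^ i) g = g * α ^ i := by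
  induction i with
  | zero => simp
  | succ i ih =>
    rw [pow_succ', MulAut.mul_apply, ih, map_mul, map_pow, hg, hα, pow_succ', ← mul_assoc]

/-- If an automorphism of odd order moves `g` by a fixed element of 2-power order, it fixes `g`. -/
theorem fix_step (hj : φ ^ j = 1) (hodd : Odd j) {g α : X} (hg : φ g = g * α) (hα : φ α = α)
    {e : ℕ} (he : α ^ (2 ^ e) = 1) : φ g = g := by
  have h := pow_apply_of_step hg hα j
  rw [hj, MulAut.one_apply] at h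
  have h1 : α ^ j = 1 := mul_eq_left.mp h.symm
  have hcop : Nat.Coprime j (2 ^ e) := (Nat.coprime_two_right.mpr hodd).pow_right e
  have h2 : α ^ Nat.gcd j (2 ^ e) = 1 := pow_gcd_eq_one.mpr ⟨h1, he⟩
  rw [hcop, pow_one] at h2
  rw [hg, h2, mul_one]

theorem pow_apply_of_zpow {Z : Subgroup X} (hZc : Z ≤ Subgroup.center X) (hZfix : ∀ ζ ∈ Z, φ ζ = ζ)
    {g ζ₀ : X} (hζ₀ : ζ₀ ∈ Z) {m : ℤ} (hg : φ g = g ^ m * ζ₀) (i : ℕ) :
    ∃ ζ ∈ Z, (φ ^ i) g = g ^ (m ^ i) * ζ := by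
  induction i with
  | zero => exact ⟨1, one_mem _, by simp⟩
  | succ i ih =>
    obtain ⟨ζ, hζ, h⟩ := ih
    refine ⟨ζ₀ ^ (m ^ i) * ζ, mul_mem (zpow_mem hζ₀ _) hζ, ?_⟩
    rw [pow_succ', MulAut.mul_apply, h, map_mul, map_zpow, hg, hZfix ζ hζ]
    have hc : Commute (g ^ m) ζ₀ := Subgroup.mem_center_iff.mp (hZc hζ₀) _
    rw [hc.mul_zpow, ← zpow_mul, ← pow_succ', mul_assoc]

/-- An automorphism of odd order that maps `g` to a power of `g` modulo a fixed central subgroup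
fixes `g`. -/
theorem fix_zpow (hj : φ ^ j = 1) (hodd : Odd j) {Z : Subgroup X} (hZc : Z ≤ Subgroup.center X)
    (hZfix : ∀ ζ ∈ Z, φ ζ = ζ) (hX : IsPGroup 2 X)
    {g ζ₀ : X} (hζ₀ : ζ₀ ∈ Z) {m : ℤ} (hg : φ g = g ^ m * ζ₀) : φ g = g := by
  haveI : Z.Normal := ⟨fun n hn s => by
    rw [Subgroup.mem_center_iff.mp (hZc hn) s, mul_inv_cancel_right]; exact hn⟩
  obtain ⟨ζ, hζ, h⟩ := pow_apply_of_zpow hZc hZfix hζ₀ hg j
  rw [hj, MulAut.one_apply] at h
  obtain ⟨e, he⟩ := IsPGroup.iff_orderOf.mp (hX.to_quotient Z) (QuotientGroup.mk g)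
  have hdvd : ((2 ^ e : ℕ) : ℤ) ∣ m ^ j - 1 := by
    rw [← he, orderOf_dvd_sub_iff_zpow_eq_zpow, zpow_one, ← QuotientGroup.mk_zpow]
    conv_rhs => rw [h]
    rw [QuotientGroup.mk_mul, (QuotientGroup.eq_one_iff ζ).mpr hζ, mul_one]
  rw [← ZMod.intCast_zmod_eq_zero_iff_dvd, Int.cast_sub, Int.cast_pow, Int.cast_one,
    sub_eq_zero] at hdvd
  have hm1 : ((m : ℤ) : ZMod (2 ^ e)) = 1 := by
    rcases e with _ | e
    · exact @Subsingleton.elim _ (inferInstanceAs (Subsingleton (ZMod 1))) _ _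
    have hjpos : j ≠ 0 := fun h0 => by simp [h0] at hodd
    haveI : NeZero (2 ^ (e + 1)) := ⟨by positivity⟩
    obtain ⟨u, hu⟩ := IsUnit.of_pow_eq_one hdvd hjpos
    rw [← hu] at hdvd ⊢
    have h1 : u ^ j = 1 := by ext; simpa using hdvd
    have h2 : u ^ (2 ^ e) = 1 := by
      have := ZMod.pow_totient u
      rwa [Nat.totient_prime_pow_succ Nat.prime_two, show 2 - 1 = 1 from rfl, mul_one] at this
    have h3 : u ^ Nat.gcd j (2 ^ e) = 1 := pow_gcd_eq_one.mpr ⟨h1, h2⟩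
    rw [(Nat.coprime_two_right.mpr hodd).pow_right e, pow_one] at h3
    simp [h3]
  obtain ⟨c, hc⟩ : ((2 ^ e : ℕ) : ℤ) ∣ m - 1 := by
    rw [← ZMod.intCast_zmod_eq_zero_iff_dvd, Int.cast_sub, hm1, Int.cast_one, sub_self]
  have hmem : g ^ (m - 1) ∈ Z := by
    rw [← QuotientGroup.eq_one_iff, QuotientGroup.mk_zpow, hc, ← he, zpow_mul, zpow_natCast,
      pow_orderOf_eq_one, one_zpow]
  obtain ⟨f, hf⟩ := hX (g ^ (m - 1) * ζ₀)
  refine fix_step hj hodd (α := g ^ (m - 1) * ζ₀) ?_ (hZfix _ (mul_mem hmem hζ₀)) hf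
  rw [hg, ← mul_assoc, zpow_sub_one, ← mul_assoc]
  group

theorem exists_ne_one_odd [Finite X] (h : ¬ IsPGroup 2 (MulAut X)) :
    ∃ (φ : MulAut X) (j : ℕ), Odd j ∧ φ ^ j = 1 ∧ φ ≠ 1 := by
  by_contra hne
  push Not at hne
  apply h
  intro φ
  haveI : Finite (MulAut X) := Finite.of_injective _ MulEquiv.toEquiv_injective
  refine ⟨(orderOf φ).factorization 2, hne _ (orderOf φ / 2 ^ (orderOf φ).factorization 2) ?_ ?_⟩
  · exact Nat.coprime_two_left.mp (Nat.coprime_ordCompl Nat.prime_two (orderOf_pos φ).ne')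
  · rw [← pow_mul, Nat.mul_div_cancel' (Nat.ordProj_dvd _ _), pow_orderOf_eq_one]

end CfsgLib.TwoFusion.OddAut
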