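import Mathlib.GroupTheory.Sylow
import Mathlib.GroupTheory.QuotientGroup.Basic
import Mathlib.GroupTheory.Subgroup.Centralizer
import Mathlib.GroupTheory.Perm.Cycle.Type
import Mathlib.Data.Fintype.Perm
import Mathlib.Tactic.Group
import Cfsg.Agent.Lib.TwoFusion.OddAut

/-!
Local automorphism groups acting on three points: `|N(H) : H C(H)| ∈ {2, 6}` arguments.
-/

set_option autoImplicit false

namespace CfsgLib.TwoFusion.LocalAut

open Equiv
open scoped Pointwise

section Three

variable {A α : Type*} [Group A] [Finite A] (φ : A →* Perm α)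

theorem card_range_dvd_six (hα : Nat.card α = 3) : Nat.card φ.range ∣ 6 := by
  haveI : Finite α := Nat.finite_of_card_ne_zero (by omega)
  have h := Subgroup.card_subgroup_dvd_card φ.range
  haveI : Fintype α := Fintype.ofFinite α
  classical
  rw [Nat.card_eq_fintype_card (α := Perm α), Fintype.card_perm, ← Nat.card_eq_fintype_card, hα] at h
  exact h

theorem index_ker_two_or_six (hα : Nat.card α = 3) {r : A} (hr : φ r ≠ 1) (hr2 : φ (r * r) = 1) :
    φ.ker.index = 2 ∨ φ.ker.index = 6 := by
  rw [Subgroup.index_ker]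
  have h6 := card_range_dvd_six φ hα
  have ho : orderOf (φ r) = 2 := orderOf_eq_prime (by rw [pow_two, ← map_mul, hr2]) hr
  have h2 : 2 ∣ Nat.card φ.range := by
    have h := orderOf_dvd_natCard (⟨φ r, r, rfl⟩ : φ.range)
    rwa [← Subgroup.orderOf_coe, ho] at h
  have hle := Nat.le_of_dvd (by norm_num) h6
  interval_cases Nat.card φ.range <;> omega

theorem index_ker_eq_six (hα : Nat.card α = 3) {r s : A} (hr : φ r ≠ 1) (hr2 : φ (r * r) = 1)
    (hs : φ s ≠ 1) (hs2 : φ (s * s) = 1) (hne : φ r ≠ φ s) : φ.ker.index = 6 := by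
  haveI : Finite α := Nat.finite_of_card_ne_zero (by omega)
  refine (index_ker_two_or_six φ hα hr hr2).resolve_left fun h => ?_
  rw [Subgroup.index_ker, Nat.card_eq_two_iff' (1 : φ.range)] at h
  obtain ⟨w, hw, huniq⟩ := h
  have h1 := huniq ⟨φ r, r, rfl⟩ (fun h => hr (congrArg Subtype.val h))
  have h2 := huniq ⟨φ s, s, rfl⟩ (fun h => hs (congrArg Subtype.val h))
  exact hne (congrArg Subtype.val (h1.trans h2.symm))

theorem exists_odd_fpf (hα : Nat.card α = 3) (h6 : φ.ker.index = 6) :
    ∃ r : A, Odd (orderOf r) ∧ (∀ a, φ r a ≠ a) ∧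
      ∀ a b : α, b = a ∨ φ r a = b ∨ φ r (φ r a) = b := by
  classical
  haveI : Finite α := Nat.finite_of_card_ne_zero (by omega)
  haveI : Fact (Nat.Prime 3) := ⟨Nat.prime_three⟩
  rw [Subgroup.index_ker] at h6
  obtain ⟨g, hg⟩ := exists_prime_orderOf_dvd_card' (G := φ.range) 3 (by rw [h6]; norm_num)
  obtain ⟨⟨_, r, rfl⟩, hg⟩ : ∃ g : φ.range, orderOf g = 3 := ⟨g, hg⟩
  rw [← Subgroup.orderOf_coe] at hg
  have hg : orderOf (φ r) = 3 := hg
  set e := (orderOf r).factorization 2 with he
  refine ⟨r ^ 2 ^ e, ?_, ?_⟩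
  · rw [orderOf_pow_of_dvd (by positivity) (Nat.ordProj_dvd _ _)]
    exact Nat.coprime_two_left.mp (Nat.coprime_ordCompl Nat.prime_two (orderOf_pos r).ne')
  have ho : orderOf (φ (r ^ 2 ^ e)) = 3 := by
    rw [map_pow, Nat.Coprime.orderOf_pow (by rw [hg]; exact Nat.Coprime.pow_right e (by norm_num)), hg]
  obtain ⟨ε⟩ : Nonempty (α ≃ Fin 3) := by
    haveI : Fintype α := Fintype.ofFinite α
    exact ⟨Fintype.equivFinOfCardEq (by rw [← Nat.card_eq_fintype_card]; exact hα)⟩
  set σ := φ (r ^ 2 ^ e)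
  have hcheck : ∀ τ : Perm (Fin 3), τ ^ 3 = 1 → τ ≠ 1 →
      (∀ a, τ a ≠ a) ∧ ∀ a b, b = a ∨ τ a = b ∨ τ (τ a) = b := by decide
  have hτ := hcheck (ε.permCongrHom σ) (by rw [← map_pow, orderOf_dvd_iff_pow_eq_one.mp ho.dvd, map_one])
    (fun h => by
      rw [← map_one ε.permCongrHom] at h
      rw [ε.permCongrHom.injective h, orderOf_one] at ho
      omega)
  have hev : ∀ a, ε.permCongrHom σ (ε a) = ε (σ a) := fun a => by
    simp [Equiv.permCongrHom, Equiv.permCongr_apply]
  refine ⟨fun a h => hτ.1 (ε a) (by rw [hev, h]), fun a b => ?_⟩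
  have := hτ.2 (ε a) (ε b)
  rw [hev, hev] at this
  simpa [ε.injective.eq_iff] using this

end Three

variable {G : Type*} [Group G]

/-- The action of automorphisms on an invariant set of elements. -/
def permOn {M : Type*} [Group M] (P : M → Prop) (hP : ∀ (σ : MulAut M) (m : M), P (σ m) ↔ P m) :
    MulAut M →* Perm {m : M // P m} where
  toFun σ := σ.toEquiv.subtypeEquiv (fun m => (hP σ m).symm)
  map_one' := by ext; rfl
  map_mul' σ τ := by ext; rfl

theorem permOn_apply {M : Type*} [Group M] (P : M → Prop)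
    (hP : ∀ (σ : MulAut M) (m : M), P (σ m) ↔ P m) (σ : MulAut M) (m : {m : M // P m}) :
    (permOn P hP σ m : M) = σ m := rfl

/-- An automorphism descends to the quotient by the centre. -/
def quotCenterAut (M : Type*) [Group M] : MulAut M →* MulAut (M ⧸ Subgroup.center M) where
  toFun σ := QuotientGroup.congr _ _ σ
    ((Subgroup.characteristic_iff_map_eq.mp inferInstance) σ)
  map_one' := by
    ext q
    obtain ⟨m, rfl⟩ := QuotientGroup.mk_surjective q
    rfl
  map_mul' σ τ := by
    ext q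
    obtain ⟨m, rfl⟩ := QuotientGroup.mk_surjective q
    rfl

theorem quotCenterAut_mk {M : Type*} [Group M] (σ : MulAut M) (m : M) :
    quotCenterAut M σ (m : M ⧸ Subgroup.center M) = ((σ m : M) : M ⧸ Subgroup.center M) := rfl

variable (H : Subgroup G)

/-- The action of the normalizer on elements of an invariant set. -/
def normPerm (P : H → Prop) (hP : ∀ (σ : MulAut H) (m : H), P (σ m) ↔ P m) :
    Subgroup.normalizer (H : Set G) →* Perm {m : H // P m} :=
  (permOn P hP).comp H.normalizerMonoidHom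

theorem coe_normalizerMonoidHom (n : Subgroup.normalizer (H : Set G)) (m : H) :
    (H.normalizerMonoidHom n m : G) = n * m * (n : G)⁻¹ := rfl

theorem normPerm_apply (P : H → Prop) (hP : ∀ (σ : MulAut H) (m : H), P (σ m) ↔ P m)
    (n : Subgroup.normalizer (H : Set G)) (m : {m : H // P m}) :
    ((normPerm H P hP n m : H) : G) = n * (m : H) * (n : G)⁻¹ := rfl

theorem normPerm_eq_one_iff (P : H → Prop) (hP : ∀ (σ : MulAut H) (m : H), P (σ m) ↔ P m)
    (n : Subgroup.normalizer (H : Set G)) :
    normPerm H P hP n = 1 ↔ ∀ m : H, P m → (n : G) * m * (n : G)⁻¹ = m := by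
  constructor
  · intro h m hm
    have := normPerm_apply H P hP n ⟨m, hm⟩
    rw [h] at this
    exact this.symm
  · intro h
    ext ⟨m, hm⟩
    show ((normPerm H P hP n ⟨m, hm⟩ : H) : G) = m
    rw [normPerm_apply]
    exact h m hm

/-- The action of the normalizer on the nontrivial elements of `H / Z(H)`. -/
def quotPerm : Subgroup.normalizer (H : Set G) →* Perm {q : H ⧸ Subgroup.center H // q ≠ 1} :=
  (permOn (fun q => q ≠ 1) (fun σ m => by simp)).comp
    ((quotCenterAut H).comp H.normalizerMonoidHom)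

theorem quotPerm_apply (n : Subgroup.normalizer (H : Set G)) (m : H)
    (hm : (m : H ⧸ Subgroup.center H) ≠ 1) :
    (quotPerm H n ⟨m, hm⟩ : H ⧸ Subgroup.center H) =
      ((H.normalizerMonoidHom n m : H) : H ⧸ Subgroup.center H) := rfl

/-- Condition for two elements of `H` to agree modulo the centre. -/
theorem mk_eq_mk_iff (m m' : H) :
    (m : H ⧸ Subgroup.center H) = (m' : H ⧸ Subgroup.center H) ↔ m⁻¹ * m' ∈ Subgroup.center H :=
  QuotientGroup.eq

theorem quotPerm_eq_one_iff (n : Subgroup.normalizer (H : Set G)) :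
    quotPerm H n = 1 ↔ ∀ m : H, m⁻¹ * H.normalizerMonoidHom n m ∈ Subgroup.center H := by
  constructor
  · intro h m
    by_cases hm : (m : H ⧸ Subgroup.center H) = 1
    · rw [QuotientGroup.eq_one_iff] at hm
      refine mul_mem (inv_mem hm) ?_
      rw [Subgroup.mem_center_iff]
      intro g
      obtain ⟨g, rfl⟩ := (H.normalizerMonoidHom n).surjective g
      rw [← map_mul, ← map_mul, Subgroup.mem_center_iff.mp hm g]
    · have := quotPerm_apply H n m hm
      rw [h] at this
      exact (mk_eq_mk_iff H _ _).mp this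
  · intro h
    ext ⟨q, hq⟩
    obtain ⟨m, rfl⟩ := QuotientGroup.mk_surjective q
    rw [quotPerm_apply]
    exact ((mk_eq_mk_iff H _ _).mpr (h m)).symm

theorem exists_mul_of_mem_sup {g : G} (hg : g ∈ H ⊔ Subgroup.centralizer (H : Set G)) :
    ∃ h ∈ H, ∃ c ∈ Subgroup.centralizer (H : Set G), h * c = g := by
  have hset : ((H ⊔ Subgroup.centralizer (H : Set G) : Subgroup G) : Set G) =
      (H : Set G) * (Subgroup.centralizer (H : Set G) : Set G) :=
    Subgroup.coe_mul_of_right_le_normalizer_left _ _ (Subgroup.centralizer_le_normalizer _)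
  have hg' : g ∈ ((H ⊔ Subgroup.centralizer (H : Set G) : Subgroup G) : Set G) := hg
  rw [hset] at hg'
  obtain ⟨h, hh, c, hc, e⟩ := hg'
  exact ⟨h, hh, c, hc, e⟩

theorem normalizerMonoidHom_eq_conj {n : Subgroup.normalizer (H : Set G)} {h : H} {c : G}
    (hc : c ∈ Subgroup.centralizer (H : Set G)) (e : (h : G) * c = n) (m : H) :
    H.normalizerMonoidHom n m = h * m * h⁻¹ := by
  apply Subtype.ext
  rw [coe_normalizerMonoidHom, ← e]
  simp only [Subgroup.coe_mul, Subgroup.coe_inv]
  calc (h : G) * c * m * ((h : G) * c)⁻¹ = (h : G) * (c * m * c⁻¹) * (h : G)⁻¹ := by group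
    _ = (h : G) * m * (h : G)⁻¹ := by
      rw [← Subgroup.mem_centralizer_iff.mp hc m m.2, mul_inv_cancel_right]

/-- Generators `i, v` of `H` modulo the centre, with commutator the central involution `c`. -/
structure FourData (i v c : H) : Prop where
  gen : ∀ m : H, ∃ ζ ∈ Subgroup.center H, m = ζ ∨ m = i * ζ ∨ m = v * ζ ∨ m = i * v * ζ
  center_mem : c ∈ Subgroup.center H
  c_ne_one : c ≠ 1
  sq_i : i * i ∈ Subgroup.center H
  sq_v : v * v ∈ Subgroup.center H
  conj_vi : v * i * v⁻¹ = i * c
  conj_iv : i * v * i⁻¹ = v * c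
  involution : ∀ ζ ∈ Subgroup.center H, ζ * ζ = 1 → ζ = 1 ∨ ζ = c

variable {H}

theorem FourData.abelian {i v c : H} (d : FourData H i v c) (h m : H) :
    m⁻¹ * (h * m * h⁻¹) ∈ Subgroup.center H := by
  rw [← QuotientGroup.eq]
  have hi : (QuotientGroup.mk i : H ⧸ Subgroup.center H) * QuotientGroup.mk v =
      QuotientGroup.mk v * QuotientGroup.mk i := by
    rw [← QuotientGroup.mk_mul, ← QuotientGroup.mk_mul, QuotientGroup.eq]
    have e : v * i = i * v * c := by
      calc v * i = v * i * v⁻¹ * v := by group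
        _ = i * (c * v) := by rw [d.conj_vi, mul_assoc]
        _ = i * v * c := by rw [← Subgroup.mem_center_iff.mp d.center_mem v, mul_assoc]
    rw [e, inv_mul_cancel_left]
    exact d.center_mem
  have hab : ∀ p q : H ⧸ Subgroup.center H, p * q = q * p := by
    have key : ∀ p : H ⧸ Subgroup.center H, p = 1 ∨ p = QuotientGroup.mk i ∨ p = QuotientGroup.mk v ∨
        p = QuotientGroup.mk i * QuotientGroup.mk v := by
      intro p
      obtain ⟨m, rfl⟩ := QuotientGroup.mk_surjective p
      obtain ⟨ζ, hζ, rfl | rfl | rfl | rfl⟩ := d.gen m <;>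
        simp [(QuotientGroup.eq_one_iff _).mpr hζ]
    intro p q
    rcases key p with rfl | rfl | rfl | rfl <;> rcases key q with rfl | rfl | rfl | rfl <;>
      simp only [one_mul, mul_one, hi, mul_assoc] <;>
      simp only [← mul_assoc, hi]
  rw [QuotientGroup.mk_mul, QuotientGroup.mk_mul, QuotientGroup.mk_inv, hab _ (QuotientGroup.mk m),
    mul_inv_cancel_right]

theorem FourData.card_points {i v c : H} (d : FourData H i v c) (hi : i ∉ Subgroup.center H)
    (hv : v ∉ Subgroup.center H) (hiv : i * v ∉ Subgroup.center H) :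
    Nat.card {q : H ⧸ Subgroup.center H // q ≠ 1} = 3 := by
  have h1 : ∀ {m : H}, m ∉ Subgroup.center H → (m : H ⧸ Subgroup.center H) ≠ 1 :=
    fun hm h => hm ((QuotientGroup.eq_one_iff _).mp h)
  have hset : {q : H ⧸ Subgroup.center H | q ≠ 1} =
      {(i : H ⧸ Subgroup.center H), (v : H ⧸ Subgroup.center H), ((i * v : H) : H ⧸ Subgroup.center H)} := by
    ext q
    constructor
    · intro hq
      obtain ⟨m, rfl⟩ := QuotientGroup.mk_surjective q
      obtain ⟨ζ, hζ, rfl | rfl | rfl | rfl⟩ := d.gen m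
      · exact absurd ((QuotientGroup.eq_one_iff _).mpr hζ) hq
      all_goals simp [(QuotientGroup.eq_one_iff _).mpr hζ]
    · rintro (rfl | rfl | rfl)
      · exact h1 hi
      · exact h1 hv
      · exact h1 hiv
  show Set.ncard {q : H ⧸ Subgroup.center H | q ≠ 1} = 3
  rw [hset, Set.ncard_eq_three]
  refine ⟨_, _, _, ?_, ?_, ?_, rfl⟩
  · intro h
    refine hiv ?_
    rw [← QuotientGroup.eq_one_iff, QuotientGroup.mk_mul, ← h, ← QuotientGroup.mk_mul,
      QuotientGroup.eq_one_iff]
    exact d.sq_i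
  · rw [QuotientGroup.mk_mul]; exact fun h => h1 hv (mul_eq_left.mp h.symm)
  · rw [QuotientGroup.mk_mul]; exact fun h => h1 hi (mul_eq_right.mp h.symm)

/-- The kernel of the three point action is `H C(H)`, provided the normalizer fixes the centre of
`H` elementwise. -/
theorem FourData.ker_eq {i v c : H} (d : FourData H i v c)
    (hfix : ∀ (n : Subgroup.normalizer (H : Set G)), ∀ ζ ∈ Subgroup.center H,
      H.normalizerMonoidHom n ζ = ζ) :
    (quotPerm H).ker =
      (H ⊔ Subgroup.centralizer (H : Set G)).subgroupOf (Subgroup.normalizer (H : Set G)) := by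
  apply le_antisymm
  · intro n hn
    rw [MonoidHom.mem_ker, quotPerm_eq_one_iff] at hn
    set σ := H.normalizerMonoidHom n with hσ
    have step : ∀ m : H, m * m ∈ Subgroup.center H → σ m = m ∨ σ m = m * c := by
      intro m hm
      set ζ := m⁻¹ * σ m with hζdef
      have e : σ m = m * ζ := (mul_inv_cancel_left m _).symm
      have hcm : Commute m ζ := Subgroup.mem_center_iff.mp (hn m) m
      have h2 : σ (m * m) = m * m := hfix n _ hm
      rw [map_mul, e, mul_assoc, ← mul_assoc ζ, ← hcm.eq, mul_assoc m ζ, ← mul_assoc, mul_eq_left] at h2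
      rcases d.involution ζ (hn m) h2 with h | h
      · exact Or.inl (by rw [e, h, mul_one])
      · exact Or.inr (by rw [e, h])
    have hcc : c * c = 1 := by
      have h1 : v * (i * i) * v⁻¹ = i * i := by
        rw [Subgroup.mem_center_iff.mp d.sq_i v, mul_inv_cancel_right]
      have h2 : v * (i * i) * v⁻¹ = (i * c) * (i * c) := by rw [← d.conj_vi]; group
      rw [h1, mul_assoc, ← mul_assoc c, ← Subgroup.mem_center_iff.mp d.center_mem i, mul_assoc i c,
        ← mul_assoc, eq_comm, mul_eq_left] at h2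
      exact h2
    have hcomm : ∀ m : H, m * c = c * m := fun m => Subgroup.mem_center_iff.mp d.center_mem m
    obtain ⟨h, hhi, hhv⟩ : ∃ h : H, h * i * h⁻¹ = σ i ∧ h * v * h⁻¹ = σ v := by
      rcases step i d.sq_i with ei | ei <;> rcases step v d.sq_v with ev | ev <;> rw [ei, ev]
      · exact ⟨1, by simp, by simp⟩
      · exact ⟨i, by group, d.conj_iv⟩
      · exact ⟨v, d.conj_vi, by group⟩
      · refine ⟨i * v, ?_, ?_⟩
        · calc i * v * i * (i * v)⁻¹ = i * (v * i * v⁻¹) * i⁻¹ := by group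
            _ = i * c := by rw [d.conj_vi, mul_assoc i, mul_assoc i c, ← hcomm i⁻¹, mul_inv_cancel_left]
        · calc i * v * v * (i * v)⁻¹ = i * v * i⁻¹ := by group
            _ = v * c := d.conj_iv
    have hall : ∀ m : H, h * m * h⁻¹ = σ m := by
      intro m
      have hz : ∀ ζ ∈ Subgroup.center H, h * ζ * h⁻¹ = σ ζ := fun ζ hζ => by
        rw [hσ, hfix n ζ hζ, Subgroup.mem_center_iff.mp hζ h, mul_inv_cancel_right]
      obtain ⟨ζ, hζ, rfl | rfl | rfl | rfl⟩ := d.gen m
      · exact hz _ hζ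
      · rw [map_mul, ← hhi, ← hz _ hζ]; group
      · rw [map_mul, ← hhv, ← hz _ hζ]; group
      · rw [map_mul, map_mul, ← hhi, ← hhv, ← hz _ hζ]; group
    rw [Subgroup.mem_subgroupOf]
    have e : (n : G) = (h : G) * ((h : G)⁻¹ * n) := by group
    rw [e]
    refine mul_mem (Subgroup.mem_sup_left h.2) (Subgroup.mem_sup_right ?_)
    rw [Subgroup.mem_centralizer_iff]
    intro m hm
    have h1 : (n : G) * m * (n : G)⁻¹ = h * m * (h : G)⁻¹ := by
      have := congrArg Subtype.val (hall ⟨m, hm⟩)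
      exact this.symm
    calc m * ((h : G)⁻¹ * n) = (h : G)⁻¹ * ((h : G) * m * (h : G)⁻¹) * n := by group
      _ = _ := by rw [← h1]; group
  · intro n hn
    rw [MonoidHom.mem_ker, quotPerm_eq_one_iff]
    intro m
    obtain ⟨h, hh, z, hz, e⟩ := exists_mul_of_mem_sup H (Subgroup.mem_subgroupOf.mp hn)
    rw [normalizerMonoidHom_eq_conj H (h := ⟨h, hh⟩) hz e]
    exact d.abelian _ _

theorem FourData.relIndex_eq {i v c : H} (d : FourData H i v c)
    (hfix : ∀ (n : Subgroup.normalizer (H : Set G)), ∀ ζ ∈ Subgroup.center H,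
      H.normalizerMonoidHom n ζ = ζ) :
    (H ⊔ Subgroup.centralizer (H : Set G)).relIndex (Subgroup.normalizer (H : Set G)) =
      (quotPerm H).ker.index := by
  rw [d.ker_eq hfix]; rfl

variable (H)

/-- The kernel of the action on all nontrivial elements is the centralizer. -/
theorem relIndex_centralizer_eq :
    (Subgroup.centralizer (H : Set G)).relIndex (Subgroup.normalizer (H : Set G)) =
      (normPerm H (fun m => m ≠ 1) (fun σ m => by simp)).ker.index := by
  rw [Subgroup.relIndex]
  congr 1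
  ext n
  rw [MonoidHom.mem_ker, normPerm_eq_one_iff, Subgroup.mem_subgroupOf, Subgroup.mem_centralizer_iff]
  constructor
  · intro h m _
    rw [← h m m.2, mul_inv_cancel_right]
  · intro h g hg
    by_cases hg1 : (⟨g, hg⟩ : H) = 1
    · rw [show g = 1 from congrArg Subtype.val hg1, one_mul, mul_one]
    · exact (mul_inv_eq_iff_eq_mul.mp (h _ hg1)).symm

/-- An automorphism of odd order of an abelian 2-group fixing all involutions is trivial. -/
theorem abelian_fix_involutions {M : Type*} [Group M] (hM : IsPGroup 2 M)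
    (hab : ∀ a b : M, a * b = b * a) {φ : MulAut M} {j : ℕ} (hj : φ ^ j = 1) (hodd : Odd j)
    (h : ∀ m : M, m * m = 1 → φ m = m) : φ = 1 := by
  have key : ∀ (e : ℕ) (m : M), m ^ 2 ^ e = 1 → φ m = m := by
    intro e
    induction e with
    | zero => intro m hm; rw [pow_zero, pow_one] at hm; rw [hm, map_one]
    | succ e ih =>
      intro m hm
      have h2 : φ (m * m) = m * m := ih _ (by rw [← pow_two, ← pow_mul, ← pow_succ']; exact hm)
      have hα : m⁻¹ * φ m * (m⁻¹ * φ m) = 1 := by
        calc m⁻¹ * φ m * (m⁻¹ * φ m) = m⁻¹ * m⁻¹ * (φ m * φ m) := by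
              rw [mul_assoc, ← mul_assoc (φ m), hab (φ m) m⁻¹, mul_assoc, ← mul_assoc]
          _ = 1 := by rw [← map_mul, h2]; group
      exact OddAut.fix_step hj hodd (α := m⁻¹ * φ m) (mul_inv_cancel_left m _).symm (h _ hα)
        (e := 1) (by rw [pow_one, pow_two, hα])
  refine MulEquiv.ext fun m => ?_
  obtain ⟨e, he⟩ := hM m
  exact key e m he

end CfsgLib.TwoFusion.LocalAut
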