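import Cfsg.Agent.Lib.TwoFusion.DihedralFusion
import Cfsg.Agent.Lib.TwoFusion.LocalAut

/-!
# Four-subgroups, involution classes and normal complements for dihedral Sylow `2`-subgroups
-/

set_option autoImplicit false

namespace CfsgLib.TwoFusion.DihedralFusion

open Subgroup LocalAut

variable {X : Type*} [Group X] [Finite X]

theorem mem_zpowers_of_orderOf_dvd {A : Type*} [Group A] [Finite A] [IsCyclic A] {x y : A}
    (h : orderOf x ∣ orderOf y) : x ∈ zpowers y := by
  classical
  have := Fintype.ofFinite A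
  have hx : x ∈ Finset.univ.filter (fun t : A => t ^ orderOf y = 1) := by
    simpa using orderOf_dvd_iff_pow_eq_one.mp h
  have hsub : (zpowers y : Set A).toFinset ⊆ Finset.univ.filter (fun t : A => t ^ orderOf y = 1) := by
    intro t ht
    simp only [Set.mem_toFinset, SetLike.mem_coe] at ht
    simp only [Finset.mem_filter, Finset.mem_univ, true_and]
    exact orderOf_dvd_iff_pow_eq_one.mp (orderOf_dvd_of_mem_zpowers ht)
  have hle := IsCyclic.card_pow_eq_one_le (α := A) (orderOf_pos y)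
  rw [← Finset.eq_of_subset_of_card_le hsub (hle.trans (le_of_eq ?_))] at hx
  · simpa using hx
  · rw [← Nat.card_zpowers, Nat.card_eq_fintype_card, Set.toFinset_card]
    rfl

theorem card_points {U : Subgroup X} (hU : IsKleinFour U) : Nat.card {m : U // m ≠ 1} = 3 := by
  show Set.ncard ({1}ᶜ : Set U) = 3
  rw [Set.ncard_compl, Set.ncard_singleton, hU.card_four]

/-- The action on the three involutions of a four-group. -/
abbrev fourPerm (U : Subgroup X) :
    normalizer (U : Set X) →* Equiv.Perm {m : U // m ≠ 1} :=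
  normPerm U (fun m => m ≠ 1) (fun σ m => by simp)

theorem fin_three_cycle : ∀ σ : Equiv.Perm (Fin 3), σ * σ ≠ 1 →
    ∀ a b : Fin 3, b = a ∨ σ a = b ∨ σ (σ a) = b := by
  decide

theorem three_cycle {α : Type*} (hα : Nat.card α = 3) (σ : Equiv.Perm α) (h : σ * σ ≠ 1) (a b : α) :
    b = a ∨ σ a = b ∨ σ (σ a) = b := by
  have : Finite α := Nat.finite_of_card_ne_zero (by omega)
  let e : α ≃ Fin 3 := Finite.equivFinOfCardEq hα
  have h2 := fin_three_cycle (e.permCongr σ) (fun h3 => h (e.permCongr.injective ?_)) (e a) (e b)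
  · rcases h2 with h2 | h2 | h2
    · exact Or.inl (e.injective h2)
    · exact Or.inr (Or.inl (e.injective (by simpa using h2)))
    · exact Or.inr (Or.inr (e.injective (by simpa using h2)))
  · refine Equiv.ext fun x => ?_
    simpa using congrArg (fun τ : Equiv.Perm (Fin 3) => τ x) h3

theorem exists_sq_ne_one {A α : Type*} [Group A] [Finite α] (φ : A →* Equiv.Perm α)
    (h : 3 ∣ φ.ker.index) : ∃ n : A, φ n * φ n ≠ 1 := by
  rw [Subgroup.index_ker] at h
  have : Fact (Nat.Prime 3) := ⟨Nat.prime_three⟩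
  obtain ⟨⟨σ, n, hn⟩, hord⟩ := exists_prime_orderOf_dvd_card' (G := φ.range) 3 h
  refine ⟨n, fun h2 => ?_⟩
  rw [hn, ← pow_two] at h2
  have hord' : orderOf σ = 3 := (Subgroup.orderOf_mk (H := φ.range) σ ⟨n, hn⟩).symm.trans hord
  have h3 := orderOf_dvd_of_pow_eq_one h2
  rw [hord'] at h3
  norm_num at h3

theorem isConj_of_three_dvd {U : Subgroup X} (hU : IsKleinFour U)
    (h : 3 ∣ (centralizer (U : Set X)).relIndex (normalizer (U : Set X)))
    {x y : X} (hx : x ∈ U) (hx1 : x ≠ 1) (hy : y ∈ U) (hy1 : y ≠ 1) : IsConj x y := by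
  rw [relIndex_centralizer_eq] at h
  obtain ⟨w, hw⟩ := exists_sq_ne_one (fourPerm U) h
  let x' : {m : U // m ≠ 1} := ⟨⟨x, hx⟩, fun e => hx1 (congrArg Subtype.val e)⟩
  let y' : {m : U // m ≠ 1} := ⟨⟨y, hy⟩, fun e => hy1 (congrArg Subtype.val e)⟩
  have happ : ∀ (n : normalizer (U : Set X)) (m : {m : U // m ≠ 1}),
      ((fourPerm U n m : U) : X) = n * (m : U) * (n : X)⁻¹ := fun n m => normPerm_apply U _ _ n m
  rcases three_cycle (card_points hU) _ hw x' y' with e | e | e
  · have : y = x := congrArg (fun m : {m : U // m ≠ 1} => ((m : U) : X)) e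
    rw [this]
  · refine isConj_iff.mpr ⟨w, ?_⟩
    have e' := congrArg (fun m : {m : U // m ≠ 1} => ((m : U) : X)) e
    simp only [happ] at e'
    exact e'
  · refine isConj_iff.mpr ⟨(w * w : normalizer (U : Set X)), ?_⟩
    have e' := congrArg (fun m : {m : U // m ≠ 1} => ((m : U) : X)) e
    simp only [happ] at e'
    simpa [mul_assoc] using e'

variable {P : Sylow 2 X} (D : DihGens (P : Subgroup X))

omit [Finite X] in
theorem k_pos_of_card_lt (h : 4 < Nat.card P) : 1 ≤ D.k := by
  by_contra hk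
  rw [show Nat.card P = Nat.card (P : Subgroup X) from rfl, D.card, show D.k = 0 by omega] at h
  norm_num at h

omit [Finite X] in
theorem k_zero_iff : D.k = 0 ↔ Nat.card P = 4 := by
  rw [show Nat.card P = Nat.card (P : Subgroup X) from rfl, D.card]
  constructor
  · intro h; rw [h]; norm_num
  · intro h
    have : 2 ^ (D.k + 2) = 2 ^ 2 := by rw [h]; norm_num
    have := Nat.pow_right_injective (le_refl 2) this
    omega

theorem eq_four_of_k_zero (hk : D.k = 0) (i : ℤ) : (P : Subgroup X) = D.four i :=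
  (Subgroup.eq_of_le_of_card_ge (D.four_le i)
    (by rw [(D.four_isKleinFour i).card_four, D.card, hk]; norm_num)).symm

omit [Finite X] in
theorem isPGroup_klein {U : Subgroup X} (hU : IsKleinFour U) : IsPGroup 2 U :=
  fun x => ⟨1, by rw [pow_one, ← hU.exponent_two]; exact Monoid.pow_exponent_eq_one x⟩

theorem klein_conj {U : Subgroup X} (hU : IsKleinFour U) :
    ∃ (i : ℤ) (x : X), U.map (MulAut.conj x).toMonoidHom = D.four i := by
  have : Fact (Nat.Prime 2) := ⟨Nat.prime_two⟩
  obtain ⟨g, hg⟩ := ConjUtil.exists_conjMap_le P (isPGroup_klein hU)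
  have hK : IsKleinFour (U.map (MulAut.conj g).toMonoidHom : Subgroup X) := by
    constructor
    · rw [ConjUtil.card_conjMap, hU.card_four]
    · rw [← Monoid.exponent_eq_of_mulEquiv
        (U.equivMapOfInjective _ (MulAut.conj g).injective), hU.exponent_two]
  obtain ⟨i, hi⟩ := D.klein_cases hK hg
  exact ⟨i, g, hi⟩

theorem involution_cases {t : X} (ht : t ∈ (P : Subgroup X)) (h2 : orderOf t = 2) :
    t = D.z ∨ ∃ i : ℤ, t = D.a ^ i * D.b := by
  obtain ⟨i, rfl | rfl⟩ := D.cases t ht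
  · refine Or.inl ((D.rot_sq_eq_one ⟨i, rfl⟩ ?_).resolve_left fun h => ?_)
    · have h3 := pow_orderOf_eq_one (D.a ^ i)
      rw [h2, pow_two] at h3
      exact h3
    · change D.a ^ i = 1 at h
      rw [h, orderOf_one] at h2
      omega
  · exact Or.inr ⟨i, rfl⟩

theorem isConj_z_of_no_index_two (hidx : ∀ H : Subgroup X, H.index ≠ 2) (i : ℤ) :
    IsConj (D.a ^ i * D.b) D.z := by
  by_contra hnc
  have hPi := FusionTools.sylow_index_odd P
  have hQi : (Subgroup.zpowers D.a).relIndex (P : Subgroup X) = 2 := by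
    have h := Subgroup.card_mul_index ((Subgroup.zpowers D.a).subgroupOf (P : Subgroup X))
    rw [Nat.card_congr (Subgroup.subgroupOfEquivOfLe (Subgroup.zpowers_le.mpr D.ha)).toEquiv,
      Nat.card_zpowers, D.order_a, D.card, pow_succ 2 (D.k + 1)] at h
    exact Nat.eq_of_mul_eq_mul_left (pow_pos two_pos _) h
  refine (FusionTools.exists_index_two_of_parity (P : Subgroup X)
    (Subgroup.zpowers D.a) hPi hQi (D.a ^ i * D.b) (fun n g hg => ?_)).elim fun M hM => hidx M hM.2.1
  · have hpow : Even n → (D.a ^ i * D.b) ^ n = 1 := by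
      rintro ⟨c, rfl⟩
      rw [pow_add, ← (Commute.refl (D.a ^ i * D.b)).mul_pow, D.refl_sq, one_pow]
    refine ⟨fun hQ => ?_, fun hn => by rw [hpow hn]; simp⟩
    by_contra hodd
    rw [Nat.not_even_iff_odd] at hodd
    have hu : (D.a ^ i * D.b) ^ n = D.a ^ i * D.b := by
      obtain ⟨c, hc⟩ := hodd
      rw [hc, pow_succ, pow_mul, pow_two, D.refl_sq, one_pow, one_mul]
    rw [hu] at hQ
    have ho : orderOf (g⁻¹ * (D.a ^ i * D.b) * g) = 2 := by
      refine Eq.trans ?_ (D.orderOf_refl i)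
      simpa using (MulAut.conj g⁻¹).orderOf_eq (D.a ^ i * D.b)
    have hsq : g⁻¹ * (D.a ^ i * D.b) * g * (g⁻¹ * (D.a ^ i * D.b) * g) = 1 := by
      have h4 := pow_orderOf_eq_one (g⁻¹ * (D.a ^ i * D.b) * g)
      rwa [ho, pow_two] at h4
    rcases D.rot_sq_eq_one hQ hsq with h | h
    · rw [h, orderOf_one] at ho; omega
    · exact hnc (isConj_iff.mpr ⟨g⁻¹, by simpa [mul_assoc] using h⟩)

theorem isConj_z_mul (i : ℤ) (hk : 1 ≤ D.k) :
    D.q * (D.a ^ i * D.b) * D.q⁻¹ = D.z * (D.a ^ i * D.b) := by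
  have hb : (D.a ^ i * D.b) * D.q⁻¹ = D.q * (D.a ^ i * D.b) := by
    rw [DihGens.q, ← zpow_neg, mul_assoc, D.b_mul_zpow, neg_neg, ← mul_assoc, ← mul_assoc,
      ((Commute.refl D.a).zpow_zpow _ _).eq]
  rw [mul_assoc, hb, ← mul_assoc, D.q_sq hk]

theorem q_mem_normalizer (i : ℤ) (hk : 1 ≤ D.k) :
    D.q ∈ normalizer ((D.four i : Subgroup X) : Set X) := by
  refine ConjUtil.mem_normalizer_of_conj_mem D.q fun x hx => ?_
  have hz : D.q * D.z * D.q⁻¹ = D.z := by
    rw [← (D.z_comm ((P : Subgroup X).zpow_mem D.ha _) : Commute D.z D.q).eq, mul_inv_cancel_right]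
  rcases D.mem_four.mp hx with rfl | rfl | rfl | rfl
  · simp
  · rw [hz]; exact D.z_mem_four i
  · rw [isConj_z_mul D i hk]; exact Or.inr (Or.inr (Or.inr rfl))
  · rw [show D.q * (D.z * (D.a ^ i * D.b)) * D.q⁻¹ =
        (D.q * D.z * D.q⁻¹) * (D.q * (D.a ^ i * D.b) * D.q⁻¹) by simp [mul_assoc],
      hz, isConj_z_mul D i hk, ← mul_assoc, D.z_sq, one_mul]
    exact D.refl_mem_four i

theorem index_two_or_six (i : ℤ) (hk : 1 ≤ D.k) :
    (centralizer (D.four i : Set X)).relIndex (normalizer (D.four i : Set X)) = 2 ∨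
      (centralizer (D.four i : Set X)).relIndex (normalizer (D.four i : Set X)) = 6 := by
  rw [relIndex_centralizer_eq]
  refine index_ker_two_or_six _ (card_points (D.four_isKleinFour i))
    (r := ⟨D.q, q_mem_normalizer D i hk⟩) (fun h => ?_) ?_
  · have h2 := (normPerm_eq_one_iff _ _ _ _).mp h ⟨_, D.refl_mem_four i⟩
      (fun e => D.refl_ne_one i (congrArg Subtype.val e))
    rw [isConj_z_mul D i hk] at h2
    exact D.z_ne_one (mul_eq_right.mp h2)
  · rw [normPerm_eq_one_iff]
    intro m _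
    show D.q * D.q * (m : X) * (D.q * D.q)⁻¹ = m
    rw [D.q_sq hk, (D.z_comm (D.four_le i m.2)).eq, mul_inv_cancel_right]

theorem six_of_isConj (i : ℤ) (hk : 1 ≤ D.k) (hc : IsConj (D.a ^ i * D.b) D.z) :
    (centralizer (D.four i : Set X)).relIndex (normalizer (D.four i : Set X)) = 6 := by
  refine (index_two_or_six D i hk).resolve_left fun h2 => ?_
  -- move `four i` so that the reflection becomes central
  obtain ⟨g, hg⟩ := isConj_iff.mp hc
  have hPz : (P : Subgroup X) ≤ centralizer ({D.z} : Set X) := fun s hs =>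
    mem_centralizer_singleton_iff.mpr (D.z_comm hs).eq.symm
  have hUz : (D.four i).map (MulAut.conj g).toMonoidHom ≤ centralizer ({D.z} : Set X) := by
    rintro _ ⟨x, hx, rfl⟩
    rw [mem_centralizer_singleton_iff, ← hg]
    have hcomm : Commute x (D.a ^ i * D.b) := by
      haveI := D.four_isKleinFour i
      exact congrArg Subtype.val ((IsKleinFour.isMulCommutative (G := D.four i)).is_comm.comm
        ⟨x, hx⟩ ⟨_, D.refl_mem_four i⟩)
    exact (hcomm.map (MulAut.conj g).toMonoidHom).eq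
  obtain ⟨c, hc1, hcS⟩ := FusionTools.exists_conj_le (centralizer ({D.z} : Set X))
    (P : Subgroup X) ((D.four i).map (MulAut.conj g).toMonoidHom) P.isPGroup' hPz
    ((FusionTools.sylow_index_odd P).of_dvd_nat
      (Dvd.intro _ (Subgroup.relIndex_mul_index hPz)))
    ((isPGroup_klein (D.four_isKleinFour i)).map _) hUz
  have hle : (D.four i).map (MulAut.conj (c * g)).toMonoidHom ≤ (P : Subgroup X) := by
    rw [← ConjUtil.conjMap_conjMap]
    rintro _ ⟨x, hx, rfl⟩
    exact hcS x hx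
  have hK : IsKleinFour ((D.four i).map (MulAut.conj (c * g)).toMonoidHom : Subgroup X) := by
    constructor
    · rw [ConjUtil.card_conjMap, (D.four_isKleinFour i).card_four]
    · rw [← Monoid.exponent_eq_of_mulEquiv
        ((D.four i).equivMapOfInjective _ (MulAut.conj (c * g)).injective),
        (D.four_isKleinFour i).exponent_two]
  obtain ⟨j, hj⟩ := D.klein_cases hK hle
  obtain ⟨s, hs, hsj⟩ := D.isConj_four (i := j) (j := i) (by
    have := four_fusion D hk hj
    rw [show j - i = -(i - j) by ring]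
    exact this.neg)
  let h : normalizer ((D.four i : Subgroup X) : Set X) := ⟨s * (c * g), by
    rw [ConjUtil.mem_normalizer_iff_conjMap, ← ConjUtil.conjMap_conjMap, hj, hsj]⟩
  have hh : (h : X) * (D.a ^ i * D.b) * (h : X)⁻¹ = D.z := by
    show s * (c * g) * (D.a ^ i * D.b) * (s * (c * g))⁻¹ = D.z
    calc s * (c * g) * (D.a ^ i * D.b) * (s * (c * g))⁻¹
        = s * (c * (g * (D.a ^ i * D.b) * g⁻¹) * c⁻¹) * s⁻¹ := by simp [mul_assoc]
      _ = D.z := by
          rw [hg, mem_centralizer_singleton_iff.mp hc1, mul_inv_cancel_right,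
            ← (D.z_comm hs).eq, mul_inv_cancel_right]
  rw [relIndex_centralizer_eq, Subgroup.index_ker, Nat.card_eq_two_iff' (1 : (fourPerm (D.four i)).range)] at h2
  obtain ⟨w, -, huniq⟩ := h2
  let r : normalizer ((D.four i : Subgroup X) : Set X) := ⟨D.q, q_mem_normalizer D i hk⟩
  have hne : ∀ n : normalizer ((D.four i : Subgroup X) : Set X),
      (n : X) * (D.a ^ i * D.b) * (n : X)⁻¹ ≠ D.a ^ i * D.b → fourPerm (D.four i) n ≠ 1 := by
    intro n hn e
    exact hn ((normPerm_eq_one_iff _ _ _ _).mp e ⟨_, D.refl_mem_four i⟩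
      (fun e' => D.refl_ne_one i (congrArg Subtype.val e')))
  have h1 := huniq ⟨fourPerm (D.four i) h, h, rfl⟩ fun e =>
    hne h (by rw [hh]; exact D.z_ne_refl i) (congrArg Subtype.val e)
  have h3 := huniq ⟨fourPerm (D.four i) r, r, rfl⟩ fun e => hne r (by
    show D.q * _ * D.q⁻¹ ≠ _
    rw [isConj_z_mul D i hk]
    exact fun e => D.z_ne_one (mul_eq_right.mp e)) (congrArg Subtype.val e)
  have h4 : fourPerm (D.four i) h = fourPerm (D.four i) r :=
    congrArg Subtype.val (h1.trans h3.symm)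
  let x' : {m : D.four i // m ≠ 1} :=
    ⟨⟨_, D.refl_mem_four i⟩, fun e => D.refl_ne_one i (congrArg Subtype.val e)⟩
  have h5 := congrArg (fun σ : Equiv.Perm {m : D.four i // m ≠ 1} => ((σ x' : D.four i) : X)) h4
  simp only [normPerm_apply] at h5
  change (h : X) * (D.a ^ i * D.b) * (h : X)⁻¹ = D.q * (D.a ^ i * D.b) * D.q⁻¹ at h5
  rw [hh, isConj_z_mul D i hk] at h5
  exact D.refl_ne_one i (left_eq_mul.mp h5)

theorem three_of_isConj (i : ℤ) (hk : D.k = 0) (hc : IsConj (D.a ^ i * D.b) D.z) :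
    (centralizer (D.four i : Set X)).relIndex (normalizer (D.four i : Set X)) = 3 := by
  have hP := eq_four_of_k_zero D hk i
  have hU := D.four_isKleinFour i
  have hcomm : IsMulCommutative (D.four i) := by
    haveI := hU
    exact IsKleinFour.isMulCommutative
  have hdvd : (centralizer (D.four i : Set X)).relIndex (normalizer (D.four i : Set X)) ∣ 6 := by
    rw [relIndex_centralizer_eq, Subgroup.index_ker]
    exact card_range_dvd_six _ (card_points hU)
  have hodd : Odd ((centralizer (D.four i : Set X)).relIndex (normalizer (D.four i : Set X))) := by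
    refine (FusionTools.sylow_index_odd P).of_dvd_nat ?_
    haveI := hcomm
    have hle : (P : Subgroup X) ≤ centralizer (D.four i : Set X) :=
      hP.le.trans (Subgroup.le_centralizer _)
    refine dvd_trans ?_ (Subgroup.index_dvd_of_le hle)
    exact Dvd.intro _ (Subgroup.relIndex_mul_index (Subgroup.centralizer_le_normalizer _))
  have hne : (centralizer (D.four i : Set X)).relIndex (normalizer (D.four i : Set X)) ≠ 1 := by
    intro h1
    obtain ⟨g, hg⟩ := isConj_iff.mp hc.symm
    haveI := hcomm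
    have hPc : IsMulCommutative (P : Subgroup X) := hP ▸ hcomm
    obtain ⟨n, hn, he⟩ := P.conj_eq_normalizer_conj_of_mem D.z g⁻¹ D.z_mem_S
      (by rw [inv_inv, hg]; exact D.refl_mem i)
    rw [inv_inv, hg] at he
    have hle : n ∈ centralizer (D.four i : Set X) := by
      have hn' : n ∈ normalizer (D.four i : Set X) := hP ▸ hn
      exact (Subgroup.relIndex_eq_one.mp h1) hn'
    apply D.z_ne_refl i
    rw [he, mul_assoc, mem_centralizer_iff.mp hle D.z (D.z_mem_four i), ← mul_assoc,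
      inv_mul_cancel, one_mul]
  have := Nat.le_of_dvd (by norm_num) hdvd
  obtain ⟨c, hc'⟩ := hodd
  obtain ⟨d, hd⟩ := hdvd
  interval_cases (centralizer (D.four i : Set X)).relIndex (normalizer (D.four i : Set X)) <;> omega

include D in
theorem no_index_two_of_one_class
    (h : ∀ a b : X, orderOf a = 2 → orderOf b = 2 → IsConj a b) (H : Subgroup X) : H.index ≠ 2 := by
  intro hH
  have hz : D.z ∈ H ∨ ∃ t ∈ H, orderOf t = 2 := by
    by_cases hb : D.a ^ (0 : ℤ) * D.b ∈ H
    · exact Or.inr ⟨_, hb, D.orderOf_refl 0⟩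
    · by_cases hzH : D.z ∈ H
      · exact Or.inl hzH
      · refine Or.inr ⟨D.z * (D.a ^ (0 : ℤ) * D.b), (Subgroup.mul_mem_iff_of_index_two hH).mpr
          (by simp only [hzH, hb]), ?_⟩
        refine orderOf_eq_prime ?_ fun e => D.z_ne_refl 0 ?_
        · rw [pow_two]
          exact DihGens.sq_of_klein (D.four_isKleinFour 0) (Or.inr (Or.inr (Or.inr rfl)))
        · rw [eq_inv_of_mul_eq_one_left e, inv_eq_of_mul_eq_one_right (D.refl_sq 0)]
  obtain ⟨t, htH, ht⟩ : ∃ t ∈ H, orderOf t = 2 := by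
    rcases hz with hz | hz
    · exact ⟨_, hz, D.orderOf_z⟩
    · exact hz
  have hall : ∀ u : X, orderOf u = 2 → u ∈ H := fun u hu => by
    obtain ⟨g, rfl⟩ := isConj_iff.mp (h t u ht hu)
    exact (FusionTools.conj_mem_iff_of_index_two hH g t).mpr htH
  refine FusionTools.eq_top_of_sylow_le P ?_ hH
  intro s hs
  have hb : D.b ∈ H := by simpa using hall _ (D.orderOf_refl 0)
  have ha : D.a ∈ H := by
    have h2 := H.mul_mem (hall _ (D.orderOf_refl 1)) (hall _ (D.orderOf_refl 0))
    rwa [D.refl_mul_refl, sub_zero, zpow_one] at h2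
  obtain ⟨i, rfl | rfl⟩ := D.cases s hs
  exacts [H.zpow_mem ha i, H.mul_mem (H.zpow_mem ha i) hb]

include D in
theorem no_isolated_of_one_class
    (h : ∀ a b : X, orderOf a = 2 → orderOf b = 2 → IsConj a b) (u : X) :
    ¬ Cfsg.IsIsolatedInvolution u := by
  rintro ⟨hu, hiso⟩
  obtain ⟨g, hg⟩ := isConj_iff.mp (h D.z u D.orderOf_z hu)
  obtain ⟨c, hc⟩ := isConj_iff.mp (h D.z (D.a ^ (0 : ℤ) * D.b) D.orderOf_z (D.orderOf_refl 0))
  apply D.z_ne_refl 0
  have h2 := hiso (g * c * g⁻¹) (by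
    rw [← hg]
    have hcomm : Commute D.z (c * D.z * c⁻¹) := by rw [hc]; exact D.z_comm (D.refl_mem 0)
    have := hcomm.map (MulAut.conj g).toMonoidHom
    simpa [mul_assoc] using this)
  rw [← hg] at h2
  have h3 : g * (c * D.z * c⁻¹) * g⁻¹ = g * D.z * g⁻¹ := by simpa [mul_assoc] using h2
  rw [hc] at h3
  exact (mul_left_cancel (mul_right_cancel h3)).symm

theorem one_class_of_isConj (h : ∀ i : ℤ, IsConj (D.a ^ i * D.b) D.z) {x y : X}
    (hx : orderOf x = 2) (hy : orderOf y = 2) : IsConj x y := by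
  have key : ∀ t : X, orderOf t = 2 → IsConj t D.z := by
    intro t ht
    obtain ⟨g, hg⟩ := FusionTools.exists_conj_mem_sylow P t (d := 1) (by rw [ht, pow_one])
    have hg2 : orderOf (g * t * g⁻¹) = 2 := by
      rw [← ht]; exact (MulAut.conj g).orderOf_eq t
    have h0 : IsConj t (g * t * g⁻¹) := isConj_iff.mpr ⟨g, rfl⟩
    refine h0.trans ?_
    rcases involution_cases D hg hg2 with e | ⟨i, e⟩
    · rw [e]
    · rw [e]; exact h i
  exact (key x hx).trans (key y hy).symm

include D in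
theorem odd_centralizes {Q : Subgroup X} (hQ : Q ≤ (P : Subgroup X))
    (hU : IsKleinFour Q → ∀ n ∈ normalizer (Q : Set X), Odd (orderOf n) → n ∈ centralizer (Q : Set X))
    {n : X} (hn : n ∈ normalizer (Q : Set X)) (hodd : Odd (orderOf n)) :
    n ∈ centralizer (Q : Set X) := by
  by_cases hklein : IsKleinFour Q
  · exact hU hklein n hn hodd
  have hconj : ∀ x ∈ Q, n * x * n⁻¹ ∈ Q := fun x hx => (mem_normalizer_iff.mp hn x).mp hx
  have h2pow : ∀ c ∈ Q, ∃ r, orderOf c = 2 ^ r := fun c hc => by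
    obtain ⟨r, hr⟩ := IsPGroup.iff_orderOf.mp P.isPGroup' ⟨c, hQ hc⟩
    exact ⟨r, by rwa [Subgroup.orderOf_mk] at hr⟩
  suffices hfix : ∀ v ∈ Q, n * v * n⁻¹ = v by
    rw [mem_centralizer_iff]
    intro v hv
    conv_lhs => rw [← hfix v hv]
    simp [mul_assoc]
  have hsqA : ∀ x ∈ Q, x * x ≠ 1 → x ∈ zpowers D.a := by
    intro x hx hx2
    obtain ⟨i, hi | hi⟩ := D.cases x (hQ hx)
    · exact ⟨i, hi.symm⟩
    · exact absurd (hi ▸ D.refl_sq i) hx2
  by_cases hc : ∃ c ∈ Q, c * c ≠ 1
  · obtain ⟨c₀, hc₀Q, hc₀2⟩ := hc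
    -- elements of square different from one are fixed
    have hrot : ∀ c ∈ Q, c * c ≠ 1 → n * c * n⁻¹ = c := by
      intro c hcQ hc2
      have hcA := hsqA c hcQ hc2
      have hmem : n * c * n⁻¹ ∈ zpowers D.a := hsqA _ (hconj c hcQ) fun e => hc2 (by
        have h1 : n * (c * c) * n⁻¹ = 1 := by rw [← e]; simp [mul_assoc]
        exact conj_eq_one_iff.mp h1)
      have hord : orderOf (⟨n * c * n⁻¹, hmem⟩ : zpowers D.a) =
          orderOf (⟨c, hcA⟩ : zpowers D.a) := by
        rw [Subgroup.orderOf_mk, Subgroup.orderOf_mk]; exact (MulAut.conj n).orderOf_eq c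
      have h1 : n * c * n⁻¹ ∈ zpowers c := by
        obtain ⟨e, he⟩ := mem_zpowers_iff.mp
          (CfsgLib.TwoFusion.DihedralFusion.mem_zpowers_of_orderOf_dvd hord.dvd :
            (⟨n * c * n⁻¹, hmem⟩ : zpowers D.a) ∈ zpowers (⟨c, hcA⟩ : zpowers D.a))
        exact ⟨e, by simpa using congrArg Subtype.val he⟩
      have hnC : n ∈ normalizer ((zpowers c : Subgroup X) : Set X) := by
        refine ConjUtil.mem_normalizer_of_conj_mem n fun d hd => ?_
        obtain ⟨e, rfl⟩ := mem_zpowers_iff.mp hd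
        rw [← conj_zpow]
        exact Subgroup.zpow_mem _ h1 e
      let φ := (zpowers c).normalizerMonoidHom
      have h2 : orderOf (φ ⟨n, hnC⟩) ∣ orderOf n :=
        (orderOf_map_dvd φ _).trans (by rw [Subgroup.orderOf_mk])
      obtain ⟨r, hr⟩ := h2pow c hcQ
      have h3 : orderOf (φ ⟨n, hnC⟩) ∣ 2 ^ r := by
        have h4 := orderOf_dvd_natCard (φ ⟨n, hnC⟩)
        rw [IsCyclic.card_mulAut, Nat.card_zpowers, hr] at h4
        rcases Nat.eq_zero_or_pos r with rfl | hr0
        · simpa using h4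
        · rw [Nat.totient_prime_pow Nat.prime_two hr0] at h4
          exact h4.trans (by simpa using pow_dvd_pow 2 (Nat.sub_le r 1))
      have h5 : φ ⟨n, hnC⟩ = 1 := orderOf_eq_one_iff.mp (Nat.eq_one_of_dvd_coprimes
        ((Nat.coprime_two_right.mpr hodd).pow_right _) h2 h3)
      have h6 : ((φ ⟨n, hnC⟩ ⟨c, mem_zpowers c⟩ : zpowers c) : X) = c := by rw [h5]; rfl
      exact h6
    have hzfix : n * D.z * n⁻¹ = D.z := by
      obtain ⟨r, hr⟩ := h2pow c₀ hc₀Q
      have hr2 : 2 ≤ r := by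
        by_contra hr2
        apply hc₀2
        rw [← pow_two]
        exact orderOf_dvd_iff_pow_eq_one.mp (hr ▸ (pow_dvd_pow 2 (show r ≤ 1 by omega)).trans (by norm_num))
      have hw2 : c₀ ^ 2 ^ (r - 1) * c₀ ^ 2 ^ (r - 1) = 1 := by
        rw [← pow_add, ← two_mul, ← pow_succ', show r - 1 + 1 = r by omega, ← hr, pow_orderOf_eq_one]
      have hw : c₀ ^ 2 ^ (r - 1) = D.z := by
        refine (D.rot_sq_eq_one (pow_mem (hsqA c₀ hc₀Q hc₀2) _) hw2).resolve_left fun e => ?_
        have h7 := orderOf_dvd_of_pow_eq_one e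
        rw [hr] at h7
        have := (Nat.pow_dvd_pow_iff_le_right (show 1 < 2 by norm_num)).mp h7
        omega
      rw [← hw, ← conj_pow, hrot c₀ hc₀Q hc₀2]
    have hA : ∀ x ∈ Q, x ∈ zpowers D.a → n * x * n⁻¹ = x := by
      intro x hx hxA
      by_cases hx2 : x * x = 1
      · rcases D.rot_sq_eq_one hxA hx2 with rfl | rfl
        · simp
        · exact hzfix
      · exact hrot x hx hx2
    intro v hv
    by_cases hvA : v ∈ zpowers D.a
    · exact hA v hv hvA
    obtain ⟨i, hi | hi⟩ := D.cases v (hQ hv)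
    · exact absurd ⟨i, hi.symm⟩ hvA
    have hv2 : v * v = 1 := hi ▸ D.refl_sq i
    obtain ⟨j, hj | hj⟩ := D.cases _ (hQ (hconj v hv))
    · exfalso
      have hw2 : (n * v * n⁻¹) * (n * v * n⁻¹) = 1 := by
        calc (n * v * n⁻¹) * (n * v * n⁻¹) = n * (v * v) * n⁻¹ := by simp [mul_assoc]
          _ = 1 := by rw [hv2]; simp
      rcases D.rot_sq_eq_one ⟨j, hj.symm⟩ hw2 with e | e
      · exact hvA (by rw [conj_eq_one_iff.mp e]; exact one_mem _)
      · have : v = D.z := mul_left_cancel (mul_right_cancel (e.trans hzfix.symm))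
        exact hvA (this ▸ D.z_mem)
    have hdA : n * v * n⁻¹ * v ∈ zpowers D.a := by
      rw [hj, hi, D.refl_mul_refl]; exact ⟨_, rfl⟩
    set d := n * v * n⁻¹ * v with hd
    clear_value d
    have hdQ : d ∈ Q := hd ▸ Q.mul_mem (hconj v hv) hv
    have hdfix : n * d * n⁻¹ = d := hA d hdQ hdA
    have hnvd : n * v * n⁻¹ = d * v := by rw [hd, mul_assoc _ v v, hv2, mul_one]
    have hpow : ∀ l : ℕ, n ^ l * v * (n ^ l)⁻¹ = d ^ l * v := by
      intro l
      induction l with
      | zero => simp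
      | succ l ih =>
        calc n ^ (l + 1) * v * (n ^ (l + 1))⁻¹ = n * (n ^ l * v * (n ^ l)⁻¹) * n⁻¹ := by
              simp [pow_succ', mul_assoc]
          _ = n * (d ^ l * v) * n⁻¹ := by rw [ih]
          _ = (n * d ^ l * n⁻¹) * (n * v * n⁻¹) := by simp [mul_assoc]
          _ = d ^ (l + 1) * v := by rw [← conj_pow, hdfix, hnvd, pow_succ, mul_assoc]
    have h1 := hpow (orderOf n)
    rw [pow_orderOf_eq_one, inv_one, mul_one, one_mul] at h1
    obtain ⟨r, hr⟩ := h2pow d hdQ
    have hd1 : d = 1 := orderOf_eq_one_iff.mp (Nat.eq_one_of_dvd_coprimes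
      ((Nat.coprime_two_right.mpr hodd).pow_right r)
      (orderOf_dvd_of_pow_eq_one (right_eq_mul.mp h1)) hr.dvd)
    rw [hnvd, hd1, one_mul]
  · push Not at hc
    obtain ⟨i, hi⟩ : ∃ i, Q ≤ D.four i := by
      by_cases h : ∃ r ∈ Q, r ∉ zpowers D.a
      · obtain ⟨r, hr, hrA⟩ := h
        obtain ⟨i, hi | hi⟩ := D.cases r (hQ hr)
        · exact absurd ⟨i, hi.symm⟩ hrA
        refine ⟨i, fun x hx => ?_⟩
        have hxr := Q.mul_mem hx hr
        obtain ⟨j, hj | hj⟩ := D.cases x (hQ hx)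
        · rcases D.rot_sq_eq_one ⟨j, hj.symm⟩ (hc x hx) with rfl | rfl
          exacts [one_mem _, D.z_mem_four i]
        · have hrot : x * r = D.a ^ (j - i) := by rw [hj, hi, D.refl_mul_refl]
          rcases D.rot_sq_eq_one ⟨j - i, hrot.symm⟩ (hc _ hxr) with e | e
          · rw [eq_inv_of_mul_eq_one_left e, hi, inv_eq_of_mul_eq_one_right (D.refl_sq i)]
            exact D.refl_mem_four i
          · rw [eq_mul_inv_of_mul_eq e, hi, inv_eq_of_mul_eq_one_right (D.refl_sq i)]
            exact Or.inr (Or.inr (Or.inr rfl))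
      · push Not at h
        refine ⟨0, fun x hx => ?_⟩
        rcases D.rot_sq_eq_one (h x hx) (hc x hx) with rfl | rfl
        exacts [one_mem _, D.z_mem_four 0]
    have hdvd : Nat.card Q ∣ 4 := by
      rw [← (D.four_isKleinFour i).card_four]; exact Subgroup.card_dvd_of_le hi
    have hne4 : Nat.card Q ≠ 4 := fun e => hklein (by
      rw [Subgroup.eq_of_le_of_card_ge hi (by rw [(D.four_isKleinFour i).card_four, e])]
      exact D.four_isKleinFour i)
    have hle : Nat.card Q ≤ 2 := by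
      have h4 := Nat.le_of_dvd (by norm_num) hdvd
      obtain ⟨w, hw⟩ := hdvd
      interval_cases Nat.card Q <;> omega
    intro v hv
    by_contra hne
    have hv1 : v ≠ 1 := fun e => hne (by simp [e])
    have h3 : Nat.card (Fin 3) ≤ Nat.card Q := by
      refine Nat.card_le_card_of_injective
        ![(1 : Q), ⟨v, hv⟩, ⟨n * v * n⁻¹, hconj v hv⟩] ?_
      intro p r e
      have e' := congrArg Subtype.val e
      fin_cases p <;> fin_cases r <;> simp at e' ⊢ <;> first
        | exact hv1 e' | exact hv1 e'.symm | exact hne e' | exact hne e'.symm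
        | exact hv1 (conj_eq_one_iff.mp e') | exact hv1 (conj_eq_one_iff.mp e'.symm)
    rw [Nat.card_fin] at h3
    omega

end CfsgLib.TwoFusion.DihedralFusion
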