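import Mathlib.GroupTheory.Nilpotent
import Mathlib.GroupTheory.Index

/-!
Maximal subgroups of finite 2-groups have index 2.
-/

set_option autoImplicit false

namespace CfsgLib.TwoFusion

variable {G : Type*} [Group G] [Finite G]

theorem index_eq_two_of_isCoatom (hG : IsPGroup 2 G) {M : Subgroup G} (hM : IsCoatom M) :
    M.index = 2 := by
  classical
  haveI := hG.isNilpotent
  haveI : M.Normal := Subgroup.NormalizerCondition.normal_of_coatom M Group.normalizerCondition_of_isNilpotent hM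
  obtain ⟨g₀, hg₀⟩ : ∃ g, g ∉ M := by
    by_contra h
    push Not at h
    exact hM.1 ((Subgroup.eq_top_iff' M).mpr h)
  obtain ⟨g, hg, hgg⟩ : ∃ g, g ∉ M ∧ g * g ∈ M := by
    obtain ⟨k, hk⟩ := hG g₀
    induction k generalizing g₀ with
    | zero => simp only [pow_zero, pow_one] at hk; exact absurd (hk ▸ one_mem M) hg₀
    | succ k ih =>
      by_cases h : g₀ * g₀ ∈ M
      · exact ⟨g₀, hg₀, h⟩
      · exact ih _ h (by rw [← pow_two, ← pow_mul, ← pow_succ']; exact hk)
  have htop : Subgroup.zpowers g ⊔ M = ⊤ := hM.2 _ (lt_of_le_of_ne le_sup_right fun h =>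
    hg (h ▸ (le_sup_left : Subgroup.zpowers g ≤ Subgroup.zpowers g ⊔ M) (Subgroup.mem_zpowers g)))
  rw [Subgroup.index_eq_two_iff]
  refine ⟨g, fun b => ?_⟩
  obtain ⟨a, ha, m, hm, rfl⟩ : ∃ a ∈ Subgroup.zpowers g, ∃ m ∈ M, a * m = b := by
    have h : b ∈ Subgroup.zpowers g ⊔ M := htop ▸ Subgroup.mem_top b
    rw [Subgroup.mem_sup_of_normal_right] at h
    exact h
  obtain ⟨e, rfl⟩ := ha
  show Xor' (g ^ e * m * g ∈ M) (g ^ e * m ∈ M)
  rw [Subgroup.mul_mem_cancel_right _ hm]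
  have h1 : g ^ e * m * g ∈ M ↔ g ^ (e + 1) ∈ M := by
    rw [show g ^ e * m * g = g ^ (e + 1) * (g⁻¹ * m * g) by
      rw [zpow_add, zpow_one]; simp only [mul_assoc, mul_inv_cancel_left]]
    exact Subgroup.mul_mem_cancel_right _
      (by simpa using Subgroup.Normal.conj_mem (H := M) inferInstance m hm g⁻¹)
  have h2 : ∀ t : ℤ, g ^ (2 * t) ∈ M := fun t => by
    rw [zpow_mul, zpow_two]; exact zpow_mem hgg t
  rw [h1]
  obtain ⟨t, rfl | rfl⟩ := Int.even_or_odd' e
  · refine Or.inr ⟨h2 t, fun h => hg ?_⟩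
    rw [zpow_add, zpow_one] at h
    exact (Subgroup.mul_mem_cancel_left _ (h2 t)).mp h
  · refine Or.inl ⟨by rw [show 2 * t + 1 + 1 = 2 * (t + 1) by omega]; exact h2 _, fun h => hg ?_⟩
    rw [zpow_add, zpow_one] at h
    exact (Subgroup.mul_mem_cancel_left _ (h2 t)).mp h

theorem isCoatom_of_index_two {M : Subgroup G} (hM : M.index = 2) : IsCoatom M := by
  refine ⟨fun h => by rw [h, Subgroup.index_top] at hM; omega, fun K hK => ?_⟩
  obtain ⟨g, hgK, hgM⟩ := SetLike.exists_of_lt hK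
  rw [Subgroup.eq_top_iff']
  intro b
  by_cases hb : b ∈ M
  · exact hK.le hb
  · have h : b * g ∈ M := by
      rw [Subgroup.mul_mem_iff_of_index_two hM]; exact iff_of_false hb hgM
    exact (Subgroup.mul_mem_cancel_right K hgK).mp (hK.le h)

theorem card_mul_two_of_isCoatom (hG : IsPGroup 2 G) {M : Subgroup G} (hM : IsCoatom M) :
    Nat.card M * 2 = Nat.card G := by
  rw [← M.card_mul_index, index_eq_two_of_isCoatom hG hM]

end CfsgLib.TwoFusion
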