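import Cfsg.Agent.Lib.TwoFusion.QDLocal

/-!
Subgroups of index 2 and class numbers in groups with quasi-dihedral Sylow 2-subgroups.
-/

set_option autoImplicit false

namespace CfsgLib.TwoFusion.QDFusion

open LocalAut FusionTools Subgroup

variable {G : Type*} [Group G] [Finite G] (S : Sylow 2 G) (D : QDGens (S : Subgroup G))

theorem vG_ne_cG (i : ℤ) : vG D i ≠ cG D := fun h => D.zpow_ne_zpow_mul_y _ i (Subtype.ext h).symm

theorem classes_two_one (h : IsConj (vG D 0) (cG D)) :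
    Nat.card {C : ConjClasses G // ∃ t : G, orderOf t = 2 ∧ ConjClasses.mk t = C} = 1 :=
  card_classes_one S 1 (cG D) (orderOf_cG D) fun s hs ho => by
    rcases involution_cases D hs ho with rfl | h'
    · exact IsConj.refl _
    · exact h.symm.trans h'

theorem classes_two_two (h : ¬ IsConj (vG D 0) (cG D)) :
    Nat.card {C : ConjClasses G // ∃ t : G, orderOf t = 2 ∧ ConjClasses.mk t = C} = 2 :=
  card_classes_two S 1 (cG D) (vG D 0) (orderOf_cG D) (orderOf_vG_even D (dvd_zero 2))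
    (fun h' => h h'.symm) fun s hs ho => by
      rcases involution_cases D hs ho with rfl | h'
      · exact Or.inl (IsConj.refl _)
      · exact Or.inr h'

theorem classes_four_one (h : IsConj (vG D 1) (qG D)) :
    Nat.card {C : ConjClasses G // ∃ t : G, orderOf t = 4 ∧ ConjClasses.mk t = C} = 1 :=
  card_classes_one S 2 (qG D) (orderOf_qG D) fun s hs ho => by
    rcases order_four_cases D hs ho with h' | h'
    · exact h'
    · exact h.symm.trans h'

theorem classes_four_two (h : ¬ IsConj (vG D 1) (qG D)) :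
    Nat.card {C : ConjClasses G // ∃ t : G, orderOf t = 4 ∧ ConjClasses.mk t = C} = 2 :=
  card_classes_two S 2 (qG D) (vG D 1) (orderOf_qG D) (orderOf_vG_odd D (by omega))
    (fun h' => h h'.symm) fun s hs ho => order_four_cases D hs ho

/-- Squares lie in a subgroup of index two, so `⟨x²⟩` does. -/
theorem sq_mem_index_two {M : Subgroup G} (hM : M.index = 2) (i : ℤ) :
    ((D.x ^ (2 * i) : (S : Subgroup G)) : G) ∈ M := by
  rw [two_mul, zpow_add, Subgroup.coe_mul]
  exact sq_mem_of_index_two hM _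

theorem cG_mem_index_two {M : Subgroup G} (hM : M.index = 2) : cG D ∈ M := by
  have := sq_mem_index_two S D hM (2 * D.P)
  rwa [show 2 * (2 * D.P) = 4 * D.P by ring] at this

theorem qG_mem_index_two {M : Subgroup G} (hM : M.index = 2) : qG D ∈ M :=
  sq_mem_index_two S D hM D.P

theorem vG_zero_mem_of_conj {M : Subgroup G} (hM : M.index = 2) (h : IsConj (vG D 0) (cG D)) :
    vG D 0 ∈ M := by
  obtain ⟨g, hg⟩ := isConj_iff.mp h
  rw [← conj_mem_iff_of_index_two hM g, hg]
  exact cG_mem_index_two S D hM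

theorem vG_one_mem_of_conj {M : Subgroup G} (hM : M.index = 2) (h : IsConj (vG D 1) (qG D)) :
    vG D 1 ∈ M := by
  obtain ⟨g, hg⟩ := isConj_iff.mp h
  rw [← conj_mem_iff_of_index_two hM g, hg]
  exact qG_mem_index_two S D hM

theorem no_index_two (h1 : IsConj (vG D 0) (cG D)) (h2 : IsConj (vG D 1) (qG D)) (M : Subgroup G) :
    M.index ≠ 2 := fun hM => eq_top_of_sylow_le S (H := M) (by
  have hy : ((D.y : (S : Subgroup G)) : G) ∈ M := by
    have := vG_zero_mem_of_conj S D hM h1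
    rwa [show vG D 0 = ((D.y : (S : Subgroup G)) : G) by simp [vG]] at this
  have hx : ((D.x : (S : Subgroup G)) : G) ∈ M := by
    have := vG_one_mem_of_conj S D hM h2
    rwa [show vG D 1 = ((D.x : (S : Subgroup G)) : G) * ((D.y : (S : Subgroup G)) : G) by simp [vG],
      Subgroup.mul_mem_cancel_right _ hy] at this
  intro s hs
  obtain ⟨i, h | h⟩ := D.normalForm ⟨s, hs⟩
  · rw [show s = ((D.x ^ i : (S : Subgroup G)) : G) from congrArg Subtype.val h, SubgroupClass.coe_zpow]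
    exact zpow_mem hx i
  · rw [show s = ((D.x ^ i * D.y : (S : Subgroup G)) : G) from congrArg Subtype.val h, Subgroup.coe_mul,
      SubgroupClass.coe_zpow]
    exact mul_mem (zpow_mem hx i) hy) hM

theorem relIndex_map {H : Subgroup (S : Subgroup G)} (hH : Nat.card H = 2 ^ (D.p + 3)) :
    (H.map (S : Subgroup G).subtype).relIndex (S : Subgroup G) = 2 := by
  rw [Subgroup.relIndex, ← Subgroup.comap_subtype,
    Subgroup.comap_map_eq_self_of_injective (S : Subgroup G).subtype_injective]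
  exact D.index_of_card hH

theorem mem_map_iff {H : Subgroup (S : Subgroup G)} (s : (S : Subgroup G)) :
    (s : G) ∈ H.map (S : Subgroup G).subtype ↔ s ∈ H :=
  ⟨fun ⟨_, ht, e⟩ => Subtype.ext (e : _ = (s : G)) ▸ ht, fun h => ⟨s, h, rfl⟩⟩

/-- Thompson transfer: an index two subgroup avoiding `y`. -/
theorem exists_avoid_y (h : ¬ IsConj (vG D 0) (cG D)) :
    ∃ M : Subgroup G, M.Normal ∧ M.index = 2 ∧ vG D 0 ∉ M := by
  have hy2 : vG D 0 * vG D 0 = 1 := by
    rw [← pow_two]; exact orderOf_dvd_iff_pow_eq_one.mp (orderOf_vG_even D (dvd_zero 2)).dvd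
  refine exists_index_two_of_parity (S : Subgroup G) (D.quatMax.map (S : Subgroup G).subtype)
    (sylow_index_odd S) (relIndex_map S D D.card_quatMax) (vG D 0) fun k g hk => ?_
  obtain ⟨m, rfl | rfl⟩ := Nat.even_or_odd' k
  · refine iff_of_true ?_ (even_two_mul m)
    rw [pow_mul, pow_two, hy2, one_pow, mul_one, inv_mul_cancel]
    exact one_mem _
  · rw [pow_succ, pow_mul, pow_two, hy2, one_pow, one_mul] at hk ⊢
    refine iff_of_false ?_ (by simp [parity_simps])
    have ho : orderOf (g⁻¹ * vG D 0 * g) = 2 := by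
      have := orderOf_injective (MulAut.conj g⁻¹).toMonoidHom (MulAut.conj g⁻¹).injective (vG D 0)
      rw [orderOf_vG_even D (dvd_zero 2)] at this
      simpa using this
    have hconj : IsConj (vG D 0) (g⁻¹ * vG D 0 * g) := isConj_iff.mpr ⟨g⁻¹, by simp⟩
    rcases D.orderOf_eq_two_cases (s := (⟨_, hk⟩ : (S : Subgroup G)))
      (by rw [← Subgroup.orderOf_coe]; exact ho) with h' | ⟨i, hi, h'⟩
    · exact absurd (hconj.trans (by
        rw [show g⁻¹ * vG D 0 * g = cG D from congrArg Subtype.val h'])) h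
    · intro hmem
      rw [show g⁻¹ * vG D 0 * g = ((D.x ^ i * D.y : (S : Subgroup G)) : G) from congrArg Subtype.val h',
        mem_map_iff] at hmem
      have h2 : D.x ^ i ∈ D.quatMax := by
        obtain ⟨j, rfl⟩ := hi
        rw [zpow_mul]
        exact zpow_mem D.sq_mem_quatMax j
      exact D.y_not_mem_quatMax ((Subgroup.mul_mem_cancel_left _ h2).mp hmem)

theorem x_not_mem_dihMax : D.x ∉ D.dihMax := by
  intro h
  have hle : Subgroup.zpowers D.x ≤ D.dihMax := Subgroup.zpowers_le.mpr h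
  exact D.x_ne_dih (Subgroup.eq_of_le_of_card_ge hle (by rw [D.card_zpowers_x, D.card_dihMax]))

/-- Transfer: an index two subgroup avoiding `x y`. -/
theorem exists_avoid_xy (h : ¬ IsConj (vG D 1) (qG D)) :
    ∃ M : Subgroup G, M.Normal ∧ M.index = 2 ∧ vG D 1 ∉ M := by
  have hv4 : vG D 1 ^ 4 = 1 := by
    exact orderOf_dvd_iff_pow_eq_one.mp (orderOf_vG_odd D (i := 1) (by omega)).dvd
  refine exists_index_two_of_parity (S : Subgroup G) (D.dihMax.map (S : Subgroup G).subtype)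
    (sylow_index_odd S) (relIndex_map S D D.card_dihMax) (vG D 1) fun k g hk => ?_
  have hcases : ∀ s : (S : Subgroup G), s ^ 2 = 1 → s ∈ D.dihMax := by
    intro s hs
    obtain ⟨i, rfl | rfl⟩ := D.normalForm s
    · rcases D.zpow_sq_eq_one_iff.mp hs with h' | h' <;> rw [h']
      · exact one_mem _
      · show D.x ^ (4 * D.P) ∈ D.dihMax
        rw [show 4 * D.P = 2 * (2 * D.P) by ring, zpow_mul]; exact zpow_mem D.sq_mem_dihMax _
    · obtain ⟨j, rfl⟩ := D.sq_zy_eq_one_iff.mp hs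
      exact mul_mem (by rw [zpow_mul]; exact zpow_mem D.sq_mem_dihMax _) D.y_mem_dihMax
  have hpow : ∀ e : ℕ, vG D 1 ^ (4 * e) = 1 := fun e => by rw [pow_mul, hv4, one_pow]
  obtain ⟨m, rfl | rfl⟩ := Nat.even_or_odd' k
  · refine iff_of_true ?_ (even_two_mul m)
    rw [show g⁻¹ * vG D 1 ^ (2 * m) * g = ((⟨_, hk⟩ : (S : Subgroup G)) : G) from rfl, mem_map_iff]
    refine hcases _ (Subtype.ext ?_)
    rw [SubgroupClass.coe_pow, OneMemClass.coe_one, pow_two]
    calc g⁻¹ * vG D 1 ^ (2 * m) * g * (g⁻¹ * vG D 1 ^ (2 * m) * g)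
        = g⁻¹ * (vG D 1 ^ (2 * m) * vG D 1 ^ (2 * m)) * g := by group
      _ = 1 := by rw [← pow_add, show 2 * m + 2 * m = 4 * m by ring, hpow]; group
  · refine iff_of_false ?_ (by simp [parity_simps])
    have hconj : IsConj (vG D 1) (g⁻¹ * vG D 1 ^ (2 * m + 1) * g) := by
      refine IsConj.trans ?_ (isConj_iff.mpr ⟨g⁻¹, by rw [inv_inv]⟩ :
        IsConj (vG D 1 ^ (2 * m + 1)) _)
      obtain ⟨t, rfl | rfl⟩ := Nat.even_or_odd' m
      · rw [pow_succ, ← mul_assoc, show 2 * 2 * t = 4 * t by ring, hpow, one_mul]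
      · rw [show 2 * (2 * t + 1) + 1 = 4 * t + 3 by ring, pow_add, hpow, one_mul]
        refine isConj_iff.mpr ⟨qG D, ?_⟩
        have e : D.q * (D.x ^ (1 : ℤ) * D.y) * D.q⁻¹ = (D.x ^ (1 : ℤ) * D.y) ^ 3 := by
          rw [pow_succ, D.sq_zy_odd (by omega)]
          calc D.q * (D.x ^ (1 : ℤ) * D.y) * D.q⁻¹
              = D.q * ((D.x ^ (1 : ℤ) * D.y) * D.q⁻¹ * (D.x ^ (1 : ℤ) * D.y)⁻¹) * (D.x ^ (1 : ℤ) * D.y) := by
                group
            _ = _ := by rw [← conj_inv, D.zy_conj_q, inv_inv, D.q_sq]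
        exact congrArg Subtype.val e
    have ho : orderOf (⟨_, hk⟩ : (S : Subgroup G)) = 4 := by
      rw [← Subgroup.orderOf_coe]
      obtain ⟨c, hc⟩ := isConj_iff.mp hconj
      show orderOf (g⁻¹ * vG D 1 ^ (2 * m + 1) * g) = 4
      rw [← hc, ← orderOf_vG_odd D (i := 1) (by omega)]
      exact orderOf_injective (MulAut.conj c).toMonoidHom (MulAut.conj c).injective _
    intro hmem
    rw [show g⁻¹ * vG D 1 ^ (2 * m + 1) * g = ((⟨_, hk⟩ : (S : Subgroup G)) : G) from rfl,
      mem_map_iff] at hmem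
    rcases D.orderOf_eq_four_cases ho with h' | h' | ⟨i, hi, h'⟩
    · exact h (hconj.trans (by rw [show g⁻¹ * vG D 1 ^ (2 * m + 1) * g = qG D from congrArg Subtype.val h']))
    · refine h (hconj.trans ?_)
      rw [show g⁻¹ * vG D 1 ^ (2 * m + 1) * g = (qG D)⁻¹ from congrArg Subtype.val h']
      exact (isConj_iff.mpr ⟨(D.y : (S : Subgroup G)), congrArg Subtype.val D.y_conj_q⟩ :
        IsConj (qG D) (qG D)⁻¹).symm
    · rw [h'] at hmem
      obtain ⟨j, rfl⟩ : ∃ j, i = 2 * j + 1 := ⟨i / 2, by omega⟩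
      rw [Subgroup.mul_mem_cancel_right _ D.y_mem_dihMax, zpow_add, zpow_one, zpow_mul,
        Subgroup.mul_mem_cancel_left _ (zpow_mem D.sq_mem_dihMax j)] at hmem
      exact x_not_mem_dihMax S D hmem

theorem coatom_subgroupOf {M : Subgroup G} (hM : M.index = 2) :
    M.subgroupOf (S : Subgroup G) = Subgroup.zpowers D.x ∨ M.subgroupOf (S : Subgroup G) = D.quatMax ∨
      M.subgroupOf (S : Subgroup G) = D.dihMax := by
  refine D.coatom_cases (isCoatom_of_index_two ?_)
  obtain ⟨s, hs, hsM⟩ := SetLike.not_le_iff_exists.mp (fun h => eq_top_of_sylow_le S h hM)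
  rw [Subgroup.index_eq_two_iff]
  refine ⟨⟨s, hs⟩, fun b => ?_⟩
  simp only [Subgroup.mem_subgroupOf, Subgroup.coe_mul, Subgroup.mul_mem_iff_of_index_two hM]
  show _ ∧ _ ∨ _ ∧ _
  tauto

/-- The quaternion subgroup `quatSub i`, in `G`. -/
noncomputable def quatEquiv (i : ℤ) (hi : ¬ 2 ∣ i) :
    ((D.quatSub i hi).map (S : Subgroup G).subtype : Subgroup G) ≃* QuaternionGroup 2 :=
  (Subgroup.equivMapOfInjective _ _ (S : Subgroup G).subtype_injective).symm.trans
    (D.quatSub_nonempty_mulEquiv hi).some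

/-- In a normal subgroup of 2-power index, a subgroup of index two absorbs `x ^ i * y`, `i` odd. -/
theorem quat_absorb (h : IsConj (vG D 1) (qG D)) (K : Subgroup G) [K.Normal] (hK : K.index = 2)
    (H : Subgroup K) (hH : H.index = 2) {i : ℤ} (hi : ¬ 2 ∣ i) :
    ∃ hm : vG D i ∈ K, (⟨vG D i, hm⟩ : K) ∈ H := by
  have hvK : vG D i ∈ K := by
    obtain ⟨g, hg⟩ := isConj_iff.mp ((isConj_vG D (i := i) (k := 1) (by omega)))
    rw [← hg, conj_mem_iff_of_index_two hK]
    exact vG_one_mem_of_conj S D hK h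
  refine ⟨hvK, ?_⟩
  set Q := (D.quatSub i hi).map (S : Subgroup G).subtype with hQ
  have hQS : Q ≤ (S : Subgroup G) := Subgroup.map_subtype_le _
  have h6 := (quat_six_iff S D hQS (quatEquiv S D i hi)).mpr h
  have hQK : Q ≤ K := by
    rintro _ ⟨s, hs, rfl⟩
    obtain ⟨j, rfl | rfl⟩ := (D.mem_quatSub hi s).mp hs
    · show ((D.q ^ j : (S : Subgroup G)) : G) ∈ K
      rw [SubgroupClass.coe_zpow]; exact zpow_mem (qG_mem_index_two S D hK) j
    · show ((D.x ^ i * D.y * D.q ^ j : (S : Subgroup G)) : G) ∈ K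
      rw [Subgroup.coe_mul, SubgroupClass.coe_zpow]
      exact mul_mem hvK (zpow_mem (qG_mem_index_two S D hK) j)
  obtain ⟨i', iQ, vQ, cQ, hi', hiv, hvv, hcv, hd, hin, hvn, hivn, hcen, -⟩ :=
    quat_data D hQS (quatEquiv S D i hi)
  obtain ⟨-, -, -, -, -, -, -, -, -, hcard, hrel, -⟩ := quat_transposition S D hQS (quatEquiv S D i hi)
  obtain ⟨w, hwodd, hwfix, hall⟩ := exists_odd_fpf _ hcard (hrel ▸ h6)
  have hwK : (w : G) ∈ K := mem_normal_of_odd (k := 1) (by rw [hK]; rfl)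
    (by rw [Subgroup.orderOf_coe]; exact hwodd)
  have hwH : (⟨w, hwK⟩ : K) ∈ H := mem_of_index_two_of_odd hH (by
    rw [← Subgroup.orderOf_coe]
    show Odd (orderOf (w : G))
    rw [Subgroup.orderOf_coe]; exact hwodd)
  let inH : Q → Prop := fun m => (⟨(m : G), hQK m.2⟩ : K) ∈ H
  have hmulH : ∀ a b : Q, inH a → inH b → inH (a * b) := fun a b ha hb => mul_mem ha hb
  have hσ : ∀ m : Q, inH m → inH (Q.normalizerMonoidHom w m) := fun m hm =>
    mul_mem (mul_mem hwH hm) (inv_mem hwH)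
  have hiH : inH iQ := by
    have e : (⟨(iQ : G), hQK iQ.2⟩ : K) = ⟨qG D, qG_mem_index_two S D hK⟩ := Subtype.ext hiv
    show _ ∈ H
    rw [e]
    by_contra hq
    -- one of the three classes meets `H`
    have hnone : ∀ m : Q, m ∉ center Q → ¬ inH m := by
      intro m hm hmH
      have hc : ∀ ζ ∈ center Q, inH ζ := by
        intro ζ hζ
        rcases hcen ζ hζ with h | h <;> rw [h]
        · exact one_mem H
        · show _ ∈ H
          have e2 : (⟨(cQ : G), hQK cQ.2⟩ : K) =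
              (⟨qG D, qG_mem_index_two S D hK⟩ : K) * ⟨qG D, qG_mem_index_two S D hK⟩ :=
            Subtype.ext (by rw [Subgroup.coe_mul]; show (cQ : G) = _; rw [hcv]; exact (congrArg Subtype.val D.q_sq).symm)
          rw [e2]
          exact sq_mem_of_index_two hH _
      have hm1 : (m : Q ⧸ center Q) ≠ 1 := fun h => hm ((QuotientGroup.eq_one_iff _).mp h)
      have hi1 : (iQ : Q ⧸ center Q) ≠ 1 := fun h => hin ((QuotientGroup.eq_one_iff _).mp h)
      apply hq
      rw [← e]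
      rcases hall ⟨m, hm1⟩ ⟨iQ, hi1⟩ with h' | h' | h'
      · have h2 := QuotientGroup.eq.mp (congrArg Subtype.val h').symm
        have := hmulH _ _ hmH (hc _ h2)
        rwa [mul_inv_cancel_left] at this
      · rw [quotPerm_map_iff] at h'
        have := hmulH _ _ (hσ _ hmH) (hc _ h')
        rwa [mul_inv_cancel_left] at this
      · have h3 : quotPerm Q (w * w) ⟨m, hm1⟩ = ⟨iQ, hi1⟩ := by rw [map_mul]; exact h'
        rw [quotPerm_map_iff] at h3
        have h4 : inH (Q.normalizerMonoidHom (w * w) m) := by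
          rw [map_mul]; exact hσ _ (hσ _ hmH)
        have := hmulH _ _ h4 (hc _ h3)
        rwa [mul_inv_cancel_left] at this
    have h1 : ¬ inH iQ := hnone _ hin
    have h2 : ¬ inH vQ := hnone _ hvn
    apply hnone _ hivn
    show (⟨(iQ : G), hQK iQ.2⟩ : K) * ⟨(vQ : G), hQK vQ.2⟩ ∈ H
    rw [Subgroup.mul_mem_iff_of_index_two hH]
    exact iff_of_false h1 h2
  have hi1 : (iQ : Q ⧸ center Q) ≠ 1 := fun h => hin ((QuotientGroup.eq_one_iff _).mp h)
  have hvmem : vG D i ∈ Q := (mem_map_iff S _).mpr (D.zy_mem_quatSub hi)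
  let m : Q := ⟨vG D i, hvmem⟩
  have hm : m ∉ center Q := fun h => by
    rcases hcen _ h with h' | h' <;> have h2 := orderOf_vG_odd D hi
    · rw [show vG D i = 1 from congrArg Subtype.val h', orderOf_one] at h2; omega
    · rw [show vG D i = cG D from (congrArg Subtype.val h').trans hcv, orderOf_cG] at h2; omega
  have hm1 : (m : Q ⧸ center Q) ≠ 1 := fun h => hm ((QuotientGroup.eq_one_iff _).mp h)
  have hc : ∀ ζ ∈ center Q, inH ζ := by
    intro ζ hζ
    rcases hcen ζ hζ with h | h <;> rw [h]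
    · exact one_mem H
    · show _ ∈ H
      have e2 : (⟨(cQ : G), hQK cQ.2⟩ : K) =
          (⟨(iQ : G), hQK iQ.2⟩ : K) * ⟨(iQ : G), hQK iQ.2⟩ :=
        Subtype.ext (by rw [Subgroup.coe_mul, hcv, hiv]; exact (congrArg Subtype.val D.q_sq).symm)
      rw [e2]
      exact sq_mem_of_index_two hH _
  show inH m
  rcases hall ⟨iQ, hi1⟩ ⟨m, hm1⟩ with h' | h' | h'
  · have := hmulH _ _ hiH (hc _ (QuotientGroup.eq.mp (congrArg Subtype.val h').symm))
    rwa [mul_inv_cancel_left] at this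
  · rw [quotPerm_map_iff] at h'
    have := hmulH _ _ (hσ _ hiH) (hc _ h')
    rwa [mul_inv_cancel_left] at this
  · have h3 : quotPerm Q (w * w) ⟨iQ, hi1⟩ = ⟨m, hm1⟩ := by rw [map_mul]; exact h'
    rw [quotPerm_map_iff] at h3
    have h4 : inH (Q.normalizerMonoidHom (w * w) iQ) := by rw [map_mul]; exact hσ _ (hσ _ hiH)
    have := hmulH _ _ h4 (hc _ h3)
    rwa [mul_inv_cancel_left] at this

/-- The four-subgroup `{1, c, x ^ i * y, c x ^ i * y}`, `i` even, in `G`. -/
def fourAt (i : ℤ) (hi : 2 ∣ i) : Subgroup G :=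
  (cyclicByInverter D.c (D.x ^ i * D.y)
    (by rw [← D.c_comm, mul_inv_cancel_right, inv_eq_of_mul_eq_one_right D.c_mul_c])
    (by rw [← pow_two, D.sq_zy_eq_one_iff.mpr hi]; exact one_mem _)).map (S : Subgroup G).subtype

theorem fourAt_klein (i : ℤ) (hi : 2 ∣ i) : IsKleinFour (fourAt S D i hi) := by
  obtain ⟨e⟩ := exists_dihedral_mulEquiv (m := 2) (by norm_num) (a := D.c) (b := D.x ^ i * D.y)
    D.orderOf_c (by rw [← pow_two, D.sq_zy_eq_one_iff.mpr hi])
    (by rw [← D.c_comm, mul_inv_cancel_right, inv_eq_of_mul_eq_one_right D.c_mul_c])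
    (by
      rintro ⟨j, hj⟩
      have hj : D.c ^ j = D.x ^ i * D.y := hj
      rw [← zpow_mul] at hj
      exact D.zpow_ne_zpow_mul_y _ _ hj)
    _ (mem_cyclicByInverter _ _)
  have e' : fourAt S D i hi ≃* DihedralGroup 2 :=
    (Subgroup.equivMapOfInjective _ _ (S : Subgroup G).subtype_injective).symm.trans e
  refine ⟨?_, ?_⟩
  · rw [Nat.card_congr e'.toEquiv]; exact IsKleinFour.card_four
  · rw [Monoid.exponent_eq_of_mulEquiv e']; exact IsKleinFour.exponent_two

theorem four_absorb (h : IsConj (vG D 0) (cG D)) (K : Subgroup G) [K.Normal] (hK : K.index = 2)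
    (H : Subgroup K) (hH : H.index = 2) {i : ℤ} (hi : 2 ∣ i) :
    ∃ hm : vG D i ∈ K, (⟨vG D i, hm⟩ : K) ∈ H := by
  have hvK : vG D i ∈ K := by
    obtain ⟨g, hg⟩ := isConj_iff.mp ((isConj_vG D (i := i) (k := 0) (by simpa using hi)))
    rw [← hg, conj_mem_iff_of_index_two hK]
    exact vG_zero_mem_of_conj S D hK h
  refine ⟨hvK, ?_⟩
  have hT := fourAt_klein S D i hi
  set T := fourAt S D i hi with hTdef
  have hTS : T ≤ (S : Subgroup G) := Subgroup.map_subtype_le _
  have h6 := (klein_six_iff S D hT hTS).mpr h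
  rw [relIndex_centralizer_eq] at h6
  obtain ⟨w, hwodd, -, hall⟩ := exists_odd_fpf _ (card_ne_one hT) h6
  have hwK : (w : G) ∈ K := mem_normal_of_odd (k := 1) (by rw [hK]; rfl)
    (by rw [Subgroup.orderOf_coe]; exact hwodd)
  have hwH : (⟨w, hwK⟩ : K) ∈ H := mem_of_index_two_of_odd hH (by
    rw [← Subgroup.orderOf_coe]
    show Odd (orderOf (w : G))
    rw [Subgroup.orderOf_coe]; exact hwodd)
  have hcK : cG D ∈ K := cG_mem_index_two S D hK
  have hcT : cG D ∈ T := ⟨D.c, ⟨1, Or.inl (zpow_one _).symm⟩, rfl⟩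
  have hvT : vG D i ∈ T := ⟨D.x ^ i * D.y, ⟨0, Or.inr (by simp)⟩, rfl⟩
  have hv1 : vG D i ≠ 1 := fun h' => by
    have := orderOf_vG_even D hi
    rw [h', orderOf_one] at this
    omega
  have hcv : cG D * vG D i ∈ T := mul_mem hcT hvT
  have hcv1 : cG D * vG D i ≠ 1 := fun h' =>
    vG_ne_cG S D i (((mul_eq_one_iff_inv_eq.mp h').symm).trans
      (inv_eq_of_mul_eq_one_right (congrArg Subtype.val D.c_mul_c)))
  -- transporting membership of `H` along the action
  have htrans : ∀ (a b : {m : T // m ≠ 1}) (ha : ((a : T) : G) ∈ K) (hb : ((b : T) : G) ∈ K),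
      (⟨_, ha⟩ : K) ∈ H → (⟨_, hb⟩ : K) ∈ H := by
    intro a b ha hb haH
    rcases hall a b with h' | h' | h'
    · subst h'; exact haH
    · have e : ((b : T) : G) = w * (a : T) * (w : G)⁻¹ := by rw [← h', normPerm_apply]
      have h2 := mul_mem (mul_mem hwH haH) (inv_mem hwH)
      convert h2 using 1
      exact Subtype.ext e
    · have e : ((b : T) : G) = w * (w * (a : T) * (w : G)⁻¹) * (w : G)⁻¹ := by
        rw [← h', normPerm_apply, normPerm_apply]
      have h2 := mul_mem (mul_mem hwH (mul_mem (mul_mem hwH haH) (inv_mem hwH))) (inv_mem hwH)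
      convert h2 using 1
      exact Subtype.ext e
  let pc : {m : T // m ≠ 1} := ⟨⟨_, hcT⟩, fun h' => cG_ne_one D (congrArg Subtype.val h')⟩
  let pv : {m : T // m ≠ 1} := ⟨⟨_, hvT⟩, fun h' => hv1 (congrArg Subtype.val h')⟩
  let pcv : {m : T // m ≠ 1} := ⟨⟨_, hcv⟩, fun h' => hcv1 (congrArg Subtype.val h')⟩
  by_cases hc : (⟨cG D, hcK⟩ : K) ∈ H
  · exact htrans pc pv hcK hvK hc
  · by_contra hv
    apply hv
    refine htrans pcv pv (mul_mem hcK hvK) hvK ?_
    show (⟨cG D, hcK⟩ : K) * ⟨vG D i, hvK⟩ ∈ H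
    rw [Subgroup.mul_mem_iff_of_index_two hH]
    exact iff_of_false hc hv

end CfsgLib.TwoFusion.QDFusion
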