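import Mathlib.GroupTheory.Transfer
import Mathlib.GroupTheory.Sylow
import Mathlib.GroupTheory.Index
import Mathlib.Algebra.Group.Subgroup.Pointwise
import Mathlib.Tactic.Ring
import Mathlib.GroupTheory.SpecificGroups.Cyclic.Basic
import Cfsg.Prelude.Def_Transfer
import Cfsg.Agent.Lib.Case.TwoNilpotent

/-!
Tools for 2-fusion: conjugation into Sylow subgroups of subgroups, transfer parity arguments,
subgroups of index 2, normal 2-complements, counting classes.
-/

set_option autoImplicit false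

namespace CfsgLib.TwoFusion.FusionTools

open MulAction Subgroup
open scoped Pointwise

variable {G : Type*} [Group G] [Finite G]

instance factPrimeTwo_fusionTools : Fact (Nat.Prime 2) := ⟨Nat.prime_two⟩

/-- A maximal 2-subgroup of `M` absorbs conjugates of all 2-subgroups of `M`. -/
theorem exists_sylow_in (M P : Subgroup G) (hP : IsPGroup 2 P) (hPM : P ≤ M) :
    ∃ R : Subgroup G, IsPGroup 2 R ∧ R ≤ M ∧ P ≤ R ∧ Odd (R.relIndex M) ∧
      ∀ Q : Subgroup G, IsPGroup 2 Q → Q ≤ M → ∃ h ∈ M, ∀ q ∈ Q, h * q * h⁻¹ ∈ R := by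
  have hP' : IsPGroup 2 (P.subgroupOf M) := hP.of_equiv (Subgroup.subgroupOfEquivOfLe hPM).symm
  obtain ⟨T, hT⟩ := hP'.exists_le_sylow
  refine ⟨(T : Subgroup M).map M.subtype, T.isPGroup'.map _, map_subtype_le _, ?_, ?_, ?_⟩
  · intro g hg
    exact ⟨⟨g, hPM hg⟩, hT hg, rfl⟩
  · rw [Subgroup.relIndex, ← Subgroup.comap_subtype, Subgroup.comap_map_eq_self_of_injective
      M.subtype_injective]
    exact Nat.not_even_iff_odd.mp fun h => T.not_dvd_index h.two_dvd
  · intro Q hQ hQM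
    obtain ⟨U, hU⟩ := (hQ.of_equiv (Subgroup.subgroupOfEquivOfLe hQM).symm).exists_le_sylow
    obtain ⟨h, hh⟩ := MulAction.exists_smul_eq M U T
    refine ⟨h, h.2, fun q hq => ⟨h * ⟨q, hQM hq⟩ * h⁻¹, ?_, rfl⟩⟩
    rw [← hh]
    show h * ⟨q, hQM hq⟩ * h⁻¹ ∈ MulAut.conj h • (U : Subgroup M)
    exact Subgroup.smul_mem_pointwise_smul _ (MulAut.conj h) _ (hU hq)

/-- Conjugation into a given maximal 2-subgroup `R` of `M` of odd index. -/
theorem exists_conj_le (M R Q : Subgroup G) (hR : IsPGroup 2 R) (hRM : R ≤ M)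
    (hodd : Odd (R.relIndex M)) (hQ : IsPGroup 2 Q) (hQM : Q ≤ M) :
    ∃ h ∈ M, ∀ q ∈ Q, h * q * h⁻¹ ∈ R := by
  obtain ⟨R', hR', hR'M, hRR', -, hall⟩ := exists_sylow_in M R hR hRM
  have he : R' ≤ R := by
    have h1 := Subgroup.relIndex_mul_relIndex R R' M hRR' hR'M
    obtain ⟨k, hk⟩ := IsPGroup.iff_card.mp hR'
    have h2 : R.relIndex R' ∣ 2 ^ k := hk ▸ Subgroup.relIndex_dvd_card ..
    have h3 : Odd (R.relIndex R') := (Nat.odd_mul.mp (by rw [h1]; exact hodd)).1
    exact Subgroup.relIndex_eq_one.mp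
      (Nat.eq_one_of_dvd_coprimes ((Nat.coprime_two_right.mpr h3).pow_right k) dvd_rfl h2)
  obtain ⟨h, hM, hh⟩ := hall Q hQ hQM
  exact ⟨h, hM, fun q hq => he (hh q hq)⟩

theorem exists_sylow_ge (P : Subgroup G) (hP : IsPGroup 2 P) : ∃ S : Sylow 2 G, P ≤ S :=
  hP.exists_le_sylow

theorem exists_conj_mem_sylow (S : Sylow 2 G) (t : G) {d : ℕ} (ht : orderOf t = 2 ^ d) :
    ∃ g : G, g * t * g⁻¹ ∈ (S : Subgroup G) := by
  have h2 : IsPGroup 2 (Subgroup.zpowers t) := IsPGroup.of_card (by rw [Nat.card_zpowers, ht])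
  obtain ⟨g, -, hg⟩ := exists_conj_le ⊤ (S : Subgroup G) (Subgroup.zpowers t) S.isPGroup' le_top
    (by rw [Subgroup.relIndex_top_right]
        exact Nat.not_even_iff_odd.mp fun h => S.not_dvd_index h.two_dvd) h2 le_top
  exact ⟨g, hg t (Subgroup.mem_zpowers t)⟩

theorem sylow_index_odd (S : Sylow 2 G) : Odd (S : Subgroup G).index :=
  Nat.not_even_iff_odd.mp fun h => S.not_dvd_index h.two_dvd

/-- A 2-subgroup of full order is a Sylow subgroup. -/
theorem exists_sylow_eq (S : Sylow 2 G) (R : Subgroup G) (hR : IsPGroup 2 R)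
    (hc : Nat.card (S : Subgroup G) ≤ Nat.card R) : ∃ S' : Sylow 2 G, (S' : Subgroup G) = R := by
  obtain ⟨S', hS'⟩ := hR.exists_le_sylow
  refine ⟨S', (Subgroup.eq_of_le_of_card_ge hS' ?_).symm⟩
  rwa [Nat.card_congr (S'.equiv S).toEquiv]

/-- Odd-index parity transfer: if every power of `u` conjugate into `P` has sign `(-1) ^ k`, then
`u` survives in a homomorphism to `A`. -/
theorem transfer_sign {A : Type*} [CommGroup A] {P : Subgroup G} (hPi : Odd P.index)
    (φ : P →* A) (r : A →* ℤˣ) (u : G)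
    (hu : ∀ (k : ℕ) (g : G) (h : g⁻¹ * u ^ k * g ∈ P), r (φ ⟨g⁻¹ * u ^ k * g, h⟩) = (-1) ^ k) :
    r (φ.transfer u) = -1 := by
  classical
  let := P.fintypeQuotientOfFiniteIndex
  haveI : Fintype (Quotient (orbitRel (zpowers u) (G ⧸ P))) := Fintype.ofFinite _
  rw [MonoidHom.transfer_eq_prod_quotient_orbitRel_zpowers_quot, map_prod,
    Finset.prod_congr rfl (fun q _ => hu _ _ _), Finset.prod_pow_eq_pow_sum,
    ← Subgroup.index_eq_sum_minimalPeriod P u]
  exact hPi.neg_one_pow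

/-- The index-two sign of `Q` inside `P`. -/
theorem exists_index_two_of_parity (P Q : Subgroup G) (hPi : Odd P.index) (hQi : Q.relIndex P = 2)
    (u : G) (hu : ∀ (k : ℕ) (g : G), g⁻¹ * u ^ k * g ∈ P →
      (g⁻¹ * u ^ k * g ∈ Q ↔ Even k)) :
    ∃ M : Subgroup G, M.Normal ∧ M.index = 2 ∧ u ∉ M := by
  classical
  let φ : P →* ℤˣ := CfsgLib.ThompsonTransfer.indexTwoSign (Q.subgroupOf P) hQi
  have hfu : φ.transfer u = -1 := by
    refine transfer_sign hPi φ (MonoidHom.id _) u fun k g h => ?_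
    show φ _ = _
    by_cases hk : Even k
    · rw [hk.neg_one_pow]
      show (if _ then (1 : ℤˣ) else -1) = 1
      exact if_pos ((hu k g h).mpr hk)
    · rw [(Nat.not_even_iff_odd.mp hk).neg_one_pow]
      exact CfsgLib.ThompsonTransfer.indexTwoSign_eq_neg_one hQi fun h' => hk ((hu k g h).mp h')
  refine ⟨φ.transfer.ker, inferInstance, ?_, ?_⟩
  · have hsurj : Function.Surjective φ.transfer := by
      intro z
      rcases Int.units_eq_one_or z with rfl | rfl
      · exact ⟨1, map_one _⟩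
      · exact ⟨u, hfu⟩
    rw [Subgroup.index, Nat.card_congr (QuotientGroup.quotientKerEquivOfSurjective _ hsurj).toEquiv,
      Nat.card_eq_fintype_card, Fintype.card_units_int]
  · rw [MonoidHom.mem_ker, hfu]
    decide

omit [Finite G] in
theorem sq_mem_of_index_two {H : Subgroup G} (hH : H.index = 2) (g : G) : g * g ∈ H := by
  rw [Subgroup.mul_mem_iff_of_index_two hH]

omit [Finite G] in
theorem conj_mem_iff_of_index_two {H : Subgroup G} (hH : H.index = 2) (g t : G) :
    g * t * g⁻¹ ∈ H ↔ t ∈ H :=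
  ⟨fun h => by
    have := (Subgroup.normal_of_index_eq_two hH).conj_mem _ h g⁻¹
    simpa [mul_assoc] using this,
   fun h => (Subgroup.normal_of_index_eq_two hH).conj_mem _ h g⟩

omit [Finite G] in
theorem mem_of_index_two_of_odd {H : Subgroup G} (hH : H.index = 2) {g : G}
    (hg : Odd (orderOf g)) : g ∈ H := by
  obtain ⟨m, hm⟩ := hg
  have h : g = (g ^ (m + 1)) * (g ^ (m + 1)) := by
    rw [← pow_add, show m + 1 + (m + 1) = orderOf g + 1 by omega, pow_succ, pow_orderOf_eq_one, one_mul]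
  rw [h]
  exact sq_mem_of_index_two hH _

theorem eq_top_of_sylow_le (S : Sylow 2 G) {H : Subgroup G} (hle : (S : Subgroup G) ≤ H) :
    H.index ≠ 2 := fun h => by
  have := Subgroup.index_dvd_of_le hle
  rw [h] at this
  exact S.not_dvd_index this

omit [Finite G] in
/-- An element of a normal subgroup of index `2 ^ k` with odd order. -/
theorem mem_normal_of_odd {K : Subgroup G} [K.Normal] {k : ℕ} (hK : K.index = 2 ^ k) {g : G}
    (hg : Odd (orderOf g)) : g ∈ K := by
  rw [← QuotientGroup.eq_one_iff, ← orderOf_eq_one_iff]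
  refine Nat.eq_one_of_dvd_coprimes ((Nat.coprime_two_right.mpr hg).pow_right k)
    (orderOf_map_dvd (QuotientGroup.mk' K) g) ?_
  rw [← hK, Subgroup.index]
  exact orderOf_dvd_natCard _

/-- Sylow 2-subgroups of a subgroup are isomorphic to a 2-subgroup of odd relative index. -/
theorem sylow_mulEquiv_of_odd (K R : Subgroup G) (hR : IsPGroup 2 R) (hRK : R ≤ K)
    (hodd : Odd (R.relIndex K)) (P : Sylow 2 ↥K) : Nonempty ((P : Subgroup ↥K) ≃* R) := by
  have h2 : IsPGroup 2 (R.subgroupOf K) := hR.of_equiv (Subgroup.subgroupOfEquivOfLe hRK).symm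
  let T : Sylow 2 K := h2.toSylow (fun h => (Nat.not_even_iff_odd.mpr hodd) (even_iff_two_dvd.mpr h))
  exact ⟨(P.equiv T).trans (Subgroup.subgroupOfEquivOfLe hRK)⟩

/-- Relative index of `R = S ⊓ K` in `K` is odd when `K` is normal and `S` has odd index. -/
theorem odd_relIndex_inf (S K : Subgroup G) [K.Normal] (hS : Odd S.index) :
    Odd ((S ⊓ K).relIndex K) := by
  have h1 : (S ⊓ K).relIndex S * S.index = (S ⊓ K).index :=
    Subgroup.relIndex_mul_index inf_le_left
  have h2 : (S ⊓ K).relIndex K * K.index = (S ⊓ K).index :=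
    Subgroup.relIndex_mul_index inf_le_right
  rw [Subgroup.inf_relIndex_left] at h1
  have h3 : K.relIndex S ∣ K.index := Subgroup.relIndex_dvd_index_of_normal K S
  obtain ⟨a, ha⟩ := h3
  have hpos : 0 < K.relIndex S := Nat.pos_of_ne_zero fun h => by
    exact Subgroup.FiniteIndex.index_ne_zero (H := K.subgroupOf S) h
  refine Odd.of_dvd_nat hS ⟨a, Nat.eq_of_mul_eq_mul_left hpos ?_⟩
  rw [h1, ← h2, ha]
  ring

/-- A normal subgroup of 2-power index with a cyclic Sylow 2-subgroup gives a normal 2-complement. -/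
theorem hasNormalPComplement_of_cyclic (S : Sylow 2 G) (K : Subgroup G) [K.Normal] {k : ℕ}
    (hK : K.index = 2 ^ k) (hcyc : IsCyclic ((S : Subgroup G) ⊓ K : Subgroup G)) :
    Cfsg.HasNormalPComplement 2 G := by
  set R := (S : Subgroup G) ⊓ K with hR
  have hR2 : IsPGroup 2 R := S.isPGroup'.to_le inf_le_left
  have hodd : Odd (R.relIndex K) := odd_relIndex_inf _ K (sylow_index_odd S)
  obtain ⟨l, hl⟩ := CfsgLib.Case.index_oddCore_of_cyclic (R.subgroupOf K)
    (hR2.of_equiv (Subgroup.subgroupOfEquivOfLe inf_le_right).symm) hodd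
    ((Subgroup.subgroupOfEquivOfLe (inf_le_right : R ≤ K)).isCyclic.mpr hcyc)
  haveI := CfsgLib.Solvable.pPrimeCore_characteristic (p := 2) (G := K)
  set N := (Cfsg.pPrimeCore 2 K).map K.subtype with hN
  haveI : N.Normal := inferInstance
  have hcard : Nat.Coprime (Nat.card N) 2 := by
    rw [hN, Subgroup.card_map_of_injective K.subtype_injective]
    exact CfsgLib.Solvable.pPrimeCore_card_coprime 2 K
  refine ⟨S, N, inferInstance, ?_⟩
  have hcop : (Nat.card N).Coprime (Nat.card (S : Subgroup G)) := by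
    rw [S.card_eq_multiplicity]
    exact Nat.Coprime.pow_right _ hcard
  refine Subgroup.isComplement'_of_coprime ?_ hcop
  have hidx : N.index = 2 ^ (k + l) := by
    rw [hN, Subgroup.index_map_subtype, hl, hK, ← pow_add, add_comm]
  have h1 := N.card_mul_index
  have h2 := (S : Subgroup G).card_mul_index
  rw [hidx] at h1
  obtain ⟨j, hj⟩ := IsPGroup.iff_card.mp S.isPGroup'
  rw [hj] at h2 ⊢
  have e : 2 ^ (k + l) = 2 ^ j := by
    apply Nat.dvd_antisymm
    · exact (Nat.Coprime.pow_left (k + l) (Nat.coprime_two_left.mpr (sylow_index_odd S))).dvd_of_dvd_mul_right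
        (h2.symm ▸ h1 ▸ dvd_mul_left _ _)
    · exact (Nat.Coprime.pow_left j (Nat.coprime_comm.mp hcard)).dvd_of_dvd_mul_left
        (h1.symm ▸ h2 ▸ dvd_mul_right _ _)
  rw [← e, h1]

/-- Counting classes of elements of given order through representatives in a Sylow subgroup. -/
theorem card_classes_one (S : Sylow 2 G) (d : ℕ) (a : G) (ha : orderOf a = 2 ^ d)
    (h : ∀ s ∈ (S : Subgroup G), orderOf s = 2 ^ d → IsConj a s) :
    Nat.card {C : ConjClasses G // ∃ t : G, orderOf t = 2 ^ d ∧ ConjClasses.mk t = C} = 1 := by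
  rw [Nat.card_eq_one_iff_unique]
  refine ⟨⟨?_⟩, ⟨⟨ConjClasses.mk a, a, ha, rfl⟩⟩⟩
  have key : ∀ t : G, orderOf t = 2 ^ d → ConjClasses.mk t = ConjClasses.mk a := by
    intro t ht
    obtain ⟨g, hg⟩ := exists_conj_mem_sylow S t ht
    have hconj : IsConj t (g * t * g⁻¹) := isConj_iff.mpr ⟨g, rfl⟩
    refine ConjClasses.mk_eq_mk_iff_isConj.mpr (hconj.trans (h _ hg ?_).symm)
    rw [← ht]
    exact orderOf_injective (MulAut.conj g).toMonoidHom (MulAut.conj g).injective t
  rintro ⟨C, t, ht, rfl⟩ ⟨C', t', ht', rfl⟩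
  exact Subtype.ext ((key t ht).trans (key t' ht').symm)

theorem card_classes_two (S : Sylow 2 G) (d : ℕ) (a b : G) (ha : orderOf a = 2 ^ d)
    (hb : orderOf b = 2 ^ d) (hne : ¬ IsConj a b)
    (h : ∀ s ∈ (S : Subgroup G), orderOf s = 2 ^ d → IsConj a s ∨ IsConj b s) :
    Nat.card {C : ConjClasses G // ∃ t : G, orderOf t = 2 ^ d ∧ ConjClasses.mk t = C} = 2 := by
  rw [Nat.card_eq_two_iff]
  refine ⟨⟨ConjClasses.mk a, a, ha, rfl⟩, ⟨ConjClasses.mk b, b, hb, rfl⟩,
    fun e => hne (ConjClasses.mk_eq_mk_iff_isConj.mp (congrArg Subtype.val e)), ?_⟩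
  rw [Set.eq_univ_iff_forall]
  rintro ⟨C, t, ht, rfl⟩
  obtain ⟨g, hg⟩ := exists_conj_mem_sylow S t ht
  have hconj : IsConj t (g * t * g⁻¹) := isConj_iff.mpr ⟨g, rfl⟩
  have ho : orderOf (g * t * g⁻¹) = 2 ^ d := by
    rw [← ht]
    exact orderOf_injective (MulAut.conj g).toMonoidHom (MulAut.conj g).injective t
  rcases h _ hg ho with h | h
  · exact Or.inl (Subtype.ext (ConjClasses.mk_eq_mk_iff_isConj.mpr (hconj.trans h.symm)))
  · exact Or.inr (Subtype.ext (ConjClasses.mk_eq_mk_iff_isConj.mpr (hconj.trans h.symm)))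

theorem card_classes_three (S : Sylow 2 G) (d : ℕ) (a b c : G) (ha : orderOf a = 2 ^ d)
    (hb : orderOf b = 2 ^ d) (hc : orderOf c = 2 ^ d) (hab : ¬ IsConj a b) (hac : ¬ IsConj a c)
    (hbc : ¬ IsConj b c)
    (h : ∀ s ∈ (S : Subgroup G), orderOf s = 2 ^ d → IsConj a s ∨ IsConj b s ∨ IsConj c s) :
    Nat.card {C : ConjClasses G // ∃ t : G, orderOf t = 2 ^ d ∧ ConjClasses.mk t = C} = 3 := by
  have hset : {C : ConjClasses G | ∃ t : G, orderOf t = 2 ^ d ∧ ConjClasses.mk t = C} =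
      {ConjClasses.mk a, ConjClasses.mk b, ConjClasses.mk c} := by
    ext C
    constructor
    · rintro ⟨t, ht, rfl⟩
      obtain ⟨g, hg⟩ := exists_conj_mem_sylow S t ht
      have hconj : IsConj t (g * t * g⁻¹) := isConj_iff.mpr ⟨g, rfl⟩
      have ho : orderOf (g * t * g⁻¹) = 2 ^ d := by
        rw [← ht]
        exact orderOf_injective (MulAut.conj g).toMonoidHom (MulAut.conj g).injective t
      rcases h _ hg ho with h | h | h
      · exact Or.inl (ConjClasses.mk_eq_mk_iff_isConj.mpr (hconj.trans h.symm))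
      · exact Or.inr (Or.inl (ConjClasses.mk_eq_mk_iff_isConj.mpr (hconj.trans h.symm)))
      · exact Or.inr (Or.inr (ConjClasses.mk_eq_mk_iff_isConj.mpr (hconj.trans h.symm)))
    · rintro (rfl | rfl | rfl)
      exacts [⟨a, ha, rfl⟩, ⟨b, hb, rfl⟩, ⟨c, hc, rfl⟩]
  show Set.ncard {C : ConjClasses G | ∃ t : G, orderOf t = 2 ^ d ∧ ConjClasses.mk t = C} = 3
  rw [hset, Set.ncard_eq_three]
  exact ⟨_, _, _, fun e => hab (ConjClasses.mk_eq_mk_iff_isConj.mp e),
    fun e => hac (ConjClasses.mk_eq_mk_iff_isConj.mp e),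
    fun e => hbc (ConjClasses.mk_eq_mk_iff_isConj.mp e), rfl⟩

end CfsgLib.TwoFusion.FusionTools
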