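import Mathlib.GroupTheory.SpecificGroups.Dihedral
import Mathlib.GroupTheory.SpecificGroups.KleinFour
import Mathlib.Data.Nat.Totient
import Cfsg.Prelude.Def_TwoFusion
import Cfsg.Agent.Lib.TwoFusion.ConjUtil
import Cfsg.Agent.Lib.TwoFusion.FusionTools

/-!
# Fusion in groups with a dihedral Sylow `2`-subgroup
-/

set_option autoImplicit false

namespace CfsgLib.TwoFusion.DihedralFusion

variable {X : Type*} [Group X]

/-- Generators of a dihedral `2`-group `S` of order `2 ^ (k + 2)`. -/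
structure DihGens (S : Subgroup X) where
  k : ℕ
  a : X
  b : X
  ha : a ∈ S
  hb : b ∈ S
  order_a : orderOf a = 2 ^ (k + 1)
  b_sq : b * b = 1
  b_not_mem : b ∉ Subgroup.zpowers a
  inv : b * a * b⁻¹ = a⁻¹
  card : Nat.card S = 2 ^ (k + 2)
  cases : ∀ s ∈ S, ∃ i : ℤ, s = a ^ i ∨ s = a ^ i * b

theorem exists_dihGens [Finite X] {S : Subgroup X} (hS : IsPGroup 2 S) {m : ℕ} (hm : 2 ≤ m)
    (e : S ≃* DihedralGroup m) : Nonempty (DihGens S) := by
  have : NeZero m := ⟨by omega⟩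
  have : Fact (Nat.Prime 2) := ⟨Nat.prime_two⟩
  have hcard : Nat.card S = 2 * m := by rw [Nat.card_congr e.toEquiv, DihedralGroup.nat_card]
  obtain ⟨n, hn⟩ := IsPGroup.iff_card.mp hS
  obtain ⟨k, rfl⟩ : ∃ k, n = k + 2 := by
    refine ⟨n - 2, ?_⟩
    have : 2 ^ 2 ≤ 2 ^ n := by rw [← hn, hcard]; omega
    have := (Nat.pow_le_pow_iff_right (le_refl 2)).mp this
    omega
  have hm' : m = 2 ^ (k + 1) := by
    rw [hn, pow_succ] at hcard
    omega
  let a : S := e.symm (DihedralGroup.r 1)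
  let b : S := e.symm (DihedralGroup.sr 0)
  refine ⟨⟨k, a, b, a.2, b.2, ?_, ?_, ?_, ?_, hn, ?_⟩⟩
  · rw [Subgroup.orderOf_coe, MulEquiv.orderOf_eq, DihedralGroup.orderOf_r_one, hm']
  · rw [← Subgroup.coe_mul, ← map_mul]
    simp
  · intro h
    obtain ⟨i, hi⟩ := Subgroup.mem_zpowers_iff.mp h
    have hi' : a ^ i = b := Subtype.ext (by simpa using hi)
    have h2 := congrArg e hi'
    simp [a, b] at h2
  · have h2 : b * a * b⁻¹ = a⁻¹ := by
      apply e.injective
      simp [a, b]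
    simpa using congrArg Subtype.val h2
  · intro s hs
    cases h : e ⟨s, hs⟩ with
    | r i =>
      refine ⟨(i.val : ℤ), Or.inl ?_⟩
      have h2 : (⟨s, hs⟩ : S) = a ^ (i.val : ℤ) := by
        apply e.injective
        rw [h, map_zpow]
        simp [a]
      simpa using congrArg Subtype.val h2
    | sr i =>
      refine ⟨-(i.val : ℤ), Or.inr ?_⟩
      have h2 : (⟨s, hs⟩ : S) = a ^ (-(i.val : ℤ)) * b := by
        apply e.injective
        rw [h, map_mul, map_zpow]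
        simp [a, b]
      simpa using congrArg Subtype.val h2

variable {S : Subgroup X} (D : DihGens S)

namespace DihGens

/-- The central involution. -/
def z : X := D.a ^ ((2 ^ D.k : ℕ) : ℤ)

theorem b_inv : D.b⁻¹ = D.b := inv_eq_of_mul_eq_one_right D.b_sq

theorem b_conj_zpow (i : ℤ) : D.b * D.a ^ i * D.b⁻¹ = D.a ^ (-i) := by
  rw [← conj_zpow, D.inv, inv_zpow, zpow_neg]

theorem b_mul_zpow (i : ℤ) : D.b * D.a ^ i = D.a ^ (-i) * D.b := by
  rw [← D.b_conj_zpow i, inv_mul_cancel_right]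

theorem refl_mul_refl (i j : ℤ) : (D.a ^ i * D.b) * (D.a ^ j * D.b) = D.a ^ (i - j) := by
  rw [mul_assoc, ← mul_assoc D.b, D.b_mul_zpow, mul_assoc (D.a ^ (-j)), D.b_sq, mul_one,
    ← zpow_add, sub_eq_add_neg]

theorem refl_sq (i : ℤ) : (D.a ^ i * D.b) * (D.a ^ i * D.b) = 1 := by
  rw [refl_mul_refl, sub_self, zpow_zero]

theorem refl_mem (i : ℤ) : D.a ^ i * D.b ∈ S :=
  S.mul_mem (S.zpow_mem D.ha i) D.hb

theorem refl_not_mem_rot (i : ℤ) : D.a ^ i * D.b ∉ Subgroup.zpowers D.a := fun h =>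
  D.b_not_mem (by simpa using Subgroup.mul_mem _ (Subgroup.inv_mem _
    (Subgroup.zpow_mem _ (Subgroup.mem_zpowers D.a) i)) h)

theorem refl_ne_one (i : ℤ) : D.a ^ i * D.b ≠ 1 := fun h =>
  D.refl_not_mem_rot i (h ▸ Subgroup.one_mem _)

theorem orderOf_refl (i : ℤ) : orderOf (D.a ^ i * D.b) = 2 :=
  orderOf_eq_prime (by rw [pow_two]; exact D.refl_sq i) (D.refl_ne_one i)

theorem zpow_eq_one_iff {i : ℤ} : D.a ^ i = 1 ↔ ((2 ^ (D.k + 1) : ℕ) : ℤ) ∣ i := by
  rw [← orderOf_dvd_iff_zpow_eq_one, D.order_a]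

theorem z_mem : D.z ∈ Subgroup.zpowers D.a :=
  Subgroup.zpow_mem _ (Subgroup.mem_zpowers D.a) _

theorem z_mem_S : D.z ∈ S := S.zpow_mem D.ha _

theorem z_sq : D.z * D.z = 1 := by
  rw [z, ← zpow_add, zpow_eq_one_iff]
  push_cast
  exact ⟨1, by ring⟩

theorem z_ne_one : D.z ≠ 1 := by
  rw [z, Ne, zpow_eq_one_iff, Int.natCast_dvd_natCast]
  exact Nat.not_dvd_of_pos_of_lt (pow_pos two_pos _) (Nat.pow_lt_pow_right (by norm_num) (by omega))

theorem orderOf_z : orderOf D.z = 2 :=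
  orderOf_eq_prime (by rw [pow_two]; exact D.z_sq) D.z_ne_one

theorem z_inv : D.z⁻¹ = D.z := inv_eq_of_mul_eq_one_right D.z_sq

theorem z_comm {s : X} (hs : s ∈ S) : Commute D.z s := by
  have hb : Commute D.z D.b := by
    have h := D.b_conj_zpow ((2 ^ D.k : ℕ) : ℤ)
    rw [zpow_neg] at h
    change D.b * D.z * D.b⁻¹ = D.z⁻¹ at h
    rw [D.z_inv, mul_inv_eq_iff_eq_mul] at h
    exact h.symm
  obtain ⟨i, rfl | rfl⟩ := D.cases s hs
  · exact (Commute.refl D.a).zpow_zpow _ i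
  · exact ((Commute.refl D.a).zpow_zpow _ i).mul_right hb

theorem rot_sq_eq_one {x : X} (hx : x ∈ Subgroup.zpowers D.a) (h2 : x * x = 1) :
    x = 1 ∨ x = D.z := by
  obtain ⟨i, rfl⟩ := Subgroup.mem_zpowers_iff.mp hx
  rw [← zpow_add, zpow_eq_one_iff] at h2
  obtain ⟨c, hc⟩ := h2
  have hi : i = ((2 ^ D.k : ℕ) : ℤ) * c := by
    push_cast at hc ⊢
    rw [pow_succ] at hc
    linarith
  rcases Int.even_or_odd c with ⟨d, rfl⟩ | ⟨d, rfl⟩
  · left
    rw [zpow_eq_one_iff, hi]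
    exact ⟨d, by push_cast; ring⟩
  · right
    rw [z, eq_comm, ← mul_inv_eq_one, ← zpow_neg, ← zpow_add, zpow_eq_one_iff, hi]
    exact ⟨-d, by push_cast; ring⟩

/-- The four-subgroup containing the reflection `a ^ i * b`. -/
def four (i : ℤ) : Subgroup X where
  carrier := {x | x = 1 ∨ x = D.z ∨ x = D.a ^ i * D.b ∨ x = D.z * (D.a ^ i * D.b)}
  one_mem' := Or.inl rfl
  mul_mem' {x y} hx hy := by
    have hc := (D.z_comm (D.refl_mem i)).eq
    have hzz := D.z_sq
    have hrr := D.refl_sq i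
    rcases hx with rfl | rfl | rfl | rfl <;> rcases hy with rfl | rfl | rfl | rfl <;>
      first
      | (left; simp only [one_mul, mul_one, hzz, hrr]; done)
      | (left; rw [mul_assoc, ← mul_assoc (D.a ^ i * D.b) D.z, ← hc, mul_assoc D.z, hrr, mul_one, hzz])
      | (right; left; simp only [one_mul, mul_one]; done)
      | (right; left; rw [mul_assoc, hrr, mul_one])
      | (right; left; rw [← mul_assoc, ← hc, mul_assoc, hrr, mul_one])
      | (right; right; left; simp only [one_mul, mul_one]; done)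
      | (right; right; left; rw [← mul_assoc, hzz, one_mul])
      | (right; right; left; rw [mul_assoc, ← hc, ← mul_assoc, hzz, one_mul])
      | (right; right; right; simp only [one_mul, mul_one]; done)
      | (right; right; right; exact hc.symm)
  inv_mem' {x} hx := by
    rcases hx with rfl | rfl | rfl | rfl
    · exact Or.inl inv_one
    · exact Or.inr (Or.inl D.z_inv)
    · exact Or.inr (Or.inr (Or.inl (inv_eq_of_mul_eq_one_right (D.refl_sq i))))
    · refine Or.inr (Or.inr (Or.inr ?_))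
      rw [mul_inv_rev, D.z_inv, inv_eq_of_mul_eq_one_right (D.refl_sq i)]
      exact ((D.z_comm (D.refl_mem i)).eq).symm

theorem mem_four {i : ℤ} {x : X} :
    x ∈ D.four i ↔ x = 1 ∨ x = D.z ∨ x = D.a ^ i * D.b ∨ x = D.z * (D.a ^ i * D.b) := Iff.rfl

theorem refl_mem_four (i : ℤ) : D.a ^ i * D.b ∈ D.four i :=
  Or.inr (Or.inr (Or.inl rfl))

theorem z_mem_four (i : ℤ) : D.z ∈ D.four i := Or.inr (Or.inl rfl)

theorem four_le (i : ℤ) : D.four i ≤ S := by
  intro x hx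
  rcases D.mem_four.mp hx with rfl | rfl | rfl | rfl
  exacts [S.one_mem, D.z_mem_S, D.refl_mem i, S.mul_mem D.z_mem_S (D.refl_mem i)]

theorem z_ne_refl (i : ℤ) : D.z ≠ D.a ^ i * D.b := fun h => D.refl_not_mem_rot i (h ▸ D.z_mem)

theorem four_isKleinFour (i : ℤ) : IsKleinFour (D.four i) := by
  have hsq : ∀ x ∈ D.four i, x * x = 1 := by
    intro x hx
    rcases D.mem_four.mp hx with rfl | rfl | rfl | rfl
    · exact one_mul 1
    · exact D.z_sq
    · exact D.refl_sq i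
    · rw [mul_assoc, ← mul_assoc (D.a ^ i * D.b) D.z, ← (D.z_comm (D.refl_mem i)).eq,
        mul_assoc D.z, D.refl_sq, mul_one, D.z_sq]
  constructor
  · let f : Fin 4 → D.four i :=
      ![1, ⟨D.z, D.z_mem_four i⟩, ⟨_, D.refl_mem_four i⟩, ⟨D.z, D.z_mem_four i⟩ * ⟨_, D.refl_mem_four i⟩]
    rw [← Nat.card_fin 4]
    refine (Nat.card_congr (Equiv.ofBijective f ⟨?_, ?_⟩)).symm
    · have h1 := D.z_ne_one
      have h2 := D.refl_ne_one i
      have h3 := D.z_ne_refl i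
      have h4 : D.z * (D.a ^ i * D.b) ≠ 1 := fun e => h3 (by
        rw [eq_inv_of_mul_eq_one_left e, inv_eq_of_mul_eq_one_right (D.refl_sq i)])
      have h5 : D.z * (D.a ^ i * D.b) ≠ D.z := fun e => h2 (mul_eq_left.mp e)
      have h6 : D.z * (D.a ^ i * D.b) ≠ D.a ^ i * D.b := fun e => h1 (mul_eq_right.mp e)
      intro p q hpq
      have hpq' := congrArg Subtype.val hpq
      fin_cases p <;> fin_cases q <;> simp [f] at hpq' ⊢ <;> first
        | exact h1 hpq' | exact h1 hpq'.symm | exact h2 hpq' | exact h2 hpq'.symm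
        | exact h3 hpq' | exact h3 hpq'.symm | exact h4 hpq' | exact h4 hpq'.symm
        | exact h5 hpq' | exact h5 hpq'.symm | exact h6 hpq' | exact h6 hpq'.symm
    · rintro ⟨x, hx⟩
      rcases D.mem_four.mp hx with rfl | rfl | rfl | rfl
      exacts [⟨0, rfl⟩, ⟨1, rfl⟩, ⟨2, rfl⟩, ⟨3, rfl⟩]
  · have : Nontrivial (D.four i) :=
      ⟨⟨⟨D.z, D.z_mem_four i⟩, 1, fun h => D.z_ne_one (congrArg Subtype.val h)⟩⟩
    refine (Monoid.exponent_eq_prime_iff Nat.prime_two).mpr fun x hx => orderOf_eq_prime ?_ hx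
    exact Subtype.ext (by rw [pow_two]; exact hsq x x.2)

theorem sq_of_klein {U : Subgroup X} (hU : IsKleinFour U) {x : X} (hx : x ∈ U) : x * x = 1 := by
  have h := Monoid.pow_exponent_eq_one (⟨x, hx⟩ : U)
  rw [hU.exponent_two, pow_two] at h
  exact congrArg Subtype.val h

theorem klein_cases [Finite X] {U : Subgroup X} (hU : IsKleinFour U) (hUS : U ≤ S) :
    ∃ i : ℤ, U = D.four i := by
  obtain ⟨v, hv, hvA⟩ : ∃ v ∈ U, v ∉ Subgroup.zpowers D.a := by
    by_contra h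
    push Not at h
    have hsub : ∀ x ∈ U, x = 1 ∨ x = D.z := fun x hx =>
      D.rot_sq_eq_one (h x hx) (sq_of_klein hU hx)
    classical
    have : Nat.card U ≤ Nat.card (Fin 2) := by
      refine Nat.card_le_card_of_injective (fun w : U => if (w : X) = 1 then (0 : Fin 2) else 1) ?_
      intro p q hpq
      by_cases hp : (p : X) = 1 <;> by_cases hq : (q : X) = 1 <;> simp [hp, hq] at hpq
      · exact Subtype.ext (hp.trans hq.symm)
      · exact Subtype.ext (((hsub p p.2).resolve_left hp).trans ((hsub q q.2).resolve_left hq).symm)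
    rw [hU.card_four, Nat.card_fin] at this
    omega
  obtain ⟨i, rfl | rfl⟩ := D.cases v (hUS hv)
  · exact absurd (Subgroup.zpow_mem _ (Subgroup.mem_zpowers D.a) i) hvA
  refine ⟨i, Subgroup.eq_of_le_of_card_ge ?_ ?_⟩
  · intro x hx
    obtain ⟨j, hj | hj⟩ := D.cases x (hUS hx)
    · rcases D.rot_sq_eq_one (x := x) ⟨j, hj.symm⟩ (sq_of_klein hU hx) with rfl | rfl
      exacts [Subgroup.one_mem _, D.z_mem_four i]
    · have hxv : x * (D.a ^ i * D.b) ∈ U := U.mul_mem hx hv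
      have hrot : x * (D.a ^ i * D.b) = D.a ^ (j - i) := by rw [hj, D.refl_mul_refl]
      rcases D.rot_sq_eq_one (x := x * (D.a ^ i * D.b)) ⟨j - i, hrot.symm⟩ (sq_of_klein hU hxv)
        with h | h
      · rw [eq_inv_of_mul_eq_one_left h, inv_eq_of_mul_eq_one_right (D.refl_sq i)]
        exact D.refl_mem_four i
      · rw [eq_mul_inv_of_mul_eq h, inv_eq_of_mul_eq_one_right (D.refl_sq i)]
        exact Or.inr (Or.inr (Or.inr rfl))
  · rw [hU.card_four, (D.four_isKleinFour i).card_four]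

theorem eq_four [Finite X] {U : Subgroup X} (hU : IsKleinFour U) (hUS : U ≤ S) {i : ℤ}
    (hi : D.a ^ i * D.b ∈ U) : U = D.four i := by
  obtain ⟨j, rfl⟩ := D.klein_cases hU hUS
  refine Subgroup.eq_of_le_of_card_ge ?_ (by rw [(D.four_isKleinFour i).card_four, hU.card_four])
  intro x hx
  have hz := D.z_mem_four i
  have hr := D.refl_mem_four i
  have hj : D.a ^ j * D.b ∈ D.four i := by
    rcases D.mem_four.mp hi with h | h | h | h
    · exact absurd h (D.refl_ne_one i)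
    · exact absurd h (D.z_ne_refl i).symm
    · exact h ▸ hr
    · rw [eq_inv_mul_of_mul_eq h.symm, D.z_inv]
      exact (D.four i).mul_mem hz hr
  rcases D.mem_four.mp hx with rfl | rfl | rfl | rfl
  exacts [Subgroup.one_mem _, hz, hj, (D.four i).mul_mem hz hj]

theorem conj_four (i j : ℤ) :
    (D.four i).map (MulAut.conj (D.a ^ j)).toMonoidHom = D.four (i + 2 * j) := by
  have hr : D.a ^ j * (D.a ^ i * D.b) * (D.a ^ j)⁻¹ = D.a ^ (i + 2 * j) * D.b := by
    rw [← zpow_neg, mul_assoc, mul_assoc, D.b_mul_zpow, ← mul_assoc (D.a ^ i), ← zpow_add,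
      ← mul_assoc, ← zpow_add, neg_neg]
    ring_nf
  have hz : D.a ^ j * D.z * (D.a ^ j)⁻¹ = D.z := by
    rw [← (D.z_comm (S.zpow_mem D.ha j)).eq, mul_inv_cancel_right]
  ext x
  rw [ConjUtil.mem_conjMap_iff, mem_four, mem_four]
  have key : ∀ y : X, (D.a ^ j)⁻¹ * x * D.a ^ j = y ↔ x = D.a ^ j * y * (D.a ^ j)⁻¹ := fun y =>
    ⟨fun h => by rw [← h]; simp [mul_assoc], fun h => by rw [h]; simp [mul_assoc]⟩
  rw [key, key, key, key, hr, hz, mul_one, mul_inv_cancel,
    show D.a ^ j * (D.z * (D.a ^ i * D.b)) * (D.a ^ j)⁻¹ =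
      (D.a ^ j * D.z * (D.a ^ j)⁻¹) * (D.a ^ j * (D.a ^ i * D.b) * (D.a ^ j)⁻¹) by simp [mul_assoc],
    hr, hz]

theorem four_parity {i j : ℤ} (hk : 1 ≤ D.k) (h : D.a ^ i * D.b ∈ D.four j) : Even (i - j) := by
  have key : ∀ t : ℤ, D.a ^ t = 1 → Even t := fun t ht => by
    obtain ⟨c, rfl⟩ := D.zpow_eq_one_iff.mp ht
    exact Even.mul_right (by push_cast; exact Int.even_pow.mpr ⟨even_two, by omega⟩) c
  rcases D.mem_four.mp h with h | h | h | h
  · exact absurd h (D.refl_ne_one i)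
  · exact absurd h (D.z_ne_refl i).symm
  · exact key _ (by rw [zpow_sub, mul_right_cancel h, mul_inv_cancel])
  · rw [← mul_assoc, z, ← zpow_add] at h
    have h2 := key (i - ((2 ^ D.k : ℕ) + j)) (by rw [zpow_sub, mul_right_cancel h, mul_inv_cancel])
    have h3 : Even ((2 ^ D.k : ℕ) : ℤ) := by
      push_cast
      exact Int.even_pow.mpr ⟨even_two, by omega⟩
    rw [← sub_sub, sub_right_comm, Int.even_sub] at h2
    exact h2.mpr h3

theorem isConj_four {i j : ℤ} (h : Even (i - j)) :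
    ∃ x ∈ S, (D.four i).map (MulAut.conj x).toMonoidHom = D.four j := by
  obtain ⟨c, hc⟩ := h
  refine ⟨D.a ^ (-c), S.zpow_mem D.ha _, ?_⟩
  rw [D.conj_four]
  congr 1
  omega

/-- The rotation of order four. -/
def q : X := D.a ^ ((2 ^ (D.k - 1) : ℕ) : ℤ)

theorem orderOf_q (hk : 1 ≤ D.k) : orderOf D.q = 4 := by
  have h := D.order_a
  rw [q, zpow_natCast, orderOf_pow_of_dvd (pow_ne_zero _ two_ne_zero)
    (by rw [h]; exact pow_dvd_pow 2 (by omega)), h, Nat.pow_div (by omega) two_pos,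
    show D.k + 1 - (D.k - 1) = 2 by omega]
  norm_num

theorem q_sq (hk : 1 ≤ D.k) : D.q * D.q = D.z := by
  rw [q, z, ← zpow_add]
  congr 1
  obtain ⟨c, hc⟩ := Nat.exists_eq_add_of_le hk
  rw [hc, Nat.add_sub_cancel_left, pow_add]
  push_cast; ring

theorem order_four_cases {x : X} (hk : 1 ≤ D.k) (hxS : x ∈ S) (hx : orderOf x = 4) :
    x = D.q ∨ x = D.q⁻¹ := by
  obtain ⟨i, rfl | rfl⟩ := D.cases x hxS
  · have hsq : (D.a ^ i) * (D.a ^ i) = D.z := by
      refine (D.rot_sq_eq_one (Subgroup.mul_mem _ ⟨i, rfl⟩ ⟨i, rfl⟩) ?_).resolve_left fun h => ?_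
      · have h4 := pow_orderOf_eq_one (D.a ^ i)
        rw [hx] at h4
        simpa [pow_succ, mul_assoc] using h4
      · have := orderOf_dvd_of_pow_eq_one (show (D.a ^ i) ^ 2 = 1 by rw [pow_two, h])
        rw [hx] at this
        norm_num at this
    have hc : Commute (D.a ^ i) D.q⁻¹ := ((Commute.refl D.a).zpow_zpow i _).inv_right
    rcases D.rot_sq_eq_one (x := D.a ^ i * D.q⁻¹)
        (Subgroup.mul_mem _ ⟨i, rfl⟩ (Subgroup.inv_mem _ ⟨_, rfl⟩))
        (by rw [hc.symm.mul_mul_mul_comm, hsq, ← mul_inv_rev, D.q_sq hk, D.z_inv, D.z_sq]) with h | h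
    · exact Or.inl (mul_inv_eq_one.mp h)
    · right
      rw [mul_inv_eq_iff_eq_mul] at h
      rw [h, eq_inv_iff_mul_eq_one, mul_assoc, D.q_sq hk, D.z_sq]
  · rw [D.orderOf_refl] at hx
    omega

theorem eq_rot_of_centralizes (hk : 1 ≤ D.k) {s : X} (hs : s ∈ S) (hc : Commute s D.q) :
    s ∈ Subgroup.zpowers D.a := by
  obtain ⟨i, rfl | rfl⟩ := D.cases s hs
  · exact ⟨i, rfl⟩
  · exfalso
    have h1 : (D.a ^ i * D.b) * D.q * (D.a ^ i * D.b)⁻¹ = D.q := by rw [hc.eq, mul_inv_cancel_right]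
    have hq2 : D.b * D.q * D.b⁻¹ = D.q⁻¹ := by rw [q, D.b_conj_zpow, zpow_neg]
    have h2 : (D.a ^ i * D.b) * D.q * (D.a ^ i * D.b)⁻¹ = D.q⁻¹ := by
      calc (D.a ^ i * D.b) * D.q * (D.a ^ i * D.b)⁻¹
          = D.a ^ i * (D.b * D.q * D.b⁻¹) * (D.a ^ i)⁻¹ := by simp [mul_assoc]
        _ = D.q⁻¹ := by
            rw [hq2, (show Commute (D.a ^ i) D.q⁻¹ from ((Commute.refl D.a).zpow_zpow i _).inv_right).eq,
              mul_inv_cancel_right]
    have h4 := orderOf_dvd_of_pow_eq_one (show D.q ^ 2 = 1 by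
      rw [pow_two]; exact eq_inv_iff_mul_eq_one.mp (h1.symm.trans h2))
    rw [D.orderOf_q hk] at h4
    norm_num at h4

end DihGens

section Sylow

variable [Finite X] {P : Sylow 2 X} (D : DihGens (P : Subgroup X))

open DihGens

/-- If all `2`-elements commuting with `U` and lying in `S` are in `U`, a `2`-subgroup of the
normalizer of a four-subgroup has order at most eight. -/
theorem centralizer_four (i : ℤ) {s : X} (hs : s ∈ (P : Subgroup X))
    (hc : Commute s (D.a ^ i * D.b)) : s ∈ D.four i := by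
  obtain ⟨j, rfl | rfl⟩ := D.cases s hs
  · have h1 : (D.a ^ i * D.b) * D.a ^ j * (D.a ^ i * D.b)⁻¹ = D.a ^ j := by
      rw [← hc.eq, mul_inv_cancel_right]
    have h2 : (D.a ^ i * D.b) * D.a ^ j * (D.a ^ i * D.b)⁻¹ = D.a ^ (-j) := by
      calc (D.a ^ i * D.b) * D.a ^ j * (D.a ^ i * D.b)⁻¹
          = D.a ^ i * (D.b * D.a ^ j * D.b⁻¹) * (D.a ^ i)⁻¹ := by simp [mul_assoc]
        _ = D.a ^ (-j) := by
            rw [D.b_conj_zpow, ((Commute.refl D.a).zpow_zpow i _).eq, mul_inv_cancel_right]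
    rcases D.rot_sq_eq_one (x := D.a ^ j) ⟨j, rfl⟩ (by
      rw [← eq_inv_iff_mul_eq_one, ← zpow_neg]; exact h1.symm.trans h2) with h | h <;> rw [h]
    exacts [Subgroup.one_mem _, D.z_mem_four i]
  · have hj : (D.a ^ j * D.b) * (D.a ^ i * D.b) = D.a ^ (j - i) := D.refl_mul_refl j i
    rcases D.rot_sq_eq_one (x := (D.a ^ j * D.b) * (D.a ^ i * D.b)) ⟨j - i, hj.symm⟩ (by
      rw [show ∀ p r : X, Commute p r → p * r * (p * r) = p * p * (r * r) from fun p r e => e.symm.mul_mul_mul_comm _ _, D.refl_sq, D.refl_sq, mul_one]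
      exact hc) with h | h
    · rw [eq_inv_of_mul_eq_one_left h, inv_eq_of_mul_eq_one_right (D.refl_sq i)]
      exact D.refl_mem_four i
    · rw [eq_mul_inv_of_mul_eq h, inv_eq_of_mul_eq_one_right (D.refl_sq i)]
      exact Or.inr (Or.inr (Or.inr rfl))

/-- Any two four-subgroups of `S` conjugate in `X` are conjugate in `S`. -/
theorem four_fusion (hk : 1 ≤ D.k) {i j : ℤ} {g : X}
    (hg : (D.four i).map (MulAut.conj g).toMonoidHom = D.four j) : Even (i - j) := by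
  -- the subgroup `⟨q, four⟩` is absorbed
  have hqn : ∀ l, D.q ∈ Subgroup.normalizer ((D.four l : Subgroup X) : Set X) := by
    intro l
    rw [ConjUtil.mem_normalizer_iff_conjMap, q, D.conj_four]
    refine D.eq_four (D.four_isKleinFour _) (D.four_le _) (i := l) ?_
    have h2 : (2 : ℤ) * (2 ^ (D.k - 1) : ℕ) = (2 ^ D.k : ℕ) := by
      obtain ⟨c, hc⟩ := Nat.exists_eq_add_of_le hk
      rw [hc, Nat.add_sub_cancel_left, pow_add]
      push_cast; ring
    refine Or.inr (Or.inr (Or.inr ?_))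
    rw [h2, add_comm, zpow_add, ← z, ← mul_assoc, ← mul_assoc, D.z_sq, one_mul]
  set N := Subgroup.normalizer ((D.four i : Subgroup X) : Set X) with hN
  let Di : Subgroup X := (P : Subgroup X) ⊓ N
  have hDi : IsPGroup 2 Di := P.isPGroup'.to_le inf_le_left
  obtain ⟨R, hR, hRN, hDiR, -, hall⟩ := FusionTools.exists_sylow_in N Di hDi inf_le_right
  obtain ⟨T, hT⟩ := hR.exists_le_sylow
  obtain ⟨y, hy⟩ := ConjUtil.sylow_eq_conjMap T P
  -- the conjugate of `q` moved into the normalizer of `four j`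
  have hq' : g⁻¹ * D.q * g ∈ N := by
    rw [hN, ConjUtil.mem_normalizer_iff_conjMap, ← ConjUtil.conjMap_conjMap, hg,
      ← ConjUtil.conjMap_conjMap, (ConjUtil.mem_normalizer_iff_conjMap _ _).mp (hqn j), ← hg,
      ConjUtil.conjMap_conjMap, inv_mul_cancel, ConjUtil.conjMap_one]
  have hordq : orderOf (g⁻¹ * D.q * g) = 4 := by
    rw [← D.orderOf_q hk]
    simpa using (MulAut.conj g⁻¹).orderOf_eq D.q
  obtain ⟨n, hn, hnR⟩ := hall (Subgroup.zpowers (g⁻¹ * D.q * g))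
    (IsPGroup.of_card (n := 2) (by rw [Nat.card_zpowers, hordq]; norm_num))
    (by rw [Subgroup.zpowers_le]; exact hq')
  have hqR : D.q ∈ R := hDiR ⟨(P : Subgroup X).zpow_mem D.ha _, hqn i⟩
  have hxR : n * (g⁻¹ * D.q * g) * n⁻¹ ∈ R := hnR _ (Subgroup.mem_zpowers _)
  have hmap : ∀ x ∈ R, y * x * y⁻¹ ∈ (P : Subgroup X) := fun x hx => by
    rw [hy]; exact ⟨x, hT hx, rfl⟩
  have o1 := D.order_four_cases hk (hmap _ hqR)
    (((MulAut.conj y).orderOf_eq D.q).trans (D.orderOf_q hk))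
  have o2 := D.order_four_cases hk (hmap _ hxR) (by
    refine ((MulAut.conj y).orderOf_eq _).trans (((MulAut.conj n).orderOf_eq _).trans hordq))
  have hnq : n * (g⁻¹ * D.q * g) * n⁻¹ = D.q ∨ n * (g⁻¹ * D.q * g) * n⁻¹ = D.q⁻¹ := by
    have hinj : Function.Injective fun x => y * x * y⁻¹ := (MulAut.conj y).injective
    rcases o1 with o1 | o1 <;> rcases o2 with o2 | o2
    · exact Or.inl (hinj (o2.trans o1.symm))
    · refine Or.inr (hinj ?_)
      show y * _ * y⁻¹ = y * _ * y⁻¹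
      rw [o2, ← conj_inv, o1]
    · refine Or.inr (hinj ?_)
      show y * _ * y⁻¹ = y * _ * y⁻¹
      rw [o2, ← conj_inv, o1, inv_inv]
    · exact Or.inl (hinj (o2.trans o1.symm))
  set h := g * n⁻¹ with hh
  have hh1 : (D.four i).map (MulAut.conj h).toMonoidHom = D.four j := by
    rw [hh, ← ConjUtil.conjMap_conjMap,
      (ConjUtil.mem_normalizer_iff_conjMap _ _).mp (Subgroup.inv_mem _ hn), hg]
  set Q := Subgroup.normalizer ((Subgroup.zpowers D.q : Subgroup X) : Set X) with hQ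
  have hhQ : h ∈ Q := by
    rw [← inv_mem_iff]
    refine ConjUtil.mem_normalizer_of_conj_mem h⁻¹ ?_
    rintro _ ⟨t, rfl⟩
    have e : h⁻¹ * D.q * h⁻¹⁻¹ = n * (g⁻¹ * D.q * g) * n⁻¹ := by simp [hh, mul_assoc]
    show h⁻¹ * D.q ^ t * h⁻¹⁻¹ ∈ Subgroup.zpowers D.q
    rw [← conj_zpow, e]
    rcases hnq with hc | hc <;> rw [hc]
    · exact ⟨t, rfl⟩
    · exact Subgroup.zpow_mem _ (Subgroup.inv_mem _ (Subgroup.mem_zpowers _)) t
  have hPQ : (P : Subgroup X) ≤ Q := by
    intro s hs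
    refine ConjUtil.mem_normalizer_of_conj_mem s ?_
    rintro _ ⟨t, rfl⟩
    show s * D.q ^ t * s⁻¹ ∈ Subgroup.zpowers D.q
    rw [← conj_zpow]
    have hsq : orderOf (s * D.q * s⁻¹) = 4 :=
      ((MulAut.conj s).orderOf_eq D.q).trans (D.orderOf_q hk)
    have hqS : D.q ∈ (P : Subgroup X) := (P : Subgroup X).zpow_mem D.ha _
    rcases D.order_four_cases hk
      ((P : Subgroup X).mul_mem ((P : Subgroup X).mul_mem hs hqS) ((P : Subgroup X).inv_mem hs)) hsq
      with hc | hc <;> rw [hc]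
    · exact ⟨t, rfl⟩
    · exact Subgroup.zpow_mem _ (Subgroup.inv_mem _ (Subgroup.mem_zpowers _)) t
  -- `Q` has a normal 2-complement
  let K : Subgroup Q := (Subgroup.centralizer ({D.q} : Set X)).subgroupOf Q
  have hconj : ∀ n : Q, (n : X) * D.q * (n : X)⁻¹ = D.q ∨ (n : X) * D.q * (n : X)⁻¹ = D.q⁻¹ := by
    intro n
    obtain ⟨t, ht⟩ := Subgroup.mem_zpowers_iff.mp
      ((Subgroup.mem_normalizer_iff.mp n.2 D.q).mp (Subgroup.mem_zpowers D.q))
    exact D.order_four_cases hk (ht ▸ (P : Subgroup X).zpow_mem ((P : Subgroup X).zpow_mem D.ha _) t)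
      (((MulAut.conj (n : X)).orderOf_eq D.q).trans (D.orderOf_q hk))
  have hmemK : ∀ n : Q, n ∈ K ↔ (n : X) * D.q * (n : X)⁻¹ = D.q := by
    intro n
    rw [Subgroup.mem_subgroupOf, Subgroup.mem_centralizer_singleton_iff, mul_inv_eq_iff_eq_mul]
  have hqne : D.q⁻¹ ≠ D.q := fun e => by
    have h4 := orderOf_dvd_of_pow_eq_one (show D.q ^ 2 = 1 by
      rw [pow_two]; exact eq_inv_iff_mul_eq_one.mp e.symm)
    rw [D.orderOf_q hk] at h4
    norm_num at h4
  have hbK : (⟨D.b, hPQ D.hb⟩ : Q) ∉ K := by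
    rw [hmemK]
    intro e
    apply hqne
    have hb2 : D.b * D.q * D.b⁻¹ = D.q⁻¹ := by rw [q, D.b_conj_zpow, zpow_neg]
    exact hb2.symm.trans e
  have hKi : K.index = 2 := by
    rw [Subgroup.index_eq_two_iff]
    refine ⟨⟨D.b, hPQ D.hb⟩, fun n => ?_⟩
    rcases hconj n with e | e
    · refine Or.inr ⟨(hmemK n).mpr e, fun e2 => hbK ?_⟩
      simpa using K.mul_mem (K.inv_mem ((hmemK n).mpr e)) e2
    · refine Or.inl ⟨(hmemK _).mpr ?_, fun e2 => hqne (e.symm.trans ((hmemK n).mp e2))⟩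
      have hb2 : D.b * D.q * D.b⁻¹ = D.q⁻¹ := by rw [q, D.b_conj_zpow, zpow_neg]
      show (n : X) * D.b * D.q * ((n : X) * D.b)⁻¹ = D.q
      calc (n : X) * D.b * D.q * ((n : X) * D.b)⁻¹ = (n : X) * (D.b * D.q * D.b⁻¹) * (n : X)⁻¹ := by
            simp [mul_assoc]
        _ = ((n : X) * D.q * (n : X)⁻¹)⁻¹ := by rw [hb2]; simp [mul_assoc]
        _ = D.q := by rw [e, inv_inv]
  haveI : K.Normal := Subgroup.normal_of_index_eq_two hKi
  let PQ : Sylow 2 Q := P.subtype hPQ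
  have hcyc : IsCyclic ((PQ : Subgroup Q) ⊓ K : Subgroup Q) := by
    let f : ((PQ : Subgroup Q) ⊓ K : Subgroup Q) →* Subgroup.zpowers D.a :=
      { toFun := fun n => ⟨((n : Q) : X), by
          obtain ⟨hn1, hn2⟩ := Subgroup.mem_inf.mp n.2
          refine D.eq_rot_of_centralizes hk hn1 ?_
          exact Subgroup.mem_centralizer_singleton_iff.mp hn2⟩
        map_one' := rfl
        map_mul' := fun _ _ => rfl }
    exact isCyclic_of_injective f fun p r e =>
      Subtype.ext (Subtype.ext (congrArg (fun w : Subgroup.zpowers D.a => (w : X)) e))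
  obtain ⟨P', C, hCn, hC⟩ :=
    FusionTools.hasNormalPComplement_of_cyclic PQ K (k := 1) (by rw [hKi, pow_one]) hcyc
  have hCodd : Odd (Nat.card C) := by
    rw [← hC.index_eq_card]
    exact FusionTools.sylow_index_odd P'
  -- decompose `h`
  have htop : (PQ : Subgroup Q) ⊔ C = ⊤ := by
    by_contra hne
    have h1 : ((PQ : Subgroup Q) ⊔ C).index ∣ (PQ : Subgroup Q).index :=
      Subgroup.index_dvd_of_le le_sup_left
    have h2 : ((PQ : Subgroup Q) ⊔ C).index ∣ C.index := Subgroup.index_dvd_of_le le_sup_right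
    rw [hC.symm.index_eq_card] at h2
    obtain ⟨l, hl⟩ := IsPGroup.iff_card.mp P'.isPGroup'
    rw [hl] at h2
    exact hne (Subgroup.index_eq_one.mp (Nat.eq_one_of_dvd_coprimes
      ((Nat.coprime_two_right.mpr (FusionTools.sylow_index_odd PQ)).pow_right l) h1 h2))
  have hmem : (⟨h, hhQ⟩ : Q) ∈ (PQ : Subgroup Q) ⊔ C := htop ▸ Subgroup.mem_top _
  rw [sup_comm] at hmem
  obtain ⟨c, hc, s, hs, hcs⟩ := Subgroup.mem_sup_of_normal_left.mp hmem
  have hsS : (s : X) ∈ (P : Subgroup X) := hs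
  -- the odd part fixes the four-group elementwise
  have key : ∀ v ∈ D.four i, (s : X) * v * (s : X)⁻¹ = h * v * h⁻¹ := by
    intro v hv
    have hvS := D.four_le i hv
    let w : Q := ⟨(s : X) * v * (s : X)⁻¹, hPQ ((P : Subgroup X).mul_mem
      ((P : Subgroup X).mul_mem hsS hvS) ((P : Subgroup X).inv_mem hsS))⟩
    have hw : c * w * c⁻¹ * w⁻¹ ∈ C := by
      have h5 := C.mul_mem hc (hCn.conj_mem _ (C.inv_mem hc) w)
      simpa [mul_assoc] using h5
    have hw2 : ((c * w * c⁻¹ * w⁻¹ : Q) : X) ∈ (P : Subgroup X) := by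
      have e : ((c * w * c⁻¹ * w⁻¹ : Q) : X) = h * v * h⁻¹ * ((s : X) * v * (s : X)⁻¹)⁻¹ := by
        have e2 : (c : X) * (s : X) = h := congrArg Subtype.val hcs
        rw [← e2]
        simp [w, mul_assoc]
      rw [e]
      refine (P : Subgroup X).mul_mem (D.four_le j ?_) ((P : Subgroup X).inv_mem
        ((P : Subgroup X).mul_mem ((P : Subgroup X).mul_mem hsS hvS) ((P : Subgroup X).inv_mem hsS)))
      rw [← hh1]
      exact ⟨v, hv, rfl⟩
    have hone : c * w * c⁻¹ * w⁻¹ = 1 := by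
      obtain ⟨l, hl⟩ := IsPGroup.iff_orderOf.mp P.isPGroup' ⟨_, hw2⟩
      rw [Subgroup.orderOf_mk, Subgroup.orderOf_coe] at hl
      rw [← orderOf_eq_one_iff, hl]
      have h6 : orderOf (c * w * c⁻¹ * w⁻¹) ∣ Nat.card C :=
        Subgroup.orderOf_coe (⟨_, hw⟩ : C) ▸ orderOf_dvd_natCard _
      rw [hl] at h6
      exact Nat.eq_one_of_dvd_coprimes ((Nat.coprime_two_right.mpr hCodd).pow_right l) h6 dvd_rfl
    have e2 : (c : X) * (s : X) = h := congrArg Subtype.val hcs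
    have h7 : (c : X) * ((s : X) * v * (s : X)⁻¹) * (c : X)⁻¹ * ((s : X) * v * (s : X)⁻¹)⁻¹ = 1 :=
      congrArg Subtype.val hone
    rw [mul_inv_eq_one] at h7
    rw [← e2]
    conv_lhs => rw [← h7]
    simp [mul_assoc]
  have hr : h * (D.a ^ i * D.b) * h⁻¹ ∈ D.four j := hh1 ▸ ⟨_, D.refl_mem_four i, rfl⟩
  rw [← key _ (D.refl_mem_four i)] at hr
  obtain ⟨l, hl | hl⟩ := D.cases (s : X) hsS
  · have e : (s : X) * (D.a ^ i * D.b) * (s : X)⁻¹ = D.a ^ (i + 2 * l) * D.b := by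
      rw [hl, ← zpow_neg, mul_assoc, mul_assoc, D.b_mul_zpow, ← mul_assoc (D.a ^ i), ← zpow_add,
        ← mul_assoc, ← zpow_add, neg_neg]
      ring_nf
    rw [e] at hr
    have := D.four_parity hk hr
    have h8 : Even (2 * l) := even_two_mul l
    rw [show i - j = (i + 2 * l - j) - 2 * l by ring]
    exact this.sub h8
  · have e : (s : X) * (D.a ^ i * D.b) * (s : X)⁻¹ = D.a ^ (2 * l - i) * D.b := by
      rw [hl, inv_eq_of_mul_eq_one_right (D.refl_sq l), D.refl_mul_refl, ← mul_assoc, ← zpow_add]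
      ring_nf
    rw [e] at hr
    have := D.four_parity hk hr
    rw [show i - j = (2 * l - i - j) + 2 * (i - l) by ring]
    exact this.add (even_two_mul _)

end Sylow

end CfsgLib.TwoFusion.DihedralFusion
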