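import Mathlib.GroupTheory.Index
import Mathlib.GroupTheory.OrderOfElement
import Mathlib.Tactic.Group
import Mathlib.Tactic.Ring
import Mathlib.Tactic.LinearCombination
import Cfsg.Prelude.Def_CaseTheorems
import Cfsg.Agent.Lib.TwoFusion.DihedralIso

/-!
Quasi-dihedral 2-groups: normal forms and arithmetic of exponents.

`x` has order `8 P` (`P` a power of 2), `y` is an involution, `y x y⁻¹ = x ^ (4 P - 1)`.
-/

set_option autoImplicit false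

namespace CfsgLib.TwoFusion

/-- Standard generators of a quasi-dihedral group. -/
structure QDGens (S : Type*) [Group S] where
  x : S
  y : S
  p : ℕ
  P : ℤ
  hP : P = 2 ^ p
  hord : orderOf x = 2 ^ (p + 3)
  hy : orderOf y = 2
  hrel : y * x * y⁻¹ = x ^ (4 * P - 1)
  hcard : Nat.card S = 2 ^ (p + 4)

variable {S : Type*} [Group S]

theorem exists_qdGens (hS : Cfsg.IsQuasiDihedral S) : Nonempty (QDGens S) := by
  obtain ⟨n, hn, hcard, x, y, hx, hy, hrel⟩ := hS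
  obtain ⟨p, rfl⟩ : ∃ p, n = p + 3 := ⟨n - 3, by omega⟩
  refine ⟨⟨x, y, p, 2 ^ p, rfl, hx, hy, ?_, hcard⟩⟩
  rw [hrel, ← zpow_natCast]
  congr 1
  rw [show p + 3 - 1 = p + 2 by omega, Nat.cast_sub (Nat.one_le_two_pow)]
  push_cast
  ring

namespace QDGens

variable (D : QDGens S)

theorem P_pos : 0 < D.P := by rw [D.hP]; positivity

theorem order_cast : ((orderOf D.x : ℕ) : ℤ) = 8 * D.P := by
  rw [D.hord, D.hP]; push_cast; ring

theorem zpow_eq_one_iff {i : ℤ} : D.x ^ i = 1 ↔ 8 * D.P ∣ i := by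
  rw [← orderOf_dvd_iff_zpow_eq_one, D.order_cast]

theorem zpow_eq_iff {i j : ℤ} : D.x ^ i = D.x ^ j ↔ 8 * D.P ∣ i - j := by
  rw [← orderOf_dvd_sub_iff_zpow_eq_zpow, D.order_cast]

theorem y_mul_y : D.y * D.y = 1 := by
  have := pow_orderOf_eq_one D.y
  rwa [D.hy, pow_two] at this

theorem y_inv : D.y⁻¹ = D.y := inv_eq_of_mul_eq_one_right D.y_mul_y

theorem y_zpow (i : ℤ) : D.y * D.x ^ i = D.x ^ ((4 * D.P - 1) * i) * D.y := by
  rw [zpow_mul, ← D.hrel, conj_zpow, inv_mul_cancel_right]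

theorem y_zpow_conj (i : ℤ) : D.y * D.x ^ i * D.y⁻¹ = D.x ^ ((4 * D.P - 1) * i) := by
  rw [zpow_mul, ← D.hrel, conj_zpow]

theorem not_dvd_two_sub (k : ℤ) : ¬ 4 * D.P ∣ 4 * D.P * k + 2 := by
  rintro ⟨c, hc⟩
  have h2 : (4 : ℤ) ∣ 2 := ⟨D.P * (c - k), by linear_combination hc⟩
  norm_num at h2

theorem y_not_mem : D.y ∉ Subgroup.zpowers D.x := by
  rintro ⟨k, hk⟩
  have hk : D.x ^ k = D.y := hk
  have h : D.x ^ (1 : ℤ) = D.x ^ (4 * D.P - 1) := by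
    rw [← D.hrel, ← hk]; group
  rw [D.zpow_eq_iff] at h
  obtain ⟨c, hc⟩ := h
  exact D.not_dvd_two_sub (-1) ⟨2 * c, by linear_combination hc⟩

theorem zpow_ne_zpow_mul_y (i j : ℤ) : D.x ^ i ≠ D.x ^ j * D.y := by
  intro h
  exact D.y_not_mem ⟨-j + i, by
    show D.x ^ (-j + i) = D.y
    rw [zpow_add, h, zpow_neg, inv_mul_cancel_left]⟩

theorem zy_eq_iff {i j : ℤ} : D.x ^ i * D.y = D.x ^ j * D.y ↔ 8 * D.P ∣ i - j := by
  rw [mul_left_inj, D.zpow_eq_iff]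

theorem mul_zy (i j : ℤ) : D.x ^ i * (D.x ^ j * D.y) = D.x ^ (i + j) * D.y := by
  rw [← mul_assoc, zpow_add]

theorem zy_mul (i j : ℤ) :
    (D.x ^ i * D.y) * D.x ^ j = D.x ^ (i + (4 * D.P - 1) * j) * D.y := by
  rw [mul_assoc, D.y_zpow, ← mul_assoc, zpow_add]

theorem zy_mul_zy (i j : ℤ) :
    (D.x ^ i * D.y) * (D.x ^ j * D.y) = D.x ^ (i + (4 * D.P - 1) * j) := by
  rw [← mul_assoc, D.zy_mul, mul_assoc, D.y_mul_y, mul_one]

theorem zy_inv (i : ℤ) : (D.x ^ i * D.y)⁻¹ = D.x ^ (-((4 * D.P - 1) * i)) * D.y := by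
  rw [mul_inv_rev, D.y_inv, ← zpow_neg, D.y_zpow, mul_neg]

/-- Conjugation of a rotation-free element by a power of `x`. -/
theorem conj_zy (j i : ℤ) :
    D.x ^ j * (D.x ^ i * D.y) * (D.x ^ j)⁻¹ = D.x ^ (i + (2 - 4 * D.P) * j) * D.y := by
  rw [D.mul_zy, ← zpow_neg, D.zy_mul]
  congr 2
  ring

/-- Conjugation by `x ^ k * y`. -/
theorem zy_conj_zy (k i : ℤ) :
    (D.x ^ k * D.y) * (D.x ^ i * D.y) * (D.x ^ k * D.y)⁻¹
      = D.x ^ ((4 * D.P - 1) * i + (2 - 4 * D.P) * k) * D.y := by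
  rw [D.zy_mul_zy, D.zy_inv, D.mul_zy]
  congr 2
  ring

theorem zy_conj_zpow (k i : ℤ) :
    (D.x ^ k * D.y) * D.x ^ i * (D.x ^ k * D.y)⁻¹ = D.x ^ ((4 * D.P - 1) * i) := by
  rw [mul_assoc (D.x ^ k), D.y_zpow]
  group

theorem normalForm [Finite S] (s : S) :
    ∃ i : ℤ, s = D.x ^ i ∨ s = D.x ^ i * D.y := by
  have hidx : (Subgroup.zpowers D.x).index = 2 := by
    have h := (Subgroup.zpowers D.x).card_mul_index
    rw [Nat.card_zpowers, D.hord, D.hcard, pow_succ (n := p D + 3)] at h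
    exact Nat.eq_of_mul_eq_mul_left (by positivity) h
  by_cases hs : s ∈ Subgroup.zpowers D.x
  · obtain ⟨i, hi⟩ := hs
    exact ⟨i, Or.inl hi.symm⟩
  · have h : s * D.y ∈ Subgroup.zpowers D.x := by
      rw [Subgroup.mul_mem_iff_of_index_two hidx]
      exact iff_of_false hs D.y_not_mem
    obtain ⟨i, hi⟩ := h
    refine ⟨i, Or.inr ?_⟩
    have hi : D.x ^ i = s * D.y := hi
    rw [hi, mul_assoc, D.y_mul_y, mul_one]

theorem even_one_iff {i : ℤ} : 8 * D.P ∣ 4 * D.P * i ↔ 2 ∣ i := by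
  rw [show (8 : ℤ) * D.P = 4 * D.P * 2 by ring]
  exact mul_dvd_mul_iff_left (by have := D.P_pos; omega)

theorem sq_zy (i : ℤ) : (D.x ^ i * D.y) ^ 2 = D.x ^ (4 * D.P * i) := by
  rw [pow_two, D.zy_mul_zy]
  congr 1
  ring

theorem sq_zy_eq_one_iff {i : ℤ} : (D.x ^ i * D.y) ^ 2 = 1 ↔ 2 ∣ i := by
  rw [D.sq_zy, D.zpow_eq_one_iff, D.even_one_iff]

theorem sq_zy_odd {i : ℤ} (hi : ¬ 2 ∣ i) : (D.x ^ i * D.y) ^ 2 = D.x ^ (4 * D.P) := by
  obtain ⟨m, hm⟩ : ∃ m, i = 2 * m + 1 := ⟨i / 2, by omega⟩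
  rw [D.sq_zy, D.zpow_eq_iff]
  exact ⟨m, by rw [hm]; ring⟩

theorem orderOf_zy_even {i : ℤ} (hi : 2 ∣ i) : orderOf (D.x ^ i * D.y) = 2 :=
  orderOf_eq_prime (D.sq_zy_eq_one_iff.mpr hi) fun h =>
    D.zpow_ne_zpow_mul_y 0 i (by rw [h, zpow_zero])

theorem orderOf_zy_odd {i : ℤ} (hi : ¬ 2 ∣ i) : orderOf (D.x ^ i * D.y) = 4 := by
  refine orderOf_eq_prime_pow (p := 2) (n := 1) ?_ ?_
  · rw [pow_one, D.sq_zy_eq_one_iff]; exact hi
  · rw [show 2 ^ (1 + 1) = 2 * 2 by norm_num, pow_mul, D.sq_zy_odd hi, ← zpow_natCast, ← zpow_mul,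
      D.zpow_eq_one_iff]
    exact ⟨1, by push_cast; ring⟩

theorem c_ne_one : D.x ^ (4 * D.P) ≠ 1 := by
  rw [Ne, D.zpow_eq_one_iff]
  intro h
  have := Int.le_of_dvd (by have := D.P_pos; omega) h
  have := D.P_pos
  omega

theorem orderOf_c : orderOf (D.x ^ (4 * D.P)) = 2 := by
  refine orderOf_eq_prime ?_ D.c_ne_one
  rw [← zpow_natCast, ← zpow_mul, D.zpow_eq_one_iff]
  exact ⟨1, by push_cast; ring⟩

theorem orderOf_q : orderOf (D.x ^ (2 * D.P)) = 4 := by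
  refine orderOf_eq_prime_pow (p := 2) (n := 1) ?_ ?_
  · rw [← zpow_natCast, ← zpow_mul]
    push_cast
    rw [show 2 * D.P * 2 = 4 * D.P by ring]
    exact D.c_ne_one
  · rw [← zpow_natCast, ← zpow_mul, D.zpow_eq_one_iff]
    exact ⟨1, by push_cast; ring⟩

theorem c_comm [Finite S] (s : S) : D.x ^ (4 * D.P) * s = s * D.x ^ (4 * D.P) := by
  obtain ⟨i, rfl | rfl⟩ := D.normalForm s
  · rw [← zpow_add, ← zpow_add, add_comm]
  · rw [D.mul_zy, D.zy_mul, D.zy_eq_iff]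
    exact ⟨1 - 2 * D.P, by ring⟩

theorem odd_coprime {t : ℤ} (ht : ¬ 2 ∣ t) : IsCoprime (8 * D.P) t := by
  rw [show (8 : ℤ) * D.P = 2 ^ (D.p + 3) by rw [D.hP]; ring]
  exact IsCoprime.pow_left ((Int.prime_two.irreducible.coprime_iff_not_dvd).mpr ht)

/-- Division by `2 - 4P` on even residues. -/
theorem exists_solve (m : ℤ) : ∃ j : ℤ, 8 * D.P ∣ (2 - 4 * D.P) * j - 2 * m := by
  obtain ⟨a, b, hab⟩ := D.odd_coprime (t := 1 - 2 * D.P) (by omega)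
  exact ⟨b * m, -2 * a * m, by linear_combination (2 * m) * hab⟩

theorem exists_conj_zy [Finite S] {i k : ℤ} (h : 2 ∣ i - k) :
    ∃ s : S, s * (D.x ^ k * D.y) * s⁻¹ = D.x ^ i * D.y := by
  obtain ⟨m, hm⟩ := h
  obtain ⟨j, c, hc⟩ := D.exists_solve m
  refine ⟨D.x ^ j, ?_⟩
  rw [D.conj_zy, D.zy_eq_iff]
  exact ⟨c, by linear_combination hc - hm⟩

/-- The elements commuting with an element outside `⟨x⟩`. -/
theorem commute_zpow_zy_iff {j i : ℤ} :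
    D.x ^ j * (D.x ^ i * D.y) = (D.x ^ i * D.y) * D.x ^ j ↔ 4 * D.P ∣ j := by
  rw [D.mul_zy, D.zy_mul, D.zy_eq_iff]
  have hP := D.P_pos
  constructor
  · intro h
    obtain ⟨a, b, hab⟩ := D.odd_coprime (t := 1 - 2 * D.P) (by omega)
    obtain ⟨c, hc⟩ := h
    have h4 : j * (1 - 2 * D.P) = 4 * D.P * c :=
      mul_left_cancel₀ (two_ne_zero' ℤ) (by linear_combination hc)
    exact ⟨2 * a * j + b * c, by linear_combination (-j) * hab + b * h4⟩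
  · rintro ⟨c, rfl⟩
    exact ⟨(1 - 2 * D.P) * c, by ring⟩

end QDGens

end CfsgLib.TwoFusion
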