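import Cfsg.Agent.Lib.TwoFusion.WRQuatSix

/-!
Statements for the normal form of the hypotheses on wreathed Sylow 2-subgroups.
-/

set_option autoImplicit false

namespace CfsgLib.TwoFusion.WRFusion

open LocalAut FusionTools Subgroup

variable {G : Type*} [Group G] [Finite G]

/-- Normal form for `U` and `V = Q Z(S)`. -/
theorem setup (S : Sylow 2 G) (hS : Cfsg.IsWreathed (S : Subgroup G)) (n : ℕ)
    (hn : Nat.card S = 2 ^ (2 * n + 1)) (U : Subgroup G) (hUS : U ≤ S) (hUab : IsMulCommutative U)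
    (hUcard : Nat.card U = 2 ^ (2 * n)) (Q : Subgroup G) (hQS : Q ≤ S) (eQ : Q ≃* QuaternionGroup 2) :
    ∃ (D : WRGens (S : Subgroup G)) (e : ℤ), n = D.k + 2 ∧ U = baseG D ∧
      Q ⊔ (Subgroup.center (S : Subgroup G)).map (S : Subgroup G).subtype = qzG D e := by
  obtain ⟨D⟩ := exists_wrGens hS
  have h := D.n_eq hn
  subst h
  obtain ⟨e, he⟩ := eq_qzG D hQS eQ
  exact ⟨D, e, rfl, eq_baseG D hUS hUab hUcard, he⟩

variable (S : Sylow 2 G) (D : WRGens (S : Subgroup G))

theorem conj_of_index (e : ℤ)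
    (h₁ : (centralizer (baseG D : Set G)).relIndex (normalizer (baseG D : Set G)) = 2)
    (h₂ : (qzG D e ⊔ centralizer (qzG D e : Set G)).relIndex (normalizer (qzG D e : Set G)) = 6) :
    ¬ IsConj (aG D) (cG D) ∧ IsConj (zG D) (aG D) :=
  ⟨fun h => by have := (base_six_iff S D).mpr h; omega, isConj_of_qz_six S D e h₂⟩

theorem not_conj_of_index (e : ℤ)
    (h₂ : (qzG D e ⊔ centralizer (qzG D e : Set G)).relIndex (normalizer (qzG D e : Set G)) = 2) :
    ¬ IsConj (zG D) (aG D) ∧ ¬ IsConj (zG D) (cG D) := by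
  constructor <;> intro h
  · have := qz_six_of_conj S D e (Or.inl h); omega
  · have := qz_six_of_conj S D e (Or.inr h); omega

theorem classes_one (ha : IsConj (aG D) (cG D)) (hz : IsConj (zG D) (aG D)) :
    Nat.card {C : ConjClasses G // ∃ t : G, orderOf t = 2 ∧ ConjClasses.mk t = C} = 1 :=
  card_classes_one S 1 (cG D) (orderOf_cG D) fun s hs ho => by
    rcases involution_cases D hs ho with rfl | h | h
    · exact IsConj.refl _
    · exact ha.symm.trans h
    · exact (hz.trans ha).symm.trans h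

theorem classes_two_quat (ha : ¬ IsConj (aG D) (cG D)) (hz : IsConj (zG D) (aG D)) :
    Nat.card {C : ConjClasses G // ∃ t : G, orderOf t = 2 ∧ ConjClasses.mk t = C} = 2 :=
  card_classes_two S 1 (cG D) (aG D) (orderOf_cG D) (orderOf_aG D) (fun h => ha h.symm)
    fun s hs ho => by
      rcases involution_cases D hs ho with rfl | h | h
      · exact Or.inl (IsConj.refl _)
      · exact Or.inr h
      · exact Or.inr (hz.symm.trans h)

theorem classes_two_abelian (ha : IsConj (aG D) (cG D)) (hzc : ¬ IsConj (zG D) (cG D)) :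
    Nat.card {C : ConjClasses G // ∃ t : G, orderOf t = 2 ∧ ConjClasses.mk t = C} = 2 :=
  card_classes_two S 1 (cG D) (zG D) (orderOf_cG D) (orderOf_zG D) (fun h => hzc h.symm)
    fun s hs ho => by
      rcases involution_cases D hs ho with rfl | h | h
      · exact Or.inl (IsConj.refl _)
      · exact Or.inl (ha.symm.trans h)
      · exact Or.inr h

theorem classes_three (ha : ¬ IsConj (aG D) (cG D)) (hza : ¬ IsConj (zG D) (aG D))
    (hzc : ¬ IsConj (zG D) (cG D)) :
    Nat.card {C : ConjClasses G // ∃ t : G, orderOf t = 2 ∧ ConjClasses.mk t = C} = 3 :=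
  card_classes_three S 1 (cG D) (aG D) (zG D) (orderOf_cG D) (orderOf_aG D) (orderOf_zG D)
    (fun h => ha h.symm) (fun h => hzc h.symm) (fun h => hza h.symm) fun s hs ho => by
      rcases involution_cases D hs ho with rfl | h | h
      · exact Or.inl (IsConj.refl _)
      · exact Or.inr (Or.inl h)
      · exact Or.inr (Or.inr h)

/-- The odd elements of the normalizer of the base act transitively enough to absorb the base. -/
theorem base_absorb (h₁ : (centralizer (baseG D : Set G)).relIndex (normalizer (baseG D : Set G)) = 6)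
    (L : Subgroup G) (hsq : ∀ s ∈ baseG D, s * s ∈ L)
    (hmul : ∀ s ∈ baseG D, ∀ t ∈ baseG D, s ∉ L → t ∉ L → s * t ∈ L)
    (hodd : ∀ w ∈ normalizer (baseG D : Set G), Odd (orderOf w) →
      ∀ s ∈ baseG D, s ∈ L → w * s * w⁻¹ ∈ L) :
    baseG D ≤ L := by
  rw [relIndex_base_eq S D] at h₁
  obtain ⟨w, hw, -, hall⟩ := exists_odd_fpf _ (card_base_involutions S D) h₁
  have hwo : Odd (orderOf (w : G)) := by rwa [Subgroup.orderOf_coe]
  have key : ∀ s ∈ baseG D, ∀ a b p q : ℤ, s = uG D a b → s ∈ L → ¬ (2 ∣ a ∧ 2 ∣ b) →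
      ¬ (2 ∣ p ∧ 2 ∣ q) → uG D p q ∈ L := by
    intro s hs a b p q hsab hsL hab hpq
    have half : ∀ a b : ℤ, uG D a b * uG D a b ∈ L := fun a b => hsq _ ((mem_baseG D).mpr ⟨a, b, rfl⟩)
    have hpow : ∀ {t : G} {a b : ℤ}, t = uG D a b → t ^ (2 * D.Q) = uG D (2 * D.Q * a) (2 * D.Q * b) :=
      fun {t a b} ht => by
        rw [ht]
        exact (SubgroupClass.coe_zpow _ _).symm.trans (congrArg Subtype.val
          (show D.u a b ^ (2 * D.Q) = D.u (2 * D.Q * a) (2 * D.Q * b) by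
            rw [D.u_zpow, mul_comm a, mul_comm b]))
    have hinv : ∀ {a b : ℤ}, ¬ (2 ∣ a ∧ 2 ∣ b) →
        ∃ h : uG D (2 * D.Q * a) (2 * D.Q * b) ∈ baseG D, (⟨_, h⟩ : baseG D) ≠ 1 ∧
          (⟨_, h⟩ : baseG D) * ⟨_, h⟩ = 1 := fun {a b} hab => by
      refine ⟨(mem_baseG D).mpr ⟨_, _, rfl⟩, fun h => hab ?_,
        Subtype.ext (congrArg Subtype.val (D.u_half_sq a b) :)⟩
      obtain ⟨h1, h2⟩ := D.u_eq_one_iff.mp (Subtype.ext (congrArg Subtype.val h :))
      have hne : 2 * D.Q ≠ 0 := by have := D.Q_pos; omega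
      rw [show 4 * D.Q = 2 * D.Q * 2 by ring] at h1 h2
      exact ⟨Int.dvd_of_mul_dvd_mul_left hne h1, Int.dvd_of_mul_dvd_mul_left hne h2⟩
    obtain ⟨hA, hA'⟩ := hinv hab
    obtain ⟨hP, hP'⟩ := hinv hpq
    -- transport along a power of `w`
    obtain ⟨t, ht, htL, htpow⟩ : ∃ t, t ∈ baseG D ∧ t ∈ L ∧
        t ^ (2 * D.Q) = uG D (2 * D.Q * p) (2 * D.Q * q) := by
      rcases hall ⟨⟨_, hA⟩, hA'⟩ ⟨⟨_, hP⟩, hP'⟩ with h | h | h
      · exact ⟨s, hs, hsL, (hpow hsab).trans
          (congrArg (fun x => ((x : {m : baseG D // _}).1 : G)) h).symm⟩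
      · have h' := congrArg (fun x => ((x : {m : baseG D // _}).1 : G)) h
        simp only [normPerm_apply] at h'
        refine ⟨(w : G) * s * (w : G)⁻¹, (Subgroup.mem_normalizer_iff.mp w.2 _).mp hs,
          hodd _ w.2 hwo _ hs hsL, ?_⟩
        rw [← h', conj_zpow, hpow hsab]
      · have h' := congrArg (fun x => ((x : {m : baseG D // _}).1 : G)) h
        simp only [normPerm_apply] at h'
        refine ⟨(w : G) * ((w : G) * s * (w : G)⁻¹) * (w : G)⁻¹,
          (Subgroup.mem_normalizer_iff.mp w.2 _).mp ((Subgroup.mem_normalizer_iff.mp w.2 _).mp hs),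
          hodd _ w.2 hwo _ ((Subgroup.mem_normalizer_iff.mp w.2 _).mp hs) (hodd _ w.2 hwo _ hs hsL), ?_⟩
        rw [← h', conj_zpow, conj_zpow, hpow hsab]
    obtain ⟨a', b', rfl⟩ := (mem_baseG D).mp ht
    rw [hpow rfl] at htpow
    obtain ⟨h1, h2⟩ := D.u_eq_iff.mp (Subtype.ext htpow)
    have hne : 2 * D.Q ≠ 0 := by have := D.Q_pos; omega
    rw [show 4 * D.Q = 2 * D.Q * 2 by ring, ← mul_sub] at h1 h2
    obtain ⟨i, hi⟩ := Int.dvd_of_mul_dvd_mul_left hne h1
    obtain ⟨j, hj⟩ := Int.dvd_of_mul_dvd_mul_left hne h2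
    have e : uG D p q * (uG D i j * uG D i j) = uG D a' b' := congrArg Subtype.val
      (show D.u p q * (D.u i j * D.u i j) = D.u a' b' by
        rw [D.u_mul, D.u_mul]; congr 1 <;> omega)
    rw [← e] at htL
    exact (Subgroup.mul_mem_cancel_right _ (half i j)).mp htL
  -- some nontrivial class lies in `L`
  have hx : uG D 1 0 ∈ baseG D := (mem_baseG D).mpr ⟨_, _, rfl⟩
  have hy : uG D 0 1 ∈ baseG D := (mem_baseG D).mpr ⟨_, _, rfl⟩
  obtain ⟨a, b, hab, hL⟩ : ∃ a b : ℤ, ¬ (2 ∣ a ∧ 2 ∣ b) ∧ uG D a b ∈ L := by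
    by_cases h1 : uG D 1 0 ∈ L
    · exact ⟨1, 0, fun h => absurd h.1 (by decide), h1⟩
    · by_cases h2 : uG D 0 1 ∈ L
      · exact ⟨0, 1, fun h => absurd h.2 (by decide), h2⟩
      · refine ⟨1 + 0, 0 + 1, fun h => absurd h.1 (by decide), ?_⟩
        rw [show uG D (1 + 0) (0 + 1) = uG D 1 0 * uG D 0 1 from
          congrArg Subtype.val (D.u_mul 1 0 0 1).symm]
        exact hmul _ hx _ hy h1 h2
  intro g hg
  obtain ⟨p, q, rfl⟩ := (mem_baseG D).mp hg
  by_cases hpq : 2 ∣ p ∧ 2 ∣ q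
  · obtain ⟨⟨i, rfl⟩, ⟨j, rfl⟩⟩ := hpq
    rw [show uG D (2 * i) (2 * j) = uG D i j * uG D i j from congrArg Subtype.val
      (show D.u (2 * i) (2 * j) = D.u i j * D.u i j by rw [D.u_mul, two_mul, two_mul])]
    exact hsq _ ((mem_baseG D).mpr ⟨_, _, rfl⟩)
  · exact key _ ((mem_baseG D).mpr ⟨a, b, rfl⟩) a b p q rfl hL hab hpq

theorem sylow_le_of_base {M : Subgroup G} (hU : baseG D ≤ M) (hz : zG D ∈ M) :
    (S : Subgroup G) ≤ M := by
  intro s hs
  obtain ⟨a, b, h | h⟩ := D.normalForm ⟨s, hs⟩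
  · rw [show s = uG D a b from congrArg Subtype.val h]
    exact hU ((mem_baseG D).mpr ⟨_, _, rfl⟩)
  · rw [show s = uG D a b * zG D from congrArg Subtype.val (h.trans
      (show D.u a b * D.z = D.u a b * (D.u 0 0 * D.z) by rw [D.u_zero, one_mul]))]
    exact mul_mem (hU ((mem_baseG D).mpr ⟨_, _, rfl⟩)) hz

theorem no_index_two
    (h₁ : (centralizer (baseG D : Set G)).relIndex (normalizer (baseG D : Set G)) = 6)
    (hz : IsConj (zG D) (aG D)) (M : Subgroup G) : M.index ≠ 2 := fun hM => by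
  have hU : baseG D ≤ M := base_absorb S D h₁ M (fun s _ => sq_mem_of_index_two hM s)
    (fun s _ t _ hs ht => by rw [Subgroup.mul_mem_iff_of_index_two hM]; exact iff_of_false hs ht)
    fun w _ _ s _ hsM => (conj_mem_iff_of_index_two hM w s).mpr hsM
  obtain ⟨g, hg⟩ := isConj_iff.mp hz
  refine eq_top_of_sylow_le S (sylow_le_of_base S D hU ?_) hM
  rw [← conj_mem_iff_of_index_two hM g, hg]
  exact hU ((mem_baseG D).mpr ⟨_, _, rfl⟩)

/-- A normal subgroup of index 2 meeting `S` in the base. -/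
theorem exists_avoid_z (hza : ¬ IsConj (zG D) (aG D)) (hzc : ¬ IsConj (zG D) (cG D)) :
    ∃ M : Subgroup G, M.Normal ∧ M.index = 2 ∧ zG D ∉ M := by
  refine exists_index_two_of_parity (S : Subgroup G) (baseG D) (sylow_index_odd S)
    (relIndex_baseG D) (zG D) fun k g hk => ?_
  obtain ⟨m, rfl | rfl⟩ := Nat.even_or_odd' k
  · refine iff_of_true ?_ (even_two_mul m)
    rw [pow_mul, pow_two, zG_sq, one_pow, mul_one, inv_mul_cancel]
    exact one_mem _
  · rw [pow_succ, pow_mul, pow_two, zG_sq, one_pow, one_mul] at hk ⊢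
    refine iff_of_false (fun hmem => ?_) (by simp [parity_simps])
    have hconj : IsConj (zG D) (g⁻¹ * zG D * g) := isConj_iff.mpr ⟨g⁻¹, by rw [inv_inv]⟩
    have h1 : g⁻¹ * zG D * g ≠ 1 := fun h => by
      have e : zG D = g * (g⁻¹ * zG D * g) * g⁻¹ := by group
      have ho := orderOf_zG D
      rw [e, h, mul_one, mul_inv_cancel, orderOf_one] at ho
      omega
    have h2 : g⁻¹ * zG D * g * (g⁻¹ * zG D * g) = 1 := by
      rw [show g⁻¹ * zG D * g * (g⁻¹ * zG D * g) = g⁻¹ * (zG D * zG D) * g by group, zG_sq]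
      group
    rcases base_involution_cases D hmem h1 h2 with h | h | h <;> rw [h] at hconj
    · exact hzc hconj
    · exact hza hconj
    · exact hza (hconj.trans (isConj_left_right D).symm)

/-- The case of a normal subgroup of index 2 containing the base. -/
theorem abelian_case
    (h₁ : (centralizer (baseG D : Set G)).relIndex (normalizer (baseG D : Set G)) = 6)
    (hza : ¬ IsConj (zG D) (aG D)) (hzc : ¬ IsConj (zG D) (cG D)) :
    ∃ K : Subgroup G, K.Normal ∧ K.index = 2 ∧ baseG D ≤ K ∧ ∀ H : Subgroup ↥K, H.index ≠ 2 := by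
  obtain ⟨K, hKn, hK, hzK⟩ := exists_avoid_z S D hza hzc
  have hU : baseG D ≤ K := base_absorb S D h₁ K (fun s _ => sq_mem_of_index_two hK s)
    (fun s _ t _ hs ht => by rw [Subgroup.mul_mem_iff_of_index_two hK]; exact iff_of_false hs ht)
    fun w _ _ s _ hsM => (conj_mem_iff_of_index_two hK w s).mpr hsM
  refine ⟨K, hKn, hK, hU, fun H hH => ?_⟩
  have hUH : baseG D ≤ H.map K.subtype := by
    refine base_absorb S D h₁ _ (fun s hs => ⟨⟨s, hU hs⟩ * ⟨s, hU hs⟩, sq_mem_of_index_two hH _, rfl⟩) ?_ ?_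
    · intro s hs t ht hsL htL
      refine ⟨⟨s, hU hs⟩ * ⟨t, hU ht⟩, ?_, rfl⟩
      rw [SetLike.mem_coe, Subgroup.mul_mem_iff_of_index_two hH]
      exact iff_of_false (fun h => hsL ⟨_, h, rfl⟩) (fun h => htL ⟨_, h, rfl⟩)
    · rintro w - hw _ - ⟨x, hx, rfl⟩
      have hwK : w ∈ K := mem_normal_of_odd (k := 1) (by rw [hK]; rfl) hw
      exact ⟨⟨w, hwK⟩ * x * ⟨w, hwK⟩⁻¹, (conj_mem_iff_of_index_two hH _ _).mpr hx, rfl⟩
  have heq : (S : Subgroup G) ⊓ K = baseG D := by
    refine le_antisymm (fun s hs => ?_) (le_inf (baseG_le D) hU)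
    obtain ⟨hsS, hsK⟩ := Subgroup.mem_inf.mp hs
    obtain ⟨a, b, h | h⟩ := D.normalForm ⟨s, hsS⟩
    · exact (mem_baseG D).mpr ⟨a, b, congrArg Subtype.val h⟩
    · exfalso
      rw [show s = uG D a b * zG D from congrArg Subtype.val (h.trans
        (show D.u a b * D.z = D.u a b * (D.u 0 0 * D.z) by rw [D.u_zero, one_mul]))] at hsK
      exact hzK ((Subgroup.mul_mem_cancel_left _ (hU ((mem_baseG D).mpr ⟨_, _, rfl⟩))).mp hsK)
  have hodd := odd_relIndex_inf (S : Subgroup G) K (sylow_index_odd S)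
  rw [heq] at hodd
  have hle : (baseG D).subgroupOf K ≤ H := fun x hx => by
    obtain ⟨y, hy, hyx⟩ := hUH hx
    exact (Subtype.ext hyx : y = x) ▸ hy
  have := Subgroup.index_dvd_of_le hle
  rw [hH] at this
  exact (Nat.not_even_iff_odd.mpr hodd) (even_iff_two_dvd.mpr this)

end CfsgLib.TwoFusion.WRFusion
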