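import Cfsg.Agent.Lib.TwoFusion.WRTransfer

/-!
The normal subgroup with quaternion Sylow 2-subgroups in groups with wreathed Sylow 2-subgroups.
-/

set_option autoImplicit false

namespace CfsgLib.TwoFusion.WRFusion

open LocalAut FusionTools Subgroup

variable {G : Type*} [Group G] [Finite G] (S : Sylow 2 G) (D : WRGens (S : Subgroup G))

theorem quat_absorb (K : Subgroup G) [K.Normal] {j : ℕ} (hK : K.index = 2 ^ j)
    (huK : ∀ a b : ℤ, uG D a b ∈ K ↔ 4 * D.Q ∣ a + b)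
    (hwK : ∀ a b : ℤ, wG D a b ∈ K ↔ 4 * D.Q ∣ a + b + 2 * D.Q)
    (hz : IsConj (zG D) (aG D)) (H : Subgroup K) (hH : H.index = 2) (p : ℤ) :
    cG D ∈ H.map K.subtype ∧ wG D p (2 * D.Q - p) ∈ H.map K.subtype := by
  set e := p - D.Q with he
  obtain ⟨iV, vV, cV, hi, hv, r, hiv, hvv, hcv, hd, hcard, hrel, -⟩ := qz_data S D e
  obtain ⟨w, hwodd, -, hall⟩ := exists_odd_fpf _ hcard (hrel ▸ qz_six_of_conj S D e (Or.inl hz))
  have hwK' : (w : G) ∈ K := mem_normal_of_odd hK (by rw [Subgroup.orderOf_coe]; exact hwodd)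
  set L := H.map K.subtype with hL
  have hLK : L ≤ K := map_subtype_le _
  have hiK : (iV : G) ∈ K := by rw [hiv, huK]; simp
  have hcL : cG D ∈ L := by
    refine ⟨⟨(iV : G), hiK⟩ * ⟨(iV : G), hiK⟩, sq_mem_of_index_two hH _, ?_⟩
    show (iV : G) * (iV : G) = cG D
    rw [hiv]
    exact congrArg Subtype.val (show D.u D.Q (-D.Q) * D.u D.Q (-D.Q) = D.c by
      rw [D.u_mul, WRGens.c, D.u_eq_iff]; exact ⟨⟨0, by ring⟩, ⟨-1, by ring⟩⟩)
  refine ⟨hcL, ?_⟩
  have hcen : ∀ x : qzG D e, x ∈ center (qzG D e) → (x : G) ∈ K → (x : G) ∈ L := by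
    intro x hx hxK
    obtain ⟨d, hd'⟩ := center_qzG D hx
    rw [hd', huK] at hxK
    rw [hd']
    by_cases h1 : uG D d d = 1
    · rw [h1]; exact one_mem L
    · have h2 : D.u d d = D.c := by
        refine D.diag_involution_eq_c (by rw [sub_self]; exact dvd_zero _) ?_
          (fun h => h1 (congrArg Subtype.val h))
        rw [pow_two, D.u_mul, D.u_eq_one_iff]
        exact ⟨hxK, hxK⟩
      rw [show uG D d d = cG D from congrArg Subtype.val h2]
      exact hcL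
  have hclass : ∀ m m' : qzG D e, (m : qzG D e ⧸ center (qzG D e)) = (m' : qzG D e ⧸ center (qzG D e)) →
      (m : G) ∈ L → (m' : G) ∈ K → (m' : G) ∈ L := by
    intro m m' hmm hm hm'
    have h := hcen _ (QuotientGroup.eq.mp hmm)
      (by rw [Subgroup.coe_mul, Subgroup.coe_inv]; exact mul_mem (inv_mem (hLK hm)) hm')
    rw [Subgroup.coe_mul, Subgroup.coe_inv] at h
    have := mul_mem hm h
    rwa [mul_inv_cancel_left] at this
  have hσ : ∀ m : qzG D e, (m : G) ∈ L → ((qzG D e).normalizerMonoidHom w m : G) ∈ L := by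
    rintro m ⟨x, hx, hxm⟩
    rw [coe_normalizerMonoidHom, ← hxm]
    exact ⟨⟨w, hwK'⟩ * x * ⟨w, hwK'⟩⁻¹, (conj_mem_iff_of_index_two hH _ _).mpr hx, rfl⟩
  have hmove : ∀ (m m' : qzG D e) (hm : (m : qzG D e ⧸ center (qzG D e)) ≠ 1)
      (hm' : (m' : qzG D e ⧸ center (qzG D e)) ≠ 1),
      (m : G) ∈ L → (m' : G) ∈ K → (m' : G) ∈ L := by
    intro m m' hm hm' hmL hm'K
    rcases hall ⟨m, hm⟩ ⟨m', hm'⟩ with h | h | h
    · exact hclass m m' (congrArg Subtype.val h).symm hmL hm'K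
    · exact hclass _ m' ((quotPerm_apply _ w m hm).symm.trans (congrArg Subtype.val h)) (hσ _ hmL) hm'K
    · refine hclass ((qzG D e).normalizerMonoidHom w ((qzG D e).normalizerMonoidHom w m)) m' ?_
        (hσ _ (hσ _ hmL)) hm'K
      exact congrArg Subtype.val h
  -- the element `w` of the class of `v`
  let xV : qzG D e := ⟨wG D p (2 * D.Q - p), w_mem_qzG D ⟨0, by rw [he]; ring⟩⟩
  have hxv : (vV : qzG D e ⧸ center (qzG D e)) = (xV : qzG D e ⧸ center (qzG D e)) := by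
    rw [QuotientGroup.eq]
    have h : (vV⁻¹ * xV : qzG D e) = ⟨uG D D.Q D.Q, u_mem_qzG D ⟨0, by ring⟩⟩ := by
      apply Subtype.ext
      rw [Subgroup.coe_mul, Subgroup.coe_inv, hvv]
      exact congrArg Subtype.val (show (D.u e (-e) * D.z)⁻¹ * (D.u p (2 * D.Q - p) * D.z) = D.u D.Q D.Q by
        rw [D.uz_inv, D.uz_mul_uz, D.u_eq_iff]
        exact ⟨⟨0, by rw [he]; ring⟩, ⟨0, by rw [he]; ring⟩⟩)
    rw [h]
    exact diag_mem_center D _
  have hxK : (xV : G) ∈ K := (hwK _ _).mpr ⟨1, by ring⟩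
  have hx1 : (xV : qzG D e ⧸ center (qzG D e)) ≠ 1 := hxv ▸ hv
  have hix : ((iV * xV : qzG D e) : qzG D e ⧸ center (qzG D e)) ≠ 1 := by
    intro h
    rw [QuotientGroup.eq_one_iff] at h
    obtain ⟨d, hd'⟩ := center_qzG D h
    rw [Subgroup.coe_mul, hiv] at hd'
    have h2 : D.u D.Q (-D.Q) * (D.u p (2 * D.Q - p) * D.z) = D.u d d := Subtype.ext hd'
    rw [D.u_mul_uz] at h2
    exact D.u_ne_uz _ _ _ _ h2.symm
  show (xV : G) ∈ L
  by_contra hxL
  have hiL : (iV : G) ∉ L := fun h => hxL (hmove iV xV hi hx1 h hxK)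
  have hix' : ((iV * xV : qzG D e) : G) ∈ L := by
    refine ⟨⟨(iV : G), hiK⟩ * ⟨(xV : G), hxK⟩, ?_, rfl⟩
    rw [SetLike.mem_coe, Subgroup.mul_mem_iff_of_index_two hH]
    exact iff_of_false (fun h => hiL ⟨_, h, rfl⟩) (fun h => hxL ⟨_, h, rfl⟩)
  exact hxL (hmove _ xV hix hx1 hix' hxK)

theorem quaternion_case (hac : ¬ IsConj (aG D) (cG D)) (hz : IsConj (zG D) (aG D)) :
    ∃ K : Subgroup G, K.Normal ∧ K.index = 2 ^ (D.k + 2) ∧
      (∀ P : Sylow 2 ↥K, ∃ m : ℕ, 1 ≤ m ∧ Nonempty ((P : Subgroup ↥K) ≃* QuaternionGroup (2 ^ m))) ∧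
      (∀ H : Subgroup ↥K, H.index ≠ 2) := by
  obtain ⟨f, hsurj, hfu, hfp⟩ := exists_hom S D hac
  have hfz : f (zG D) = f (uG D 1 0) ^ (2 * D.Q) := by
    obtain ⟨g, hg⟩ := isConj_iff.mp hz
    have h := congrArg f hg
    rw [map_mul, map_mul, map_inv, mul_comm (f g), mul_inv_cancel_right] at h
    rw [h, hfu, add_zero]
  have huK : ∀ a b : ℤ, uG D a b ∈ f.ker ↔ 4 * D.Q ∣ a + b := fun a b => by
    rw [MonoidHom.mem_ker, hfu, hfp]
  have hwK : ∀ a b : ℤ, wG D a b ∈ f.ker ↔ 4 * D.Q ∣ a + b + 2 * D.Q := fun a b => by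
    rw [show wG D a b = uG D a b * zG D from congrArg Subtype.val
      (show D.u a b * D.z = D.u a b * (D.u 0 0 * D.z) by rw [D.u_zero, one_mul]),
      MonoidHom.mem_ker, map_mul, hfu, hfz, ← zpow_add, hfp]
  have hidx : f.ker.index = 2 ^ (D.k + 2) := index_ker_hom S D f hsurj
  have heq : (S : Subgroup G) ⊓ f.ker = D.quatSub.map (S : Subgroup G).subtype := by
    apply le_antisymm
    · intro g hg
      obtain ⟨hgS, hgK⟩ := Subgroup.mem_inf.mp hg
      obtain ⟨a, b, h | h⟩ := D.normalForm ⟨g, hgS⟩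
      · refine ⟨D.u a b, D.antidiag_mem_quatSub ?_, (congrArg Subtype.val h).symm⟩
        rw [← huK, ← show g = uG D a b from congrArg Subtype.val h]; exact hgK
      · refine ⟨D.u a b * D.z, D.uz_mem_quatSub ?_, (congrArg Subtype.val h).symm⟩
        rw [show g = wG D a b from congrArg Subtype.val h, hwK] at hgK
        obtain ⟨t, ht⟩ := hgK
        exact ⟨t - 1, by linear_combination ht⟩
    · rintro _ ⟨s, hs, rfl⟩
      refine Subgroup.mem_inf.mpr ⟨s.2, ?_⟩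
      obtain ⟨i, rfl | rfl⟩ := D.mem_quatSub.mp hs
      · rw [D.u_zpow]
        exact (huK _ _).mpr ⟨0, by ring⟩
      · rw [D.u_zpow, D.uz_mul_u]
        exact (hwK _ _).mpr ⟨1, by ring⟩
  refine ⟨f.ker, inferInstance, hidx, fun P => ?_, fun H hH => ?_⟩
  · have hR : IsPGroup 2 ((S : Subgroup G) ⊓ f.ker : Subgroup G) := S.isPGroup'.to_le inf_le_left
    obtain ⟨e⟩ := sylow_mulEquiv_of_odd f.ker _ hR inf_le_right
      (odd_relIndex_inf _ _ (sylow_index_odd S)) P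
    refine ⟨D.k + 1, Nat.le_add_left 1 _, ⟨e.trans ((MulEquiv.subgroupCongr heq).trans ?_)⟩⟩
    exact (Subgroup.equivMapOfInjective _ _ (S : Subgroup G).subtype_injective).symm.trans
      D.quatSub_mulEquiv.some
  · set L := H.map f.ker.subtype with hL
    have key := quat_absorb S D f.ker hidx huK hwK hz H hH
    have hle : (S : Subgroup G) ⊓ f.ker ≤ L := by
      rw [heq]
      rintro _ ⟨s, hs, rfl⟩
      have hanti : uG D 1 (-1) ∈ L := by
        have h := mul_mem (mul_mem (key (2 * D.Q + 1)).2 (key (2 * D.Q)).2) (key 0).1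
        rwa [show wG D (2 * D.Q + 1) (2 * D.Q - (2 * D.Q + 1)) * wG D (2 * D.Q) (2 * D.Q - 2 * D.Q) * cG D =
          uG D 1 (-1) from congrArg Subtype.val (show D.u (2 * D.Q + 1) (2 * D.Q - (2 * D.Q + 1)) * D.z *
            (D.u (2 * D.Q) (2 * D.Q - 2 * D.Q) * D.z) * D.c = D.u 1 (-1) by
              rw [D.uz_mul_uz, WRGens.c, D.u_mul, D.u_eq_iff]
              exact ⟨⟨1, by ring⟩, ⟨1, by ring⟩⟩)] at h
      have hw : wG D (2 * D.Q) 0 ∈ L := by
        have := (key (2 * D.Q)).2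
        rwa [sub_self] at this
      obtain ⟨i, rfl | rfl⟩ := D.mem_quatSub.mp hs
      · show ((D.u 1 (-1) ^ i : (S : Subgroup G)) : G) ∈ L
        rw [SubgroupClass.coe_zpow]; exact zpow_mem hanti i
      · show ((D.u (2 * D.Q) 0 * D.z * D.u 1 (-1) ^ i : (S : Subgroup G)) : G) ∈ L
        rw [Subgroup.coe_mul, SubgroupClass.coe_zpow]; exact mul_mem hw (zpow_mem hanti i)
    have hodd := odd_relIndex_inf (S : Subgroup G) f.ker (sylow_index_odd S)
    have hle' : ((S : Subgroup G) ⊓ f.ker).subgroupOf f.ker ≤ H := fun x hx => by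
      obtain ⟨y, hy, hyx⟩ := hle hx
      exact (Subtype.ext hyx : y = x) ▸ hy
    have := Subgroup.index_dvd_of_le hle'
    rw [hH] at this
    exact (Nat.not_even_iff_odd.mpr hodd) (even_iff_two_dvd.mpr this)

end CfsgLib.TwoFusion.WRFusion
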