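import Cfsg.Agent.Lib.TwoFusion.WRTheorems

/-!
Weak closure of the subgroups of the centre of a wreathed Sylow 2-subgroup.
-/

set_option autoImplicit false

namespace CfsgLib.TwoFusion.WRFusion

open LocalAut FusionTools Subgroup

variable {G : Type*} [Group G] [Finite G]

/-- An element of the base whose centralizer contains a Sylow 2-subgroup is central. -/
theorem base_central (S : Sylow 2 G) (D : WRGens (S : Subgroup G)) (hac : ¬ IsConj (aG D) (cG D))
    {t : G} (ht : t ∈ baseG D) (g : G)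
    (hg : ∀ s ∈ (S : Subgroup G), g * s * g⁻¹ ∈ centralizer ({t} : Set G)) :
    t ∈ centerG (S := (S : Subgroup G)) := by
  obtain ⟨S', hUS', hS'⟩ := exists_sylow_between S (centralizer ({t} : Set G)) (baseG D)
    (isPGroup_baseG S D)
    (fun u hu => Subgroup.mem_centralizer_singleton_iff.mpr (baseG_comm D hu ht)) g⁻¹
    (fun s hs => by rw [inv_inv]; exact hg s hs)
  obtain ⟨D', hk, -⟩ := exists_gens_of_sylow S S' D
  have hbase : baseG D = baseG D' := eq_baseG D' hUS'
    ⟨⟨fun p q => Subtype.ext (baseG_comm D p.2 q.2)⟩⟩ (by rw [card_baseG, hk])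
  have h2 : ((centralizer (baseG D : Set G)).subgroupOf (normalizer (baseG D : Set G))).index = 2 :=
    (base_index S D).resolve_right fun h => hac ((base_six_iff S D).mp h)
  have hz : zG D ∈ normalizer (baseG D : Set G) := le_normalizer_baseG D (D.u 0 0 * D.z).2
  have hz' : zG D' ∈ normalizer (baseG D : Set G) := by
    rw [hbase]; exact le_normalizer_baseG D' (D'.u 0 0 * D'.z).2
  have hnot : ∀ {T : Sylow 2 G} (E : WRGens (T : Subgroup G)), baseG D = baseG E →
      zG E ∉ centralizer (baseG D : Set G) := by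
    intro T E hE h
    have h1 := Subgroup.mem_centralizer_iff.mp h (aG E)
      (hE ▸ (mem_baseG E).mpr ⟨_, _, rfl⟩)
    have h3 := E.u_commute_uz_iff.mp (Subtype.ext h1)
    exact E.not_dvd_two_Q (by simpa using h3)
  have hprod : (⟨zG D', hz'⟩ * ⟨zG D, hz⟩ : normalizer (baseG D : Set G)) ∈
      (centralizer (baseG D : Set G)).subgroupOf (normalizer (baseG D : Set G)) := by
    rw [Subgroup.mul_mem_iff_of_index_two h2]
    exact iff_of_false (fun h => hnot D' hbase h) (fun h => hnot D rfl h)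
  have h3 : t * (zG D' * zG D) = zG D' * zG D * t :=
    Subgroup.mem_centralizer_iff.mp hprod t ht
  have h4 : t * zG D' = zG D' * t :=
    (Subgroup.mem_centralizer_singleton_iff.mp (hS' (D'.u 0 0 * D'.z).2)).symm
  have h5 : t * zG D = zG D * t := by
    rw [← mul_assoc, h4, mul_assoc, mul_assoc] at h3
    exact mul_left_cancel h3
  obtain ⟨a, b, rfl⟩ := (mem_baseG D).mp ht
  exact ⟨_, D.mem_center_iff_diag.mpr (D.u_commute_uz_iff.mp (Subtype.ext h5)), rfl⟩

/-- Elements of `S` conjugate to central elements of `S` are central. -/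
theorem central_of_conj (S : Sylow 2 G) (D : WRGens (S : Subgroup G)) (hac : ¬ IsConj (aG D) (cG D))
    {ζ₀ t : G} (hζ₀ : ζ₀ ∈ centerG (S := (S : Subgroup G))) (g : G) (hgt : g * ζ₀ * g⁻¹ = t)
    (htS : t ∈ (S : Subgroup G)) : t ∈ centerG (S := (S : Subgroup G)) := by
  obtain ⟨hζ₀S, hζ₀c⟩ := mem_centerG.mp hζ₀
  have hgC : ∀ s ∈ (S : Subgroup G), g * s * g⁻¹ ∈ centralizer ({t} : Set G) := fun s hs => by
    rw [Subgroup.mem_centralizer_singleton_iff, ← hgt]
    calc g * s * g⁻¹ * (g * ζ₀ * g⁻¹) = g * (s * ζ₀) * g⁻¹ := by group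
      _ = _ := by rw [hζ₀c s hs]; group
  obtain ⟨p, q, hpq | hpq⟩ := D.normalForm ⟨t, htS⟩
  · exact base_central S D hac ((mem_baseG D).mpr ⟨p, q, congrArg Subtype.val hpq⟩) g hgC
  exfalso
  obtain rfl : t = wG D p q := congrArg Subtype.val hpq
  set ζ := uG D 1 1 with hζdef
  have hζpow : ∀ j : ℤ, ζ ^ j = uG D j j := fun j => (SubgroupClass.coe_zpow _ _).symm.trans
    (congrArg Subtype.val (show D.u 1 1 ^ j = D.u j j by rw [D.u_zpow, one_mul]))
  have hζZ : ζ ∈ centerG (S := (S : Subgroup G)) := centerG_eq D ▸ mem_zpowers _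
  obtain ⟨-, hζc⟩ := mem_centerG.mp hζZ
  -- the exponent sum is even
  have hs : 2 ∣ p + q := by
    have h1 : ζ₀ ^ (4 * D.Q) = 1 := by
      obtain ⟨j, rfl⟩ : ∃ j : ℤ, ζ ^ j = ζ₀ := Subgroup.mem_zpowers_iff.mp (centerG_eq D ▸ hζ₀)
      rw [← zpow_mul, hζpow]
      exact congrArg Subtype.val (D.u_eq_one_iff.mpr ⟨⟨j, by ring⟩, ⟨j, by ring⟩⟩)
    have h2 : wG D p q ^ (4 * D.Q) = 1 := by rw [← hgt, conj_zpow, h1]; group
    have h3 : (D.u p q * D.z) ^ (4 * D.Q) = D.u (2 * D.Q * (p + q)) (2 * D.Q * (p + q)) := by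
      rw [show 4 * D.Q = ((2 : ℕ) : ℤ) * (2 * D.Q) by push_cast; ring, zpow_mul, zpow_natCast, D.uz_sq,
        D.u_zpow, mul_comm (p + q)]
    obtain ⟨h4, -⟩ := D.u_eq_one_iff.mp (h3.symm.trans (Subtype.ext ((SubgroupClass.coe_zpow _ _).trans h2)))
    rw [show 4 * D.Q = 2 * D.Q * 2 by ring] at h4
    exact Int.dvd_of_mul_dvd_mul_left (by have := D.Q_pos; omega) h4
  obtain ⟨r, hr⟩ := hs
  set e := p - r with he
  set v := wG D e (-e) with hvdef
  have hv2 : v * v = 1 := congrArg Subtype.val
    (show D.u e (-e) * D.z * (D.u e (-e) * D.z) = 1 by rw [← pow_two, D.uz_sq, add_neg_cancel, D.u_zero])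
  have htv : wG D p q = v * ζ ^ r := by
    rw [hζpow, hvdef]
    exact congrArg Subtype.val (show D.u p q * D.z = D.u e (-e) * D.z * D.u r r by
      rw [D.uz_mul_u]; congr 2 <;> omega)
  have hvζ : v * ζ = ζ * v := hζc v (D.u e (-e) * D.z).2
  set A := Subgroup.closure {v, ζ} with hA
  have hvA : v ∈ A := Subgroup.subset_closure (Or.inl rfl)
  have hζA : ζ ∈ A := Subgroup.subset_closure (Or.inr rfl)
  have htA : wG D p q ∈ A := htv ▸ mul_mem hvA (zpow_mem hζA r)
  have hcζ : cG D = ζ ^ (2 * D.Q) := (hζpow _).symm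
  have hcA : cG D ∈ A := hcζ ▸ zpow_mem hζA _
  have hAforms : ∀ a ∈ A, ∃ j : ℤ, a = ζ ^ j ∨ a = v * ζ ^ j := by
    have hcomm : ∀ j : ℤ, ζ ^ j * v = v * ζ ^ j := fun j => ((show Commute v ζ from hvζ).zpow_right j).symm.eq
    intro a ha
    induction ha using Subgroup.closure_induction with
    | mem x hx =>
      rcases hx with rfl | rfl
      · exact ⟨0, Or.inr (by rw [zpow_zero, mul_one])⟩
      · exact ⟨1, Or.inl (zpow_one _).symm⟩
    | one => exact ⟨0, Or.inl (zpow_zero _).symm⟩
    | mul x y _ _ hx hy =>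
      obtain ⟨i, rfl | rfl⟩ := hx <;> obtain ⟨j, rfl | rfl⟩ := hy
      · exact ⟨i + j, Or.inl (zpow_add _ _ _).symm⟩
      · exact ⟨i + j, Or.inr (by rw [← mul_assoc, hcomm, mul_assoc, ← zpow_add])⟩
      · exact ⟨i + j, Or.inr (by rw [mul_assoc, ← zpow_add])⟩
      · refine ⟨i + j, Or.inl ?_⟩
        rw [mul_assoc v, ← mul_assoc (ζ ^ i), hcomm, mul_assoc v, ← mul_assoc, hv2, one_mul, ← zpow_add]
    | inv x _ hx =>
      obtain ⟨i, rfl | rfl⟩ := hx
      · exact ⟨-i, Or.inl (zpow_neg _ _).symm⟩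
      · exact ⟨-i, Or.inr (by rw [mul_inv_rev, inv_eq_of_mul_eq_one_right hv2, ← zpow_neg, hcomm])⟩
  have hAcomm : ∀ a ∈ A, ∀ b ∈ A, a * b = b * a := by
    intro a ha b hb
    have hc : Commute v ζ := hvζ
    obtain ⟨i, rfl | rfl⟩ := hAforms a ha <;> obtain ⟨j, rfl | rfl⟩ := hAforms b hb
    · exact Commute.zpow_zpow (Commute.refl ζ) i j
    · exact ((hc.symm.zpow_left i).mul_right (Commute.zpow_zpow (Commute.refl ζ) i j)).eq
    · exact ((hc.zpow_right j).mul_left (Commute.zpow_zpow (Commute.refl ζ) i j)).eq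
    · exact (((Commute.refl v).mul_right (hc.zpow_right j)).mul_left
        ((hc.symm.zpow_left i).mul_right (Commute.zpow_zpow (Commute.refl ζ) i j))).eq
  have hA2 : IsPGroup 2 A := S.isPGroup'.to_le (by
    rw [hA, Subgroup.closure_le]
    rintro x (rfl | rfl)
    exacts [(D.u e (-e) * D.z).2, (D.u 1 1).2])
  -- a Sylow subgroup centralising `t`
  obtain ⟨S', hAS', hS'⟩ := exists_sylow_between S (centralizer ({wG D p q} : Set G)) A hA2
    (fun a ha => Subgroup.mem_centralizer_singleton_iff.mpr (hAcomm a ha _ htA)) g⁻¹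
    (fun s hs => by rw [inv_inv]; exact hgC s hs)
  obtain ⟨D', hk, hQ⟩ := exists_gens_of_sylow S S' D
  have htnot : wG D p q ∉ centerG (S := (S : Subgroup G)) := by
    rw [centerG_eq D]
    intro h
    obtain ⟨j, hj⟩ := Subgroup.mem_zpowers_iff.mp h
    rw [hζpow] at hj
    exact D.u_ne_uz _ _ _ _ (Subtype.ext hj)
  obtain ⟨a, b, hab | hab⟩ := D'.normalForm ⟨ζ, hAS' hζA⟩
  · -- `ζ` in the base of `S'`
    have hζb : ζ ∈ baseG D' := (mem_baseG D').mpr ⟨a, b, congrArg Subtype.val hab⟩
    obtain ⟨h, hh⟩ := MulAction.exists_smul_eq G S' S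
    have hζ' : ζ ∈ centerG (S := (S' : Subgroup G)) :=
      base_central S' D' (not_isConj_transfer S S' D D' hac) hζb h (fun s hs => by
        rw [Subgroup.mem_centralizer_singleton_iff]
        have hm : h * s * h⁻¹ ∈ (S : Subgroup G) := by
          rw [← hh, Sylow.coe_subgroup_smul]
          exact Subgroup.smul_mem_pointwise_smul s (MulAut.conj h) _ hs
        exact hζc _ hm)
    have heq : centerG (S := (S : Subgroup G)) = centerG (S := (S' : Subgroup G)) :=
      Subgroup.eq_of_le_of_card_ge (by rw [centerG_eq D, zpowers_le]; exact hζ')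
        (by rw [card_centerG D, card_centerG D', hk])
    exact htnot (heq ▸ mem_centerG.mpr ⟨hAS' htA,
      fun s hs => Subgroup.mem_centralizer_singleton_iff.mp (hS' hs)⟩)
  · have hab' : ζ = wG D' a b := congrArg Subtype.val hab
    have hcc : cG D = cG D' := by
      have hp : (⟨ζ, hAS' hζA⟩ : (S' : Subgroup G)) ^ (2 * D.Q) =
          D'.u ((a + b) * D.Q) ((a + b) * D.Q) := by
        rw [hab, zpow_mul, show (2 : ℤ) = ((2 : ℕ) : ℤ) from rfl, zpow_natCast, D'.uz_sq, D'.u_zpow]
      have hu : uG D' ((a + b) * D.Q) ((a + b) * D.Q) = cG D :=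
        (congrArg Subtype.val hp).symm.trans (by rw [SubgroupClass.coe_zpow, hcζ])
      rw [← hu]
      refine congrArg Subtype.val (D'.diag_involution_eq_c (by rw [sub_self]; exact dvd_zero _)
        (Subtype.ext ?_) fun h1 => cG_ne_one D (hu.symm.trans (congrArg Subtype.val h1)))
      rw [pow_two, Subgroup.coe_mul]
      show uG D' _ _ * uG D' _ _ = 1
      rw [hu, cG_sq]
    set i' := uG D' D'.Q (-D'.Q) with hi'
    have hi'conj : ∀ (n : ℤ), ∀ x ∈ (S' : Subgroup G),
        i' ^ n * x * (i' ^ n)⁻¹ = x ∨ i' ^ n * x * (i' ^ n)⁻¹ = x * cG D := by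
      intro n x hx
      rw [hcc, show i' ^ n = uG D' (D'.Q * n) (-D'.Q * n) from (SubgroupClass.coe_zpow _ _).symm.trans
        (congrArg Subtype.val (show D'.u D'.Q (-D'.Q) ^ n = _ from D'.u_zpow _ _ _))]
      obtain ⟨c, d, h | h⟩ := D'.normalForm ⟨x, hx⟩
      · refine Or.inl ?_
        rw [show x = uG D' c d from congrArg Subtype.val h,
          baseG_comm D' ((mem_baseG D').mpr ⟨_, _, rfl⟩) ((mem_baseG D').mpr ⟨c, d, rfl⟩),
          mul_inv_cancel_right]
      · rw [show x = wG D' c d from congrArg Subtype.val h]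
        obtain ⟨m, rfl | rfl⟩ := Int.even_or_odd' n
        · refine Or.inl (congrArg Subtype.val (show D'.u (D'.Q * (2 * m)) (-D'.Q * (2 * m)) *
            (D'.u c d * D'.z) * (D'.u (D'.Q * (2 * m)) (-D'.Q * (2 * m)))⁻¹ = D'.u c d * D'.z by
            rw [D'.conj_uz, D'.uz_eq_iff]; exact ⟨⟨m, by ring⟩, ⟨-m, by ring⟩⟩))
        · refine Or.inr (congrArg Subtype.val (show D'.u (D'.Q * (2 * m + 1)) (-D'.Q * (2 * m + 1)) *
            (D'.u c d * D'.z) * (D'.u (D'.Q * (2 * m + 1)) (-D'.Q * (2 * m + 1)))⁻¹ =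
            D'.u c d * D'.z * D'.c by
            rw [D'.conj_uz, WRGens.c, D'.uz_mul_u, D'.uz_eq_iff]; exact ⟨⟨m, by ring⟩, ⟨-m - 1, by ring⟩⟩))
    have hnormA : ∀ (x : G), (∀ a ∈ A, x * a * x⁻¹ ∈ A ∧ x⁻¹ * a * x ∈ A) →
        x ∈ normalizer (A : Set G) := fun x hx => by
      rw [Subgroup.mem_normalizer_iff]
      refine fun y => ⟨fun hy => (hx y hy).1, fun hy => ?_⟩
      simpa [mul_assoc] using (hx _ hy).2
    have hi'N : i' ∈ normalizer (A : Set G) := by
      have key : ∀ n : ℤ, ∀ a ∈ A, i' ^ n * a * (i' ^ n)⁻¹ ∈ A := fun n a ha => by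
        rcases hi'conj n a (hAS' ha) with h | h <;> rw [h]
        exacts [ha, mul_mem ha hcA]
      refine hnormA i' fun a ha => ⟨by simpa using key 1 a ha, by simpa using key (-1) a ha⟩
    set V' := A ⊔ zpowers i' with hV'
    have hV'S : V' ≤ (S' : Subgroup G) := sup_le hAS' (zpowers_le.mpr (D'.u D'.Q (-D'.Q)).2)
    have hV'N : V' ≤ normalizer (A : Set G) := sup_le A.le_normalizer (zpowers_le.mpr hi'N)
    have hne : i' * ζ ≠ ζ * i' := by
      rw [hab']
      intro h
      exact D'.not_dvd_two_Q (by simpa [two_mul] using D'.u_commute_uz_iff.mp (Subtype.ext h))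
    have hVN : qzG D e ≤ normalizer (A : Set G) := by
      have key : ∀ x ∈ qzG D e, ∀ a ∈ A, x * a * x⁻¹ ∈ A := by
        intro x hx a ha
        have hxv : x * v * x⁻¹ ∈ A := by
          obtain ⟨c, d, ⟨rfl, m, hm⟩ | ⟨rfl, m, hm⟩⟩ := (mem_qzG D).mp hx
          · rw [show uG D c d * v * (uG D c d)⁻¹ = v * uG D (2 * D.Q * m) (2 * D.Q * m) from
              congrArg Subtype.val (show D.u c d * (D.u e (-e) * D.z) * (D.u c d)⁻¹ =
                D.u e (-e) * D.z * D.u (2 * D.Q * m) (2 * D.Q * m) by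
                  rw [D.conj_uz, D.uz_mul_u, D.uz_eq_iff]
                  exact ⟨⟨0, by linear_combination hm⟩, ⟨-m, by linear_combination -hm⟩⟩), ← hζpow]
            exact mul_mem hvA (zpow_mem hζA _)
          · rw [show wG D c d * v * (wG D c d)⁻¹ = v * uG D (2 * D.Q * m) (2 * D.Q * m) from
              congrArg Subtype.val (show D.u c d * D.z * (D.u e (-e) * D.z) * (D.u c d * D.z)⁻¹ =
                D.u e (-e) * D.z * D.u (2 * D.Q * m) (2 * D.Q * m) by
                  rw [D.uz_conj_uz, D.uz_mul_u, D.uz_eq_iff]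
                  exact ⟨⟨0, by linear_combination hm⟩, ⟨-m, by linear_combination -hm⟩⟩), ← hζpow]
            exact mul_mem hvA (zpow_mem hζA _)
        have hxζ : x * ζ * x⁻¹ = ζ := by rw [hζc x (qzG_le D e hx), mul_inv_cancel_right]
        obtain ⟨j, rfl | rfl⟩ := hAforms a ha
        · rw [← conj_zpow, hxζ]; exact zpow_mem hζA j
        · rw [← conj_mul, ← conj_zpow, hxζ]; exact mul_mem hxv (zpow_mem hζA j)
      refine fun x hx => hnormA x fun a ha => ⟨key x hx a ha, ?_⟩
      simpa using key x⁻¹ (inv_mem hx) a ha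
    obtain ⟨R, hR, hRM, hVR, hRodd, hall⟩ := exists_sylow_in (normalizer (A : Set G)) (qzG D e)
      (S.isPGroup'.to_le (qzG_le D e)) hVN
    obtain ⟨S₃, hRS₃⟩ := hR.exists_le_sylow
    obtain ⟨D₃, hk₃, -⟩ := exists_gens_of_sylow S S₃ D
    have hζ3 : ζ ∈ centerG (S := (S₃ : Subgroup G)) :=
      center_le_centerG D₃ (hVR.trans hRS₃) (qzG_noncomm D e)
        (centerG_le_qzG D e hζZ) (fun x hx => hζc x (qzG_le D e hx))
    have hZ3 : centerG (S := (S₃ : Subgroup G)) = zpowers ζ :=
      (Subgroup.eq_of_le_of_card_ge (zpowers_le.mpr hζ3)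
        (by rw [← centerG_eq D, card_centerG D, card_centerG D₃, hk₃])).symm
    -- odd elements of `N(A)` centralise `A`
    have hoddC : ∀ n : normalizer (A : Set G), Odd (orderOf n) → (n : G) ∈ centralizer (A : Set G) := by
      intro n hodd
      set φ := A.normalizerMonoidHom n with hφdef
      have hj : φ ^ orderOf n = 1 := by rw [hφdef, ← map_pow, pow_orderOf_eq_one, map_one]
      have hζinv : ∀ j : ℤ, ζ ^ j * ζ ^ j = 1 → ζ ^ j = 1 ∨ ζ ^ j = cG D := by
        intro j h
        by_cases h1 : ζ ^ j = 1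
        · exact Or.inl h1
        · right
          rw [hζpow] at h h1 ⊢
          refine congrArg Subtype.val (D.diag_involution_eq_c (by rw [sub_self]; exact dvd_zero _)
            (Subtype.ext ?_) fun h' => h1 (congrArg Subtype.val h'))
          rw [pow_two]; exact h
      let cA : A := ⟨cG D, hcA⟩
      let vA : A := ⟨v, hvA⟩
      have hcA2 : cA * cA = 1 := Subtype.ext (cG_sq D)
      have hφc : φ cA = cA := by
        let w : A := ⟨ζ ^ D.Q, zpow_mem hζA _⟩
        have hw : cA = w * w := Subtype.ext (by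
          show cG D = ζ ^ D.Q * ζ ^ D.Q
          rw [← zpow_add, hcζ, two_mul])
        have h2 : φ cA * φ cA = 1 := by rw [← map_mul, hcA2, map_one]
        obtain ⟨j, hj' | hj'⟩ := hAforms _ (φ w).2
        all_goals
          have h3 : (φ cA : G) = ζ ^ (j + j) := by
            rw [hw, map_mul, Subgroup.coe_mul, hj']
            first
            | exact (zpow_add _ _ _).symm
            | rw [mul_assoc v, ← mul_assoc (ζ ^ j), show ζ ^ j * v = v * ζ ^ j from
                  ((show Commute v ζ from hvζ).zpow_right j).symm.eq, mul_assoc v, ← mul_assoc, hv2,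
                  one_mul, ← zpow_add]
          have h4 := congrArg Subtype.val h2
          rw [Subgroup.coe_mul, h3] at h4
          rcases hζinv _ h4 with h5 | h5
          · exfalso
            refine cG_ne_one D (congrArg Subtype.val (φ.injective (a₁ := cA) (a₂ := 1) ?_))
            rw [map_one]; exact Subtype.ext (h3.trans h5)
          · exact Subtype.ext (h3.trans h5)
      have hφv : φ vA = vA := by
        have h2 : φ vA * φ vA = 1 := by rw [← map_mul, show vA * vA = 1 from Subtype.ext hv2, map_one]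
        have h4 := congrArg Subtype.val h2
        rw [Subgroup.coe_mul] at h4
        obtain ⟨j, hj' | hj'⟩ := hAforms _ (φ vA).2
        · exfalso
          rw [hj'] at h4
          rcases hζinv _ h4 with h5 | h5
          · have h6 : vA = 1 := φ.injective (by rw [map_one]; exact Subtype.ext (hj'.trans h5))
            refine D.u_ne_uz 0 0 e (-e) ?_
            rw [D.u_zero]
            have h7 : (1 : G) = v := (congrArg Subtype.val h6).symm
            exact Subtype.ext h7
          · have h6 : vA = cA := φ.injective (by rw [hφc]; exact Subtype.ext (hj'.trans h5))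
            have h7 : cG D = v := (congrArg Subtype.val h6).symm
            exact D.u_ne_uz _ _ _ _ (Subtype.ext h7)
        · have h5 : ζ ^ j * ζ ^ j = 1 := by
            rw [hj', show v * ζ ^ j * (v * ζ ^ j) = v * v * (ζ ^ j * ζ ^ j) from
              (show Commute v ζ from hvζ).zpow_right j |>.symm.mul_mul_mul_comm v _, hv2, one_mul] at h4
            exact h4
          rcases hζinv _ h5 with h6 | h6
          · exact Subtype.ext (by rw [hj', h6, mul_one])
          · refine OddAut.fix_step hj hodd (α := cA) (Subtype.ext ?_) hφc (e := 1)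
              (by rw [pow_one, pow_two, hcA2])
            rw [hj', h6]; rfl
      have hφ1 : φ = 1 := by
        refine abelian_fix_involutions hA2 (fun x y => Subtype.ext (hAcomm x x.2 y y.2)) hj hodd ?_
        intro x hx
        have h4 := congrArg Subtype.val hx
        rw [Subgroup.coe_mul] at h4
        obtain ⟨j, hj' | hj'⟩ := hAforms _ x.2
        · rw [hj'] at h4
          rcases hζinv _ h4 with h5 | h5
          · rw [show x = 1 from Subtype.ext (hj'.trans h5), map_one]
          · rw [show x = cA from Subtype.ext (hj'.trans h5), hφc]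
        · rw [hj', show v * ζ ^ j * (v * ζ ^ j) = v * v * (ζ ^ j * ζ ^ j) from
            (show Commute v ζ from hvζ).zpow_right j |>.symm.mul_mul_mul_comm v _, hv2, one_mul] at h4
          rcases hζinv _ h4 with h5 | h5
          · rw [show x = vA from Subtype.ext (by rw [hj', h5, mul_one]), hφv]
          · rw [show x = vA * cA from Subtype.ext (by rw [hj', h5]; rfl), map_mul, hφv, hφc]
      rw [Subgroup.mem_centralizer_iff]
      intro x hx
      have h4 : (n : G) * x * (n : G)⁻¹ = x :=
        congrArg Subtype.val (congrArg (fun f : MulAut A => f ⟨x, hx⟩) hφ1 :)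
      rw [← mul_inv_eq_iff_eq_mul.mp h4]
    -- hence `N(A)` centralises `ζ`
    have hNζ : normalizer (A : Set G) ≤ centralizer ({ζ} : Set G) := by
      set N := normalizer (A : Set G) with hN
      set C := (centralizer (A : Set G)).subgroupOf N with hC
      haveI : C.Normal := by
        constructor
        intro x hx y
        rw [hC, Subgroup.mem_subgroupOf, Subgroup.mem_centralizer_iff] at hx ⊢
        intro a ha
        have h1 := hx ((y : G)⁻¹ * a * y) (by
          refine (Subgroup.mem_normalizer_iff.mp y.2 _).mpr ?_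
          simpa [mul_assoc] using ha)
        simp only [Subgroup.coe_mul, Subgroup.coe_inv]
        calc a * ((y : G) * x * (y : G)⁻¹) = y * ((y : G)⁻¹ * a * y * x) * (y : G)⁻¹ := by group
          _ = _ := by rw [h1]; group
      have hC2 : ∃ m : ℕ, C.index = 2 ^ m := by
        have hp : IsPGroup 2 (N ⧸ C) := by
          intro x
          obtain ⟨n, rfl⟩ := QuotientGroup.mk_surjective x
          refine ⟨(orderOf n).factorization 2, ?_⟩
          rw [← QuotientGroup.mk_pow, QuotientGroup.eq_one_iff, hC, Subgroup.mem_subgroupOf]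
          refine hoddC _ ?_
          rw [orderOf_pow_of_dvd (by positivity) (Nat.ordProj_dvd _ _)]
          exact Nat.coprime_two_left.mp (Nat.coprime_ordCompl Nat.prime_two (orderOf_pos n).ne')
        exact IsPGroup.iff_card.mp hp
      obtain ⟨m, hm⟩ := hC2
      have htop : R.subgroupOf N ⊔ C = ⊤ := by
        rw [← Subgroup.index_eq_one]
        refine Nat.eq_one_of_dvd_coprimes ((Nat.coprime_two_right.mpr hRodd).pow_right m)
          (Subgroup.index_dvd_of_le le_sup_left) ?_
        rw [← hm]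
        exact Subgroup.index_dvd_of_le le_sup_right
      have hle : R.subgroupOf N ⊔ C ≤ (centralizer ({ζ} : Set G)).subgroupOf N := by
        refine sup_le (fun x hx => ?_) (fun x hx => ?_) <;>
          rw [Subgroup.mem_subgroupOf, Subgroup.mem_centralizer_singleton_iff]
        · exact (mem_centerG.mp hζ3).2 _ (hRS₃ (Subgroup.mem_subgroupOf.mp hx))
        · exact (Subgroup.mem_centralizer_iff.mp (Subgroup.mem_subgroupOf.mp hx) ζ hζA).symm
      intro x hx
      have := hle (htop ▸ Subgroup.mem_top (⟨x, hx⟩ : N))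
      exact this
    obtain ⟨h, hhN, hh⟩ := hall V' (S'.isPGroup'.to_le hV'S) hV'N
    set X := V'.map (MulAut.conj h).toMonoidHom with hX
    have hXS : X ≤ (S₃ : Subgroup G) := by
      rintro _ ⟨x, hx, rfl⟩
      exact hRS₃ (hh x hx)
    have hXt : h * wG D p q * h⁻¹ ∈ centerG (S := (S₃ : Subgroup G)) := by
      refine center_le_centerG D₃ hXS ⟨_, ⟨i', Subgroup.mem_sup_right (mem_zpowers _), rfl⟩,
        _, ⟨ζ, Subgroup.mem_sup_left hζA, rfl⟩, fun h' => hne ?_⟩
        ⟨_, Subgroup.mem_sup_left htA, rfl⟩ ?_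
      · rw [← map_mul, ← map_mul] at h'
        exact (MulAut.conj h).injective h'
      · rintro _ ⟨x, hx, rfl⟩
        show h * x * h⁻¹ * (h * wG D p q * h⁻¹) = h * wG D p q * h⁻¹ * (h * x * h⁻¹)
        rw [show h * x * h⁻¹ * (h * wG D p q * h⁻¹) = h * (x * wG D p q) * h⁻¹ by group,
          Subgroup.mem_centralizer_singleton_iff.mp (hS' (hV'S hx))]
        group
    rw [hZ3, Subgroup.mem_zpowers_iff] at hXt
    obtain ⟨j, hj⟩ := hXt
    apply htnot
    rw [centerG_eq D, Subgroup.mem_zpowers_iff]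
    refine ⟨j, ?_⟩
    have hc : h * ζ ^ j = ζ ^ j * h :=
      ((show Commute h ζ from Subgroup.mem_centralizer_singleton_iff.mp (hNζ hhN)).zpow_right j).eq
    have e1 : h⁻¹ * (h * wG D p q * h⁻¹) * h = wG D p q := by group
    rw [← e1, ← hj, mul_assoc, ← hc, inv_mul_cancel_left]

/-- Subgroups of the centre are weakly closed. -/
theorem weakly_closed (S : Sylow 2 G) (D : WRGens (S : Subgroup G)) (hac : ¬ IsConj (aG D) (cG D))
    (W : Subgroup G) (hW : W ≤ centerG (S := (S : Subgroup G))) :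
    Cfsg.IsWeaklyClosed W (S : Subgroup G) := by
  refine ⟨fun w hw => (mem_centerG.mp (hW hw)).1, fun g hg => ?_⟩
  set W' := W.map (MulAut.conj g).toMonoidHom with hW'
  have hW'Z : W' ≤ centerG (S := (S : Subgroup G)) := by
    rintro _ ⟨w, hw, rfl⟩
    exact central_of_conj S D hac (hW hw) g rfl (hg ⟨w, hw, rfl⟩)
  haveI : IsCyclic (centerG (S := (S : Subgroup G))) := by rw [centerG_eq D]; infer_instance
  have hcard : Nat.card W' = Nat.card W := Subgroup.card_map_of_injective (MulAut.conj g).injective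
  set Z := centerG (S := (S : Subgroup G))
  have key : ∀ (X : Subgroup G), X ≤ Z → (X.subgroupOf Z : Set Z) ⊆ {x : Z | x ^ Nat.card X = 1} := by
    intro X hX x hx
    have h : ((⟨(x : G), hx⟩ : X) ^ Nat.card X : X) = 1 := pow_card_eq_one'
    exact Subtype.ext (congrArg Subtype.val h :)
  have hbound : ({x : Z | x ^ Nat.card W = 1} : Set Z).ncard ≤ Nat.card W := by
    classical
    haveI : Fintype Z := Fintype.ofFinite _
    rw [Set.ncard_eq_toFinset_card']
    refine le_trans (le_of_eq ?_) (IsCyclic.card_pow_eq_one_le (α := Z) (n := Nat.card W) Nat.card_pos)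
    congr 1
    ext x; simp
  have hWc : ∀ (X : Subgroup G), X ≤ Z → Nat.card X = Nat.card W →
      (X.subgroupOf Z : Set Z) = {x : Z | x ^ Nat.card W = 1} := by
    intro X hX hc
    refine Set.eq_of_subset_of_ncard_le (hc ▸ key X hX) ?_ (Set.toFinite _)
    refine hbound.trans (le_of_eq ?_)
    rw [← hc, ← Nat.card_congr (Subgroup.subgroupOfEquivOfLe hX).toEquiv]
    rfl
  have heq : W'.subgroupOf Z = W.subgroupOf Z :=
    SetLike.coe_injective ((hWc W' hW'Z hcard).trans (hWc W hW rfl).symm)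
  have h := congrArg (fun X => X.map Z.subtype) heq
  simpa [Subgroup.subgroupOf_map_subtype, inf_of_le_left hW'Z, inf_of_le_left hW] using h

end CfsgLib.TwoFusion.WRFusion
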