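import Cfsg.Agent.Lib.TwoFusion.WRTheorems

/-!
The transfer to `S / (antidiagonal)` in groups with wreathed Sylow 2-subgroups.
-/

set_option autoImplicit false

namespace CfsgLib.TwoFusion.WRFusion

open LocalAut FusionTools Subgroup

section Phi

variable {S : Type*} [Group S] (D : WRGens S)

/-- The sum of the exponents, twisted by `2 Q` outside the base. -/
def PhiRel (s : S) (v : ZMod (2 ^ (D.k + 2))) : Prop :=
  ∃ a b : ℤ, (s = D.u a b ∧ v = ((a + b : ℤ) : ZMod (2 ^ (D.k + 2)))) ∨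
    (s = D.u a b * D.z ∧ v = ((a + b + 2 * D.Q : ℤ) : ZMod (2 ^ (D.k + 2))))

theorem modulus_eq : ((2 ^ (D.k + 2) : ℕ) : ℤ) = 4 * D.Q := by rw [D.hQ]; push_cast; ring

theorem cast_eq_of_dvd {p q : ℤ} (h : 4 * D.Q ∣ p - q) :
    (p : ZMod (2 ^ (D.k + 2))) = (q : ZMod (2 ^ (D.k + 2))) := by
  rw [ZMod.intCast_eq_intCast_iff_dvd_sub, modulus_eq]
  exact dvd_sub_comm.mp h

theorem phiRel_unique {s : S} {v w : ZMod (2 ^ (D.k + 2))} (hv : PhiRel D s v) (hw : PhiRel D s w) :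
    v = w := by
  obtain ⟨a, b, ⟨rfl, rfl⟩ | ⟨rfl, rfl⟩⟩ := hv <;> obtain ⟨c, d, ⟨h, rfl⟩ | ⟨h, rfl⟩⟩ := hw
  · obtain ⟨⟨i, hi⟩, ⟨j, hj⟩⟩ := D.u_eq_iff.mp h
    exact cast_eq_of_dvd D ⟨i + j, by linear_combination hi + hj⟩
  · exact absurd h (D.u_ne_uz _ _ _ _)
  · exact absurd h.symm (D.u_ne_uz _ _ _ _)
  · obtain ⟨⟨i, hi⟩, ⟨j, hj⟩⟩ := D.uz_eq_iff.mp h
    exact cast_eq_of_dvd D ⟨i + j, by linear_combination hi + hj⟩

theorem exists_phiRel (s : S) : ∃ v, PhiRel D s v := by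
  obtain ⟨a, b, rfl | rfl⟩ := D.normalForm s
  · exact ⟨_, a, b, Or.inl ⟨rfl, rfl⟩⟩
  · exact ⟨_, a, b, Or.inr ⟨rfl, rfl⟩⟩

/-- The homomorphism `u a b ↦ a + b`, `u a b z ↦ a + b + 2 Q`. -/
noncomputable def phi : S →* Multiplicative (ZMod (2 ^ (D.k + 2))) where
  toFun s := Multiplicative.ofAdd (exists_phiRel D s).choose
  map_one' := by
    rw [← ofAdd_zero]; congr 1
    exact phiRel_unique D (exists_phiRel D 1).choose_spec ⟨0, 0, Or.inl ⟨D.u_zero.symm, by simp⟩⟩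
  map_mul' s t := by
    rw [← ofAdd_add]; congr 1
    refine phiRel_unique D (exists_phiRel D (s * t)).choose_spec ?_
    have hs := (exists_phiRel D s).choose_spec
    have ht := (exists_phiRel D t).choose_spec
    generalize (exists_phiRel D s).choose = v at hs ⊢
    generalize (exists_phiRel D t).choose = w at ht ⊢
    obtain ⟨a, b, ⟨rfl, rfl⟩ | ⟨rfl, rfl⟩⟩ := hs <;> obtain ⟨c, d, ⟨rfl, rfl⟩ | ⟨rfl, rfl⟩⟩ := ht
    · exact ⟨_, _, Or.inl ⟨D.u_mul _ _ _ _, by push_cast; ring⟩⟩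
    · exact ⟨_, _, Or.inr ⟨D.u_mul_uz _ _ _ _, by push_cast; ring⟩⟩
    · exact ⟨_, _, Or.inr ⟨D.uz_mul_u _ _ _ _, by push_cast; ring⟩⟩
    · refine ⟨_, _, Or.inl ⟨D.uz_mul_uz _ _ _ _, ?_⟩⟩
      rw [← Int.cast_add]
      exact cast_eq_of_dvd D ⟨1, by ring⟩

theorem phi_u (a b : ℤ) : phi D (D.u a b) = Multiplicative.ofAdd ((a + b : ℤ) : ZMod (2 ^ (D.k + 2))) :=
  congrArg Multiplicative.ofAdd
    (phiRel_unique D (exists_phiRel D _).choose_spec ⟨a, b, Or.inl ⟨rfl, rfl⟩⟩)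

theorem phi_uz (a b : ℤ) : phi D (D.u a b * D.z) =
    Multiplicative.ofAdd ((a + b + 2 * D.Q : ℤ) : ZMod (2 ^ (D.k + 2))) :=
  congrArg Multiplicative.ofAdd
    (phiRel_unique D (exists_phiRel D _).choose_spec ⟨a, b, Or.inr ⟨rfl, rfl⟩⟩)

/-- The parity. -/
noncomputable def parity : Multiplicative (ZMod (2 ^ (D.k + 2))) →* ℤˣ where
  toFun m := (-1) ^ ((Multiplicative.toAdd m).val)
  map_one' := by simp
  map_mul' m n := by
    rw [toAdd_mul, ← pow_add]
    set p := Multiplicative.toAdd m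
    set q := Multiplicative.toAdd n
    have h : ((p + q).val) % 2 = (p.val + q.val) % 2 := by
      rw [ZMod.val_add, Nat.mod_mod_of_dvd]
      exact dvd_pow_self 2 (by omega)
    rw [Int.units_pow_eq_pow_mod_two, h, ← Int.units_pow_eq_pow_mod_two]

theorem parity_cast (p : ℤ) :
    parity D (Multiplicative.ofAdd (p : ZMod (2 ^ (D.k + 2)))) = if 2 ∣ p then 1 else -1 := by
  show (-1 : ℤˣ) ^ ((p : ZMod (2 ^ (D.k + 2))).val) = _
  have h := ZMod.val_intCast (n := 2 ^ (D.k + 2)) p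
  rw [modulus_eq] at h
  have h2 : (2 : ℤ) ∣ ((p : ZMod (2 ^ (D.k + 2))).val : ℤ) ↔ 2 ∣ p := by
    rw [h, Int.dvd_iff_emod_eq_zero, Int.dvd_iff_emod_eq_zero,
      Int.emod_emod_of_dvd p (⟨2 * D.Q, by ring⟩ : (2 : ℤ) ∣ 4 * D.Q)]
  split_ifs with hp
  · exact (even_iff_two_dvd.mpr (by exact_mod_cast h2.mpr hp)).neg_one_pow
  · exact (Nat.not_even_iff_odd.mp fun he => hp (h2.mp (by exact_mod_cast even_iff_two_dvd.mp he))).neg_one_pow

end Phi

variable {G : Type*} [Group G] [Finite G] (S : Sylow 2 G) (D : WRGens (S : Subgroup G))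

theorem xG_pow_two_Q : uG D 1 0 ^ (2 * D.Q) = aG D :=
  (SubgroupClass.coe_zpow _ _).symm.trans
    (congrArg Subtype.val (show D.u 1 0 ^ (2 * D.Q) = D.u (2 * D.Q) 0 by rw [D.u_zpow, one_mul, zero_mul]))

theorem xG_pow_order : uG D 1 0 ^ (4 * D.Q) = 1 :=
  (SubgroupClass.coe_zpow _ _).symm.trans (congrArg Subtype.val
    (show D.u 1 0 ^ (4 * D.Q) = 1 by
      rw [D.u_zpow, D.u_eq_one_iff]; exact ⟨⟨1, by ring⟩, ⟨0, by ring⟩⟩))

/-- The transfer to `S` modulo the antidiagonal, when `a` is not conjugate to `c`. -/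
theorem exists_hom (hac : ¬ IsConj (aG D) (cG D)) :
    ∃ f : G →* Multiplicative (ZMod (2 ^ (D.k + 2))), Function.Surjective f ∧
      (∀ a b : ℤ, f (uG D a b) = f (uG D 1 0) ^ (a + b)) ∧
      (∀ s : ℤ, f (uG D 1 0) ^ s = 1 ↔ 4 * D.Q ∣ s) := by
  set f := (phi D).transfer with hf
  have hx : parity D (f (uG D 1 0)) = -1 := by
    refine transfer_sign (sylow_index_odd S) (phi D) (parity D) (uG D 1 0) fun j g h => ?_
    have hpow : ∀ m : ℕ, (g⁻¹ * uG D 1 0 ^ j * g) ^ m = g⁻¹ * (uG D 1 0 ^ m) ^ j * g := fun m => by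
      rw [← pow_mul, mul_comm m j, pow_mul]
      have := conj_pow (a := g⁻¹) (b := uG D 1 0 ^ j) (i := m)
      rwa [inv_inv] at this
    have hQn : ((2 ^ (D.k + 1) : ℕ) : ℤ) = 2 * D.Q := by rw [D.hQ]; push_cast; ring
    have ha : uG D 1 0 ^ (2 ^ (D.k + 1)) = aG D := by
      rw [← zpow_natCast, hQn, xG_pow_two_Q S D]
    obtain ⟨p, q, hpq | hpq⟩ := D.normalForm ⟨_, h⟩ <;> rw [hpq]
    · rw [phi_u, parity_cast]
      have hs : (g⁻¹ * uG D 1 0 ^ j * g) ^ (2 ^ (D.k + 1)) = uG D (2 * D.Q * p) (2 * D.Q * q) := by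
        rw [show g⁻¹ * uG D 1 0 ^ j * g = uG D p q from congrArg Subtype.val hpq]
        exact (SubgroupClass.coe_pow _ _).symm.trans (congrArg Subtype.val
          (show D.u p q ^ (2 ^ (D.k + 1)) = D.u (2 * D.Q * p) (2 * D.Q * q) by
            rw [D.u_pow, hQn, mul_comm p, mul_comm q]))
      rw [hpow, ha] at hs
      obtain ⟨i, rfl | rfl⟩ := Nat.even_or_odd' j
      · rw [pow_mul (aG D), pow_two, aG_sq, one_pow, mul_one, inv_mul_cancel] at hs
        obtain ⟨h1, h2⟩ := D.u_eq_one_iff.mp (Subtype.ext hs.symm)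
        have hne : 2 * D.Q ≠ 0 := by have := D.Q_pos; omega
        rw [show 4 * D.Q = 2 * D.Q * 2 by ring] at h1 h2
        rw [(even_two_mul i).neg_one_pow, if_pos (dvd_add (Int.dvd_of_mul_dvd_mul_left hne h1)
          (Int.dvd_of_mul_dvd_mul_left hne h2))]
      · rw [pow_succ, pow_mul, pow_two, aG_sq, one_pow, one_mul] at hs
        rw [(odd_two_mul_add_one i).neg_one_pow, if_neg]
        intro hdvd
        have hconj : IsConj (aG D) (g⁻¹ * aG D * g) := isConj_iff.mpr ⟨g⁻¹, by rw [inv_inv]⟩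
        rw [hs] at hconj
        obtain ⟨r, hr⟩ := hdvd
        by_cases hp : 2 ∣ p
        · have hq : 2 ∣ q := by omega
          have h1 : uG D (2 * D.Q * p) (2 * D.Q * q) = 1 := congrArg Subtype.val (D.u_eq_one_iff.mpr
            ⟨by rw [show 4 * D.Q = 2 * D.Q * 2 by ring]; exact mul_dvd_mul_left _ hp,
             by rw [show 4 * D.Q = 2 * D.Q * 2 by ring]; exact mul_dvd_mul_left _ hq⟩)
          rw [h1, isConj_one_left] at hconj
          exact aG_ne_one D hconj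
        · obtain ⟨i', hi'⟩ : ∃ i', p = 2 * i' + 1 := ⟨p / 2, by omega⟩
          obtain ⟨j', hj'⟩ : ∃ j', q = 2 * j' + 1 := ⟨q / 2, by omega⟩
          have h1 : uG D (2 * D.Q * p) (2 * D.Q * q) = cG D := congrArg Subtype.val
            (show D.u (2 * D.Q * p) (2 * D.Q * q) = D.c from D.u_eq_iff.mpr
              ⟨⟨i', by rw [hi']; ring⟩, ⟨j', by rw [hj']; ring⟩⟩)
          rw [h1] at hconj
          exact hac hconj
    · rw [phi_uz, parity_cast]
      have hs : (g⁻¹ * uG D 1 0 ^ j * g) ^ (2 ^ (D.k + 1)) = uG D (D.Q * (p + q)) (D.Q * (p + q)) := by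
        rw [show g⁻¹ * uG D 1 0 ^ j * g = wG D p q from congrArg Subtype.val hpq]
        exact (SubgroupClass.coe_pow _ _).symm.trans (congrArg Subtype.val
          (show (D.u p q * D.z) ^ (2 ^ (D.k + 1)) = D.u (D.Q * (p + q)) (D.Q * (p + q)) by
            rw [pow_succ', pow_mul, D.uz_sq, D.u_pow, D.hQ]; push_cast; rw [mul_comm (p + q)]))
      rw [hpow, ha] at hs
      have hcon : ∀ t : ℤ, t = D.Q * (p + q) → uG D t t ≠ 1 → g⁻¹ * aG D * g = uG D t t → False := by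
        intro t _ hne he
        have hconj : IsConj (aG D) (uG D t t) := isConj_iff.mpr ⟨g⁻¹, by rw [inv_inv, he]⟩
        have h2 : D.u t t ^ 2 = 1 := by
          apply Subtype.ext
          rw [pow_two, Subgroup.coe_mul]
          show uG D t t * uG D t t = 1
          rw [← he, show g⁻¹ * aG D * g * (g⁻¹ * aG D * g) = g⁻¹ * (aG D * aG D) * g by group, aG_sq]
          group
        have h3 := D.diag_involution_eq_c (by rw [sub_self]; exact dvd_zero _) h2
          (fun h => hne (congrArg Subtype.val h))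
        rw [show uG D t t = cG D from congrArg Subtype.val h3] at hconj
        exact hac hconj
      obtain ⟨i, rfl | rfl⟩ := Nat.even_or_odd' j
      · rw [pow_mul (aG D), pow_two, aG_sq, one_pow, mul_one, inv_mul_cancel] at hs
        obtain ⟨h1, -⟩ := D.u_eq_one_iff.mp (Subtype.ext hs.symm)
        have hne : D.Q ≠ 0 := by have := D.Q_pos; omega
        rw [show 4 * D.Q = D.Q * 4 by ring] at h1
        have h4 := Int.dvd_of_mul_dvd_mul_left hne h1
        rw [(even_two_mul i).neg_one_pow, if_pos (by omega)]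
      · exfalso
        rw [pow_succ, pow_mul, pow_two, aG_sq, one_pow, one_mul] at hs
        by_cases h1 : uG D (D.Q * (p + q)) (D.Q * (p + q)) = 1
        · rw [h1] at hs
          exact aG_ne_one D (by
            calc aG D = g * (g⁻¹ * aG D * g) * g⁻¹ := by group
              _ = 1 := by rw [hs, mul_one, mul_inv_cancel])
        · exact hcon _ rfl h1 hs
  set m := f (uG D 1 0) with hm
  obtain ⟨v, hv⟩ : ∃ v : ℤ, m = Multiplicative.ofAdd (v : ZMod (2 ^ (D.k + 2))) :=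
    ⟨((Multiplicative.toAdd m).cast : ℤ), by rw [ZMod.intCast_cast, ZMod.cast_id', id, ofAdd_toAdd]⟩
  have hvodd : ¬ 2 ∣ v := fun h => by
    rw [hv, parity_cast, if_pos h] at hx
    exact absurd hx (by decide)
  have hcop : IsCoprime v (4 * D.Q) := by
    rw [← modulus_eq, Nat.cast_pow, Nat.cast_ofNat]
    exact (Int.prime_two.coprime_iff_not_dvd.mpr hvodd).symm.pow_right
  have hpow : ∀ s : ℤ, m ^ s = 1 ↔ 4 * D.Q ∣ s := fun s => by
    rw [hv, ← ofAdd_zsmul, ← ofAdd_zero, Multiplicative.ofAdd.injective.eq_iff, zsmul_eq_mul,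
      ← Int.cast_mul, ZMod.intCast_zmod_eq_zero_iff_dvd, modulus_eq]
    exact ⟨fun h => hcop.symm.dvd_of_dvd_mul_right h, fun h => dvd_mul_of_dvd_left h v⟩
  refine ⟨f, ?_, fun a b => ?_, hpow⟩
  · intro y
    obtain ⟨w, hw⟩ : ∃ w : ℤ, y = Multiplicative.ofAdd (w : ZMod (2 ^ (D.k + 2))) :=
      ⟨((Multiplicative.toAdd y).cast : ℤ), by rw [ZMod.intCast_cast, ZMod.cast_id', id, ofAdd_toAdd]⟩
    obtain ⟨i, j, hij⟩ := hcop
    refine ⟨uG D 1 0 ^ (i * w), ?_⟩
    rw [map_zpow, ← hm, hv, hw, ← ofAdd_zsmul, zsmul_eq_mul, ← Int.cast_mul]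
    exact congrArg _ (cast_eq_of_dvd D ⟨-(j * w), by linear_combination w * hij⟩)
  · have hy : f (uG D 0 1) = m := by
      have e : zG D * uG D 1 0 * (zG D)⁻¹ = uG D 0 1 := congrArg Subtype.val
        (show D.u 0 0 * D.z * D.u 1 0 * (D.u 0 0 * D.z)⁻¹ = D.u 0 1 by rw [D.uz_conj_u])
      rw [← e, map_mul, map_mul, map_inv, mul_comm (f (zG D)), mul_inv_cancel_right]
    rw [show uG D a b = uG D 1 0 ^ a * uG D 0 1 ^ b from by
      rw [show uG D 1 0 ^ a = uG D a 0 from (SubgroupClass.coe_zpow _ _).symm.trans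
          (congrArg Subtype.val (show D.u 1 0 ^ a = D.u a 0 by rw [D.u_zpow, one_mul, zero_mul])),
        show uG D 0 1 ^ b = uG D 0 b from (SubgroupClass.coe_zpow _ _).symm.trans
          (congrArg Subtype.val (show D.u 0 1 ^ b = D.u 0 b by rw [D.u_zpow, one_mul, zero_mul]))]
      exact congrArg Subtype.val
        (show D.u a b = D.u a 0 * D.u 0 b by rw [D.u_mul, add_zero, zero_add]),
      map_mul, map_zpow, map_zpow, hy, zpow_add]

theorem index_ker_hom (f : G →* Multiplicative (ZMod (2 ^ (D.k + 2)))) (hf : Function.Surjective f) :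
    f.ker.index = 2 ^ (D.k + 2) := by
  rw [Subgroup.index_ker, MonoidHom.range_eq_top.mpr hf, Subgroup.card_top]
  exact Nat.card_zmod _

/-- The case of a normal 2-complement. -/
theorem nilpotent_case (hac : ¬ IsConj (aG D) (cG D)) (hza : ¬ IsConj (zG D) (aG D))
    (hzc : ¬ IsConj (zG D) (cG D)) : Cfsg.HasNormalPComplement 2 G := by
  obtain ⟨f, hsurj, hfu, hfp⟩ := exists_hom S D hac
  obtain ⟨M, hMn, hM, hzM⟩ := exists_avoid_z S D hza hzc
  haveI := hMn
  obtain ⟨j, hj, hK⟩ := (Nat.dvd_prime_pow Nat.prime_two).mp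
    (show (f.ker ⊓ M).index ∣ 2 ^ (D.k + 3) by
      rw [← Subgroup.relIndex_mul_index (H := f.ker ⊓ M) (K := f.ker) inf_le_left,
        Subgroup.inf_relIndex_left, index_ker_hom S D f hsurj, pow_succ' 2 (D.k + 2)]
      refine Nat.mul_dvd_mul_right ?_ _
      have := Subgroup.relIndex_dvd_index_of_normal M f.ker
      rwa [hM] at this)
  refine hasNormalPComplement_of_cyclic S (f.ker ⊓ M) hK ?_
  obtain ⟨s₀, hs₀⟩ : ∃ s₀ : ℤ, f (zG D) = f (uG D 1 0) ^ s₀ ∧ 2 ∣ s₀ := by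
    obtain ⟨g, hg⟩ := hsurj (f (zG D))
    obtain ⟨v, hv⟩ : ∃ v : ℤ, f (uG D 1 0) ^ v = f (zG D) := by
      have htop : Subgroup.zpowers (f (uG D 1 0)) = ⊤ := by
        refine Subgroup.eq_top_of_card_eq _ ?_
        rw [Nat.card_zpowers]
        refine Nat.dvd_antisymm (orderOf_dvd_natCard _) ?_
        show Nat.card (ZMod (2 ^ (D.k + 2))) ∣ _
        rw [Nat.card_zmod]
        have h := (hfp (orderOf (f (uG D 1 0)))).mp (by rw [zpow_natCast, pow_orderOf_eq_one])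
        rw [← modulus_eq] at h
        exact Int.natCast_dvd_natCast.mp h
      exact Subgroup.mem_zpowers_iff.mp (htop ▸ Subgroup.mem_top _)
    refine ⟨v, hv.symm, ?_⟩
    have h2 : f (uG D 1 0) ^ (v + v) = 1 := by
      rw [zpow_add, hv, ← map_mul, zG_sq, map_one]
    obtain ⟨t, ht⟩ := (hfp _).mp h2
    exact ⟨D.Q * t, mul_left_cancel₀ (two_ne_zero' ℤ) (by linear_combination ht)⟩
  have hM2 : ∀ a b : ℤ, 2 ∣ a + b → uG D a b ∈ M := by
    rintro a b ⟨r, hr⟩
    have hxy : uG D 1 0 * uG D 0 1 ∈ M := by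
      have e : uG D 0 1 = zG D * uG D 1 0 * (zG D)⁻¹ := congrArg Subtype.val
        (show D.u 0 1 = D.u 0 0 * D.z * D.u 1 0 * (D.u 0 0 * D.z)⁻¹ by rw [D.uz_conj_u])
      rw [e, Subgroup.mul_mem_iff_of_index_two hM, conj_mem_iff_of_index_two hM]
    have e : uG D a b = (uG D 1 0 * uG D 0 1) ^ b * (uG D (r - b) 0 * uG D (r - b) 0) := by
      have e1 : (uG D 1 0 * uG D 0 1) ^ b = uG D b b := by
        rw [show uG D 1 0 * uG D 0 1 = uG D 1 1 from congrArg Subtype.val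
          (show D.u 1 0 * D.u 0 1 = D.u 1 1 by rw [D.u_mul, add_zero, zero_add])]
        exact (SubgroupClass.coe_zpow _ _).symm.trans
          (congrArg Subtype.val (show D.u 1 1 ^ b = D.u b b by rw [D.u_zpow, one_mul]))
      rw [e1]
      exact congrArg Subtype.val (show D.u a b = D.u b b * (D.u (r - b) 0 * D.u (r - b) 0) by
        rw [D.u_mul, D.u_mul]; congr 1 <;> omega)
    rw [e]
    exact mul_mem (zpow_mem hxy _) (sq_mem_of_index_two hM _)
  have hle : (S : Subgroup G) ⊓ (f.ker ⊓ M) ≤ zpowers (uG D 1 (-1)) := by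
    intro g hg
    obtain ⟨hgS, hgf, hgM⟩ := hg
    obtain ⟨a, b, h | h⟩ := D.normalForm ⟨g, hgS⟩
    · obtain rfl : g = uG D a b := congrArg Subtype.val h
      replace hgf : f (uG D a b) = 1 := hgf
      rw [hfu, hfp] at hgf
      refine ⟨a, (SubgroupClass.coe_zpow _ _).symm.trans (congrArg Subtype.val
        (show D.u 1 (-1) ^ a = D.u a b from ?_))⟩
      rw [D.u_zpow, one_mul, D.u_eq_iff, sub_self]
      obtain ⟨t, ht⟩ := hgf
      exact ⟨dvd_zero _, ⟨-t, by linear_combination -ht⟩⟩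
    · exfalso
      obtain rfl : g = uG D a b * zG D := congrArg Subtype.val (h.trans
        (show D.u a b * D.z = D.u a b * (D.u 0 0 * D.z) by rw [D.u_zero, one_mul]))
      replace hgf : f (uG D a b * zG D) = 1 := hgf
      rw [map_mul, hfu, hs₀.1, ← zpow_add, hfp] at hgf
      have h4 : 2 ∣ a + b + s₀ := dvd_trans ⟨2 * D.Q, by ring⟩ hgf
      exact hzM ((Subgroup.mul_mem_cancel_left _ (hM2 a b ((dvd_add_left hs₀.2).mp h4))).mp hgM)
  exact isCyclic_of_injective (Subgroup.inclusion hle) (Subgroup.inclusion_injective hle)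

end CfsgLib.TwoFusion.WRFusion
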