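import Cfsg.Agent.Lib.TwoFusion.QuasiDihedral

/-!
Elements of small order in quasi-dihedral groups and the subgroups they generate.
-/

set_option autoImplicit false

namespace CfsgLib.TwoFusion.QDGens

variable {S : Type*} [Group S] (D : QDGens S)

/-- The central involution. -/
abbrev c : S := D.x ^ (4 * D.P)

/-- An element of order four in the cyclic maximal subgroup. -/
abbrev q : S := D.x ^ (2 * D.P)

theorem zpow_sq_eq_one_iff {i : ℤ} : (D.x ^ i) ^ 2 = 1 ↔ D.x ^ i = 1 ∨ D.x ^ i = D.c := by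
  constructor
  · intro h
    rw [← zpow_natCast, ← zpow_mul, D.zpow_eq_one_iff] at h
    obtain ⟨k, hk⟩ := h
    have hi : i = 4 * D.P * k := mul_left_cancel₀ (two_ne_zero' ℤ) (by push_cast at hk; linear_combination hk)
    obtain ⟨t, rfl | rfl⟩ := Int.even_or_odd' k
    · exact Or.inl (D.zpow_eq_one_iff.mpr ⟨t, by rw [hi]; ring⟩)
    · exact Or.inr (D.zpow_eq_iff.mpr ⟨t, by rw [hi]; ring⟩)
  · rintro (h | h) <;> rw [h]
    · exact one_pow 2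
    · exact orderOf_dvd_iff_pow_eq_one.mp D.orderOf_c.dvd

theorem zpow_pow_four_eq_one_iff {i : ℤ} :
    (D.x ^ i) ^ 4 = 1 ↔ D.x ^ i = 1 ∨ D.x ^ i = D.c ∨ D.x ^ i = D.q ∨ D.x ^ i = D.q⁻¹ := by
  constructor
  · intro h
    rw [← zpow_natCast, ← zpow_mul, D.zpow_eq_one_iff] at h
    obtain ⟨k, hk⟩ := h
    have hi : i = 2 * D.P * k := mul_left_cancel₀ (by norm_num : (4 : ℤ) ≠ 0) (by push_cast at hk; linear_combination hk)
    obtain ⟨t, ht | ht | ht | ht⟩ : ∃ t, k = 4 * t ∨ k = 4 * t + 1 ∨ k = 4 * t + 2 ∨ k = 4 * t + 3 :=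
      ⟨k / 4, by omega⟩
    · exact Or.inl (D.zpow_eq_one_iff.mpr ⟨t, by rw [hi, ht]; ring⟩)
    · exact Or.inr (Or.inr (Or.inl (D.zpow_eq_iff.mpr ⟨t, by rw [hi, ht]; ring⟩)))
    · exact Or.inr (Or.inl (D.zpow_eq_iff.mpr ⟨t, by rw [hi, ht]; ring⟩))
    · refine Or.inr (Or.inr (Or.inr ?_))
      rw [← zpow_neg, D.zpow_eq_iff]
      exact ⟨t + 1, by rw [hi, ht]; ring⟩
  · have hq : D.q ^ 4 = 1 := orderOf_dvd_iff_pow_eq_one.mp D.orderOf_q.dvd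
    have hc : D.c ^ 4 = 1 := orderOf_dvd_iff_pow_eq_one.mp (by rw [D.orderOf_c]; norm_num)
    rintro (h | h | h | h) <;> rw [h]
    · exact one_pow 4
    · exact hc
    · exact hq
    · rw [inv_pow, hq, inv_one]

theorem q_sq : D.q * D.q = D.c := by
  rw [← zpow_add]; congr 1; ring

theorem c_mul_c : D.c * D.c = 1 := by
  rw [← zpow_add, D.zpow_eq_one_iff]; exact ⟨1, by ring⟩

theorem orderOf_eq_two_cases [Finite S] {s : S} (h : orderOf s = 2) :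
    s = D.c ∨ ∃ i : ℤ, 2 ∣ i ∧ s = D.x ^ i * D.y := by
  have h2 : s ^ 2 = 1 := h ▸ pow_orderOf_eq_one s
  obtain ⟨i, rfl | rfl⟩ := D.normalForm s
  · refine Or.inl ((D.zpow_sq_eq_one_iff.mp h2).resolve_left fun h1 => ?_)
    rw [h1, orderOf_one] at h
    omega
  · exact Or.inr ⟨i, D.sq_zy_eq_one_iff.mp h2, rfl⟩

theorem orderOf_eq_four_cases [Finite S] {s : S} (h : orderOf s = 4) :
    s = D.q ∨ s = D.q⁻¹ ∨ ∃ i : ℤ, ¬ 2 ∣ i ∧ s = D.x ^ i * D.y := by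
  have h4 : s ^ 4 = 1 := h ▸ pow_orderOf_eq_one s
  obtain ⟨i, rfl | rfl⟩ := D.normalForm s
  · rcases D.zpow_pow_four_eq_one_iff.mp h4 with h1 | h1 | h1 | h1
    · rw [h1, orderOf_one] at h; omega
    · rw [h1, D.orderOf_c] at h; omega
    · exact Or.inl h1
    · exact Or.inr (Or.inl h1)
  · refine Or.inr (Or.inr ⟨i, fun hi => ?_, rfl⟩)
    rw [D.orderOf_zy_even hi] at h
    omega

theorem y_conj_q : D.y * D.q * D.y⁻¹ = D.q⁻¹ := by
  rw [D.y_zpow_conj, ← zpow_neg, D.zpow_eq_iff]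
  exact ⟨D.P, by ring⟩

theorem zy_conj_q (i : ℤ) : (D.x ^ i * D.y) * D.q * (D.x ^ i * D.y)⁻¹ = D.q⁻¹ := by
  rw [D.zy_conj_zpow, ← D.y_zpow_conj, D.y_conj_q]

theorem q_ne_q_inv : D.q ≠ D.q⁻¹ := by
  intro h
  apply D.c_ne_one
  show D.c = 1
  rw [← D.q_sq]
  nth_rewrite 2 [h]
  exact mul_inv_cancel _

end CfsgLib.TwoFusion.QDGens
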