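import Mathlib.GroupTheory.SpecificGroups.KleinFour
import Mathlib.GroupTheory.Subgroup.Centralizer
import Cfsg.Agent.Lib.TwoFusion.QuasiDihedralElements

/-!
Klein four and quaternion subgroups of quasi-dihedral groups.
-/

set_option autoImplicit false

namespace CfsgLib.TwoFusion.QDGens

variable {S : Type*} [Group S] (D : QDGens S)

theorem zpow_commute_zy {j i : ℤ}
    (h : D.x ^ j * (D.x ^ i * D.y) = (D.x ^ i * D.y) * D.x ^ j) :
    D.x ^ j = 1 ∨ D.x ^ j = D.c := by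
  obtain ⟨k, hk⟩ := D.commute_zpow_zy_iff.mp h
  obtain ⟨t, rfl | rfl⟩ := Int.even_or_odd' k
  · exact Or.inl (D.zpow_eq_one_iff.mpr ⟨t, by rw [hk]; ring⟩)
  · exact Or.inr (D.zpow_eq_iff.mpr ⟨t, by rw [hk]; ring⟩)

/-- The centralizer of an element outside the cyclic maximal subgroup. -/
theorem commute_zy_cases [Finite S] {s : S} {i : ℤ}
    (h : s * (D.x ^ i * D.y) = (D.x ^ i * D.y) * s) :
    s = 1 ∨ s = D.c ∨ s * (D.x ^ i * D.y) = 1 ∨ s * (D.x ^ i * D.y) = D.c := by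
  obtain ⟨j, rfl | rfl⟩ := D.normalForm s
  · rcases D.zpow_commute_zy h with h1 | h1
    · exact Or.inl h1
    · exact Or.inr (Or.inl h1)
  · refine Or.inr (Or.inr ?_)
    rw [D.zy_mul_zy]
    refine D.zpow_commute_zy (i := i) ?_
    rw [← D.zy_mul_zy]
    nth_rewrite 1 [h]
    exact mul_assoc _ _ _

theorem mem_klein_iff [Finite S] {T : Subgroup S} (hT : IsKleinFour T) :
    ∃ i : ℤ, 2 ∣ i ∧ D.x ^ i * D.y ∈ T ∧ ∀ g, g ∈ T ↔
      (g = 1 ∨ g = D.c ∨ g * (D.x ^ i * D.y) = 1 ∨ g * (D.x ^ i * D.y) = D.c) := by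
  classical
  have hsq : ∀ g ∈ T, g * g = 1 := fun g hg =>
    congrArg Subtype.val (IsKleinFour.mul_self (⟨g, hg⟩ : T))
  have hcomm : ∀ g ∈ T, ∀ h ∈ T, g * h = h * g := fun g hg h hh =>
    congrArg Subtype.val ((IsKleinFour.isMulCommutative (G := T)).is_comm.comm ⟨g, hg⟩ ⟨h, hh⟩)
  obtain ⟨i, hiT⟩ : ∃ i : ℤ, D.x ^ i * D.y ∈ T := by
    by_contra h
    push Not at h
    have hsub : (T : Set S) ⊆ {1, D.c} := fun g hg => by
      obtain ⟨j, rfl | rfl⟩ := D.normalForm g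
      · exact D.zpow_sq_eq_one_iff.mp (by rw [pow_two]; exact hsq _ hg)
      · exact absurd hg (h j)
    have h1 := Set.ncard_le_ncard hsub
    have h2 : (T : Set S).ncard = 4 := hT.card_four
    have h3 : ({1, D.c} : Set S).ncard ≤ 2 := by
      exact (Set.ncard_insert_le _ _).trans (by rw [Set.ncard_singleton])
    omega
  have hi : 2 ∣ i := D.sq_zy_eq_one_iff.mp (by rw [pow_two]; exact hsq _ hiT)
  refine ⟨i, hi, hiT, ?_⟩
  set v := D.x ^ i * D.y
  have hv : v * v = 1 := hsq _ hiT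
  have hcv : v⁻¹ = v := inv_eq_of_mul_eq_one_right hv
  have hsub : (T : Set S) ⊆ {1, D.c, v, D.c * v} := fun g hg => by
    rcases D.commute_zy_cases (hcomm g hg v hiT) with h | h | h | h
    · exact Or.inl h
    · exact Or.inr (Or.inl h)
    · exact Or.inr (Or.inr (Or.inl (by rw [mul_eq_one_iff_eq_inv.mp h, hcv])))
    · exact Or.inr (Or.inr (Or.inr (by rw [eq_mul_inv_of_mul_eq h, hcv]; rfl)))
  have h4 : ({1, D.c, v, D.c * v} : Set S).ncard ≤ 4 := by
    refine (Set.ncard_insert_le _ _).trans (Nat.succ_le_succ ?_)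
    refine (Set.ncard_insert_le _ _).trans (Nat.succ_le_succ ?_)
    exact (Set.ncard_insert_le _ _).trans (by rw [Set.ncard_singleton])
  have heq : (T : Set S) = {1, D.c, v, D.c * v} :=
    Set.eq_of_subset_of_ncard_le hsub (h4.trans_eq hT.card_four.symm)
  intro g
  constructor
  · intro hg
    rcases hsub hg with rfl | rfl | rfl | rfl
    · exact Or.inl rfl
    · exact Or.inr (Or.inl rfl)
    · exact Or.inr (Or.inr (Or.inl hv))
    · exact Or.inr (Or.inr (Or.inr (by rw [mul_assoc, hv, mul_one])))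
  · intro hg
    rw [← SetLike.mem_coe, heq]
    rcases hg with h | h | h | h
    · exact Or.inl h
    · exact Or.inr (Or.inl h)
    · exact Or.inr (Or.inr (Or.inl (by rw [mul_eq_one_iff_eq_inv.mp h, hcv])))
    · exact Or.inr (Or.inr (Or.inr (by rw [eq_mul_inv_of_mul_eq h, hcv]; rfl)))

theorem zy_inverts_q (i : ℤ) : (D.x ^ i * D.y) * D.q * (D.x ^ i * D.y)⁻¹ = D.q⁻¹ := D.zy_conj_q i

theorem zy_sq_mem {i : ℤ} (hi : ¬ 2 ∣ i) :
    (D.x ^ i * D.y) * (D.x ^ i * D.y) ∈ Subgroup.zpowers D.q :=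
  ⟨2, by
    show D.q ^ (2 : ℤ) = _
    rw [← pow_two (D.x ^ i * D.y), D.sq_zy_odd hi, zpow_two, D.q_sq]⟩

/-- The quaternion subgroup of order 8 containing the given element outside `⟨x⟩`. -/
def quatSub (i : ℤ) (hi : ¬ 2 ∣ i) : Subgroup S :=
  cyclicByInverter D.q (D.x ^ i * D.y) (D.zy_inverts_q i) (D.zy_sq_mem hi)

theorem mem_quatSub {i : ℤ} (hi : ¬ 2 ∣ i) (g : S) :
    g ∈ D.quatSub i hi ↔ ∃ j : ℤ, g = D.q ^ j ∨ g = (D.x ^ i * D.y) * D.q ^ j := Iff.rfl

theorem zy_mem_quatSub {i : ℤ} (hi : ¬ 2 ∣ i) : D.x ^ i * D.y ∈ D.quatSub i hi :=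
  (D.mem_quatSub hi _).mpr ⟨0, Or.inr (by simp)⟩

theorem q_mem_quatSub {i : ℤ} (hi : ¬ 2 ∣ i) : D.q ∈ D.quatSub i hi :=
  (D.mem_quatSub hi _).mpr ⟨1, Or.inl (by simp)⟩

theorem c_mem_quatSub {i : ℤ} (hi : ¬ 2 ∣ i) : D.c ∈ D.quatSub i hi := by
  rw [← D.q_sq]; exact mul_mem (D.q_mem_quatSub hi) (D.q_mem_quatSub hi)

theorem quatSub_nonempty_mulEquiv {i : ℤ} (hi : ¬ 2 ∣ i) :
    Nonempty (D.quatSub i hi ≃* QuaternionGroup 2) := by
  refine exists_quaternion_mulEquiv (m := 2) (by norm_num) (a := D.q) (b := D.x ^ i * D.y)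
    D.orderOf_q ?_ (D.zy_inverts_q i) ?_ _ (D.mem_quatSub hi)
  · rw [← pow_two, D.sq_zy_odd hi, pow_two, D.q_sq]
  · rintro ⟨k, hk⟩
    have hk : D.q ^ k = D.x ^ i * D.y := hk
    rw [← zpow_mul] at hk
    exact D.zpow_ne_zpow_mul_y _ _ hk

theorem quaternion_pow_four (g : QuaternionGroup 2) : g ^ 4 = 1 := by revert g; decide

theorem quaternion_involution_central (g : QuaternionGroup 2) (h : g * g = 1)
    (k : QuaternionGroup 2) : g * k = k * g := by revert g k; decide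

theorem quaternion_not_comm : ∃ g k : QuaternionGroup 2, g * k ≠ k * g := by decide

theorem eq_quatSub [Finite S] {Q : Subgroup S} (e : Q ≃* QuaternionGroup 2) :
    ∃ (i : ℤ) (hi : ¬ 2 ∣ i), Q = D.quatSub i hi := by
  classical
  have h4 : ∀ g ∈ Q, g ^ 4 = 1 := fun g hg => by
    have : (⟨g, hg⟩ : Q) ^ 4 = 1 := e.injective (by rw [map_pow, map_one, quaternion_pow_four])
    exact congrArg Subtype.val this
  obtain ⟨g, k, hgk⟩ := quaternion_not_comm
  obtain ⟨i, hiQ⟩ : ∃ i : ℤ, D.x ^ i * D.y ∈ Q := by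
    by_contra h
    push Not at h
    have hx : ∀ s ∈ Q, ∃ j : ℤ, s = D.x ^ j := fun s hs => by
      obtain ⟨j, rfl | rfl⟩ := D.normalForm s
      · exact ⟨j, rfl⟩
      · exact absurd hs (h j)
    obtain ⟨j₁, hj₁⟩ := hx _ (e.symm g).2
    obtain ⟨j₂, hj₂⟩ := hx _ (e.symm k).2
    apply hgk
    apply e.symm.injective
    rw [map_mul, map_mul]
    apply Subtype.ext
    rw [Subgroup.coe_mul, Subgroup.coe_mul, hj₁, hj₂, ← zpow_add, ← zpow_add, add_comm]
  have hi : ¬ 2 ∣ i := by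
    intro hi
    have hv2 : (D.x ^ i * D.y) * (D.x ^ i * D.y) = 1 := by
      rw [← pow_two]; exact D.sq_zy_eq_one_iff.mpr hi
    have hcen : ∀ s ∈ Q, s * (D.x ^ i * D.y) = (D.x ^ i * D.y) * s := fun s hs => by
      have h := quaternion_involution_central (e ⟨_, hiQ⟩)
        (by rw [← map_mul, ← map_one e]; exact congrArg e (Subtype.ext hv2)) (e ⟨s, hs⟩)
      rw [← map_mul, ← map_mul] at h
      exact (congrArg Subtype.val (e.injective h)).symm
    have hsub : (Q : Set S) ⊆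
        {1, D.c, (D.x ^ i * D.y)⁻¹, D.c * (D.x ^ i * D.y)⁻¹} := fun s hs => by
      rcases D.commute_zy_cases (hcen s hs) with h | h | h | h
      · exact Or.inl h
      · exact Or.inr (Or.inl h)
      · exact Or.inr (Or.inr (Or.inl (mul_eq_one_iff_eq_inv.mp h)))
      · exact Or.inr (Or.inr (Or.inr (eq_mul_inv_of_mul_eq h)))
    have h1 := Set.ncard_le_ncard hsub
    have h2 : (Q : Set S).ncard = 8 := by
      show Nat.card Q = 8
      rw [Nat.card_congr e.toEquiv]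
      simp [Nat.card_eq_fintype_card, QuaternionGroup.card]
    have h3 : ({1, D.c, (D.x ^ i * D.y)⁻¹, D.c * (D.x ^ i * D.y)⁻¹} : Set S).ncard ≤ 4 := by
      refine (Set.ncard_insert_le _ _).trans (Nat.succ_le_succ ?_)
      refine (Set.ncard_insert_le _ _).trans (Nat.succ_le_succ ?_)
      exact (Set.ncard_insert_le _ _).trans (by rw [Set.ncard_singleton])
    omega
  refine ⟨i, hi, ?_⟩
  obtain ⟨e'⟩ := D.quatSub_nonempty_mulEquiv hi
  refine Subgroup.eq_of_le_of_card_ge ?_ ?_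
  · intro s hs
    have hxx : ∀ j : ℤ, D.x ^ j ∈ Q → D.x ^ j ∈ D.quatSub i hi := fun j hj => by
      rcases D.zpow_pow_four_eq_one_iff.mp (h4 _ hj) with h | h | h | h <;> rw [h]
      · exact one_mem _
      · exact D.c_mem_quatSub hi
      · exact D.q_mem_quatSub hi
      · exact inv_mem (D.q_mem_quatSub hi)
    obtain ⟨j, rfl | rfl⟩ := D.normalForm s
    · exact hxx j hs
    · have h := mul_mem hs hiQ
      rw [D.zy_mul_zy] at h
      have h' := hxx _ h
      rw [← D.zy_mul_zy] at h'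
      exact (Subgroup.mul_mem_cancel_right _ (D.zy_mem_quatSub hi)).mp h'
  · rw [Nat.card_congr e.toEquiv, Nat.card_congr e'.toEquiv]

end CfsgLib.TwoFusion.QDGens
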