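import Mathlib.GroupTheory.Frattini
import Mathlib.GroupTheory.Commutator.Basic
import Cfsg.Agent.Lib.TwoFusion.QuasiDihedralSubgroups
import Cfsg.Agent.Lib.TwoFusion.TwoGroupCoatom

/-!
Maximal subgroups, derived subgroup and centre of quasi-dihedral groups.
-/

set_option autoImplicit false

open scoped commutatorElement

namespace CfsgLib.TwoFusion.QDGens

variable {S : Type*} [Group S] (D : QDGens S)

include D in
theorem isPGroup : IsPGroup 2 S := IsPGroup.of_card D.hcard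

theorem sq_inverted (i : ℤ) :
    (D.x ^ i * D.y) * D.x ^ (2 : ℤ) * (D.x ^ i * D.y)⁻¹ = (D.x ^ (2 : ℤ))⁻¹ := by
  rw [D.zy_conj_zpow, ← zpow_neg, D.zpow_eq_iff]
  exact ⟨1, by ring⟩

theorem orderOf_x_two : orderOf (D.x ^ (2 : ℤ)) = 2 ^ (D.p + 2) := by
  have h : orderOf (D.x ^ 2) = 2 ^ (D.p + 2) := by
    rw [orderOf_pow_of_dvd (by norm_num) (by rw [D.hord, pow_succ]; exact dvd_mul_left _ _), D.hord,
      pow_succ (n := D.p + 2), Nat.mul_div_cancel _ (by norm_num)]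
  rw [show (2 : ℤ) = ((2 : ℕ) : ℤ) from rfl, zpow_natCast]; exact h

theorem zy_zero_sq : (D.x ^ (0 : ℤ) * D.y) * (D.x ^ (0 : ℤ) * D.y) ∈ Subgroup.zpowers (D.x ^ (2 : ℤ)) := by
  rw [zpow_zero, one_mul, D.y_mul_y]; exact one_mem _

theorem zy_one_sq : (D.x ^ (1 : ℤ) * D.y) * (D.x ^ (1 : ℤ) * D.y) ∈ Subgroup.zpowers (D.x ^ (2 : ℤ)) :=
  ⟨2 * D.P, by
    show (D.x ^ (2 : ℤ)) ^ (2 * D.P) = _
    rw [← pow_two (D.x ^ (1 : ℤ) * D.y), D.sq_zy_odd (by omega), ← zpow_mul]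
    congr 1; ring⟩

/-- The dihedral maximal subgroup. -/
def dihMax : Subgroup S :=
  cyclicByInverter (D.x ^ (2 : ℤ)) (D.x ^ (0 : ℤ) * D.y) (D.sq_inverted 0) D.zy_zero_sq

/-- The generalized quaternion maximal subgroup. -/
def quatMax : Subgroup S :=
  cyclicByInverter (D.x ^ (2 : ℤ)) (D.x ^ (1 : ℤ) * D.y) (D.sq_inverted 1) D.zy_one_sq

theorem sq_not_mem_zy (i : ℤ) : D.x ^ i * D.y ∉ Subgroup.zpowers (D.x ^ (2 : ℤ)) := by
  rintro ⟨k, hk⟩
  have hk : (D.x ^ (2 : ℤ)) ^ k = D.x ^ i * D.y := hk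
  rw [← zpow_mul] at hk
  exact D.zpow_ne_zpow_mul_y _ _ hk

theorem dihMax_mulEquiv : Nonempty (D.dihMax ≃* DihedralGroup (2 ^ (D.p + 2))) :=
  exists_dihedral_mulEquiv (by positivity) D.orderOf_x_two (by rw [zpow_zero, one_mul, D.y_mul_y])
    (D.sq_inverted 0) (D.sq_not_mem_zy 0) _ (mem_cyclicByInverter _ _)

theorem quatMax_mulEquiv : Nonempty (D.quatMax ≃* QuaternionGroup (2 ^ (D.p + 1))) := by
  refine exists_quaternion_mulEquiv (by positivity) (by rw [D.orderOf_x_two]; ring) ?_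
    (D.sq_inverted 1) (D.sq_not_mem_zy 1) _ (mem_cyclicByInverter _ _)
  rw [← pow_two, D.sq_zy_odd (by omega), ← zpow_natCast (D.x ^ (2 : ℤ)), ← zpow_mul, D.hP]
  congr 1
  push_cast
  ring

theorem card_dihMax : Nat.card D.dihMax = 2 ^ (D.p + 3) := by
  obtain ⟨e⟩ := D.dihMax_mulEquiv
  rw [Nat.card_congr e.toEquiv, DihedralGroup.nat_card]; ring

theorem card_quatMax : Nat.card D.quatMax = 2 ^ (D.p + 3) := by
  obtain ⟨e⟩ := D.quatMax_mulEquiv
  rw [Nat.card_congr e.toEquiv, Nat.card_eq_fintype_card, QuaternionGroup.card]; ring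

theorem index_of_card {H : Subgroup S} (h : Nat.card H = 2 ^ (D.p + 3)) : H.index = 2 := by
  have h2 := H.card_mul_index
  rw [h, D.hcard, pow_succ (n := D.p + 3)] at h2
  exact Nat.eq_of_mul_eq_mul_left (by positivity) h2

theorem card_zpowers_x : Nat.card (Subgroup.zpowers D.x) = 2 ^ (D.p + 3) := by
  rw [Nat.card_zpowers, D.hord]

theorem sq_mem_dihMax : D.x ^ (2 : ℤ) ∈ D.dihMax :=
  (mem_cyclicByInverter _ _ _).mpr ⟨1, Or.inl (zpow_one _).symm⟩

theorem sq_mem_quatMax : D.x ^ (2 : ℤ) ∈ D.quatMax :=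
  (mem_cyclicByInverter _ _ _).mpr ⟨1, Or.inl (zpow_one _).symm⟩

theorem y_mem_dihMax : D.y ∈ D.dihMax :=
  (mem_cyclicByInverter _ _ _).mpr ⟨0, Or.inr (by simp)⟩

theorem xy_mem_quatMax : D.x ^ (1 : ℤ) * D.y ∈ D.quatMax :=
  (mem_cyclicByInverter _ _ _).mpr ⟨0, Or.inr (by simp)⟩

theorem dihMax_le {M : Subgroup S} (h2 : D.x ^ (2 : ℤ) ∈ M) (hy : D.y ∈ M) : D.dihMax ≤ M := by
  intro g hg
  rcases (mem_cyclicByInverter _ _ _).mp hg with ⟨i, rfl | rfl⟩
  · exact zpow_mem h2 i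
  · refine mul_mem ?_ (zpow_mem h2 i)
    rw [zpow_zero, one_mul]; exact hy

theorem quatMax_le {M : Subgroup S} (h2 : D.x ^ (2 : ℤ) ∈ M) (hy : D.x ^ (1 : ℤ) * D.y ∈ M) :
    D.quatMax ≤ M := by
  intro g hg
  rcases (mem_cyclicByInverter _ _ _).mp hg with ⟨i, rfl | rfl⟩
  · exact zpow_mem h2 i
  · exact mul_mem hy (zpow_mem h2 i)

theorem coatom_cases [Finite S] {M : Subgroup S} (hM : IsCoatom M) :
    M = Subgroup.zpowers D.x ∨ M = D.quatMax ∨ M = D.dihMax := by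
  have hi := index_eq_two_of_isCoatom D.isPGroup hM
  have hc : Nat.card M = 2 ^ (D.p + 3) := by
    have := card_mul_two_of_isCoatom D.isPGroup hM
    rw [D.hcard, pow_succ (n := D.p + 3)] at this
    omega
  have h2 : D.x ^ (2 : ℤ) ∈ M := by rw [zpow_two, Subgroup.mul_mem_iff_of_index_two hi]
  by_cases hx : D.x ∈ M
  · exact Or.inl (Subgroup.eq_of_le_of_card_ge (Subgroup.zpowers_le.mpr hx)
      (by rw [hc, D.card_zpowers_x])).symm
  · by_cases hy : D.y ∈ M
    · exact Or.inr (Or.inr (Subgroup.eq_of_le_of_card_ge (D.dihMax_le h2 hy)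
        (by rw [hc, D.card_dihMax])).symm)
    · have hxy : D.x ^ (1 : ℤ) * D.y ∈ M := by
        rw [zpow_one, Subgroup.mul_mem_iff_of_index_two hi]; exact iff_of_false hx hy
      exact Or.inr (Or.inl (Subgroup.eq_of_le_of_card_ge (D.quatMax_le h2 hxy)
        (by rw [hc, D.card_quatMax])).symm)

theorem y_not_mem_quatMax : D.y ∉ D.quatMax := by
  intro h
  rcases (mem_cyclicByInverter _ _ _).mp h with ⟨i, h | h⟩
  · exact D.y_not_mem ⟨2 * i, by show D.x ^ (2 * i) = D.y; rw [h, ← zpow_mul]⟩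
  · rw [← zpow_mul, D.zy_mul] at h
    nth_rewrite 1 [← one_mul D.y] at h
    rw [← zpow_zero D.x, D.zy_eq_iff] at h
    obtain ⟨c, hc⟩ := h
    have h2 : (2 : ℤ) ∣ 1 := ⟨-(4 * D.P - 1) * i - 4 * D.P * c, by linear_combination -hc⟩
    norm_num at h2

theorem x_ne_quat : Subgroup.zpowers D.x ≠ D.quatMax := fun h => by
  have h1 : D.x ^ (1 : ℤ) * D.y ∈ Subgroup.zpowers D.x := h ▸ D.xy_mem_quatMax
  rw [Subgroup.mul_mem_cancel_left _ (zpow_mem (Subgroup.mem_zpowers _) 1)] at h1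
  exact D.y_not_mem h1

theorem x_ne_dih : Subgroup.zpowers D.x ≠ D.dihMax := fun h =>
  D.y_not_mem (h ▸ D.y_mem_dihMax)

theorem quat_ne_dih : D.quatMax ≠ D.dihMax := fun h =>
  D.y_not_mem_quatMax (h ▸ D.y_mem_dihMax)

theorem inf_max_le [Finite S] {g : S} (h1 : g ∈ Subgroup.zpowers D.x) (h2 : g ∈ D.quatMax) :
    g ∈ Subgroup.zpowers (D.x ^ (2 : ℤ)) := by
  rcases (mem_cyclicByInverter _ _ _).mp h2 with ⟨i, h | h⟩
  · exact ⟨i, h.symm⟩
  · exfalso
    obtain ⟨k, rfl⟩ := h1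
    have h : D.x ^ k = D.x ^ (1 : ℤ) * D.y * (D.x ^ (2 : ℤ)) ^ i := h
    rw [← zpow_mul, D.zy_mul] at h
    exact D.zpow_ne_zpow_mul_y _ _ h

theorem commutator_eq [Finite S] : commutator S = Subgroup.zpowers (D.x ^ (2 : ℤ)) := by
  apply le_antisymm
  · rw [commutator_def, Subgroup.commutator_le]
    intro a _ b _
    have key : ∀ M : Subgroup S, M.index = 2 → ⁅a, b⁆ ∈ M := by
      intro M hM
      rw [commutatorElement_def, Subgroup.mul_mem_iff_of_index_two hM,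
        Subgroup.mul_mem_iff_of_index_two hM, Subgroup.mul_mem_iff_of_index_two hM,
        inv_mem_iff, inv_mem_iff]
      tauto
    exact D.inf_max_le (key _ (D.index_of_card D.card_zpowers_x))
      (key _ (D.index_of_card D.card_quatMax))
  · rw [Subgroup.zpowers_le]
    have h : ⁅D.y, D.x⁆ ∈ commutator S :=
      Subgroup.commutator_mem_commutator (Subgroup.mem_top _) (Subgroup.mem_top _)
    rw [commutatorElement_def, D.hrel] at h
    nth_rewrite 2 [← zpow_one D.x] at h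
    rw [← zpow_neg, ← zpow_add] at h
    obtain ⟨a, b, hab⟩ := D.odd_coprime (t := 1 - 2 * D.P) (by omega)
    have h2 := zpow_mem h (-b)
    rw [← zpow_mul] at h2
    have e : D.x ^ ((4 * D.P - 1 + -1) * -b) = D.x ^ (2 : ℤ) :=
      D.zpow_eq_iff.mpr ⟨-2 * a, by linear_combination 2 * hab⟩
    rwa [e] at h2

theorem frattini_eq [Finite S] : frattini S = Subgroup.zpowers (D.x ^ (2 : ℤ)) := by
  apply le_antisymm
  · intro g hg
    exact D.inf_max_le
      (frattini_le_coatom (isCoatom_of_index_two (D.index_of_card D.card_zpowers_x)) hg)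
      (frattini_le_coatom (isCoatom_of_index_two (D.index_of_card D.card_quatMax)) hg)
  · rw [Subgroup.zpowers_le]
    show _ ∈ Order.radical (Subgroup S)
    rw [Order.radical, Subgroup.mem_iInf]
    intro M
    rw [Subgroup.mem_iInf]
    intro hM
    rw [zpow_two, Subgroup.mul_mem_iff_of_index_two (index_eq_two_of_isCoatom D.isPGroup hM)]

theorem center_eq [Finite S] : Subgroup.center S = Subgroup.zpowers D.c := by
  apply le_antisymm
  · intro g hg
    rw [Subgroup.mem_center_iff] at hg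
    obtain ⟨j, rfl | rfl⟩ := D.normalForm g
    · rcases D.zpow_commute_zy (j := j) (i := 0) (hg _).symm with h | h <;> rw [h]
      · exact one_mem _
      · exact Subgroup.mem_zpowers _
    · exfalso
      have h := D.commute_zpow_zy_iff.mp (hg (D.x ^ (1 : ℤ)))
      have := Int.le_of_dvd one_pos h
      have := D.P_pos
      omega
  · rw [Subgroup.zpowers_le, Subgroup.mem_center_iff]
    exact fun g => (D.c_comm g).symm

end CfsgLib.TwoFusion.QDGens
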