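import Cfsg.Agent.Lib.TwoFusion.LocalAut
import Cfsg.Agent.Lib.TwoFusion.FusionTools
import Cfsg.Agent.Lib.TwoFusion.QuasiDihedralMax

/-!
Fusion in finite groups with quasi-dihedral Sylow 2-subgroups.
-/

set_option autoImplicit false

namespace CfsgLib.TwoFusion.QDFusion

open LocalAut FusionTools Subgroup

variable {G : Type*} [Group G]

theorem isQuasiDihedral_of_mulEquiv {A B : Type*} [Group A] [Group B] (e : A ≃* B)
    (h : Cfsg.IsQuasiDihedral A) : Cfsg.IsQuasiDihedral B := by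
  obtain ⟨n, hn, hc, x, y, hx, hy, hr⟩ := h
  refine ⟨n, hn, by rw [← Nat.card_congr e.toEquiv, hc], e x, e y, ?_, ?_, ?_⟩
  · rw [e.orderOf_eq, hx]
  · rw [e.orderOf_eq, hy]
  · rw [← map_inv, ← map_mul, ← map_mul, hr, map_pow]

theorem exists_gens {S : Subgroup G} (hS : Cfsg.IsQuasiDihedral S) : Nonempty (QDGens S) :=
  exists_qdGens hS

theorem isQuasiDihedral_of_gens {A : Type*} [Group A] (D : QDGens A) : Cfsg.IsQuasiDihedral A := by
  refine ⟨D.p + 3, by omega, D.hcard, D.x, D.y, D.hord, D.hy, ?_⟩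
  rw [D.hrel, ← zpow_natCast, D.hP]
  congr 1
  rw [show D.p + 3 - 1 = D.p + 2 by omega, Nat.cast_sub Nat.one_le_two_pow]
  push_cast
  ring

theorem exists_gens_of_sylow [Finite G] (S S' : Sylow 2 G) (hS : Cfsg.IsQuasiDihedral (S : Subgroup G)) :
    Nonempty (QDGens (S' : Subgroup G)) :=
  exists_qdGens (isQuasiDihedral_of_mulEquiv (S.equiv S') hS)

/-- A Sylow 2-subgroup inside `M` containing `P`, when `M` contains some Sylow 2-subgroup. -/
theorem exists_sylow_between [Finite G] (S : Sylow 2 G) (M P : Subgroup G) (hP : IsPGroup 2 P)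
    (hPM : P ≤ M) (g : G) (hg : ∀ s ∈ (S : Subgroup G), g⁻¹ * s * g ∈ M) :
    ∃ S' : Sylow 2 G, P ≤ (S' : Subgroup G) ∧ (S' : Subgroup G) ≤ M := by
  obtain ⟨R, hR, hRM, hPR, -, hall⟩ := exists_sylow_in M P hP hPM
  set T := (S : Subgroup G).map (MulAut.conj g⁻¹).toMonoidHom with hT
  have hTM : T ≤ M := by
    rintro _ ⟨s, hs, rfl⟩
    simpa using hg s hs
  obtain ⟨h, -, hh⟩ := hall T (S.isPGroup'.map _) hTM
  have hle : T.map (MulAut.conj h).toMonoidHom ≤ R := by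
    rintro _ ⟨q, hq, rfl⟩
    exact hh q hq
  have hc : Nat.card (S : Subgroup G) ≤ Nat.card R := by
    refine le_trans ?_ (Subgroup.card_le_of_le hle)
    rw [Subgroup.card_map_of_injective (MulAut.conj h).injective,
      Subgroup.card_map_of_injective (MulAut.conj g⁻¹).injective]
  obtain ⟨S', hS'⟩ := exists_sylow_eq S R hR hc
  exact ⟨S', hS' ▸ hPR, hS' ▸ hRM⟩

section Sylow

variable {S : Subgroup G} (D : QDGens S)

/-- The central involution, in `G`. -/
abbrev cG : G := (D.c : S)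

/-- The element of order four in the cyclic maximal subgroup, in `G`. -/
abbrev qG : G := (D.q : S)

theorem cG_comm [Finite S] {g : G} (hg : g ∈ S) : cG D * g = g * cG D :=
  congrArg Subtype.val (D.c_comm ⟨g, hg⟩)

theorem orderOf_cG : orderOf (cG D) = 2 := by rw [Subgroup.orderOf_coe, D.orderOf_c]

theorem orderOf_qG : orderOf (qG D) = 4 := by rw [Subgroup.orderOf_coe, D.orderOf_q]

theorem cG_ne_one : cG D ≠ 1 := fun h => D.c_ne_one (Subtype.ext h)

/-- The elements `x ^ i * y` in `G`. -/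
abbrev vG (i : ℤ) : G := ((D.x ^ i * D.y : S) : G)

theorem orderOf_vG_even {i : ℤ} (hi : 2 ∣ i) : orderOf (vG D i) = 2 := by
  rw [Subgroup.orderOf_coe, D.orderOf_zy_even hi]

theorem orderOf_vG_odd {i : ℤ} (hi : ¬ 2 ∣ i) : orderOf (vG D i) = 4 := by
  rw [Subgroup.orderOf_coe, D.orderOf_zy_odd hi]

theorem isConj_vG [Finite S] {i k : ℤ} (h : 2 ∣ i - k) : IsConj (vG D k) (vG D i) := by
  obtain ⟨s, hs⟩ := D.exists_conj_zy h
  exact isConj_iff.mpr ⟨s, congrArg Subtype.val hs⟩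

theorem involution_cases [Finite S] {t : G} (ht : t ∈ S) (ho : orderOf t = 2) :
    t = cG D ∨ IsConj (vG D 0) t := by
  rcases D.orderOf_eq_two_cases (s := (⟨t, ht⟩ : S)) (by rw [← Subgroup.orderOf_coe]; exact ho) with
    h | ⟨i, hi, h⟩
  · exact Or.inl (congrArg Subtype.val h)
  · rw [show t = vG D i from congrArg Subtype.val h]
    exact Or.inr (isConj_vG D (by simpa using hi))

theorem order_four_cases [Finite S] {t : G} (ht : t ∈ S) (ho : orderOf t = 4) :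
    IsConj (qG D) t ∨ IsConj (vG D 1) t := by
  rcases D.orderOf_eq_four_cases (s := (⟨t, ht⟩ : S)) (by rw [← Subgroup.orderOf_coe]; exact ho) with
    h | h | ⟨i, hi, h⟩
  · rw [show t = qG D from congrArg Subtype.val h]
    exact Or.inl (IsConj.refl _)
  · rw [show t = (qG D)⁻¹ from congrArg Subtype.val h]
    exact Or.inl (isConj_iff.mpr ⟨(D.y : S), congrArg Subtype.val D.y_conj_q⟩)
  · rw [show t = vG D i from congrArg Subtype.val h]
    exact Or.inr (isConj_vG D (by omega))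

/-- Facts about a Klein four-subgroup of `S`. -/
theorem klein_facts [Finite S] {T : Subgroup G} (hT : IsKleinFour T) (hTS : T ≤ S) :
    cG D ∈ T ∧ qG D ∈ normalizer (T : Set G) ∧
      (∀ t ∈ T, qG D * t * (qG D)⁻¹ = t → t = 1 ∨ t = cG D) ∧
      (∃ t ∈ T, t ≠ cG D ∧ t ≠ 1) ∧
      ∀ t ∈ T, t ≠ 1 → t ≠ cG D → IsConj (vG D 0) t := by
  classical
  haveI : IsKleinFour T := hT
  have hT' : IsKleinFour (T.subgroupOf S) := by
    refine ⟨?_, ?_⟩
    · rw [Nat.card_congr (Subgroup.subgroupOfEquivOfLe hTS).toEquiv]; exact hT.card_four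
    · rw [Monoid.exponent_eq_of_mulEquiv (Subgroup.subgroupOfEquivOfLe hTS)]; exact hT.exponent_two
  obtain ⟨i, hi, hiT, hm⟩ := D.mem_klein_iff hT'
  have hc : cG D ∈ T := Subgroup.mem_subgroupOf.mp ((hm _).mpr (Or.inr (Or.inl rfl)))
  have hsq : ∀ g ∈ T, g * g = 1 := fun g hg =>
    congrArg Subtype.val (IsKleinFour.mul_self (⟨g, hg⟩ : T))
  have hvi : (vG D i)⁻¹ = vG D i := inv_eq_of_mul_eq_one_right (hsq _ (Subgroup.mem_subgroupOf.mp hiT))
  have hel : ∀ g ∈ T, g = 1 ∨ g = cG D ∨ g = vG D i ∨ g = cG D * vG D i := by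
    intro g hg
    rcases (hm ⟨g, hTS hg⟩).mp (Subgroup.mem_subgroupOf.mpr hg) with h | h | h | h
    · exact Or.inl (congrArg Subtype.val h)
    · exact Or.inr (Or.inl (congrArg Subtype.val h))
    · refine Or.inr (Or.inr (Or.inl ?_))
      rw [← hvi]
      exact mul_eq_one_iff_eq_inv.mp (congrArg Subtype.val h)
    · refine Or.inr (Or.inr (Or.inr ?_))
      rw [← hvi]
      exact eq_mul_inv_of_mul_eq (congrArg Subtype.val h)
  have hqv : qG D * vG D i * (qG D)⁻¹ = cG D * vG D i := by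
    have e : D.q * (D.x ^ i * D.y) * D.q⁻¹ = D.c * (D.x ^ i * D.y) := by
      calc D.q * (D.x ^ i * D.y) * D.q⁻¹
          = D.q * ((D.x ^ i * D.y) * D.q⁻¹ * (D.x ^ i * D.y)⁻¹) * (D.x ^ i * D.y) := by group
        _ = D.c * (D.x ^ i * D.y) := by rw [← conj_inv, D.zy_conj_q, inv_inv, D.q_sq]
    exact congrArg Subtype.val e
  have hne1 : vG D i ≠ 1 := fun h => by
    have := orderOf_vG_even D hi
    rw [h, orderOf_one] at this
    omega
  have hnec : vG D i ≠ cG D := fun h => D.zpow_ne_zpow_mul_y _ i (Subtype.ext h).symm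
  have hqc : qG D * cG D * (qG D)⁻¹ = cG D := by
    rw [← cG_comm D (D.q).2, mul_inv_cancel_right]
  have hqcv : qG D * (cG D * vG D i) * (qG D)⁻¹ = vG D i := by
    rw [show qG D * (cG D * vG D i) * (qG D)⁻¹ =
      qG D * cG D * (qG D)⁻¹ * (qG D * vG D i * (qG D)⁻¹) by group, hqc, hqv, ← mul_assoc,
      show cG D * cG D = 1 from congrArg Subtype.val D.c_mul_c, one_mul]
  have hiT' : vG D i ∈ T := Subgroup.mem_subgroupOf.mp hiT
  have hqN : qG D ∈ normalizer (T : Set G) := by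
    rw [Subgroup.mem_normalizer_iff]
    have hto : ∀ g ∈ T, qG D * g * (qG D)⁻¹ ∈ T := by
      intro g hg
      rcases hel g hg with rfl | rfl | rfl | rfl
      · simp
      · rw [hqc]; exact hc
      · rw [hqv]; exact mul_mem hc hiT'
      · rw [hqcv]; exact hiT'
    intro g
    refine ⟨hto g, fun h => ?_⟩
    have h' := hto _ h
    have e : qG D * (qG D * g * (qG D)⁻¹) * (qG D)⁻¹ = (qG D * qG D) * g * (qG D * qG D)⁻¹ := by group
    rw [e, show qG D * qG D = cG D from congrArg Subtype.val D.q_sq] at h'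
    have e2 : g = (cG D)⁻¹ * (cG D * g * (cG D)⁻¹) * cG D := by group
    rw [e2]
    exact mul_mem (mul_mem (inv_mem hc) h') hc
  refine ⟨hc, hqN, ?_, ⟨_, hiT', hnec, hne1⟩, ?_⟩
  · intro t ht hfix
    rcases hel t ht with rfl | rfl | rfl | rfl
    · exact Or.inl rfl
    · exact Or.inr rfl
    · exfalso
      rw [hqv, mul_eq_right] at hfix
      exact cG_ne_one D hfix
    · exfalso
      rw [hqcv, eq_comm, mul_eq_right] at hfix
      exact cG_ne_one D hfix
  · intro t ht h1 h2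
    rcases hel t ht with rfl | rfl | rfl | rfl
    · exact absurd rfl h1
    · exact absurd rfl h2
    · exact isConj_vG D (by simpa using hi)
    · refine (isConj_vG D (by simpa using hi)).trans (isConj_iff.mpr ⟨qG D, hqv⟩)

theorem quatSub_forms [Finite S] {i : ℤ} (hi : ¬ 2 ∣ i) {s : S} (hs : s ∈ D.quatSub i hi) :
    ∃ t : ℤ, s = D.c ^ t ∨ s = D.q * D.c ^ t ∨ s = (D.x ^ i * D.y) * D.c ^ t ∨
      s = D.q * (D.x ^ i * D.y) * D.c ^ t := by
  set v := D.x ^ i * D.y with hv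
  have hvq : v * D.q = D.q * v * D.c := by
    have h1 : v * D.q * v⁻¹ = D.q * D.c := by
      rw [hv, D.zy_conj_q, inv_eq_iff_mul_eq_one, ← mul_assoc, D.q_sq, D.c_mul_c]
    rw [mul_inv_eq_iff_eq_mul] at h1
    rw [h1, mul_assoc, mul_assoc, D.c_comm]
  obtain ⟨j, hj⟩ := (D.mem_quatSub hi s).mp hs
  obtain ⟨t, rfl | rfl⟩ := Int.even_or_odd' j <;> rcases hj with rfl | rfl
  · exact ⟨t, Or.inl (by rw [zpow_mul, zpow_two, D.q_sq])⟩
  · exact ⟨t, Or.inr (Or.inr (Or.inl (by rw [zpow_mul, zpow_two, D.q_sq])))⟩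
  · refine ⟨t, Or.inr (Or.inl ?_)⟩
    rw [add_comm, zpow_add, zpow_one, zpow_mul, zpow_two, D.q_sq]
  · refine ⟨1 + t, Or.inr (Or.inr (Or.inr ?_))⟩
    rw [add_comm (2 * t), zpow_add, zpow_one, zpow_mul, zpow_two, D.q_sq, ← mul_assoc, hvq,
      zpow_add, zpow_one, hv]
    simp only [mul_assoc]

/-- The element normalizing a quaternion subgroup of order 8 and swapping two of its classes. -/
theorem quatSub_swap [Finite S] {i : ℤ} (hi : ¬ 2 ∣ i) :
    D.x ^ D.P * D.q * (D.x ^ D.P)⁻¹ = D.q ∧ D.x ^ D.P * D.x ^ D.P = D.q ∧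
      ∃ t : ℤ, D.x ^ D.P * (D.x ^ i * D.y) * (D.x ^ D.P)⁻¹
        = D.q * (D.x ^ i * D.y) * D.c ^ t := by
  refine ⟨?_, by rw [← zpow_add]; congr 1; ring, ⟨D.P, ?_⟩⟩
  · rw [← zpow_neg, ← zpow_add, ← zpow_add]; congr 1; ring
  · rw [D.conj_zy, ← zpow_mul, D.mul_zy, D.zy_mul, D.zy_eq_iff]
    exact ⟨-2 * D.P ^ 2, by ring⟩

/-- A quaternion subgroup of order 8 of `S` in normal form. -/
theorem quat_data [Finite S] {Q : Subgroup G} (hQS : Q ≤ S) (e : Q ≃* QuaternionGroup 2) :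
    ∃ (i : ℤ) (iQ vQ cQ : Q), ¬ 2 ∣ i ∧ (iQ : G) = qG D ∧ (vQ : G) = vG D i ∧ (cQ : G) = cG D ∧
      FourData Q iQ vQ cQ ∧
      iQ ∉ center Q ∧ vQ ∉ center Q ∧ iQ * vQ ∉ center Q ∧
      (∀ ζ ∈ center Q, ζ = 1 ∨ ζ = cQ) ∧
      ∀ s : S, (s : G) ∈ Q ↔ ∃ h : ¬ 2 ∣ i, s ∈ D.quatSub i h := by
  obtain ⟨i, hi, hQ⟩ := D.eq_quatSub ((Subgroup.subgroupOfEquivOfLe hQS).trans e)
  have hmem : ∀ s : S, (s : G) ∈ Q ↔ s ∈ D.quatSub i hi := fun s => by
    rw [← hQ, Subgroup.mem_subgroupOf]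
  set v : S := D.x ^ i * D.y with hv
  let iQ : Q := ⟨qG D, (hmem _).mpr (D.q_mem_quatSub hi)⟩
  let vQ : Q := ⟨vG D i, (hmem _).mpr (D.zy_mem_quatSub hi)⟩
  let cQ : Q := ⟨cG D, (hmem _).mpr (D.c_mem_quatSub hi)⟩
  let ι : Q →* S := Subgroup.inclusion hQS
  have hι : Function.Injective ι := Subgroup.inclusion_injective hQS
  have ei : ι iQ = D.q := rfl
  have ev : ι vQ = v := rfl
  have ec : ι cQ = D.c := rfl
  have hqv : D.q * v * D.q⁻¹ = v * D.c := by
    rw [← D.c_comm]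
    calc D.q * v * D.q⁻¹ = D.q * (v * D.q⁻¹ * v⁻¹) * v := by group
      _ = D.c * v := by rw [← conj_inv, hv, D.zy_conj_q, inv_inv, D.q_sq]
  have hcen : cQ ∈ center Q := Subgroup.mem_center_iff.mpr fun m => hι (by
    rw [map_mul, map_mul, ec, D.c_comm])
  have hcenQ : ∀ ζ ∈ center Q, ζ = 1 ∨ ζ = cQ := by
    intro ζ hζ
    have h1 : ι ζ * v = v * ι ζ := by
      rw [← ev, ← map_mul, ← map_mul, Subgroup.mem_center_iff.mp hζ]
    have h2 : ι ζ * D.q = D.q * ι ζ := by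
      rw [← ei, ← map_mul, ← map_mul, Subgroup.mem_center_iff.mp hζ]
    obtain ⟨j, hj | hj⟩ := D.normalForm (ι ζ)
    · rw [hj] at h1
      rcases D.zpow_commute_zy h1 with h3 | h3
      · exact Or.inl (hι (by rw [hj, h3, map_one]))
      · exact Or.inr (hι (by rw [hj, h3, ec]))
    · exfalso
      apply D.q_ne_q_inv
      rw [hj] at h2
      have h4 := D.zy_conj_q j
      rw [h2, mul_inv_cancel_right] at h4
      exact h4
  have hdata : FourData Q iQ vQ cQ := by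
    refine ⟨?_, hcen, fun h => cG_ne_one D (congrArg Subtype.val h), ?_, ?_, ?_, ?_, ?_⟩
    · intro m
      obtain ⟨t, h⟩ := quatSub_forms D hi (s := ι m) ((hmem _).mp m.2)
      refine ⟨cQ ^ t, zpow_mem hcen t, ?_⟩
      rcases h with h | h | h | h
      · exact Or.inl (hι (by rw [h, map_zpow, ec]))
      · exact Or.inr (Or.inl (hι (by rw [h, map_mul, map_zpow, ec, ei])))
      · exact Or.inr (Or.inr (Or.inl (hι (by rw [h, map_mul, map_zpow, ec, ev]))))
      · exact Or.inr (Or.inr (Or.inr (hι (by rw [h, map_mul, map_mul, map_zpow, ec, ev, ei]))))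
    · rw [show iQ * iQ = cQ from hι (by rw [map_mul, ei, ec, D.q_sq])]; exact hcen
    · rw [show vQ * vQ = cQ from hι (by rw [map_mul, ev, ec, hv, ← pow_two, D.sq_zy_odd hi])]
      exact hcen
    · refine hι ?_
      rw [map_mul, map_mul, map_mul, map_inv, ei, ev, ec, hv, D.zy_conj_q, inv_eq_iff_mul_eq_one,
        ← mul_assoc, D.q_sq, D.c_mul_c]
    · refine hι ?_
      rw [map_mul, map_mul, map_mul, map_inv, ei, ev, ec, hqv]
    · intro ζ hζ _; exact hcenQ ζ hζ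
  have hnc : ∀ m : Q, orderOf (m : G) = 4 → m ∉ center Q := by
    intro m hm h
    rcases hcenQ _ h with rfl | rfl
    · rw [OneMemClass.coe_one, orderOf_one] at hm; omega
    · rw [show (cQ : G) = cG D from rfl, orderOf_cG] at hm; omega
  refine ⟨i, iQ, vQ, cQ, hi, rfl, rfl, rfl, hdata, hnc _ (orderOf_qG D), hnc _ (orderOf_vG_odd D hi),
    hnc _ ?_, hcenQ, fun s => (hmem s).trans ⟨fun h => ⟨hi, h⟩, fun ⟨_, h⟩ => h⟩⟩
  show orderOf (((D.q * v : S) : G)) = 4
  rw [Subgroup.orderOf_coe, hv, D.mul_zy]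
  exact D.orderOf_zy_odd (by omega)

end Sylow

end CfsgLib.TwoFusion.QDFusion
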