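import Mathlib.GroupTheory.Index
import Mathlib.GroupTheory.OrderOfElement
import Mathlib.GroupTheory.SpecificGroups.KleinFour
import Mathlib.GroupTheory.Subgroup.Center
import Mathlib.Data.ZMod.Basic
import Mathlib.Tactic.Group
import Mathlib.Tactic.Ring
import Mathlib.Tactic.LinearCombination
import Cfsg.Prelude.Def_CaseTheorems
import Cfsg.Agent.Lib.TwoFusion.DihedralIso

/-!
Wreathed 2-groups: normal forms.

`x, y` generate a homocyclic group of exponent `N = 2 H = 4 Q` (`Q = 2 ^ k`) and the involution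
`z` exchanges them.
-/

set_option autoImplicit false

namespace CfsgLib.TwoFusion

/-- Standard generators of a wreathed 2-group. -/
structure WRGens (S : Type*) [Group S] where
  x : S
  y : S
  z : S
  k : ℕ
  Q : ℤ
  hQ : Q = 2 ^ k
  hord : orderOf x = 2 ^ (k + 2)
  hcomm : x * y = y * x
  hdisj : Subgroup.zpowers x ⊓ Subgroup.zpowers y = ⊥
  hz : orderOf z = 2
  hrel : z * x * z⁻¹ = y
  hcard : Nat.card S = 2 ^ (2 * (k + 2) + 1)

variable {S : Type*} [Group S]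

theorem exists_wrGens (hS : Cfsg.IsWreathed S) : Nonempty (WRGens S) := by
  obtain ⟨n, hn, hcard, x, y, z, hx, hxy, hdisj, hz, hrel⟩ := hS
  obtain ⟨k, rfl⟩ : ∃ k, n = k + 2 := ⟨n - 2, by omega⟩
  exact ⟨⟨x, y, z, k, 2 ^ k, rfl, hx, hxy, hdisj, hz, hrel, hcard⟩⟩

namespace WRGens

variable (D : WRGens S)

/-- The element `x ^ a * y ^ b` of the abelian maximal subgroup. -/
def u (a b : ℤ) : S := D.x ^ a * D.y ^ b

theorem Q_pos : 0 < D.Q := by rw [D.hQ]; positivity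

theorem order_cast : ((orderOf D.x : ℕ) : ℤ) = 4 * D.Q := by
  rw [D.hord, D.hQ]; push_cast; ring

theorem z_mul_z : D.z * D.z = 1 := by
  have := pow_orderOf_eq_one D.z
  rwa [D.hz, pow_two] at this

theorem z_inv : D.z⁻¹ = D.z := inv_eq_of_mul_eq_one_right D.z_mul_z

theorem z_mul_x_zpow (a : ℤ) : D.z * D.x ^ a = D.y ^ a * D.z := by
  rw [← D.hrel, conj_zpow, inv_mul_cancel_right]

theorem z_mul_y_zpow (a : ℤ) : D.z * D.y ^ a = D.x ^ a * D.z := by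
  rw [← D.hrel, conj_zpow, D.z_inv, ← mul_assoc, ← mul_assoc, D.z_mul_z, one_mul]

theorem z_mul_u (a b : ℤ) : D.z * D.u a b = D.u b a * D.z := by
  have hc : Commute D.x D.y := D.hcomm
  rw [u, u, (hc.zpow_zpow b a).eq, ← mul_assoc, D.z_mul_x_zpow, mul_assoc, D.z_mul_y_zpow,
    ← mul_assoc]

theorem u_mul (a b c d : ℤ) : D.u a b * D.u c d = D.u (a + c) (b + d) := by
  have hc : Commute D.x D.y := D.hcomm
  rw [u, u, u, mul_assoc, ← mul_assoc (D.y ^ b), ← (hc.zpow_zpow c b).eq, zpow_add, zpow_add]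
  simp only [mul_assoc]

theorem u_zero : D.u 0 0 = 1 := by simp [u]

theorem u_inv (a b : ℤ) : (D.u a b)⁻¹ = D.u (-a) (-b) := by
  apply inv_eq_of_mul_eq_one_right
  rw [D.u_mul, add_neg_cancel, add_neg_cancel, D.u_zero]

theorem u_zpow (a b m : ℤ) : (D.u a b) ^ m = D.u (a * m) (b * m) := by
  have hc : Commute D.x D.y := D.hcomm
  rw [u, u, (hc.zpow_zpow a b).mul_zpow, ← zpow_mul, ← zpow_mul]

theorem u_pow (a b : ℤ) (m : ℕ) : (D.u a b) ^ m = D.u (a * m) (b * m) := by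
  rw [← zpow_natCast, D.u_zpow]

theorem u_eq_one_iff {a b : ℤ} : D.u a b = 1 ↔ 4 * D.Q ∣ a ∧ 4 * D.Q ∣ b := by
  have hy : orderOf D.y = orderOf D.x := by
    rw [← D.hrel]
    exact orderOf_injective (MulAut.conj D.z).toMonoidHom (MulAut.conj D.z).injective D.x
  constructor
  · intro h
    have hx : D.x ^ a = D.y ^ (-b) := by rw [zpow_neg]; exact mul_eq_one_iff_eq_inv.mp h
    have h1 : D.x ^ a = 1 := by
      rw [← Subgroup.mem_bot, ← D.hdisj]
      exact ⟨⟨a, rfl⟩, hx ▸ ⟨-b, rfl⟩⟩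
    have h2 : D.y ^ b = 1 := by
      rw [h1, zpow_neg] at hx
      exact inv_eq_one.mp hx.symm
    refine ⟨?_, ?_⟩
    · rwa [← D.order_cast, orderOf_dvd_iff_zpow_eq_one]
    · rwa [← D.order_cast, ← hy, orderOf_dvd_iff_zpow_eq_one]
  · rintro ⟨h1, h2⟩
    rw [← D.order_cast, orderOf_dvd_iff_zpow_eq_one] at h1
    rw [← D.order_cast, ← hy, orderOf_dvd_iff_zpow_eq_one] at h2
    rw [u, h1, h2, mul_one]

theorem u_eq_iff {a b c d : ℤ} : D.u a b = D.u c d ↔ 4 * D.Q ∣ a - c ∧ 4 * D.Q ∣ b - d := by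
  rw [← mul_inv_eq_one, D.u_inv, D.u_mul, D.u_eq_one_iff, sub_eq_add_neg, sub_eq_add_neg]

theorem uz_mul_u (a b c d : ℤ) : D.u a b * D.z * D.u c d = D.u (a + d) (b + c) * D.z := by
  rw [mul_assoc, D.z_mul_u, ← mul_assoc, D.u_mul]

theorem uz_mul_uz (a b c d : ℤ) :
    D.u a b * D.z * (D.u c d * D.z) = D.u (a + d) (b + c) := by
  rw [← mul_assoc, D.uz_mul_u, mul_assoc, D.z_mul_z, mul_one]

theorem u_mul_uz (a b c d : ℤ) : D.u a b * (D.u c d * D.z) = D.u (a + c) (b + d) * D.z := by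
  rw [← mul_assoc, D.u_mul]

theorem uz_inv (a b : ℤ) : (D.u a b * D.z)⁻¹ = D.u (-b) (-a) * D.z := by
  rw [mul_inv_rev, D.z_inv, D.u_inv, D.z_mul_u]

theorem uz_sq (a b : ℤ) : (D.u a b * D.z) ^ 2 = D.u (a + b) (a + b) := by
  rw [pow_two, D.uz_mul_uz, add_comm b a]

theorem conj_uz (t s a b : ℤ) :
    D.u t s * (D.u a b * D.z) * (D.u t s)⁻¹ = D.u (a + (t - s)) (b - (t - s)) * D.z := by
  rw [D.u_mul_uz, D.u_inv, D.uz_mul_u]
  congr 2 <;> ring

theorem uz_conj_u (a b c d : ℤ) :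
    D.u a b * D.z * D.u c d * (D.u a b * D.z)⁻¹ = D.u d c := by
  rw [D.uz_mul_u, D.uz_inv, D.uz_mul_uz]
  congr 1 <;> ring

theorem uz_conj_uz (t s a b : ℤ) :
    D.u t s * D.z * (D.u a b * D.z) * (D.u t s * D.z)⁻¹ =
      D.u (b + (t - s)) (a - (t - s)) * D.z := by
  rw [D.uz_mul_uz, D.uz_inv, D.u_mul_uz]
  congr 2 <;> ring

theorem u_ne_uz (a b c d : ℤ) : D.u a b ≠ D.u c d * D.z := by
  intro h
  have hz : D.z = D.u (-c + a) (-d + b) := by
    rw [← D.u_mul, ← D.u_inv, h, inv_mul_cancel_left]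
  have h1 : D.u (1 : ℤ) 0 = D.u 0 1 := by
    have e : D.z * D.u 1 0 = D.u 1 0 * D.z := by rw [hz, D.u_mul, D.u_mul, add_comm, add_comm _ (0 : ℤ)]
    rw [D.z_mul_u] at e
    exact (mul_right_cancel e).symm
  have h2 := (D.u_eq_iff.mp h1).1
  have h3 := Int.le_of_dvd one_pos h2
  have := D.Q_pos
  omega

theorem uz_eq_iff {a b c d : ℤ} :
    D.u a b * D.z = D.u c d * D.z ↔ 4 * D.Q ∣ a - c ∧ 4 * D.Q ∣ b - d := by
  rw [mul_left_inj, D.u_eq_iff]

/-- The homomorphism onto the abelian maximal subgroup. -/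
noncomputable def uHom : Multiplicative (ZMod (2 ^ (D.k + 2)) × ZMod (2 ^ (D.k + 2))) →* S where
  toFun p := D.u (p.toAdd.1.cast) (p.toAdd.2.cast)
  map_one' := by simp [D.u_zero]
  map_mul' p q := by
    rw [D.u_mul, D.u_eq_iff]
    have key : ∀ i j : ZMod (2 ^ (D.k + 2)),
        (4 : ℤ) * D.Q ∣ ((i + j).cast : ℤ) - ((i.cast : ℤ) + j.cast) := by
      intro i j
      have e : (4 : ℤ) * D.Q = ((2 ^ (D.k + 2) : ℕ) : ℤ) := by rw [D.hQ]; push_cast; ring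
      rw [e, ← ZMod.intCast_zmod_eq_zero_iff_dvd]
      simp
    exact ⟨key _ _, key _ _⟩

theorem uHom_apply (a b : ℤ) :
    D.uHom (Multiplicative.ofAdd ((a : ZMod (2 ^ (D.k + 2))), (b : ZMod (2 ^ (D.k + 2))))) = D.u a b := by
  show D.u ((a : ZMod (2 ^ (D.k + 2))).cast) ((b : ZMod (2 ^ (D.k + 2))).cast) = _
  have key : ∀ c : ℤ, 4 * D.Q ∣ ((c : ZMod (2 ^ (D.k + 2))).cast : ℤ) - c := by
    intro c
    have e : (4 : ℤ) * D.Q = ((2 ^ (D.k + 2) : ℕ) : ℤ) := by rw [D.hQ]; push_cast; ring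
    rw [e, ← ZMod.intCast_zmod_eq_zero_iff_dvd]
    simp
  rw [D.u_eq_iff]
  exact ⟨key a, key b⟩

theorem uHom_injective : Function.Injective D.uHom := by
  rw [injective_iff_map_eq_one]
  intro p hp
  obtain ⟨⟨i, j⟩, rfl⟩ := Multiplicative.ofAdd.surjective p
  obtain ⟨a, rfl⟩ := ZMod.intCast_surjective i
  obtain ⟨b, rfl⟩ := ZMod.intCast_surjective j
  rw [D.uHom_apply, D.u_eq_one_iff] at hp
  have e : (4 : ℤ) * D.Q = ((2 ^ (D.k + 2) : ℕ) : ℤ) := by rw [D.hQ]; push_cast; ring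
  rw [e, ← ZMod.intCast_zmod_eq_zero_iff_dvd, ← ZMod.intCast_zmod_eq_zero_iff_dvd] at hp
  rw [hp.1, hp.2]
  rfl

/-- The abelian maximal subgroup. -/
noncomputable def base : Subgroup S := D.uHom.range

theorem mem_base {g : S} : g ∈ D.base ↔ ∃ a b : ℤ, g = D.u a b := by
  constructor
  · rintro ⟨p, rfl⟩
    exact ⟨_, _, rfl⟩
  · rintro ⟨a, b, rfl⟩
    exact ⟨_, D.uHom_apply a b⟩

theorem u_mem_base (a b : ℤ) : D.u a b ∈ D.base := D.mem_base.mpr ⟨a, b, rfl⟩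

theorem uz_not_mem_base (a b : ℤ) : D.u a b * D.z ∉ D.base := fun h => by
  obtain ⟨c, d, e⟩ := D.mem_base.mp h
  exact D.u_ne_uz c d a b e.symm

theorem base_mulEquiv :
    Nonempty (D.base ≃* Multiplicative (ZMod (2 ^ (D.k + 2)) × ZMod (2 ^ (D.k + 2)))) :=
  ⟨(MonoidHom.ofInjective D.uHom_injective).symm⟩

theorem card_base : Nat.card D.base = 2 ^ (2 * (D.k + 2)) := by
  rw [Nat.card_congr D.base_mulEquiv.some.toEquiv, Nat.card_congr Multiplicative.toAdd, Nat.card_prod,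
    Nat.card_zmod, ← pow_add, two_mul]

theorem index_base : D.base.index = 2 := by
  have h := D.base.card_mul_index
  rw [D.card_base, D.hcard, pow_succ] at h
  exact Nat.eq_of_mul_eq_mul_left (by positivity) h

theorem base_comm : IsMulCommutative D.base := by
  refine ⟨⟨fun p q => Subtype.ext ?_⟩⟩
  obtain ⟨a, b, hp⟩ := D.mem_base.mp p.2
  obtain ⟨c, d, hq⟩ := D.mem_base.mp q.2
  rw [Subgroup.coe_mul, Subgroup.coe_mul, hp, hq, D.u_mul, D.u_mul, add_comm a, add_comm b]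

theorem normalForm (s : S) : ∃ a b : ℤ, s = D.u a b ∨ s = D.u a b * D.z := by
  by_cases hs : s ∈ D.base
  · obtain ⟨a, b, h⟩ := D.mem_base.mp hs
    exact ⟨a, b, Or.inl h⟩
  · have h : s * D.z ∈ D.base := by
      rw [Subgroup.mul_mem_iff_of_index_two D.index_base]
      refine iff_of_false hs ?_
      have h1 := D.uz_not_mem_base 0 0
      rwa [D.u_zero, one_mul] at h1
    obtain ⟨a, b, h⟩ := D.mem_base.mp h
    refine ⟨a, b, Or.inr ?_⟩
    rw [← h, mul_assoc, D.z_mul_z, mul_one]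

/-- An element outside the base commutes exactly with the diagonal of the base. -/
theorem u_commute_uz_iff {c d a b : ℤ} :
    D.u c d * (D.u a b * D.z) = D.u a b * D.z * D.u c d ↔ 4 * D.Q ∣ c - d := by
  rw [D.u_mul_uz, D.uz_mul_u, D.uz_eq_iff]
  have e1 : c + a - (a + d) = c - d := by ring
  have e2 : d + b - (b + c) = -(c - d) := by ring
  rw [e1, e2, dvd_neg, and_self]

theorem u_eq_diag {c d : ℤ} (h : 4 * D.Q ∣ c - d) : D.u c d = D.u c c := by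
  rw [D.u_eq_iff, sub_self]
  exact ⟨dvd_zero _, dvd_sub_comm.mp h⟩

theorem uz_congr {a b a' b' : ℤ} (h1 : 4 * D.Q ∣ a + b - (a' + b')) :
    D.u a b * D.z = D.u a (a' + b' - a) * D.z := by
  rw [D.uz_eq_iff, sub_self]
  exact ⟨dvd_zero _, by rwa [show b - (a' + b' - a) = a + b - (a' + b') by ring]⟩

/-- Elements of the coset `base * z` are conjugate when the exponent sums agree. -/
theorem exists_conj_uz {a b a' b' : ℤ} (h1 : 4 * D.Q ∣ a + b - (a' + b')) :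
    ∃ s : S, s * (D.u a' b' * D.z) * s⁻¹ = D.u a b * D.z := by
  refine ⟨D.u (a - a') 0, ?_⟩
  rw [D.conj_uz, D.uz_congr h1]
  congr 2 <;> ring

theorem center_eq : Subgroup.center S = Subgroup.zpowers (D.u 1 1) := by
  apply le_antisymm
  · intro g hg
    rw [Subgroup.mem_center_iff] at hg
    obtain ⟨a, b, rfl | rfl⟩ := D.normalForm g
    · have h := D.u_commute_uz_iff.mp (hg (D.u 0 0 * D.z)).symm
      refine ⟨a, ?_⟩
      show D.u 1 1 ^ a = D.u a b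
      rw [D.u_zpow, one_mul, D.u_eq_diag h]
    · have h := D.u_commute_uz_iff.mp (hg (D.u 1 0))
      have h3 := Int.le_of_dvd one_pos h
      have := D.Q_pos
      omega
  · rw [Subgroup.zpowers_le, Subgroup.mem_center_iff]
    intro g
    obtain ⟨a, b, rfl | rfl⟩ := D.normalForm g
    · rw [D.u_mul, D.u_mul, add_comm a, add_comm b]
    · exact (D.u_commute_uz_iff.mpr (by rw [sub_self]; exact dvd_zero _)).symm

theorem mem_center_iff_diag {a b : ℤ} : D.u a b ∈ Subgroup.center S ↔ 4 * D.Q ∣ a - b := by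
  constructor
  · intro h
    exact D.u_commute_uz_iff.mp (Subgroup.mem_center_iff.mp h (D.u 0 0 * D.z)).symm
  · intro h
    rw [D.center_eq, D.u_eq_diag h]
    exact ⟨a, by show D.u 1 1 ^ a = D.u a a; rw [D.u_zpow, one_mul]⟩

theorem two_dvd_cases {a : ℤ} (h : 4 * D.Q ∣ a * 2) : 4 * D.Q ∣ a ∨ 4 * D.Q ∣ a - 2 * D.Q := by
  obtain ⟨c, hc⟩ := h
  have ha : a = 2 * D.Q * c := mul_left_cancel₀ (two_ne_zero' ℤ) (by linear_combination hc)
  obtain ⟨t, rfl | rfl⟩ := Int.even_or_odd' c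
  · exact Or.inl ⟨t, by rw [ha]; ring⟩
  · exact Or.inr ⟨t, by rw [ha]; ring⟩

theorem not_dvd_two_Q : ¬ 4 * D.Q ∣ 2 * D.Q := fun h => by
  have := Int.le_of_dvd (by have := D.Q_pos; omega) h
  have := D.Q_pos
  omega

/-- Elements squaring to one. -/
theorem sq_eq_one_cases {s : S} (h : s ^ 2 = 1) :
    s = 1 ∨ s = D.u (2 * D.Q) (2 * D.Q) ∨ s = D.u (2 * D.Q) 0 ∨ s = D.u 0 (2 * D.Q) ∨
      ∃ a : ℤ, s = D.u a (-a) * D.z := by
  obtain ⟨a, b, rfl | rfl⟩ := D.normalForm s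
  · rw [D.u_pow, D.u_eq_one_iff] at h
    push_cast at h
    rcases D.two_dvd_cases h.1 with h1 | h1 <;> rcases D.two_dvd_cases h.2 with h2 | h2
    · exact Or.inl (D.u_eq_one_iff.mpr ⟨h1, h2⟩)
    · exact Or.inr (Or.inr (Or.inr (Or.inl (D.u_eq_iff.mpr ⟨by simpa using h1, h2⟩))))
    · exact Or.inr (Or.inr (Or.inl (D.u_eq_iff.mpr ⟨h1, by simpa using h2⟩)))
    · exact Or.inr (Or.inl (D.u_eq_iff.mpr ⟨h1, h2⟩))
  · rw [D.uz_sq, D.u_eq_one_iff] at h
    refine Or.inr (Or.inr (Or.inr (Or.inr ⟨a, D.uz_eq_iff.mpr ⟨?_, ?_⟩⟩)))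
    · simp
    · rw [sub_neg_eq_add, add_comm]; exact h.1

theorem orderOf_u_half {a b : ℤ} (h : ¬ (4 * D.Q ∣ a ∧ 4 * D.Q ∣ b)) (ha : 4 * D.Q ∣ a * 2)
    (hb : 4 * D.Q ∣ b * 2) : orderOf (D.u a b) = 2 :=
  orderOf_eq_prime (by rw [D.u_pow, D.u_eq_one_iff]; exact ⟨ha, hb⟩)
    fun h' => h (D.u_eq_one_iff.mp h')

theorem orderOf_c : orderOf (D.u (2 * D.Q) (2 * D.Q)) = 2 :=
  D.orderOf_u_half (fun h => D.not_dvd_two_Q h.1) ⟨1, by ring⟩ ⟨1, by ring⟩

theorem orderOf_left : orderOf (D.u (2 * D.Q) 0) = 2 :=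
  D.orderOf_u_half (fun h => D.not_dvd_two_Q h.1) ⟨1, by ring⟩ ⟨0, by ring⟩

theorem orderOf_uz_antidiag (a : ℤ) : orderOf (D.u a (-a) * D.z) = 2 :=
  orderOf_eq_prime (by rw [D.uz_sq, add_neg_cancel, D.u_zero])
    fun h => D.u_ne_uz 0 0 a (-a) (by rw [D.u_zero, h])

end WRGens

end CfsgLib.TwoFusion
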