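import Mathlib.GroupTheory.Subgroup.Centralizer
import Cfsg.Agent.Lib.TwoFusion.Wreathed

/-!
Abelian subgroups and Klein four-subgroups of wreathed 2-groups.
-/

set_option autoImplicit false

namespace CfsgLib.TwoFusion.WRGens

variable {S : Type*} [Group S] (D : WRGens S)

/-- The central involution. -/
abbrev c : S := D.u (2 * D.Q) (2 * D.Q)

theorem n_eq {n : ℕ} (hn : Nat.card S = 2 ^ (2 * n + 1)) : n = D.k + 2 := by
  have := Nat.pow_right_injective le_rfl (hn.symm.trans D.hcard)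
  omega

include D in
theorem finite_of_gens : Finite S :=
  Nat.finite_of_card_ne_zero (by rw [D.hcard]; positivity)

/-- The centralizer of an element outside the base. -/
theorem commute_uz_cases {s : S} {a b : ℤ} (h : s * (D.u a b * D.z) = D.u a b * D.z * s) :
    s ∈ Subgroup.center S ∨ s * (D.u a b * D.z) ∈ Subgroup.center S := by
  obtain ⟨c, d, rfl | rfl⟩ := D.normalForm s
  · exact Or.inl (D.mem_center_iff_diag.mpr (D.u_commute_uz_iff.mp h))
  · refine Or.inr ?_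
    have h2 : D.u c d * D.z * (D.u a b * D.z) * (D.u a b * D.z) =
        D.u a b * D.z * (D.u c d * D.z * (D.u a b * D.z)) := by
      nth_rewrite 1 [h]; exact mul_assoc _ _ _
    rw [D.uz_mul_uz] at h2 ⊢
    exact D.mem_center_iff_diag.mpr (D.u_commute_uz_iff.mp h2)

theorem not_mem_base_iff {s : S} : s ∉ D.base ↔ ∃ a b : ℤ, s = D.u a b * D.z := by
  constructor
  · intro hs
    obtain ⟨a, b, rfl | rfl⟩ := D.normalForm s
    · exact absurd (D.u_mem_base a b) hs
    · exact ⟨a, b, rfl⟩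
  · rintro ⟨a, b, rfl⟩; exact D.uz_not_mem_base a b

theorem abelian_le_base {V : Subgroup S} (hV : IsMulCommutative V)
    (hcard : Nat.card V = 2 ^ (2 * (D.k + 2))) : V ≤ D.base := by
  haveI := D.finite_of_gens
  by_contra hle
  obtain ⟨w, hwV, hw⟩ := SetLike.not_le_iff_exists.mp hle
  obtain ⟨a, b, rfl⟩ := D.not_mem_base_iff.mp hw
  have hsub : (V : Set S) ⊆
      (fun p : Subgroup.center S × Bool => if p.2 then (p.1 : S) else (p.1 : S) * (D.u a b * D.z)⁻¹) ''
        Set.univ := fun g hg => by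
    rcases D.commute_uz_cases (congrArg Subtype.val (hV.is_comm.comm ⟨g, hg⟩ ⟨_, hwV⟩)) with h | h
    · exact ⟨(⟨g, h⟩, true), Set.mem_univ _, rfl⟩
    · exact ⟨(⟨_, h⟩, false), Set.mem_univ _, by simp; group⟩
  have h1 := (Set.ncard_le_ncard hsub).trans Set.ncard_image_le
  have h2 : (V : Set S).ncard = 2 ^ (2 * (D.k + 2)) := hcard
  rw [Set.ncard_univ, Nat.card_prod, h2] at h1
  have h3 : Nat.card (Subgroup.center S) ≤ 2 ^ (D.k + 2) := by
    rw [D.center_eq, Nat.card_zpowers]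
    refine Nat.le_of_dvd (by positivity) (orderOf_dvd_of_pow_eq_one ?_)
    rw [D.u_pow, D.u_eq_one_iff, D.hQ]
    exact ⟨⟨1, by push_cast; ring⟩, ⟨1, by push_cast; ring⟩⟩
  have h4 : Nat.card Bool = 2 := by simp
  rw [h4] at h1
  have h5 : 2 ^ (2 * (D.k + 2)) ≤ 2 ^ (D.k + 3) := by
    rw [pow_succ (n := D.k + 2)]; exact h1.trans (Nat.mul_le_mul_right 2 h3)
  have := (Nat.pow_le_pow_iff_right (le_refl 2)).mp h5
  omega

theorem abelian_eq_base {V : Subgroup S} (hV : IsMulCommutative V)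
    (hcard : Nat.card V = 2 ^ (2 * (D.k + 2))) : V = D.base :=
  haveI := D.finite_of_gens
  Subgroup.eq_of_le_of_card_ge (D.abelian_le_base hV hcard) (by rw [hcard, D.card_base])

theorem card_center : Nat.card (Subgroup.center S) = 2 ^ (D.k + 2) := by
  rw [D.center_eq, Nat.card_zpowers]
  refine orderOf_eq_prime_pow (p := 2) (n := D.k + 1) ?_ ?_
  · rw [D.u_pow, D.u_eq_one_iff]
    rintro ⟨h, -⟩
    apply D.not_dvd_two_Q
    rwa [show ((1 : ℤ) * ((2 ^ (D.k + 1) : ℕ) : ℤ)) = 2 * D.Q by rw [D.hQ]; push_cast; ring] at h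
  · rw [D.u_pow, D.u_eq_one_iff, D.hQ]
    exact ⟨⟨1, by push_cast; ring⟩, ⟨1, by push_cast; ring⟩⟩

/-- The normal four-group of involutions of the base. -/
noncomputable def baseOmega : Subgroup S where
  carrier := {g | g ∈ D.base ∧ g * g = 1}
  one_mem' := ⟨one_mem _, mul_one 1⟩
  mul_mem' := by
    rintro g h ⟨hg, hg2⟩ ⟨hh, hh2⟩
    refine ⟨mul_mem hg hh, ?_⟩
    have hc : g * h = h * g := congrArg Subtype.val (D.base_comm.is_comm.comm ⟨g, hg⟩ ⟨h, hh⟩)
    calc g * h * (g * h) = g * h * (h * g) := by rw [hc]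
      _ = 1 := by rw [mul_assoc, ← mul_assoc h, hh2, one_mul, hg2]
  inv_mem' := by
    rintro g ⟨hg, hg2⟩
    exact ⟨inv_mem hg, by rw [← mul_inv_rev, hg2, inv_one]⟩

theorem mem_baseOmega {g : S} : g ∈ D.baseOmega ↔ g ∈ D.base ∧ g * g = 1 := Iff.rfl

theorem u_half_sq (i j : ℤ) : D.u (2 * D.Q * i) (2 * D.Q * j) * D.u (2 * D.Q * i) (2 * D.Q * j) = 1 := by
  rw [D.u_mul, D.u_eq_one_iff]
  exact ⟨⟨i, by ring⟩, ⟨j, by ring⟩⟩

theorem baseOmega_eq_set : (D.baseOmega : Set S) =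
    {1, D.c, D.u (2 * D.Q) 0, D.u 0 (2 * D.Q)} := by
  ext g
  constructor
  · rintro ⟨hg, hg2⟩
    rcases D.sq_eq_one_cases (s := g) (by rw [pow_two]; exact hg2) with h | h | h | h | ⟨a, h⟩
    · exact Or.inl h
    · exact Or.inr (Or.inl h)
    · exact Or.inr (Or.inr (Or.inl h))
    · exact Or.inr (Or.inr (Or.inr h))
    · exact absurd (h ▸ hg) (D.uz_not_mem_base _ _)
  · rintro (h | h | h | h) <;> subst h
    · exact one_mem D.baseOmega
    · exact ⟨D.u_mem_base _ _, by have := D.u_half_sq 1 1; rwa [mul_one] at this⟩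
    · exact ⟨D.u_mem_base _ _, by have := D.u_half_sq 1 0; rwa [mul_one, mul_zero] at this⟩
    · exact ⟨D.u_mem_base _ _, by have := D.u_half_sq 0 1; rwa [mul_one, mul_zero] at this⟩

theorem c_mul_c : D.c * D.c = 1 := by
  have := D.u_half_sq 1 1; rwa [mul_one] at this

theorem c_ne_one : D.c ≠ 1 := fun h => D.not_dvd_two_Q (D.u_eq_one_iff.mp h).1

theorem c_comm (s : S) : D.c * s = s * D.c :=
  (Subgroup.mem_center_iff.mp
    (D.mem_center_iff_diag.mpr (by rw [sub_self]; exact dvd_zero _) : D.c ∈ Subgroup.center S) s).symm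

theorem isKleinFour_baseOmega : IsKleinFour D.baseOmega := by
  classical
  haveI := D.finite_of_gens
  have h4 : (D.baseOmega : Set S).ncard = 4 := by
    rw [D.baseOmega_eq_set]
    have h1 : (1 : S) ≠ D.c := fun h => D.c_ne_one h.symm
    have h2 : (1 : S) ≠ D.u (2 * D.Q) 0 := fun h => D.not_dvd_two_Q (D.u_eq_one_iff.mp h.symm).1
    have h3 : (1 : S) ≠ D.u 0 (2 * D.Q) := fun h => D.not_dvd_two_Q (D.u_eq_one_iff.mp h.symm).2
    have h5 : D.c ≠ D.u (2 * D.Q) 0 := fun h => D.not_dvd_two_Q (by simpa using (D.u_eq_iff.mp h).2)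
    have h6 : D.c ≠ D.u 0 (2 * D.Q) := fun h => D.not_dvd_two_Q (by simpa using (D.u_eq_iff.mp h).1)
    have h7 : D.u (2 * D.Q) 0 ≠ D.u 0 (2 * D.Q) := fun h =>
      D.not_dvd_two_Q (by simpa using (D.u_eq_iff.mp h).1)
    rw [Set.ncard_insert_of_notMem (by simp [h1, h2, h3]) (Set.toFinite _),
      Set.ncard_insert_of_notMem (by simp [h5, h6]) (Set.toFinite _), Set.ncard_pair h7]
  refine ⟨h4, ?_⟩
  have hpow : ∀ g : D.baseOmega, g ^ 2 = 1 := fun g => by
    ext; simpa [pow_two] using g.2.2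
  have hc : D.c ∈ D.baseOmega := by
    rw [← SetLike.mem_coe, D.baseOmega_eq_set]; exact Or.inr (Or.inl rfl)
  haveI : Nontrivial D.baseOmega := ⟨⟨⟨D.c, hc⟩, 1, fun h => D.c_ne_one (congrArg Subtype.val h)⟩⟩
  exact (Monoid.exponent_eq_prime_iff Nat.prime_two).mpr fun g hg => orderOf_eq_prime (hpow g) hg

/-- A Klein four-subgroup other than the normal one. -/
theorem mem_klein_iff {T : Subgroup S} (hT : IsKleinFour T) (hne : T ≠ D.baseOmega) :
    ∃ a : ℤ, D.u a (-a) * D.z ∈ T ∧ ∀ g, g ∈ T ↔ (g = 1 ∨ g = D.c ∨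
      g * (D.u a (-a) * D.z) = 1 ∨ g * (D.u a (-a) * D.z) = D.c) := by
  classical
  haveI := D.finite_of_gens
  have hsq : ∀ g ∈ T, g * g = 1 := fun g hg =>
    congrArg Subtype.val (IsKleinFour.mul_self (⟨g, hg⟩ : T))
  have hcomm : ∀ g ∈ T, ∀ h ∈ T, g * h = h * g := fun g hg h hh =>
    congrArg Subtype.val ((IsKleinFour.isMulCommutative (G := T)).is_comm.comm ⟨g, hg⟩ ⟨h, hh⟩)
  obtain ⟨w, hwT, hw⟩ : ∃ w ∈ T, w ∉ D.base := by
    by_contra h
    push Not at h
    haveI := D.isKleinFour_baseOmega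
    exact hne (Subgroup.eq_of_le_of_card_ge (fun g hg => ⟨h g hg, hsq g hg⟩)
      (by rw [hT.card_four, IsKleinFour.card_four]))
  obtain ⟨a, rfl⟩ : ∃ a : ℤ, w = D.u a (-a) * D.z := by
    rcases D.sq_eq_one_cases (s := w) (by rw [pow_two]; exact hsq w hwT) with h | h | h | h | h
    · exact absurd (h ▸ one_mem _) hw
    · exact absurd (h ▸ D.u_mem_base _ _) hw
    · exact absurd (h ▸ D.u_mem_base _ _) hw
    · exact absurd (h ▸ D.u_mem_base _ _) hw
    · exact h
  refine ⟨a, hwT, ?_⟩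
  set v := D.u a (-a) * D.z
  have hv : v * v = 1 := hsq _ hwT
  have hcv : v⁻¹ = v := inv_eq_of_mul_eq_one_right hv
  have hcen : ∀ g, g ∈ Subgroup.center S → g * g = 1 → g = 1 ∨ g = D.c := by
    intro g hg hg2
    rcases D.sq_eq_one_cases (s := g) (by rw [pow_two]; exact hg2) with h | h | h | h | ⟨b, h⟩
    · exact Or.inl h
    · exact Or.inr h
    · exact absurd (by rw [← sub_zero (2 * D.Q)]; exact D.mem_center_iff_diag.mp (h ▸ hg)) D.not_dvd_two_Q
    · exact absurd (by rw [← sub_zero (2 * D.Q), dvd_sub_comm]; exact D.mem_center_iff_diag.mp (h ▸ hg)) D.not_dvd_two_Q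
    · exfalso
      subst h
      have h1 := Int.le_of_dvd one_pos
        (D.u_commute_uz_iff.mp (Subgroup.mem_center_iff.mp hg (D.u 1 0)))
      have := D.Q_pos
      omega
  have hsub : (T : Set S) ⊆ {1, D.c, v, D.c * v} := fun g hg => by
    rcases D.commute_uz_cases (hcomm g hg v hwT) with h | h
    · rcases hcen g h (hsq g hg) with h | h
      · exact Or.inl h
      · exact Or.inr (Or.inl h)
    · rcases hcen _ h (hsq _ (mul_mem hg hwT)) with h | h
      · exact Or.inr (Or.inr (Or.inl (by rw [mul_eq_one_iff_eq_inv.mp h, hcv])))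
      · exact Or.inr (Or.inr (Or.inr (by rw [eq_mul_inv_of_mul_eq h, hcv]; rfl)))
  have h4 : ({1, D.c, v, D.c * v} : Set S).ncard ≤ 4 := by
    refine (Set.ncard_insert_le _ _).trans (Nat.succ_le_succ ?_)
    refine (Set.ncard_insert_le _ _).trans (Nat.succ_le_succ ?_)
    exact (Set.ncard_insert_le _ _).trans (by rw [Set.ncard_singleton])
  have heq : (T : Set S) = {1, D.c, v, D.c * v} :=
    Set.eq_of_subset_of_ncard_le hsub (h4.trans_eq hT.card_four.symm)
  intro g
  constructor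
  · intro hg
    rcases hsub hg with rfl | rfl | rfl | rfl
    · exact Or.inl rfl
    · exact Or.inr (Or.inl rfl)
    · exact Or.inr (Or.inr (Or.inl hv))
    · exact Or.inr (Or.inr (Or.inr (by rw [mul_assoc, hv, mul_one])))
  · intro hg
    rw [← SetLike.mem_coe, heq]
    rcases hg with h | h | h | h
    · exact Or.inl h
    · exact Or.inr (Or.inl h)
    · exact Or.inr (Or.inr (Or.inl (by rw [mul_eq_one_iff_eq_inv.mp h, hcv])))
    · exact Or.inr (Or.inr (Or.inr (by rw [eq_mul_inv_of_mul_eq h, hcv]; rfl)))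

end CfsgLib.TwoFusion.WRGens
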