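import Cfsg.Agent.Lib.TwoFusion.WreathedQuaternion
import Cfsg.Agent.S1201

/-!
Subgroups `Q Z(S)` of wreathed 2-groups, with `Q` quaternion of order 8.
-/

set_option autoImplicit false

namespace CfsgLib.TwoFusion.WRGens

variable {S : Type*} [Group S] (D : WRGens S)

theorem isWreathed_of_gens (D : WRGens S) : Cfsg.IsWreathed S :=
  ⟨D.k + 2, by omega, D.hcard, D.x, D.y, D.z, D.hord, D.hcomm, D.hdisj, D.hz, D.hrel⟩

/-- The central product of a quaternion group of order 8 and the centre, with parameter `e`. -/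
def qzSub (e : ℤ) : Subgroup S where
  carrier := {g | ∃ a b : ℤ, (g = D.u a b ∧ 2 * D.Q ∣ a - b) ∨
    (g = D.u a b * D.z ∧ 2 * D.Q ∣ a - b - 2 * e)}
  one_mem' := ⟨0, 0, Or.inl ⟨D.u_zero.symm, by simp⟩⟩
  mul_mem' := by
    rintro _ _ ⟨a, b, ⟨rfl, m, hm⟩ | ⟨rfl, m, hm⟩⟩ ⟨c, d, ⟨rfl, t, ht⟩ | ⟨rfl, t, ht⟩⟩
    · exact ⟨a + c, b + d, Or.inl ⟨D.u_mul _ _ _ _, ⟨m + t, by linear_combination hm + ht⟩⟩⟩
    · exact ⟨a + c, b + d, Or.inr ⟨D.u_mul_uz _ _ _ _, ⟨m + t, by linear_combination hm + ht⟩⟩⟩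
    · exact ⟨a + d, b + c, Or.inr ⟨D.uz_mul_u _ _ _ _, ⟨m - t, by linear_combination hm - ht⟩⟩⟩
    · exact ⟨a + d, b + c, Or.inl ⟨D.uz_mul_uz _ _ _ _, ⟨m - t, by linear_combination hm - ht⟩⟩⟩
  inv_mem' := by
    rintro _ ⟨a, b, ⟨rfl, m, hm⟩ | ⟨rfl, m, hm⟩⟩
    · exact ⟨-a, -b, Or.inl ⟨D.u_inv _ _, ⟨-m, by linear_combination -hm⟩⟩⟩
    · exact ⟨-b, -a, Or.inr ⟨D.uz_inv _ _, ⟨m, by linear_combination hm⟩⟩⟩

theorem u_mem_qzSub {e a b : ℤ} : D.u a b ∈ D.qzSub e ↔ 2 * D.Q ∣ a - b := by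
  refine ⟨?_, fun h => ⟨a, b, Or.inl ⟨rfl, h⟩⟩⟩
  rintro ⟨c, d, ⟨h, hcd⟩ | ⟨h, -⟩⟩
  · obtain ⟨⟨i, hi⟩, ⟨j, hj⟩⟩ := D.u_eq_iff.mp h
    obtain ⟨m, hm⟩ := hcd
    exact ⟨m + 2 * i - 2 * j, by linear_combination hm + hi - hj⟩
  · exact absurd h (D.u_ne_uz _ _ _ _)

theorem uz_mem_qzSub {e a b : ℤ} : D.u a b * D.z ∈ D.qzSub e ↔ 2 * D.Q ∣ a - b - 2 * e := by
  refine ⟨?_, fun h => ⟨a, b, Or.inr ⟨rfl, h⟩⟩⟩
  rintro ⟨c, d, ⟨h, -⟩ | ⟨h, hcd⟩⟩
  · exact absurd h.symm (D.u_ne_uz _ _ _ _)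
  · obtain ⟨⟨i, hi⟩, ⟨j, hj⟩⟩ := D.uz_eq_iff.mp h
    obtain ⟨m, hm⟩ := hcd
    exact ⟨m + 2 * i - 2 * j, by linear_combination hm + hi - hj⟩

theorem center_le_qzSub (e : ℤ) : Subgroup.center S ≤ D.qzSub e := by
  rw [D.center_eq, Subgroup.zpowers_le, D.u_mem_qzSub]; simp

/-- A quaternion subgroup of order 8 together with the centre is some `qzSub`. -/
theorem exists_qzSub {Q : Subgroup S} (f : Q ≃* QuaternionGroup 2) :
    ∃ e : ℤ, Q ⊔ Subgroup.center S = D.qzSub e := by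
  let F : QuaternionGroup 2 →* S := Q.subtype.comp f.symm.toMonoidHom
  have hF : Function.Injective F := Q.subtype_injective.comp f.symm.injective
  have hFQ : ∀ g, F g ∈ Q := fun g => (f.symm g).2
  have hrange : ∀ g ∈ Q, ∃ q, F q = g := fun g hg => ⟨f ⟨g, hg⟩, by simp [F]⟩
  have hq : ∀ p q : QuaternionGroup 2, p * q ≠ q * p →
      p * p = q * q ∧ q * p * q⁻¹ = p⁻¹ ∧ p ^ 4 = 1 ∧ p * p ≠ 1 ∧
      ∀ g, g ∈ [1, p, p * p, p * (p * p), q, q * p, q * (p * p), q * (p * (p * p))] := by decide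
  -- choose a pair with the first element inside the base
  obtain ⟨p, q, hpq, hpb, hqb⟩ : ∃ p q : QuaternionGroup 2, p * q ≠ q * p ∧ F p ∈ D.base ∧ F q ∉ D.base := by
    obtain ⟨p, q, hpq⟩ : ∃ p q : QuaternionGroup 2, p * q ≠ q * p := by decide
    by_cases hp : F p ∈ D.base
    · refine ⟨p, q, hpq, hp, fun hq' => hpq (hF ?_)⟩
      rw [map_mul, map_mul]
      exact congrArg Subtype.val (D.base_comm.is_comm.comm ⟨_, hp⟩ ⟨_, hq'⟩)
    · by_cases hq' : F q ∈ D.base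
      · exact ⟨q, p, fun h => hpq h.symm, hq', hp⟩
      · refine ⟨p * q, q, fun h => hpq ?_, ?_, hq'⟩
        · rw [← mul_assoc] at h; exact mul_right_cancel h
        · rw [map_mul, Subgroup.mul_mem_iff_of_index_two D.index_base]
          exact iff_of_false hp hq'
  obtain ⟨hsq, hinv, h4, hne, hgen⟩ := hq p q hpq
  obtain ⟨t, s, hA⟩ := D.mem_base.mp hpb
  obtain ⟨a, b, hB⟩ := D.not_mem_base_iff.mp hqb
  have hts : 4 * D.Q ∣ t + s := by
    have h := congrArg F hinv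
    rw [map_mul, map_mul, map_inv, map_inv, hA, hB, D.uz_conj_u, D.u_inv, D.u_eq_iff] at h
    rw [add_comm, ← sub_neg_eq_add]
    exact h.1
  have hA4 : D.u (t * 2) (s * 2) ^ 2 = 1 := by
    have h := congrArg F h4
    rw [map_pow, map_one, hA, show (4 : ℕ) = 2 * 2 from rfl, pow_mul, D.u_pow] at h
    exact_mod_cast h
  have hA2 : D.u t s * D.u t s ≠ 1 := by
    rw [← hA, ← map_mul]
    exact fun h => hne (hF (h.trans (map_one F).symm))
  rw [D.u_mul] at hA2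
  rw [D.u_pow, D.u_eq_one_iff] at hA4
  have hQt : 4 * D.Q ∣ t * 2 - 2 * D.Q := by
    refine (D.two_dvd_cases (a := t * 2) (by exact_mod_cast hA4.1)).resolve_left fun h => hA2 ?_
    rw [D.u_eq_one_iff]
    refine ⟨by rwa [← mul_two], ?_⟩
    have h2 := dvd_sub (dvd_mul_of_dvd_left hts 2) h
    rwa [show (t + s) * 2 - t * 2 = s + s by ring] at h2
  obtain ⟨i, hi⟩ := hQt
  obtain ⟨j, hj⟩ := hts
  have hab : 4 * D.Q ∣ a + b - 2 * D.Q := by
    have h := congrArg F hsq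
    rw [map_mul, map_mul, hA, hB, D.u_mul, D.uz_mul_uz, D.u_eq_iff] at h
    obtain ⟨m, hm⟩ := h.1
    exact ⟨i - m, by linear_combination hi - hm⟩
  obtain ⟨l, hl⟩ := hab
  refine ⟨a - D.Q, le_antisymm (sup_le ?_ (D.center_le_qzSub _)) ?_⟩
  · intro g hg
    obtain ⟨r, rfl⟩ := hrange g hg
    have hpX : F p ∈ D.qzSub (a - D.Q) := by
      rw [hA, D.u_mem_qzSub]
      exact ⟨2 * i + 1 - 2 * j, by linear_combination hi - hj⟩
    have hqX : F q ∈ D.qzSub (a - D.Q) := by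
      rw [hB, D.uz_mem_qzSub]
      exact ⟨-2 * l, by linear_combination -hl⟩
    have hr := hgen r
    simp only [List.mem_cons, List.not_mem_nil, or_false] at hr
    rcases hr with rfl | rfl | rfl | rfl | rfl | rfl | rfl | rfl <;>
      (try simp only [map_mul, map_one]) <;> repeat (first | exact one_mem _ | exact hpX | exact hqX | refine mul_mem ?_ ?_)
  · set W := Q ⊔ Subgroup.center S
    have hz : ∀ t : ℤ, D.u t t ∈ W := fun t =>
      Subgroup.mem_sup_right (D.mem_center_iff_diag.mpr (by rw [sub_self]; exact dvd_zero _))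
    have hqd : D.u D.Q (-D.Q) ∈ W := by
      have h := mul_mem (zpow_mem (Subgroup.mem_sup_left (hFQ p) : F p ∈ W) (1 - 2 * i)) (hz 0)
      rw [hA, D.u_zpow, D.u_mul] at h
      convert h using 1
      rw [D.u_eq_iff]
      have e1 : t = D.Q * (2 * i + 1) := mul_left_cancel₀ (two_ne_zero' ℤ) (by linear_combination hi)
      have e2 : s = 4 * D.Q * j - t := by linear_combination hj
      exact ⟨⟨i * i, by rw [e1]; ring⟩,
        ⟨-(i * i) - j * (1 - 2 * i), by rw [e2, e1]; ring⟩⟩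
    have hv : D.u a (2 * D.Q - a) * D.z ∈ W := by
      have h : F q ∈ W := Subgroup.mem_sup_left (hFQ q)
      rw [hB] at h
      convert h using 1
      rw [D.uz_eq_iff]
      exact ⟨⟨0, by ring⟩, ⟨-l, by linear_combination -hl⟩⟩
    have hbase : ∀ c d : ℤ, 2 * D.Q ∣ c - d → D.u c d ∈ W := by
      rintro c d ⟨m, hm⟩
      have h := mul_mem (zpow_mem hqd m) (hz (c - D.Q * m))
      rw [D.u_zpow, D.u_mul] at h
      convert h using 2
      · ring
      · linear_combination -hm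
    rintro _ ⟨c, d, ⟨rfl, hm⟩ | ⟨rfl, hm⟩⟩
    · exact hbase c d hm
    · have e : D.u c d * D.z = D.u (c - a) (d - (2 * D.Q - a)) * (D.u a (2 * D.Q - a) * D.z) := by
        rw [D.u_mul_uz, sub_add_cancel, sub_add_cancel]
      rw [e]
      refine mul_mem (hbase _ _ ?_) hv
      obtain ⟨m, hm⟩ := hm
      exact ⟨m, by linear_combination hm⟩

end CfsgLib.TwoFusion.WRGens
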