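import Cfsg.Agent.Lib.TwoFusion.LocalAut
import Cfsg.Agent.Lib.TwoFusion.FusionTools
import Cfsg.Agent.Lib.TwoFusion.WRQuatCenter

/-!
Basic fusion facts in finite groups with wreathed Sylow 2-subgroups.
-/

set_option autoImplicit false

namespace CfsgLib.TwoFusion.WRFusion

open LocalAut FusionTools Subgroup

variable {G : Type*} [Group G]

theorem isWreathed_of_mulEquiv {A B : Type*} [Group A] [Group B] (e : A ≃* B)
    (h : Cfsg.IsWreathed A) : Cfsg.IsWreathed B := by
  obtain ⟨n, hn, hc, x, y, z, hx, hxy, hd, hz, hr⟩ := h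
  refine ⟨n, hn, by rw [← Nat.card_congr e.toEquiv, hc], e x, e y, e z, ?_, ?_, ?_, ?_, ?_⟩
  · rw [e.orderOf_eq, hx]
  · rw [← map_mul, ← map_mul, hxy]
  · rw [Subgroup.eq_bot_iff_forall]
    intro w hw
    obtain ⟨⟨i, hi⟩, ⟨j, hj⟩⟩ := Subgroup.mem_inf.mp hw
    have h1 : e.symm w ∈ zpowers x ⊓ zpowers y :=
      Subgroup.mem_inf.mpr ⟨⟨i, by simp [← hi]⟩, ⟨j, by simp [← hj]⟩⟩
    rw [hd, Subgroup.mem_bot] at h1
    simpa using congrArg e h1
  · rw [e.orderOf_eq, hz]
  · rw [← map_inv, ← map_mul, ← map_mul, hr]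

theorem exists_gens_of_sylow [Finite G] (S S' : Sylow 2 G) (D : WRGens (S : Subgroup G)) :
    ∃ D' : WRGens (S' : Subgroup G), D'.k = D.k ∧ D'.Q = D.Q := by
  obtain ⟨D'⟩ := exists_wrGens (isWreathed_of_mulEquiv (S.equiv S') D.isWreathed_of_gens)
  have h := Nat.card_congr (S.equiv S').toEquiv
  rw [D.hcard, D'.hcard] at h
  have := Nat.pow_right_injective (le_refl 2) h
  have hk : D'.k = D.k := by omega
  exact ⟨D', hk, by rw [D'.hQ, D.hQ, hk]⟩

/-- A Sylow 2-subgroup inside `M` containing `P`, when `M` contains some Sylow 2-subgroup. -/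
theorem exists_sylow_between [Finite G] (S : Sylow 2 G) (M P : Subgroup G) (hP : IsPGroup 2 P)
    (hPM : P ≤ M) (g : G) (hg : ∀ s ∈ (S : Subgroup G), g⁻¹ * s * g ∈ M) :
    ∃ S' : Sylow 2 G, P ≤ (S' : Subgroup G) ∧ (S' : Subgroup G) ≤ M := by
  obtain ⟨R, hR, hRM, hPR, -, hall⟩ := exists_sylow_in M P hP hPM
  set T := (S : Subgroup G).map (MulAut.conj g⁻¹).toMonoidHom with hT
  have hTM : T ≤ M := by
    rintro _ ⟨s, hs, rfl⟩
    simpa using hg s hs
  obtain ⟨h, -, hh⟩ := hall T (S.isPGroup'.map _) hTM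
  have hle : T.map (MulAut.conj h).toMonoidHom ≤ R := by
    rintro _ ⟨q, hq, rfl⟩
    exact hh q hq
  have hc : Nat.card (S : Subgroup G) ≤ Nat.card R := by
    refine le_trans ?_ (Subgroup.card_le_of_le hle)
    rw [Subgroup.card_map_of_injective (MulAut.conj h).injective,
      Subgroup.card_map_of_injective (MulAut.conj g⁻¹).injective]
  obtain ⟨S', hS'⟩ := exists_sylow_eq S R hR hc
  exact ⟨S', hS' ▸ hPR, hS' ▸ hRM⟩

section Sylow

variable {S : Subgroup G} (D : WRGens S)

/-- The elements of the base, in `G`. -/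
abbrev uG (a b : ℤ) : G := ((D.u a b : S) : G)

/-- The elements outside the base, in `G`. -/
abbrev wG (a b : ℤ) : G := ((D.u a b * D.z : S) : G)

/-- The central involution, in `G`. -/
abbrev cG : G := ((D.c : S) : G)

/-- A noncentral involution of the base, in `G`. -/
abbrev aG : G := uG D (2 * D.Q) 0

/-- An involution outside the base, in `G`. -/
abbrev zG : G := wG D 0 0

/-- The base, in `G`. -/
noncomputable def baseG : Subgroup G := D.base.map S.subtype

/-- The centre, in `G`. -/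
def centerG : Subgroup G := (Subgroup.center S).map S.subtype

theorem mem_baseG {g : G} : g ∈ baseG D ↔ ∃ a b : ℤ, g = uG D a b := by
  constructor
  · rintro ⟨s, hs, rfl⟩
    obtain ⟨a, b, rfl⟩ := D.mem_base.mp hs
    exact ⟨a, b, rfl⟩
  · rintro ⟨a, b, rfl⟩
    exact ⟨_, D.u_mem_base a b, rfl⟩

theorem baseG_le : baseG D ≤ S := map_subtype_le _

theorem coe_mem_baseG {s : S} : (s : G) ∈ baseG D ↔ s ∈ D.base :=
  ⟨fun ⟨_, ht, e⟩ => Subtype.ext (e : _ = (s : G)) ▸ ht, fun h => ⟨s, h, rfl⟩⟩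

theorem mem_centerG {g : G} : g ∈ centerG (S := S) ↔ ∃ h : g ∈ S, ∀ s ∈ S, s * g = g * s := by
  constructor
  · rintro ⟨t, ht, rfl⟩
    exact ⟨t.2, fun s hs => congrArg Subtype.val (Subgroup.mem_center_iff.mp ht ⟨s, hs⟩)⟩
  · rintro ⟨hg, h⟩
    exact ⟨⟨g, hg⟩, Subgroup.mem_center_iff.mpr fun s => Subtype.ext (h s s.2), rfl⟩

include D in
theorem card_centerG : Nat.card (centerG (S := S)) = 2 ^ (D.k + 2) := by
  rw [centerG, Subgroup.card_map_of_injective S.subtype_injective, D.card_center]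

theorem centerG_eq : centerG (S := S) = zpowers (uG D 1 1) := by
  rw [centerG, D.center_eq, MonoidHom.map_zpowers]
  rfl

theorem card_baseG : Nat.card (baseG D) = 2 ^ (2 * (D.k + 2)) := by
  rw [baseG, Subgroup.card_map_of_injective S.subtype_injective, D.card_base]

theorem baseG_comm {p q : G} (hp : p ∈ baseG D) (hq : q ∈ baseG D) : p * q = q * p := by
  obtain ⟨a, b, rfl⟩ := (mem_baseG D).mp hp
  obtain ⟨c, d, rfl⟩ := (mem_baseG D).mp hq
  exact congrArg Subtype.val (show D.u a b * D.u c d = D.u c d * D.u a b by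
    rw [D.u_mul, D.u_mul, add_comm a, add_comm b])

theorem relIndex_baseG : (baseG D).relIndex S = 2 := by
  rw [baseG, Subgroup.relIndex, ← Subgroup.comap_subtype,
    Subgroup.comap_map_eq_self_of_injective S.subtype_injective]
  exact D.index_base

theorem le_normalizer_baseG : S ≤ normalizer (baseG D : Set G) := by
  intro s hs
  have hn := Subgroup.normal_of_index_eq_two D.index_base
  rw [Subgroup.mem_normalizer_iff]
  intro x
  constructor
  · rintro ⟨t, ht, rfl⟩
    exact ⟨⟨s, hs⟩ * t * ⟨s, hs⟩⁻¹, hn.conj_mem _ ht _, rfl⟩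
  · rintro ⟨t, ht, he⟩
    refine ⟨(⟨s, hs⟩ : S)⁻¹ * t * ((⟨s, hs⟩ : S)⁻¹)⁻¹, hn.conj_mem _ ht _, ?_⟩
    have he : (t : G) = s * x * s⁻¹ := he
    show s⁻¹ * (t : G) * s⁻¹⁻¹ = x
    rw [he]; group

theorem eq_baseG {U : Subgroup G} (hUS : U ≤ S) (hab : IsMulCommutative U)
    (hcard : Nat.card U = 2 ^ (2 * (D.k + 2))) : U = baseG D := by
  have h : U.subgroupOf S = D.base := by
    refine D.abelian_eq_base ⟨⟨fun p q => ?_⟩⟩ ?_
    · exact Subtype.ext (Subtype.ext (congrArg (fun w : U => (w : G))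
        (hab.is_comm.comm ⟨_, Subgroup.mem_subgroupOf.mp p.2⟩ ⟨_, Subgroup.mem_subgroupOf.mp q.2⟩)))
    · rw [Nat.card_congr (Subgroup.subgroupOfEquivOfLe hUS).toEquiv, hcard]
  rw [baseG, ← h, Subgroup.subgroupOf_map_subtype, inf_of_le_left hUS]

theorem orderOf_cG : orderOf (cG D) = 2 := by rw [Subgroup.orderOf_coe]; exact D.orderOf_c

theorem orderOf_aG : orderOf (aG D) = 2 := by rw [Subgroup.orderOf_coe]; exact D.orderOf_left

theorem orderOf_zG : orderOf (zG D) = 2 := by
  rw [Subgroup.orderOf_coe]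
  have := D.orderOf_uz_antidiag 0
  rwa [neg_zero] at this

theorem cG_ne_one : cG D ≠ 1 := fun h => D.c_ne_one (Subtype.ext h)

theorem aG_ne_cG : aG D ≠ cG D := fun h =>
  D.not_dvd_two_Q (by simpa using (D.u_eq_iff.mp (Subtype.ext h)).2)

theorem aG_ne_one : aG D ≠ 1 := fun h => by
  have := orderOf_aG D
  rw [h, orderOf_one] at this
  omega

theorem aG_sq : aG D * aG D = 1 := by
  have h := pow_orderOf_eq_one (aG D)
  rwa [orderOf_aG D, pow_two] at h

theorem zG_sq : zG D * zG D = 1 := by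
  have h := pow_orderOf_eq_one (zG D)
  rwa [orderOf_zG D, pow_two] at h

theorem cG_sq : cG D * cG D = 1 := congrArg Subtype.val D.c_mul_c

theorem cG_comm {g : G} (hg : g ∈ S) : cG D * g = g * cG D :=
  congrArg Subtype.val (D.c_comm ⟨g, hg⟩)

theorem cG_mem_baseG : cG D ∈ baseG D := (coe_mem_baseG D).mpr (D.u_mem_base _ _)

theorem isConj_left_right : IsConj (aG D) (uG D 0 (2 * D.Q)) :=
  isConj_iff.mpr ⟨zG D, congrArg Subtype.val
    (show D.u 0 0 * D.z * D.u (2 * D.Q) 0 * (D.u 0 0 * D.z)⁻¹ = D.u 0 (2 * D.Q) by rw [D.uz_conj_u])⟩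

theorem isConj_wG {a b : ℤ} (h : 4 * D.Q ∣ a + b) : IsConj (zG D) (wG D a b) := by
  obtain ⟨s, hs⟩ := D.exists_conj_uz (a := a) (b := b) (a' := 0) (b' := 0) (by simpa using h)
  exact isConj_iff.mpr ⟨s, congrArg Subtype.val hs⟩

/-- Involutions of the base. -/
theorem base_involution_cases {t : G} (ht : t ∈ baseG D) (h1 : t ≠ 1) (h2 : t * t = 1) :
    t = cG D ∨ t = aG D ∨ t = uG D 0 (2 * D.Q) := by
  obtain ⟨a, b, rfl⟩ := (mem_baseG D).mp ht
  rcases D.sq_eq_one_cases (s := D.u a b) (by rw [pow_two]; exact Subtype.ext h2) with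
    h | h | h | h | ⟨p, h⟩
  · exact absurd (congrArg Subtype.val h) h1
  · exact Or.inl (congrArg Subtype.val h)
  · exact Or.inr (Or.inl (congrArg Subtype.val h))
  · exact Or.inr (Or.inr (congrArg Subtype.val h))
  · exact absurd h (D.u_ne_uz _ _ _ _)

theorem base_involution_conj {t : G} (ht : t ∈ baseG D) (h1 : t ≠ 1) (h2 : t * t = 1)
    (h3 : t ≠ cG D) : IsConj (aG D) t := by
  rcases base_involution_cases D ht h1 h2 with rfl | rfl | rfl
  · exact absurd rfl h3
  · exact IsConj.refl _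
  · exact isConj_left_right D

/-- Involutions of `S`. -/
theorem involution_cases {t : G} (ht : t ∈ S) (ho : orderOf t = 2) :
    t = cG D ∨ IsConj (aG D) t ∨ IsConj (zG D) t := by
  have h1 : t ≠ 1 := fun h => by rw [h, orderOf_one] at ho; omega
  have h2 : t * t = 1 := by rw [← pow_two, ← ho]; exact pow_orderOf_eq_one t
  rcases D.sq_eq_one_cases (s := ⟨t, ht⟩) (by rw [pow_two]; exact Subtype.ext h2) with
    h | h | h | h | ⟨p, h⟩
  · exact absurd (congrArg Subtype.val h) h1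
  · exact Or.inl (congrArg Subtype.val h)
  · rw [show t = aG D from congrArg Subtype.val h]; exact Or.inr (Or.inl (IsConj.refl _))
  · rw [show t = uG D 0 (2 * D.Q) from congrArg Subtype.val h]
    exact Or.inr (Or.inl (isConj_left_right D))
  · rw [show t = wG D p (-p) from congrArg Subtype.val h]
    exact Or.inr (Or.inr (isConj_wG D (by simp)))

/-- The only involution of the centre is `c`. -/
theorem center_involution {t : G} (ht : t ∈ S) (hc : ∀ s ∈ S, s * t = t * s) (h1 : t ≠ 1)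
    (h2 : t * t = 1) : t = cG D := by
  have hz : (⟨t, ht⟩ : S) ∈ Subgroup.center S :=
    Subgroup.mem_center_iff.mpr fun s => Subtype.ext (hc s s.2)
  obtain ⟨a, b, h | h⟩ := D.normalForm ⟨t, ht⟩
  · rw [h, D.mem_center_iff_diag] at hz
    refine (congrArg Subtype.val h).trans (congrArg Subtype.val (D.diag_involution_eq_c hz ?_ ?_))
    · rw [← h, pow_two]; exact Subtype.ext h2
    · rw [← h]; exact fun h' => h1 (congrArg Subtype.val h')
  · exfalso
    rw [h, Subgroup.mem_center_iff] at hz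
    have h3 := D.u_commute_uz_iff.mp (hz (D.u 1 0))
    have := Int.le_of_dvd one_pos (by simpa using h3)
    have := D.Q_pos
    omega

include D in
/-- The centre of a noncommutative subgroup is central. -/
theorem center_le_centerG [Finite S] {X : Subgroup G} (hXS : X ≤ S)
    (hX : ∃ p ∈ X, ∃ q ∈ X, p * q ≠ q * p) {g : G} (hg : g ∈ X) (hgc : ∀ p ∈ X, p * g = g * p) :
    g ∈ centerG (S := S) := by
  obtain ⟨p, hp, q, hq, hne⟩ := hX
  have h := Cfsg.Agent.S1201.result D.isWreathed_of_gens (X.subgroupOf S) fun hc => hne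
    (congrArg (fun w : X.subgroupOf S => ((w : S) : G))
      (hc.is_comm.comm ⟨⟨p, hXS hp⟩, hp⟩ ⟨⟨q, hXS hq⟩, hq⟩))
  refine ⟨⟨g, hXS hg⟩, h ⟨⟨⟨g, hXS hg⟩, hg⟩, Subgroup.mem_center_iff.mpr ?_, rfl⟩, rfl⟩
  rintro ⟨⟨w, hw⟩, hwX⟩
  exact Subtype.ext (Subtype.ext (hgc w hwX))

end Sylow

variable [Finite G]

/-- A Sylow 2-subgroup centralised by an involution contains it as central involution. -/
theorem isConj_c_of_le_centralizer (S S' : Sylow 2 G) (D : WRGens (S : Subgroup G)) {t : G}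
    (ho : orderOf t = 2) (hle : (S' : Subgroup G) ≤ centralizer ({t} : Set G)) :
    t ∈ (S' : Subgroup G) ∧ IsConj t (cG D) := by
  have h1 : t ≠ 1 := fun h => by rw [h, orderOf_one] at ho; omega
  have h2 : t * t = 1 := by rw [← pow_two, ← ho]; exact pow_orderOf_eq_one t
  have hp : IsPGroup 2 (zpowers t) := IsPGroup.of_card (n := 1) (by rw [Nat.card_zpowers, ho, pow_one])
  have hn : zpowers t ≤ normalizer ((S' : Subgroup G) : Set G) := by
    rw [zpowers_le, Subgroup.mem_normalizer_iff]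
    intro x
    constructor
    · intro hx
      rw [← Subgroup.mem_centralizer_singleton_iff.mp (hle hx), mul_inv_cancel_right]
      exact hx
    · intro hx
      have h := Subgroup.mem_centralizer_singleton_iff.mp (hle hx)
      have e : x = t * x * t⁻¹ := by
        calc x = t⁻¹ * (t * x * t⁻¹ * t) := by group
          _ = t * x * t⁻¹ := by rw [h]; group
      rw [e]; exact hx
  have hsup := hp.to_sup_of_normal_right' S'.isPGroup' hn
  have htS : t ∈ (S' : Subgroup G) := by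
    rw [← S'.is_maximal' hsup le_sup_right]
    exact Subgroup.mem_sup_left (mem_zpowers t)
  refine ⟨htS, ?_⟩
  obtain ⟨g, hg⟩ := MulAction.exists_smul_eq G S' S
  have hmem : ∀ s ∈ (S' : Subgroup G), g * s * g⁻¹ ∈ (S : Subgroup G) := fun s hs => by
    rw [← hg, Sylow.coe_subgroup_smul]
    exact Subgroup.smul_mem_pointwise_smul s (MulAut.conj g) _ hs
  have hmem' : ∀ s ∈ (S : Subgroup G), ∃ s' ∈ (S' : Subgroup G), g * s' * g⁻¹ = s := fun s hs => by
    rw [← hg, Sylow.coe_subgroup_smul] at hs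
    obtain ⟨s', hs', e⟩ := hs
    exact ⟨s', hs', e⟩
  refine isConj_iff.mpr ⟨g, center_involution D (hmem t htS) ?_ (by simpa using h1) ?_⟩
  · intro s hs
    obtain ⟨s', hs', rfl⟩ := hmem' s hs
    calc g * s' * g⁻¹ * (g * t * g⁻¹) = g * (s' * t) * g⁻¹ := by group
      _ = g * t * g⁻¹ * (g * s' * g⁻¹) := by
        rw [Subgroup.mem_centralizer_singleton_iff.mp (hle hs')]; group
  · calc g * t * g⁻¹ * (g * t * g⁻¹) = g * (t * t) * g⁻¹ := by group
      _ = 1 := by rw [h2]; group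

/-- `a ~ c` does not depend on the Sylow subgroup. -/
theorem not_isConj_transfer (S S' : Sylow 2 G) (D : WRGens (S : Subgroup G))
    (D' : WRGens (S' : Subgroup G)) (h : ¬ IsConj (aG D) (cG D)) : ¬ IsConj (aG D') (cG D') := by
  intro h'
  obtain ⟨g, hg⟩ := MulAction.exists_smul_eq G S' S
  have hmem : ∀ s ∈ (S' : Subgroup G), g * s * g⁻¹ ∈ (S : Subgroup G) := fun s hs => by
    rw [← hg, Sylow.coe_subgroup_smul]
    exact Subgroup.smul_mem_pointwise_smul s (MulAut.conj g) _ hs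
  have hk : D'.k = D.k := by
    have h := Nat.card_congr (S.equiv S').toEquiv
    rw [D.hcard, D'.hcard] at h
    have := Nat.pow_right_injective (le_refl 2) h
    omega
  have hU : (baseG D').map (MulAut.conj g).toMonoidHom = baseG D := by
    refine eq_baseG D ?_ ⟨⟨?_⟩⟩ ?_
    · rintro _ ⟨u, hu, rfl⟩
      exact hmem u (baseG_le D' hu)
    · rintro ⟨_, p, hp, rfl⟩ ⟨_, q, hq, rfl⟩
      apply Subtype.ext
      show (MulAut.conj g).toMonoidHom p * (MulAut.conj g).toMonoidHom q = _ * _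
      rw [← map_mul, baseG_comm D' hp hq, map_mul]
    · rw [Subgroup.card_map_of_injective (MulAut.conj g).injective, card_baseG, hk]
  have hto : ∀ t ∈ baseG D', g * t * g⁻¹ ∈ baseG D := fun t ht => hU ▸ ⟨t, ht, rfl⟩
  have hc : g * cG D' * g⁻¹ = cG D := by
    refine center_involution D (hmem _ (D'.c).2) ?_ (by simpa using cG_ne_one D') ?_
    · intro s hs
      rw [← hg, Sylow.coe_subgroup_smul] at hs
      obtain ⟨s', hs', rfl⟩ := hs
      show g * s' * g⁻¹ * (g * cG D' * g⁻¹) = g * cG D' * g⁻¹ * (g * s' * g⁻¹)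
      calc g * s' * g⁻¹ * (g * cG D' * g⁻¹) = g * (s' * cG D') * g⁻¹ := by group
        _ = _ := by rw [← cG_comm D' hs']; group
    · calc g * cG D' * g⁻¹ * (g * cG D' * g⁻¹) = g * (cG D' * cG D') * g⁻¹ := by group
        _ = 1 := by rw [show cG D' * cG D' = 1 from congrArg Subtype.val D'.c_mul_c]; group
  have ha : IsConj (aG D) (g * aG D' * g⁻¹) := by
    refine base_involution_conj D (hto _ ((mem_baseG D').mpr ⟨_, _, rfl⟩)) ?_ ?_ ?_
    · intro e
      have := orderOf_aG D'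
      rw [conj_eq_one_iff.mp e, orderOf_one] at this
      omega
    · calc g * aG D' * g⁻¹ * (g * aG D' * g⁻¹) = g * aG D' ^ 2 * g⁻¹ := by rw [pow_two]; group
        _ = 1 := by
          have := pow_orderOf_eq_one (aG D')
          rw [orderOf_aG] at this
          rw [this]; group
    · intro e
      rw [← hc] at e
      exact aG_ne_cG D' (by simpa using e)
  refine h (ha.trans ?_)
  rw [← hc]
  exact (((isConj_iff.mpr ⟨g, rfl⟩ : IsConj (aG D') (g * aG D' * g⁻¹)).symm).trans h').trans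
    (isConj_iff.mpr ⟨g, rfl⟩)

end CfsgLib.TwoFusion.WRFusion
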