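import Mathlib.GroupTheory.QuotientGroup.Basic
import Mathlib.GroupTheory.Commutator.Basic
import Mathlib.GroupTheory.Abelianization.Defs
import Cfsg.Agent.Lib.TwoFusion.WreathedSubgroups

/-!
The generalized quaternion subgroup, derived subgroup and involution-generated subgroup of
wreathed 2-groups.
-/

set_option autoImplicit false

open scoped commutatorElement

namespace CfsgLib.TwoFusion.WRGens

variable {S : Type*} [Group S] (D : WRGens S)

theorem orderOf_antidiag : orderOf (D.u 1 (-1)) = 2 ^ (D.k + 2) := by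
  refine orderOf_eq_prime_pow (p := 2) (n := D.k + 1) ?_ ?_
  · rw [D.u_pow, D.u_eq_one_iff]
    rintro ⟨h, -⟩
    apply D.not_dvd_two_Q
    rwa [show ((1 : ℤ) * ((2 ^ (D.k + 1) : ℕ) : ℤ)) = 2 * D.Q by rw [D.hQ]; push_cast; ring] at h
  · rw [D.u_pow, D.u_eq_one_iff, D.hQ]
    exact ⟨⟨1, by push_cast; ring⟩, ⟨-1, by push_cast; ring⟩⟩

theorem quat_inverts :
    D.u (2 * D.Q) 0 * D.z * D.u 1 (-1) * (D.u (2 * D.Q) 0 * D.z)⁻¹ = (D.u 1 (-1))⁻¹ := by
  rw [D.uz_conj_u, D.u_inv, neg_neg]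

theorem quat_sq :
    D.u (2 * D.Q) 0 * D.z * (D.u (2 * D.Q) 0 * D.z) = D.u 1 (-1) ^ (2 ^ (D.k + 1)) := by
  rw [D.uz_mul_uz, D.u_pow, D.u_eq_iff, D.hQ]
  exact ⟨⟨0, by push_cast; ring⟩, ⟨1, by push_cast; ring⟩⟩

/-- The generalized quaternion subgroup of order `2 N`. -/
def quatSub : Subgroup S :=
  cyclicByInverter (D.u 1 (-1)) (D.u (2 * D.Q) 0 * D.z) D.quat_inverts
    (by rw [D.quat_sq]; exact Subgroup.npow_mem_zpowers _ _)

theorem mem_quatSub {g : S} : g ∈ D.quatSub ↔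
    ∃ i : ℤ, g = D.u 1 (-1) ^ i ∨ g = D.u (2 * D.Q) 0 * D.z * D.u 1 (-1) ^ i := Iff.rfl

theorem antidiag_mem_quatSub {a b : ℤ} (h : 4 * D.Q ∣ a + b) : D.u a b ∈ D.quatSub := by
  refine D.mem_quatSub.mpr ⟨a, Or.inl ?_⟩
  rw [D.u_zpow, D.u_eq_iff]
  exact ⟨⟨0, by ring⟩, by rwa [show b - -1 * a = a + b by ring]⟩

theorem uz_mem_quatSub {a b : ℤ} (h : 4 * D.Q ∣ a + b - 2 * D.Q) : D.u a b * D.z ∈ D.quatSub := by
  refine D.mem_quatSub.mpr ⟨2 * D.Q - a, Or.inr ?_⟩
  rw [D.u_zpow, D.uz_mul_u, D.uz_eq_iff]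
  exact ⟨⟨0, by ring⟩, by rwa [show b - (0 + 1 * (2 * D.Q - a)) = a + b - 2 * D.Q by ring]⟩

theorem quatSub_mulEquiv : Nonempty (D.quatSub ≃* QuaternionGroup (2 ^ (D.k + 1))) :=
  exists_quaternion_mulEquiv (by positivity) (by rw [D.orderOf_antidiag]; ring) D.quat_sq
    D.quat_inverts
    (by
      rintro ⟨i, hi⟩
      have hi : D.u 1 (-1) ^ i = D.u (2 * D.Q) 0 * D.z := hi
      rw [D.u_zpow] at hi
      exact D.u_ne_uz _ _ _ _ hi)
    _ (fun _ => D.mem_quatSub)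

theorem card_quatSub : Nat.card D.quatSub = 2 ^ (D.k + 3) := by
  rw [Nat.card_congr D.quatSub_mulEquiv.some.toEquiv, Nat.card_eq_fintype_card, QuaternionGroup.card]
  ring

theorem diag_involution_eq_c {a b : ℤ} (hd : 4 * D.Q ∣ a - b) (h2 : D.u a b ^ 2 = 1)
    (h1 : D.u a b ≠ 1) : D.u a b = D.c := by
  rw [D.u_eq_diag hd] at h2 h1 ⊢
  rw [D.u_pow, D.u_eq_one_iff] at h2
  rw [Ne, D.u_eq_one_iff, and_self] at h1
  push_cast at h2
  have := (D.two_dvd_cases h2.1).resolve_left h1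
  exact D.u_eq_iff.mpr ⟨this, this⟩

theorem outside_mem_quatSub {g : S} (hg : g ∉ D.base) (h2 : g * g ≠ 1)
    (h4 : (g * g) ^ 2 = 1) : g ∈ D.quatSub := by
  obtain ⟨a, b, rfl⟩ := D.not_mem_base_iff.mp hg
  rw [← pow_two, D.uz_sq] at h2 h4
  have h := D.diag_involution_eq_c (by rw [sub_self]; exact dvd_zero _) h4 h2
  exact D.uz_mem_quatSub (D.u_eq_iff.mp h).1

theorem quaternion_subgroup_eq {Y : Subgroup S}
    (e : Y ≃* QuaternionGroup (2 ^ (D.k + 1))) : Y = D.quatSub := by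
  haveI := D.finite_of_gens
  set m := 2 ^ (D.k + 1) with hm
  haveI : NeZero m := ⟨by positivity⟩
  have hm2 : 2 ≤ m := by rw [hm, pow_succ]; have := Nat.one_le_two_pow (n := D.k); omega
  let f : QuaternionGroup m →* S := Y.subtype.comp e.symm.toMonoidHom
  have hf : Function.Injective f := Y.subtype_injective.comp e.symm.injective
  have hrange : ∀ g ∈ Y, ∃ q, f q = g := fun g hg => ⟨e ⟨g, hg⟩, by simp [f]⟩
  set A := f (QuaternionGroup.a 1) with hA
  set B := f (QuaternionGroup.xa 0) with hB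
  have hAo : orderOf A = 2 * m := by
    rw [hA, orderOf_injective f hf, QuaternionGroup.orderOf_a_one]
  have hBB : B * B = A ^ m := by
    rw [hB, hA, ← map_mul, ← map_pow, QuaternionGroup.xa_mul_xa, QuaternionGroup.a_one_pow,
      add_zero, sub_zero]
  have hBA : B * A * B⁻¹ = A⁻¹ := by
    rw [hB, hA, ← map_inv, ← map_mul, ← map_mul, ← map_inv]
    congr 1
    rw [mul_inv_eq_iff_eq_mul, QuaternionGroup.xa_mul_a,
      show (QuaternionGroup.a (1 : ZMod (2 * m)))⁻¹ = QuaternionGroup.a (-1) from rfl,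
      QuaternionGroup.a_mul_xa]
    congr 1; ring
  have hC2 : (A ^ m) ^ 2 = 1 := by rw [← pow_mul, mul_comm, ← hAo, pow_orderOf_eq_one]
  have hC1 : A ^ m ≠ 1 := pow_ne_one_of_lt_orderOf (by omega) (by omega)
  have hgen : Y ≤ Subgroup.closure {A, B} := by
    intro g hg
    obtain ⟨q, rfl⟩ := hrange g hg
    have key : ∀ i : ZMod (2 * m), f (QuaternionGroup.a i) = A ^ i.val := fun i => by
      rw [hA, ← map_pow, QuaternionGroup.a_one_pow, ZMod.natCast_zmod_val]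
    rcases q with i | i
    · rw [key]; exact pow_mem (Subgroup.subset_closure (Set.mem_insert _ _)) _
    · rw [show QuaternionGroup.xa i = QuaternionGroup.xa 0 * QuaternionGroup.a i by
        rw [QuaternionGroup.xa_mul_a, zero_add], map_mul, key]
      exact mul_mem (Subgroup.subset_closure (Set.mem_insert_of_mem _ rfl))
        (pow_mem (Subgroup.subset_closure (Set.mem_insert _ _)) _)
  have hAB : A ∈ D.quatSub ∧ B ∈ D.quatSub := by
    by_cases hAb : A ∈ D.base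
    · have hBb : B ∉ D.base := fun h => by
        have hc : B * A = A * B := congrArg Subtype.val (D.base_comm.is_comm.comm ⟨B, h⟩ ⟨A, hAb⟩)
        rw [hc, mul_inv_cancel_right] at hBA
        have h2 : A ^ 2 = 1 := by rw [pow_two]; nth_rewrite 1 [hBA]; exact inv_mul_cancel _
        have := Nat.le_of_dvd (by norm_num) (orderOf_dvd_of_pow_eq_one h2)
        omega
      refine ⟨?_, D.outside_mem_quatSub hBb (by rw [hBB]; exact hC1) (by rw [hBB]; exact hC2)⟩
      obtain ⟨a, b, hAab⟩ := D.mem_base.mp hAb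
      obtain ⟨c, d, hBcd⟩ := D.not_mem_base_iff.mp hBb
      rw [hAab, hBcd, D.uz_conj_u, D.u_inv, D.u_eq_iff] at hBA
      rw [hAab]
      exact D.antidiag_mem_quatSub (by rw [add_comm, ← sub_neg_eq_add]; exact hBA.1)
    · obtain ⟨a, b, hAab⟩ := D.not_mem_base_iff.mp hAb
      have hA2c : A ^ 2 ∈ Subgroup.center S := by
        rw [hAab, D.uz_sq, D.mem_center_iff_diag, sub_self]; exact dvd_zero _
      have h1 : B * A ^ 2 * B⁻¹ = (A ^ 2)⁻¹ := by rw [← conj_pow, hBA, inv_pow]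
      rw [Subgroup.mem_center_iff.mp hA2c B, mul_inv_cancel_right] at h1
      have h4 : A ^ 4 = 1 := by
        rw [show 4 = 2 + 2 from rfl, pow_add]; nth_rewrite 1 [h1]; exact inv_mul_cancel _
      have hdvd := Nat.le_of_dvd (by norm_num) (orderOf_dvd_of_pow_eq_one h4)
      have hm' : m = 2 := by omega
      have hAm : A * A = A ^ m := by rw [hm', pow_two]
      have hAY := D.outside_mem_quatSub hAb (by rw [hAm]; exact hC1) (by rw [hAm]; exact hC2)
      refine ⟨hAY, ?_⟩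
      by_cases hBb : B ∈ D.base
      · have hBAb : B * A ∉ D.base := fun h => hAb ((Subgroup.mul_mem_cancel_left _ hBb).mp h)
        have hsq : B * A * (B * A) = A ^ m := by
          rw [← hBB]
          calc B * A * (B * A) = B * A * B⁻¹ * (B * B) * A := by group
            _ = A⁻¹ * (A * A) * A := by rw [hBA, hBB, ← hAm]
            _ = B * B := by rw [hBB, ← hAm]; group
        exact (Subgroup.mul_mem_cancel_right _ hAY).mp
          (D.outside_mem_quatSub hBAb (by rw [hsq]; exact hC1) (by rw [hsq]; exact hC2))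
      · exact D.outside_mem_quatSub hBb (by rw [hBB]; exact hC1) (by rw [hBB]; exact hC2)
  refine Subgroup.eq_of_le_of_card_ge (hgen.trans ((Subgroup.closure_le _).mpr ?_)) ?_
  · rintro _ (rfl | rfl)
    · exact hAB.1
    · exact hAB.2
  · rw [Nat.card_congr e.toEquiv, Nat.card_congr D.quatSub_mulEquiv.some.toEquiv]

theorem antidiag_normal : (Subgroup.zpowers (D.u 1 (-1))).Normal := by
  refine ⟨fun g hg s => ?_⟩
  obtain ⟨i, rfl⟩ := hg
  show s * D.u 1 (-1) ^ i * s⁻¹ ∈ _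
  rw [← conj_zpow]
  refine zpow_mem ?_ i
  obtain ⟨a, b, rfl | rfl⟩ := D.normalForm s
  · rw [D.u_mul, D.u_inv, D.u_mul, show a + 1 + -a = 1 by ring, show b + -1 + -b = -1 by ring]
    exact Subgroup.mem_zpowers _
  · rw [D.uz_conj_u]
    exact ⟨-1, by show D.u 1 (-1) ^ (-1 : ℤ) = _; rw [D.u_zpow]; norm_num⟩

theorem commutator_eq : commutator S = Subgroup.zpowers (D.u 1 (-1)) := by
  apply le_antisymm
  · rw [commutator_def, Subgroup.commutator_le]
    intro p _ q _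
    have key : ∀ a b : ℤ, 4 * D.Q ∣ a + b → D.u a b ∈ Subgroup.zpowers (D.u 1 (-1)) := by
      intro a b h
      refine ⟨a, ?_⟩
      show D.u 1 (-1) ^ a = _
      rw [D.u_zpow, D.u_eq_iff]
      exact ⟨⟨0, by ring⟩, by rwa [show -1 * a - b = -(a + b) by ring, dvd_neg]⟩
    rw [commutatorElement_def]
    obtain ⟨a, b, rfl | rfl⟩ := D.normalForm p <;> obtain ⟨c, d, rfl | rfl⟩ := D.normalForm q
    · rw [D.u_inv, D.u_inv, D.u_mul, D.u_mul, D.u_mul]; exact key _ _ ⟨0, by ring⟩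
    · rw [D.u_inv, D.uz_inv, D.u_mul_uz, D.uz_mul_u, D.uz_mul_uz]; exact key _ _ ⟨0, by ring⟩
    · rw [D.uz_conj_u, D.u_inv, D.u_mul]; exact key _ _ ⟨0, by ring⟩
    · rw [D.uz_conj_uz, D.uz_inv, D.uz_mul_uz]; exact key _ _ ⟨0, by ring⟩
  · rw [Subgroup.zpowers_le]
    have h : ⁅D.u 1 0, D.z⁆ ∈ commutator S :=
      Subgroup.commutator_mem_commutator (Subgroup.mem_top _) (Subgroup.mem_top _)
    have e : ⁅D.u 1 0, D.z⁆ = D.u 1 (-1) := by
      rw [commutatorElement_def, mul_assoc (D.u 1 0) D.z, D.u_inv, D.z_mul_u, D.z_inv,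
        mul_assoc, mul_assoc (D.u (-0) (-1)), D.z_mul_z, mul_one, D.u_mul]
      norm_num
    rwa [e] at h

theorem quotient_center_mulEquiv :
    Nonempty (S ⧸ Subgroup.center S ≃* DihedralGroup (2 ^ (D.k + 2))) := by
  haveI := D.finite_of_gens
  have hz : ∀ a b : ℤ, (QuotientGroup.mk (D.u a b) : S ⧸ Subgroup.center S) = 1 ↔ 4 * D.Q ∣ a - b :=
    fun a b => by rw [QuotientGroup.eq_one_iff, D.mem_center_iff_diag]
  set A := (QuotientGroup.mk (D.u 1 0) : S ⧸ Subgroup.center S) with hA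
  set B := (QuotientGroup.mk D.z : S ⧸ Subgroup.center S) with hB
  have hord : orderOf A = 2 ^ (D.k + 2) := by
    refine orderOf_eq_prime_pow (p := 2) (n := D.k + 1) ?_ ?_
    · rw [hA, ← QuotientGroup.mk_pow, D.u_pow, hz]
      intro h
      apply D.not_dvd_two_Q
      rwa [show ((1 : ℤ) * ((2 ^ (D.k + 1) : ℕ) : ℤ)) - 0 * ((2 ^ (D.k + 1) : ℕ) : ℤ) = 2 * D.Q by
        rw [D.hQ]; push_cast; ring] at h
    · rw [hA, ← QuotientGroup.mk_pow, D.u_pow, hz, D.hQ]
      exact ⟨1, by push_cast; ring⟩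
  have hnot : B ∉ Subgroup.zpowers A := by
    rintro ⟨i, hi⟩
    have hi : A ^ i = B := hi
    rw [hA, hB, ← QuotientGroup.mk_zpow, QuotientGroup.eq, D.u_zpow, D.u_inv] at hi
    have h0 : D.u (-(1 * i)) (-(0 * i)) * D.z ∈ D.base := by
      obtain ⟨t, ht⟩ := D.center_eq ▸ hi
      rw [← ht]
      exact zpow_mem (D.u_mem_base 1 1) t
    exact D.uz_not_mem_base _ _ h0
  have e := exists_dihedral_mulEquiv (by positivity) hord (b := B)
    (by rw [hB, ← QuotientGroup.mk_mul, D.z_mul_z]; rfl)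
    (by
      rw [hA, hB, ← QuotientGroup.mk_inv, ← QuotientGroup.mk_inv, ← QuotientGroup.mk_mul,
        ← QuotientGroup.mk_mul, D.z_mul_u, mul_inv_cancel_right, D.u_inv, QuotientGroup.eq, D.u_inv,
        D.u_mul, D.mem_center_iff_diag]
      exact ⟨0, by ring⟩)
    hnot ⊤ (by
      intro g
      refine iff_of_true (Subgroup.mem_top g) ?_
      obtain ⟨s, rfl⟩ := QuotientGroup.mk_surjective g
      have hu : ∀ a b : ℤ, (QuotientGroup.mk (D.u a b) : S ⧸ Subgroup.center S) = A ^ (a - b) := by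
        intro a b
        rw [hA, ← QuotientGroup.mk_zpow, QuotientGroup.eq, D.u_zpow, D.u_inv, D.u_mul,
          D.mem_center_iff_diag]
        exact ⟨0, by ring⟩
      obtain ⟨a, b, rfl | rfl⟩ := D.normalForm s
      · exact ⟨a - b, Or.inl (hu a b)⟩
      · refine ⟨b - a, Or.inr ?_⟩
        rw [hB, ← hu, ← QuotientGroup.mk_mul, D.z_mul_u])
  exact ⟨Subgroup.topEquiv.symm.trans e.some⟩

/-- The subgroup generated by the involutions. -/
def omega : Subgroup S where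
  carrier := {g | ∃ a b : ℤ, 2 * D.Q ∣ a + b ∧ (g = D.u a b ∨ g = D.u a b * D.z)}
  one_mem' := ⟨0, 0, ⟨0, by ring⟩, Or.inl D.u_zero.symm⟩
  mul_mem' := by
    rintro _ _ ⟨a, b, h, rfl | rfl⟩ ⟨c, d, h', rfl | rfl⟩
    · exact ⟨a + c, b + d, by rw [add_add_add_comm]; exact dvd_add h h', Or.inl (D.u_mul _ _ _ _)⟩
    · exact ⟨a + c, b + d, by rw [add_add_add_comm]; exact dvd_add h h', Or.inr (D.u_mul_uz _ _ _ _)⟩
    · exact ⟨a + d, b + c, by rw [add_add_add_comm, add_comm d]; exact dvd_add h h',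
        Or.inr (D.uz_mul_u _ _ _ _)⟩
    · exact ⟨a + d, b + c, by rw [add_add_add_comm, add_comm d]; exact dvd_add h h',
        Or.inl (D.uz_mul_uz _ _ _ _)⟩
  inv_mem' := by
    rintro _ ⟨a, b, h, rfl | rfl⟩
    · exact ⟨-a, -b, by rw [← neg_add]; exact h.neg_right, Or.inl (D.u_inv _ _)⟩
    · exact ⟨-b, -a, by rw [← neg_add, add_comm]; exact h.neg_right, Or.inr (D.uz_inv _ _)⟩

theorem mem_omega {g : S} : g ∈ D.omega ↔
    ∃ a b : ℤ, 2 * D.Q ∣ a + b ∧ (g = D.u a b ∨ g = D.u a b * D.z) := Iff.rfl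

theorem omega_eq_closure : Subgroup.closure {g : S | orderOf g = 2} = D.omega := by
  apply le_antisymm
  · rw [Subgroup.closure_le]
    intro g hg
    have h2 : g ^ 2 = 1 := hg ▸ pow_orderOf_eq_one g
    rcases D.sq_eq_one_cases h2 with rfl | rfl | rfl | rfl | ⟨a, rfl⟩
    · exact one_mem _
    · exact ⟨_, _, ⟨2, by ring⟩, Or.inl rfl⟩
    · exact ⟨_, _, ⟨1, by ring⟩, Or.inl rfl⟩
    · exact ⟨_, _, ⟨1, by ring⟩, Or.inl rfl⟩
    · exact ⟨_, _, ⟨0, by ring⟩, Or.inr rfl⟩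
  · intro g hg
    obtain ⟨a, b, ⟨m, hm⟩, h⟩ := D.mem_omega.mp hg
    set W := Subgroup.closure {g : S | orderOf g = 2}
    have hv : ∀ t : ℤ, D.u t (-t) * D.z ∈ W := fun t =>
      Subgroup.subset_closure (D.orderOf_uz_antidiag t)
    have hl : D.u (2 * D.Q) 0 ∈ W := Subgroup.subset_closure D.orderOf_left
    have hu : D.u a b ∈ W := by
      have h1 := mul_mem (mul_mem (zpow_mem hl m) (hv (a - 2 * D.Q * m))) (hv 0)
      rw [D.u_zpow, D.u_mul_uz, D.uz_mul_uz] at h1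
      convert h1 using 1
      rw [D.u_eq_iff]
      exact ⟨⟨0, by ring⟩, ⟨0, by linear_combination hm⟩⟩
    rcases h with rfl | rfl
    · exact hu
    · refine mul_mem hu ?_
      have := hv 0
      rwa [neg_zero, D.u_zero, one_mul] at this

theorem card_omega : Nat.card D.omega = 2 ^ (D.k + 4) := by
  haveI := D.finite_of_gens
  have hle : D.quatSub ≤ D.omega := by
    intro g hg
    obtain ⟨i, rfl | rfl⟩ := D.mem_quatSub.mp hg
    · exact zpow_mem (D.mem_omega.mpr ⟨1, -1, ⟨0, by ring⟩, Or.inl rfl⟩) i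
    · exact mul_mem (D.mem_omega.mpr ⟨2 * D.Q, 0, ⟨1, by ring⟩, Or.inr rfl⟩)
        (zpow_mem (D.mem_omega.mpr ⟨1, -1, ⟨0, by ring⟩, Or.inl rfl⟩) i)
  have h : D.quatSub.relIndex D.omega = 2 := by
    rw [Subgroup.relIndex, Subgroup.index_eq_two_iff]
    refine ⟨⟨D.u (2 * D.Q) 0, D.mem_omega.mpr ⟨_, _, ⟨1, by ring⟩, Or.inl rfl⟩⟩, ?_⟩
    rintro ⟨g, a, b, ⟨m, hm⟩, hg⟩
    simp only [Subgroup.mem_subgroupOf, Subgroup.coe_mul]
    have hmem : ∀ a b : ℤ, D.u a b ∈ D.quatSub ↔ 4 * D.Q ∣ a + b := by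
      refine fun a b => ⟨fun h => ?_, D.antidiag_mem_quatSub⟩
      obtain ⟨i, h | h⟩ := D.mem_quatSub.mp h
      · rw [D.u_zpow, D.u_eq_iff] at h
        have := dvd_add h.1 h.2
        rwa [show a - 1 * i + (b - -1 * i) = a + b by ring] at this
      · rw [D.u_zpow, D.uz_mul_u] at h
        exact absurd h (D.u_ne_uz _ _ _ _)
    have hmemz : ∀ a b : ℤ, D.u a b * D.z ∈ D.quatSub ↔ 4 * D.Q ∣ a + b - 2 * D.Q := by
      refine fun a b => ⟨fun h => ?_, D.uz_mem_quatSub⟩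
      obtain ⟨i, h | h⟩ := D.mem_quatSub.mp h
      · rw [D.u_zpow] at h
        exact absurd h.symm (D.u_ne_uz _ _ _ _)
      · rw [D.u_zpow, D.uz_mul_u, D.uz_eq_iff] at h
        have := dvd_add h.1 h.2
        rwa [show a - (2 * D.Q + -1 * i) + (b - (0 + 1 * i)) = a + b - 2 * D.Q by ring] at this
    have hpar : ∀ j : ℤ, 4 * D.Q ∣ 2 * D.Q * j ↔ 2 ∣ j := fun j => by
      rw [show 4 * D.Q = 2 * D.Q * 2 by ring, mul_dvd_mul_iff_left (by have := D.Q_pos; omega)]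
    rcases hg with rfl | rfl
    · rw [D.u_mul, hmem, hmem, add_zero, show a + 2 * D.Q + b = 2 * D.Q * (m + 1) by linear_combination hm,
        hm, hpar, hpar]
      show _ ∧ _ ∨ _ ∧ _
      omega
    · rw [D.uz_mul_u, hmemz, hmemz, add_zero,
        show a + (b + 2 * D.Q) - 2 * D.Q = 2 * D.Q * m by linear_combination hm,
        show a + b - 2 * D.Q = 2 * D.Q * (m - 1) by linear_combination hm, hpar, hpar]
      show _ ∧ _ ∨ _ ∧ _
      omega
  rw [← Subgroup.relIndex_bot_left, ← Subgroup.relIndex_mul_relIndex ⊥ D.quatSub D.omega bot_le hle, h,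
    Subgroup.relIndex_bot_left, D.card_quatSub]
  ring

end CfsgLib.TwoFusion.WRGens
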