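import Cfsg.Prelude.Def_CaseTheorems
import Cfsg.Agent.Lib.TwoFusion.ConjUtil
import Cfsg.Agent.Lib.Classical.Herm.Std
import Mathlib.LinearAlgebra.Matrix.GeneralLinearGroup.Card
import Mathlib.FieldTheory.IsAlgClosed.AlgebraicClosure

/-!
# Sylow `2`-subgroups of `GL₂` and `GU₂` in odd characteristic
-/

set_option autoImplicit false

namespace CfsgLib.TwoFusion.GLTwoSylow

open Matrix

section Generic

variable {G : Type*} [Group G] [Finite G]

theorem isPGroup_zpowers {x : G} {n : ℕ} (hx : orderOf x = 2 ^ n) :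
    IsPGroup 2 (Subgroup.zpowers x) :=
  IsPGroup.of_card (n := n) (by rw [Nat.card_zpowers, hx])

theorem card_sylow_two {n r : ℕ} (hcard : Nat.card G = 2 ^ n * r) (hr : Odd r) (P : Sylow 2 G) :
    Nat.card (P : Subgroup G) = 2 ^ n := by
  have : Fact (Nat.Prime 2) := ⟨Nat.prime_two⟩
  have hr0 : r ≠ 0 := by rintro rfl; exact absurd hr (by decide)
  rw [P.card_eq_multiplicity, hcard, Nat.factorization_mul (pow_ne_zero _ two_ne_zero) hr0,
    Finsupp.add_apply, Nat.prime_two.factorization_pow, Finsupp.single_eq_same,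
    Nat.factorization_eq_zero_of_not_dvd (Nat.two_dvd_ne_zero.mpr (Nat.odd_iff.mp hr)), add_zero]

/-- Recognition of wreathed Sylow `2`-subgroups. -/
theorem isWreathed_sylow {a r : ℕ} (ha : 2 ≤ a) (hcard : Nat.card G = 2 ^ (2 * a + 1) * r)
    (hr : Odd r) (x y z : G) (hx : orderOf x = 2 ^ a) (hz : orderOf z = 2) (hc : x * y = y * x)
    (hd : Subgroup.zpowers x ⊓ Subgroup.zpowers y = ⊥) (hzx : z * x * z⁻¹ = y) (P : Sylow 2 G) :
    Cfsg.IsWreathed (P : Subgroup G) := by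
  have : Fact (Nat.Prime 2) := ⟨Nat.prime_two⟩
  have hy : orderOf y = 2 ^ a := by rw [← hzx, ← hx]; exact (MulAut.conj z).orderOf_eq x
  have hzz : z * z = 1 := by rw [← pow_two, ← hz, pow_orderOf_eq_one]
  have hzy : z * y * z⁻¹ = x := by
    rw [← hzx, inv_eq_of_mul_eq_one_right hzz,
      show z * (z * x * z) * z = z * z * x * (z * z) by simp [mul_assoc], hzz, one_mul, mul_one]
  let A := Subgroup.zpowers x ⊔ Subgroup.zpowers y
  have hA : IsPGroup 2 A := by
    refine IsPGroup.to_sup_of_normal_right' (isPGroup_zpowers hx) (isPGroup_zpowers hy) ?_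
    rw [Subgroup.zpowers_le]
    refine ConjUtil.mem_normalizer_of_conj_mem x fun d hd => ?_
    obtain ⟨e, rfl⟩ := Subgroup.mem_zpowers_iff.mp hd
    rw [((Commute.zpow_right hc e : Commute x (y ^ e))).eq, mul_inv_cancel_right]
    exact hd
  have hR : IsPGroup 2 (Subgroup.zpowers z ⊔ A : Subgroup G) := by
    refine IsPGroup.to_sup_of_normal_right' (isPGroup_zpowers (n := 1) (by rw [hz, pow_one])) hA ?_
    rw [Subgroup.zpowers_le, ConjUtil.mem_normalizer_iff_conjMap, Subgroup.map_sup,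
      MonoidHom.map_zpowers, MonoidHom.map_zpowers]
    show Subgroup.zpowers (z * x * z⁻¹) ⊔ Subgroup.zpowers (z * y * z⁻¹) = A
    rw [hzx, hzy, sup_comm]
  obtain ⟨g, hg⟩ := ConjUtil.exists_conjMap_le P hR
  have hmem : ∀ w ∈ (Subgroup.zpowers z ⊔ A : Subgroup G), g * w * g⁻¹ ∈ (P : Subgroup G) :=
    fun w hw => hg ⟨w, hw, rfl⟩
  refine ⟨a, ha, card_sylow_two hcard hr P,
    ⟨_, hmem x (Subgroup.mem_sup_right (Subgroup.mem_sup_left (Subgroup.mem_zpowers x)))⟩,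
    ⟨_, hmem y (Subgroup.mem_sup_right (Subgroup.mem_sup_right (Subgroup.mem_zpowers y)))⟩,
    ⟨_, hmem z (Subgroup.mem_sup_left (Subgroup.mem_zpowers z))⟩, ?_, ?_, ?_, ?_, ?_⟩
  · rw [Subgroup.orderOf_mk, ← hx]; exact (MulAut.conj g).orderOf_eq x
  · exact Subtype.ext ((show Commute x y from hc).map (MulAut.conj g).toMonoidHom).eq
  · rw [eq_bot_iff]
    rintro w ⟨⟨i, rfl⟩, j, hj⟩
    have h1 := congrArg Subtype.val hj
    simp only [SubgroupClass.coe_zpow] at h1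
    rw [conj_zpow, conj_zpow] at h1
    have h2 : y ^ j = x ^ i := mul_left_cancel (mul_right_cancel h1)
    have h3 : x ^ i ∈ Subgroup.zpowers x ⊓ Subgroup.zpowers y := ⟨⟨i, rfl⟩, ⟨j, h2⟩⟩
    rw [hd, Subgroup.mem_bot] at h3
    rw [Subgroup.mem_bot]
    apply Subtype.ext
    simp [conj_zpow, h3]
  · rw [Subgroup.orderOf_mk, ← hz]; exact (MulAut.conj g).orderOf_eq z
  · apply Subtype.ext
    show g * z * g⁻¹ * (g * x * g⁻¹) * (g * z * g⁻¹)⁻¹ = g * y * g⁻¹
    rw [← hzx]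
    simp [mul_assoc]

/-- Recognition of quasi-dihedral Sylow `2`-subgroups. -/
theorem isQuasiDihedral_sylow {b r : ℕ} (hb : 2 ≤ b) (hcard : Nat.card G = 2 ^ (b + 2) * r)
    (hr : Odd r) (x y : G) (hx : orderOf x = 2 ^ (b + 1)) (hy : orderOf y = 2)
    (hyx : y * x * y⁻¹ * x = x ^ (2 ^ b)) (P : Sylow 2 G) :
    Cfsg.IsQuasiDihedral (P : Subgroup G) := by
  have : Fact (Nat.Prime 2) := ⟨Nat.prime_two⟩
  have hyx' : y * x * y⁻¹ = x ^ (2 ^ b - 1) := by
    apply mul_right_cancel (b := x)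
    rw [hyx, ← pow_succ, Nat.sub_add_cancel Nat.one_le_two_pow]
  have hR : IsPGroup 2 (Subgroup.zpowers y ⊔ Subgroup.zpowers x : Subgroup G) := by
    refine IsPGroup.to_sup_of_normal_right' (isPGroup_zpowers (n := 1) (by rw [hy, pow_one]))
      (isPGroup_zpowers hx) ?_
    rw [Subgroup.zpowers_le]
    refine ConjUtil.mem_normalizer_of_conj_mem y fun d hd => ?_
    obtain ⟨e, rfl⟩ := Subgroup.mem_zpowers_iff.mp hd
    rw [← conj_zpow, hyx']
    exact Subgroup.zpow_mem _ (Subgroup.npow_mem_zpowers _ _) e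
  obtain ⟨g, hg⟩ := ConjUtil.exists_conjMap_le P hR
  refine ⟨b + 1, by omega, card_sylow_two hcard hr P,
    ⟨g * x * g⁻¹, hg ⟨x, Subgroup.mem_sup_right (Subgroup.mem_zpowers x), rfl⟩⟩,
    ⟨g * y * g⁻¹, hg ⟨y, Subgroup.mem_sup_left (Subgroup.mem_zpowers y), rfl⟩⟩, ?_, ?_, ?_⟩
  · rw [Subgroup.orderOf_mk, ← hx]; exact (MulAut.conj g).orderOf_eq x
  · rw [Subgroup.orderOf_mk, ← hy]; exact (MulAut.conj g).orderOf_eq y
  · apply Subtype.ext
    show g * y * g⁻¹ * (g * x * g⁻¹) * (g * y * g⁻¹)⁻¹ = (g * x * g⁻¹) ^ (2 ^ (b + 1 - 1) - 1)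
    rw [Nat.add_sub_cancel, conj_pow, ← hyx']
    simp [mul_assoc]

end Generic

section Field

variable {F : Type*} [Field F]

theorem val_pow_diag (u v : F) (n : ℕ) : (!![u, 0; 0, v] : Matrix (Fin 2) (Fin 2) F) ^ n =
    !![u ^ n, 0; 0, v ^ n] := by
  induction n with
  | zero => simp [one_fin_two]
  | succ n ih => rw [pow_succ, ih]; simp [pow_succ]

/-- The diagonal matrix as an element of `GL₂`. -/
def dg (u v : Fˣ) : GL (Fin 2) F :=
  GeneralLinearGroup.mkOfDetNeZero !![(u : F), 0; 0, (v : F)] (by simp [det_fin_two_of])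

theorem dg_val (u v : Fˣ) : (dg u v : Matrix (Fin 2) (Fin 2) F) = !![(u : F), 0; 0, (v : F)] := rfl

/-- The pair of diagonal entries as a homomorphism. -/
def dgHom : Fˣ × Fˣ →* GL (Fin 2) F where
  toFun p := dg p.1 p.2
  map_one' := by ext i j; fin_cases i <;> fin_cases j <;> simp [dg_val]
  map_mul' p q := by ext i j; fin_cases i <;> fin_cases j <;> simp [dg_val]

theorem dgHom_injective : Function.Injective (dgHom : Fˣ × Fˣ → GL (Fin 2) F) := by
  intro p q h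
  have h0 := congrArg (fun g : GL (Fin 2) F => (g : Matrix (Fin 2) (Fin 2) F) 0 0) h
  have h1 := congrArg (fun g : GL (Fin 2) F => (g : Matrix (Fin 2) (Fin 2) F) 1 1) h
  simp [dgHom, dg_val] at h0 h1
  exact Prod.ext (Units.ext h0) (Units.ext h1)

/-- The coordinate swap. -/
def sw : GL (Fin 2) F :=
  GeneralLinearGroup.mkOfDetNeZero !![0, 1; 1, 0] (by simp [det_fin_two_of])

theorem sw_val : ((sw : GL (Fin 2) F) : Matrix (Fin 2) (Fin 2) F) = !![0, 1; 1, 0] := rfl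

theorem orderOf_two_of_val {g : GL (Fin 2) F} (h : (g : Matrix (Fin 2) (Fin 2) F) * g = 1)
    (i j : Fin 2) (hne : (g : Matrix (Fin 2) (Fin 2) F) i j ≠ (1 : Matrix (Fin 2) (Fin 2) F) i j) :
    orderOf g = 2 :=
  orderOf_eq_prime (by rw [pow_two]; exact Units.ext (by simpa using h))
    fun e => hne (by rw [e, Units.val_one])

theorem orderOf_sw : orderOf (sw : GL (Fin 2) F) = 2 := by
  refine orderOf_two_of_val ?_ 0 0 (by simp [sw_val])
  rw [sw_val]; simp [one_fin_two]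

theorem orderOf_dg_left (u : Fˣ) : orderOf (dg u 1) = orderOf u := by
  rw [show dg u 1 = dgHom (u, 1) from rfl, orderOf_injective _ dgHom_injective, Prod.orderOf,
    orderOf_one, Nat.lcm_one_right]

theorem wreathed_data (u : Fˣ) : dg u 1 * dg 1 u = dg 1 u * dg u 1 ∧
    Subgroup.zpowers (dg u 1) ⊓ Subgroup.zpowers (dg 1 u) = ⊥ ∧
    sw * dg u 1 * sw⁻¹ = dg 1 u := by
  refine ⟨?_, ?_, ?_⟩
  · show dgHom (u, 1) * dgHom (1, u) = dgHom (1, u) * dgHom (u, 1)
    rw [← map_mul, ← map_mul, mul_comm]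
  · rw [eq_bot_iff]
    rintro w ⟨⟨i, rfl⟩, j, hj⟩
    have h : dgHom ((1, u) ^ j) = dgHom ((u, 1) ^ i) := by
      rw [map_zpow, map_zpow]; exact hj
    have h' := congrArg Prod.fst (dgHom_injective h)
    simp at h'
    show dg u 1 ^ i = 1
    rw [show dg u 1 = dgHom (u, 1) from rfl, ← map_zpow]
    refine (congrArg dgHom (Prod.ext ?_ ?_)).trans (map_one dgHom)
    · simpa using h'.symm
    · simp
  · rw [mul_inv_eq_iff_eq_mul]
    ext i j
    fin_cases i <;> fin_cases j <;> simp [dg_val, sw_val]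

variable {K : Type*} [Field K]

/-- A matrix `X` with `X² = T X + 1` satisfies `X ^ 2 ^ b = -1` when the roots of `x² - T x - 1`
do. -/
theorem pow_eq_neg_one (φ : F →+* K) (X : Matrix (Fin 2) (Fin 2) F) (T : F)
    (hX : X * X = T • X + 1) (lam : Kˣ) (b : ℕ) (hb : 2 ≤ b)
    (hlam : (lam : K) ^ (2 ^ b) = -1) (h2 : (2 : K) ≠ 0)
    (hT : φ T = (lam : K) - (lam : K)⁻¹) : X ^ (2 ^ b) = -1 := by
  set l' : K := -(lam : K)⁻¹ with hl'
  have hl0 : (lam : K) ≠ 0 := lam.ne_zero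
  have e1 : (lam : K) * lam = φ T * lam + 1 := by rw [hT]; field_simp; ring
  have e2 : l' * l' = φ T * l' + 1 := by rw [hT, hl']; field_simp; ring
  have key : ∀ m : ℕ, ∃ a c : F, X ^ m = a • X + c • (1 : Matrix (Fin 2) (Fin 2) F) ∧
      (lam : K) ^ m = φ a * lam + φ c ∧ l' ^ m = φ a * l' + φ c := by
    intro m
    induction m with
    | zero => exact ⟨0, 1, by simp, by simp, by simp⟩
    | succ m ih =>
      obtain ⟨a, c, h1, h3, h4⟩ := ih
      refine ⟨a * T + c, a, ?_, ?_, ?_⟩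
      · rw [pow_succ, h1, add_mul, smul_mul_assoc, hX, smul_mul_assoc, one_mul, smul_add, smul_smul,
          add_smul]
        abel
      · rw [pow_succ, h3, map_add, map_mul]; linear_combination φ a * e1
      · rw [pow_succ, h4, map_add, map_mul]; linear_combination φ a * e2
  obtain ⟨a, c, h1, h3, h4⟩ := key (2 ^ b)
  have hev : Even (2 ^ b) := Nat.even_pow.mpr ⟨even_two, by omega⟩
  have h5 : l' ^ (2 ^ b) = -1 := by rw [hl', hev.neg_pow, inv_pow, hlam]; norm_num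
  have hne : (lam : K) - l' ≠ 0 := by
    intro h
    have hsq : (lam : K) ^ 2 = -1 := by
      have h' : (lam : K) = -(lam : K)⁻¹ := sub_eq_zero.mp h
      rw [pow_two]
      nth_rewrite 1 [h']
      rw [neg_mul, inv_mul_cancel₀ hl0]
    obtain ⟨c, hc⟩ := Nat.exists_eq_add_of_le hb
    rw [hc, pow_add, pow_mul, show (lam : K) ^ (2 ^ 2) = ((lam : K) ^ 2) ^ 2 by
        rw [← pow_mul]; norm_num,
      hsq] at hlam
    norm_num at hlam
    exact h2 (by linear_combination hlam)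
  have ha : φ a = 0 := by
    refine (mul_eq_zero.mp ?_).resolve_right hne
    linear_combination h4 - h3 + hlam - h5
  have hc : c = -1 := φ.injective (by
    rw [map_neg, map_one, ← hlam, h3, ha, zero_mul, zero_add])
  rw [h1, φ.injective (ha.trans φ.map_zero.symm), hc, zero_smul, zero_add, neg_smul, one_smul]

theorem qd_data (X Y : GL (Fin 2) F) (T : F) (b : ℕ) (h2 : (2 : F) ≠ 0)
    (hX : (X : Matrix (Fin 2) (Fin 2) F) * X = T • (X : Matrix (Fin 2) (Fin 2) F) + 1)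
    (hpow : (X : Matrix (Fin 2) (Fin 2) F) ^ (2 ^ b) = -1)
    (hY : (Y : Matrix (Fin 2) (Fin 2) F) * X =
      (T • (1 : Matrix (Fin 2) (Fin 2) F) - (X : Matrix (Fin 2) (Fin 2) F)) * Y) :
    orderOf X = 2 ^ (b + 1) ∧ Y * X * Y⁻¹ * X = X ^ (2 ^ b) := by
  constructor
  · refine orderOf_eq_prime_pow (p := 2) (fun h => ?_) ?_
    · have h' := congrArg (fun g : GL (Fin 2) F => (g : Matrix (Fin 2) (Fin 2) F) 0 0) h
      simp only [Units.val_pow_eq_pow_val, hpow, Units.val_one] at h'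
      simp at h'
      exact h2 (by linear_combination -h')
    · refine Units.ext ?_
      rw [Units.val_pow_eq_pow_val, pow_succ, pow_mul, hpow, Units.val_one, neg_one_sq]
  · refine Units.ext ?_
    rw [Units.val_pow_eq_pow_val, hpow, Units.val_mul, Units.val_mul, Units.val_mul, hY,
      Matrix.mul_assoc (T • (1 : Matrix (Fin 2) (Fin 2) F) - (X : Matrix (Fin 2) (Fin 2) F)),
      Units.mul_inv, Matrix.mul_one,
      sub_mul, smul_mul_assoc, one_mul, hX]
    abel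

variable [Fintype F]

theorem two_ne_zero_of_odd (hq : Odd (Fintype.card F)) : (2 : F) ≠ 0 := by
  obtain ⟨p, hp⟩ := CharP.exists F
  obtain ⟨f, hpp, hc⟩ := FiniteField.card F p
  haveI : Fact p.Prime := ⟨hpp⟩
  intro h
  have : p ∣ 2 := (CharP.cast_eq_zero_iff F p 2).mp (by exact_mod_cast h)
  have hp2 : p = 2 := (Nat.prime_dvd_prime_iff_eq hpp Nat.prime_two).mp this
  subst hp2
  rw [hc, Nat.odd_iff, Nat.pow_mod] at hq
  simp [Nat.pos_iff_ne_zero.mp f.2] at hq

theorem exists_unit_order {d : ℕ} (hd : d ∣ Fintype.card F - 1) :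
    ∃ u : Fˣ, orderOf u = d := by
  classical
  obtain ⟨g, hg⟩ := IsCyclic.exists_monoid_generator (α := Fˣ)
  have ho : orderOf g = Fintype.card F - 1 := by
    rw [orderOf_eq_card_of_forall_mem_powers hg, Nat.card_units, Nat.card_eq_fintype_card]
  obtain ⟨e, he⟩ := hd
  have hpos : 0 < Fintype.card F - 1 := by have := Fintype.one_lt_card (α := F); omega
  refine ⟨g ^ e, ?_⟩
  rw [orderOf_pow_of_dvd (by rintro rfl; simp at he; omega) ⟨d, by rw [ho, he, mul_comm]⟩, ho, he,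
    Nat.mul_div_cancel _ (Nat.pos_of_ne_zero (by rintro rfl; simp at he; omega))]

theorem two_part {m : ℕ} (h : 4 ∣ m) (hm : m ≠ 0) : ∃ a r, 2 ≤ a ∧ Odd r ∧ m = 2 ^ a * r := by
  obtain ⟨a, r, hr, rfl⟩ := Nat.exists_eq_two_pow_mul_odd hm
  refine ⟨a, r, ?_, hr, rfl⟩
  obtain ⟨c, hc⟩ := hr
  rcases a with _ | _ | a <;> simp at * <;> omega

theorem card_gl_two : Nat.card (GL (Fin 2) F) =
    Fintype.card F * (Fintype.card F - 1) ^ 2 * (Fintype.card F + 1) := by
  rw [Matrix.card_GL_field, Fin.prod_univ_two, Fin.val_zero, Fin.val_one, pow_zero, pow_one]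
  obtain ⟨k, hk⟩ : ∃ k, Fintype.card F = k + 1 := ⟨Fintype.card F - 1, by
    have := Fintype.card_pos (α := F); omega⟩
  rw [hk, Nat.add_sub_cancel, show (k + 1) ^ 2 - 1 = k * (k + 2) by
    rw [show (k + 1) ^ 2 = k * (k + 2) + 1 by ring, Nat.add_sub_cancel],
    show (k + 1) ^ 2 - (k + 1) = k * (k + 1) by
    rw [show (k + 1) ^ 2 = k * (k + 1) + (k + 1) by ring, Nat.add_sub_cancel]]
  ring

theorem gl_wreathed (h4 : Fintype.card F % 4 = 1) (P : Sylow 2 (GL (Fin 2) F)) :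
    Cfsg.IsWreathed (P : Subgroup (GL (Fin 2) F)) := by
  have h1 : 1 < Fintype.card F := Fintype.one_lt_card
  obtain ⟨a, r, ha, hr, hm⟩ := two_part (m := Fintype.card F - 1) (by omega) (by omega)
  obtain ⟨u, hu⟩ := exists_unit_order (F := F) (d := 2 ^ a) ⟨r, hm⟩
  obtain ⟨s, hs, hs'⟩ : ∃ s, Odd s ∧ Fintype.card F + 1 = 2 * s :=
    ⟨(Fintype.card F + 1) / 2, Nat.odd_iff.mpr (by omega), by omega⟩
  obtain ⟨hc, hd, hz⟩ := wreathed_data u
  refine isWreathed_sylow ha (r := Fintype.card F * r ^ 2 * s) ?_ ?_ _ _ _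
    (by rw [orderOf_dg_left, hu]) orderOf_sw hc hd hz P
  · rw [card_gl_two, hm, hs', pow_succ 2 (2 * a)]; ring
  · exact ((Nat.odd_iff.mpr (by omega)).mul hr.pow).mul hs

theorem gl_quasiDihedral (h4 : Fintype.card F % 4 = 3) (P : Sylow 2 (GL (Fin 2) F)) :
    Cfsg.IsQuasiDihedral (P : Subgroup (GL (Fin 2) F)) := by
  obtain ⟨b, r, hb, hr, hm⟩ := two_part (m := Fintype.card F + 1) (by omega) (by omega)
  obtain ⟨s, hs, hs'⟩ : ∃ s, Odd s ∧ Fintype.card F - 1 = 2 * s :=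
    ⟨(Fintype.card F - 1) / 2, Nat.odd_iff.mpr (by omega), by omega⟩
  have h2 : (2 : F) ≠ 0 := two_ne_zero_of_odd (Nat.odd_iff.mpr (by omega))
  let K := AlgebraicClosure F
  let φ : F →+* K := algebraMap F K
  have h2K : (2 : K) ≠ 0 := fun h => h2 (φ.injective (by rw [map_ofNat, map_zero, h]))
  haveI : NeZero ((2 ^ (b + 1) : ℕ) : K) := ⟨by
    rw [Nat.cast_pow, Nat.cast_ofNat]; exact pow_ne_zero _ h2K⟩
  obtain ⟨l, hl⟩ := IsAlgClosed.exists_root (Polynomial.cyclotomic (2 ^ (b + 1)) K) (by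
    rw [Polynomial.degree_cyclotomic]
    exact_mod_cast (Nat.totient_pos.mpr (pow_pos two_pos _)).ne')
  rw [Polynomial.isRoot_cyclotomic_iff] at hl
  have hhalf : l ^ (2 ^ b) = -1 := by
    have h := hl.pow (pow_pos two_pos _) (show 2 ^ (b + 1) = 2 ^ b * 2 by rw [pow_succ])
    exact h.eq_neg_one_of_two_right
  have hl0 : l ≠ 0 := hl.ne_zero (pow_ne_zero _ two_ne_zero)
  have hq1 : l ^ Fintype.card F * l = -1 := by
    rw [← pow_succ, hm, pow_mul, hhalf, hr.neg_one_pow]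
  -- the trace lies in `F`
  obtain ⟨T, hT⟩ : ∃ T : F, φ T = l - l⁻¹ := by
    obtain ⟨p, hp⟩ := CharP.exists F
    obtain ⟨f, hpp, hc⟩ := FiniteField.card F p
    haveI : Fact p.Prime := ⟨hpp⟩
    haveI : CharP K p := charP_of_injective_ringHom φ.injective p
    have hfix : (l - l⁻¹) ^ Fintype.card F = l - l⁻¹ := by
      have hlq : l ^ Fintype.card F = -l⁻¹ := by
        rw [eq_neg_iff_add_eq_zero]
        apply mul_right_cancel₀ hl0
        rw [add_mul, hq1, inv_mul_cancel₀ hl0, zero_mul, neg_add_cancel]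
      rw [hc, sub_pow_char_pow, ← hc, inv_pow, hlq, inv_neg, inv_inv]
      ring
    by_contra hne
    push Not at hne
    classical
    have hcard := Polynomial.card_le_degree_of_subset_roots
      (p := (Polynomial.X ^ Fintype.card F - Polynomial.X : Polynomial K))
      (Z := insert (l - l⁻¹) (Finset.univ.image φ)) (fun x hx => ?_)
    · rw [Finset.card_insert_of_notMem (by simpa using hne), Finset.card_image_of_injective _ φ.injective,
        Finset.card_univ, FiniteField.X_pow_card_sub_X_natDegree_eq K (Fintype.one_lt_card)] at hcard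
      omega
    · simp only [Finset.mem_val, Finset.mem_insert, Finset.mem_image, Finset.mem_univ, true_and] at hx
      rw [Polynomial.mem_roots (FiniteField.X_pow_card_sub_X_ne_zero K Fintype.one_lt_card)]
      rcases hx with rfl | ⟨c, rfl⟩
      · simp [hfix]
      · simp [← map_pow, FiniteField.pow_card]
  let X : GL (Fin 2) F := GeneralLinearGroup.mkOfDetNeZero !![0, 1; 1, T] (by simp [det_fin_two_of])
  let Y : GL (Fin 2) F := GeneralLinearGroup.mkOfDetNeZero !![1, 0; T, -1] (by simp [det_fin_two_of])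
  have hXv : (X : Matrix (Fin 2) (Fin 2) F) = !![0, 1; 1, T] := rfl
  have hYv : (Y : Matrix (Fin 2) (Fin 2) F) = !![1, 0; T, -1] := rfl
  have hX2 : (X : Matrix (Fin 2) (Fin 2) F) * X = T • (X : Matrix (Fin 2) (Fin 2) F) + 1 := by
    rw [hXv]; ext i j; fin_cases i <;> fin_cases j <;> simp <;> ring
  obtain ⟨ho, hrel⟩ := qd_data X Y T b h2 hX2
    (pow_eq_neg_one φ _ T hX2 (Units.mk0 l hl0) b hb hhalf h2K hT)
    (by rw [hXv, hYv]; ext i j; fin_cases i <;> fin_cases j <;> simp [Matrix.mul_apply, Fin.sum_univ_two] <;> ring)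
  refine isQuasiDihedral_sylow hb (r := Fintype.card F * r * s ^ 2) ?_ ?_ X Y ho
    (orderOf_two_of_val (by rw [hYv]; ext i j; fin_cases i <;> fin_cases j <;> simp <;> ring) 1 1
      (by rw [hYv]; simpa using fun h => h2 (by linear_combination -h))) hrel P
  · rw [card_gl_two, hm, hs', pow_succ, pow_succ]; ring
  · exact ((Nat.odd_iff.mpr (by omega)).mul hr).mul hs.pow

end Field

section Unitary

variable {F : Type*} [Field F] [Fintype F] {q : ℕ}

open CfsgLib.Classical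

theorem card_gu_two (hF : Fintype.card F = q ^ 2) :
    Nat.card (Cfsg.GU 2 F q) = q * (q + 1) * (q ^ 2 - 1) := by
  rw [Nat.card_congr (Herm.guEquiv hF 2).toEquiv, Herm.card_unit hF 2, Finset.prod_range_succ,
    Finset.prod_range_succ, Finset.prod_range_zero]
  norm_num
  ring

theorem card_gu_two' (hF : Fintype.card F = q ^ 2) :
    Nat.card (Cfsg.GU 2 F q) = q * (q + 1) ^ 2 * (q - 1) := by
  have h := Herm.two_le_of_card hF
  rw [card_gu_two hF, show q ^ 2 - 1 = (q + 1) * (q - 1) by rw [← Nat.sq_sub_sq, one_pow]]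
  ring

theorem mem_gu_iff {g : GL (Fin 2) F} : g ∈ Cfsg.GU 2 F q ↔
    ∀ u v : Fin 2 → F, Cfsg.hermForm 2 F q ((g : Matrix (Fin 2) (Fin 2) F) *ᵥ u)
      ((g : Matrix (Fin 2) (Fin 2) F) *ᵥ v) = Cfsg.hermForm 2 F q u v := Iff.rfl

theorem gu_wreathed (hF : Fintype.card F = q ^ 2) (h4 : q % 4 = 3) (P : Sylow 2 (Cfsg.GU 2 F q)) :
    Cfsg.IsWreathed (P : Subgroup (Cfsg.GU 2 F q)) := by
  obtain ⟨a, r, ha, hr, hm⟩ := two_part (m := q + 1) (by omega) (by omega)
  obtain ⟨s, hs, hs'⟩ : ∃ s, Odd s ∧ q - 1 = 2 * s :=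
    ⟨(q - 1) / 2, Nat.odd_iff.mpr (by omega), by omega⟩
  obtain ⟨u, hu⟩ := exists_unit_order (F := F) (d := 2 ^ a) (by
    rw [hF, show q ^ 2 - 1 = (q + 1) * (q - 1) by rw [← Nat.sq_sub_sq, one_pow], hm, mul_assoc]
    exact dvd_mul_right _ _)
  have hu1 : (u : F) ^ q * (u : F) = 1 := by
    rw [← pow_succ, ← Units.val_pow_eq_pow_val, hm, ← hu, pow_mul, pow_orderOf_eq_one, one_pow,
      Units.val_one]
  have hm1 : dg u 1 ∈ Cfsg.GU 2 F q := mem_gu_iff.mpr fun v w => by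
    simp [Cfsg.hermForm, dg_val, Fin.sum_univ_two, mulVec, dotProduct, mul_pow]
    linear_combination (v 0 * w 0 ^ q) * hu1
  have hm3 : (sw : GL (Fin 2) F) ∈ Cfsg.GU 2 F q := mem_gu_iff.mpr fun v w => by
    simp [Cfsg.hermForm, sw_val, Fin.sum_univ_two, mulVec, dotProduct]
    ring
  obtain ⟨hc, hd, hz⟩ := wreathed_data u
  have hm2 : dg 1 u ∈ Cfsg.GU 2 F q :=
    hz ▸ Subgroup.mul_mem _ (Subgroup.mul_mem _ hm3 hm1) (Subgroup.inv_mem _ hm3)
  refine isWreathed_sylow ha (r := q * r ^ 2 * s) ?_ ?_ ⟨_, hm1⟩ ⟨_, hm2⟩ ⟨_, hm3⟩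
    (by rw [Subgroup.orderOf_mk, orderOf_dg_left, hu]) (by rw [Subgroup.orderOf_mk, orderOf_sw])
    (Subtype.ext hc) ?_ (Subtype.ext hz) P
  · rw [card_gu_two' hF, hm, hs', pow_succ 2 (2 * a)]; ring
  · exact ((Nat.odd_iff.mpr (by omega)).mul hr.pow).mul hs
  · rw [eq_bot_iff]
    rintro w ⟨⟨i, hi⟩, j, hj⟩
    have h : ((w : GL (Fin 2) F)) ∈ Subgroup.zpowers (dg u 1) ⊓ Subgroup.zpowers (dg 1 u) :=
      ⟨⟨i, by simpa using congrArg Subtype.val hi⟩, ⟨j, by simpa using congrArg Subtype.val hj⟩⟩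
    rw [hd, Subgroup.mem_bot] at h
    exact Subgroup.mem_bot.mpr (Subtype.ext h)

theorem gu_quasiDihedral (hF : Fintype.card F = q ^ 2) (h4 : q % 4 = 1)
    (P : Sylow 2 (Cfsg.GU 2 F q)) : Cfsg.IsQuasiDihedral (P : Subgroup (Cfsg.GU 2 F q)) := by
  have hq2 := Herm.two_le_of_card hF
  obtain ⟨b, r, hb, hr, hm⟩ := two_part (m := q - 1) (by omega) (by omega)
  obtain ⟨s, hs, hs'⟩ : ∃ s, Odd s ∧ q + 1 = 2 * s :=
    ⟨(q + 1) / 2, Nat.odd_iff.mpr (by omega), by omega⟩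
  have h2 : (2 : F) ≠ 0 := two_ne_zero_of_odd (by rw [hF]; exact (Nat.odd_iff.mpr (by omega)).pow)
  have hsq : q ^ 2 - 1 = (q + 1) * (q - 1) := by rw [← Nat.sq_sub_sq, one_pow]
  obtain ⟨u, hu⟩ := exists_unit_order (F := F) (d := 2 ^ (b + 1)) ⟨s * r, by
    rw [hF, hsq, hm, hs', pow_succ]; ring⟩
  obtain ⟨c, hc0⟩ : ∃ c : F, c ^ q * c = -1 := by
    obtain ⟨w, hw⟩ := exists_unit_order (F := F) (d := 2 * (q + 1)) ⟨2 ^ (b - 1) * r, by
      rw [hF, hsq, hm, show 2 * (q + 1) * (2 ^ (b - 1) * r) = (q + 1) * (2 ^ (b - 1 + 1) * r) by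
        rw [pow_succ]; ring, show b - 1 + 1 = b by omega]⟩
    refine ⟨w, ?_⟩
    rw [← pow_succ]
    have h : IsPrimitiveRoot (w : F) (2 * (q + 1)) :=
      IsPrimitiveRoot.coe_units_iff.mpr (hw ▸ IsPrimitiveRoot.orderOf w)
    exact (h.pow (by omega) (show 2 * (q + 1) = (q + 1) * 2 by ring)).eq_neg_one_of_two_right
  have hl : IsPrimitiveRoot (u : F) (2 ^ (b + 1)) :=
    IsPrimitiveRoot.coe_units_iff.mpr (hu ▸ IsPrimitiveRoot.orderOf u)
  have hhalf : (u : F) ^ (2 ^ b) = -1 :=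
    (hl.pow (pow_pos two_pos _) (pow_succ 2 b)).eq_neg_one_of_two_right
  have hlq : (u : F) ^ q = -(u : F) := by
    conv_lhs => rw [show q = (q - 1) + 1 by omega, hm, pow_succ, pow_mul, hhalf, hr.neg_one_pow]
    simp
  have hiq : ((u : F)⁻¹) ^ q = -(u : F)⁻¹ := by rw [inv_pow, hlq, inv_neg]
  have h2q : (2 : F) ^ q = 2 := by
    have := map_ofNat (Herm.qPow hF) 2
    simpa using this
  have hu0 : (u : F) ≠ 0 := u.ne_zero
  have hc' : c ≠ 0 := by rintro rfl; simp at hc0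
  obtain ⟨A, B, hA, hB, hdet, hTr⟩ : ∃ A B : F, A ^ q = -A ∧ B ^ q = -B ∧ B * B - A * A = 1 ∧
      2 * A = (u : F) - (u : F)⁻¹ := by
    refine ⟨((u : F) - (u : F)⁻¹) / 2, ((u : F) + (u : F)⁻¹) / 2, ?_, ?_, ?_, ?_⟩
    · rw [div_pow, ← Herm.qPow_apply hF, map_sub, Herm.qPow_apply, Herm.qPow_apply, hlq, hiq, h2q]
      field_simp
      ring
    · rw [div_pow, ← Herm.qPow_apply hF, map_add, Herm.qPow_apply, Herm.qPow_apply, hlq, hiq, h2q]
      field_simp
      ring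
    · field_simp
      ring
    · field_simp
  let X : GL (Fin 2) F := GeneralLinearGroup.mkOfDetNeZero !![A, B / c; c * B, A] (by
    rw [det_fin_two_of]
    field_simp
    intro h
    exact one_ne_zero (α := F) (by linear_combination -hdet - h))
  let Y : GL (Fin 2) F := GeneralLinearGroup.mkOfDetNeZero !![1, 0; 0, -1] (by simp [det_fin_two_of])
  have hXv : (X : Matrix (Fin 2) (Fin 2) F) = !![A, B / c; c * B, A] := rfl
  have hYv : (Y : Matrix (Fin 2) (Fin 2) F) = !![1, 0; 0, -1] := rfl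
  have hqne : Odd q := Nat.odd_iff.mpr (by omega)
  have hXm : X ∈ Cfsg.GU 2 F q := mem_gu_iff.mpr fun v w => by
    simp only [Cfsg.hermForm, hXv, Fin.sum_univ_two, mulVec, dotProduct, of_apply, cons_val',
      cons_val_zero, cons_val_one, cons_val_fin_one, empty_val', head_cons, head_fin_const]
    rw [← Herm.qPow_apply hF (A * w 0 + B / c * w 1), ← Herm.qPow_apply hF (c * B * w 0 + A * w 1),
      map_add, map_add]
    simp only [map_mul, map_div₀, Herm.qPow_apply, hA, hB]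
    have hcq : c ^ q = -c⁻¹ := by
      apply mul_right_cancel₀ hc'
      rw [hc0, neg_mul, inv_mul_cancel₀ hc']
    rw [hcq]
    field_simp
    linear_combination (c * (v 0 * w 0 ^ q + v 1 * w 1 ^ q)) * hdet
  have hYm : Y ∈ Cfsg.GU 2 F q := mem_gu_iff.mpr fun v w => by
    simp [Cfsg.hermForm, hYv, Fin.sum_univ_two, mulVec, dotProduct, hqne.neg_pow]
  have hX2 : (X : Matrix (Fin 2) (Fin 2) F) * X = (2 * A) • (X : Matrix (Fin 2) (Fin 2) F) + 1 := by
    rw [hXv]; ext i j; fin_cases i <;> fin_cases j <;> simp <;>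
      first
        | ring1
        | (field_simp; linear_combination hdet)
        | (field_simp; linear_combination c * hdet)
        | (field_simp; ring1)
  obtain ⟨ho, hrel⟩ := qd_data X Y (2 * A) b h2 hX2
    (pow_eq_neg_one (RingHom.id F) _ _ hX2 u b hb hhalf h2 hTr)
    (by rw [hXv, hYv]; ext i j; fin_cases i <;> fin_cases j <;> simp [Matrix.mul_apply, Fin.sum_univ_two] <;> ring)
  refine isQuasiDihedral_sylow hb (r := q * r * s ^ 2) ?_ ?_ ⟨X, hXm⟩ ⟨Y, hYm⟩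
    (by rw [Subgroup.orderOf_mk, ho]) ?_ (Subtype.ext (by simpa using hrel)) P
  · rw [card_gu_two' hF, hm, hs', pow_succ, pow_succ]; ring
  · exact ((Nat.odd_iff.mpr (by omega)).mul hr).mul hs.pow
  · rw [Subgroup.orderOf_mk]
    refine orderOf_two_of_val (by rw [hYv]; ext i j; fin_cases i <;> fin_cases j <;> simp) 1 1 ?_
    rw [hYv]; simpa using fun h => h2 (by linear_combination -h)

end Unitary

end CfsgLib.TwoFusion.GLTwoSylow
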