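import Cfsg.Agent.Lib.TwoFusion.MetacyclicAut

/-!
Classification of metacyclic 2-groups with an automorphism of odd order.
-/

set_option autoImplicit false

namespace CfsgLib.TwoFusion.MetacyclicAut

open Subgroup
open scoped commutatorElement

variable {X : Type*} [Group X] [Finite X]

theorem homocyclic {φ : MulAut X} {n : X} (hX : IsPGroup 2 X)
    (hcomm : ∀ a b : X, a * b = b * a) (hgen' : closure {n, φ n} = ⊤) (hn1 : n ≠ 1)
    {f : X} (hf : f ∈ frattini X) (hcyc : φ (φ n) = n * φ n * f) :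
    ∃ e : ℕ, Nonempty (X ≃* Multiplicative (ZMod (2 ^ e)) × Multiplicative (ZMod (2 ^ e))) := by
  haveI : Fact (Nat.Prime 2) := ⟨Nat.prime_two⟩
  obtain ⟨k, hk⟩ := IsPGroup.iff_orderOf.mp hX n
  obtain ⟨e, rfl⟩ : ∃ e, k = e + 1 := ⟨k - 1, by
    rcases Nat.eq_zero_or_pos k with h | h
    · rw [h, pow_zero, orderOf_eq_one_iff] at hk; exact absurd hk hn1
    · omega⟩
  have hkφ : orderOf (φ n) = 2 ^ (e + 1) := by rw [φ.orderOf_eq, hk]
  set t := n ^ 2 ^ e with ht
  have ht1 : t ≠ 1 := fun h => by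
    have := orderOf_dvd_of_pow_eq_one h
    rw [hk] at this
    have := (Nat.pow_dvd_pow_iff_le_right (by norm_num : 1 < 2)).mp this
    omega
  have hdis : zpowers n ⊓ zpowers (φ n) = ⊥ := by
    by_contra hne
    obtain ⟨w, hw, hw1⟩ : ∃ w ∈ zpowers n ⊓ zpowers (φ n), w ≠ 1 := by
      by_contra h
      push Not at h
      exact hne ((Subgroup.eq_bot_iff_forall _).mpr h)
    -- the involution of a nontrivial subgroup of a cyclic 2-group
    have key : ∀ (a : X), orderOf a = 2 ^ (e + 1) → ∀ w ∈ zpowers a, w ≠ 1 →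
        a ^ 2 ^ e ∈ zpowers w := by
      intro a ha w hw hw1
      obtain ⟨i, rfl⟩ := mem_zpowers_iff.mp hw
      obtain ⟨l, hl⟩ := IsPGroup.iff_orderOf.mp hX (a ^ i)
      obtain ⟨l, rfl⟩ : ∃ m, l = m + 1 := ⟨l - 1, by
        rcases Nat.eq_zero_or_pos l with h | h
        · rw [h, pow_zero, orderOf_eq_one_iff] at hl; exact absurd hl hw1
        · omega⟩
      refine ⟨(2 ^ l : ℕ), ?_⟩
      show (a ^ i) ^ ((2 ^ l : ℕ) : ℤ) = a ^ 2 ^ e
      rw [← zpow_mul, ← zpow_natCast a, zpow_eq_zpow_iff_modEq, ha, Nat.cast_pow, Nat.cast_pow,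
        Nat.cast_ofNat]
      have h1 : (2 : ℤ) ^ (e + 1) ∣ i * 2 ^ (l + 1) := by
        have h := pow_orderOf_eq_one (a ^ i)
        rw [hl, ← zpow_natCast, ← zpow_mul, ← orderOf_dvd_iff_zpow_eq_one, ha] at h
        push_cast at h
        exact h
      have h2 : ¬ (2 : ℤ) ^ (e + 1) ∣ i * 2 ^ l := fun h => by
        have h' : (a ^ i) ^ 2 ^ l = 1 := by
          rw [← zpow_natCast, ← zpow_mul, ← orderOf_dvd_iff_zpow_eq_one, ha]
          push_cast
          exact h
        have := orderOf_dvd_of_pow_eq_one h'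
        rw [hl] at this
        have := (Nat.pow_dvd_pow_iff_le_right (by norm_num : 1 < 2)).mp this
        omega
      obtain ⟨d, hd⟩ := h1
      have h3 : i * 2 ^ l = 2 ^ e * d :=
        mul_left_cancel₀ (two_ne_zero' ℤ) (by rw [pow_succ, pow_succ] at hd; linear_combination hd)
      obtain ⟨s, rfl | rfl⟩ := Int.even_or_odd' d
      · exact absurd ⟨s, by rw [h3, pow_succ]; ring⟩ h2
      · rw [h3, Int.modEq_iff_dvd]
        exact ⟨-s, by push_cast; rw [pow_succ]; ring⟩
    obtain ⟨hwn, hwφ⟩ := mem_inf.mp hw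
    have h1 := key n hk w hwn hw1
    have h2 := key (φ n) hkφ w hwφ hw1
    have htφ : φ t = t := by
      have ho : ∀ a : X, orderOf a = 2 ^ (e + 1) → orderOf (a ^ 2 ^ e) = 2 := fun a ha => by
        rw [orderOf_pow_of_dvd (by positivity) (by rw [ha]; exact pow_dvd_pow 2 (Nat.le_succ e)), ha,
          pow_succ, Nat.mul_div_cancel_left _ (by positivity)]
      obtain ⟨s, hs⟩ := mem_zpowers_iff.mp h1
      have hle : zpowers w ≤ zpowers n := zpowers_le.mpr hwn
      have h3 := hle h2
      -- both are the involution of `zpowers n`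
      obtain ⟨i, hi⟩ := mem_zpowers_iff.mp h3
      have h4 : n ^ i = t := by
        have ho' : orderOf (n ^ i) = 2 := by rw [hi]; exact ho _ hkφ
        have hd : (2 : ℤ) ^ (e + 1) ∣ i * 2 := by
          have h := pow_orderOf_eq_one (n ^ i)
          rw [ho', ← zpow_natCast, ← zpow_mul, ← orderOf_dvd_iff_zpow_eq_one, hk] at h
          push_cast at h
          exact h
        obtain ⟨d, hd⟩ := hd
        have h5 : i = 2 ^ e * d :=
          mul_left_cancel₀ (two_ne_zero' ℤ) (by rw [pow_succ] at hd; linear_combination hd)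
        obtain ⟨s, rfl | rfl⟩ := Int.even_or_odd' d
        · exfalso
          have h6 : n ^ i = 1 := by
            rw [← orderOf_dvd_iff_zpow_eq_one, hk]
            push_cast
            exact ⟨s, by rw [h5, pow_succ]; ring⟩
          rw [h6, orderOf_one] at ho'
          omega
        · rw [ht, ← zpow_natCast, zpow_eq_zpow_iff_modEq, hk, Int.modEq_iff_dvd]
          push_cast
          exact ⟨-s, by rw [h5, pow_succ]; ring⟩
      rw [ht, map_pow, ← hi, h4]
    let h : X →* X := MonoidHom.mk' (fun g => g ^ 2 ^ e) fun a b =>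
      (show Commute a b from hcomm a b).mul_pow _
    have himg : ∀ g : X, h g ∈ zpowers t := by
      have hle : closure {n, φ n} ≤ (zpowers t).comap h := by
        rw [closure_le]
        rintro y (rfl | rfl)
        · exact mem_zpowers _
        · show (φ n) ^ 2 ^ e ∈ zpowers t
          rw [← map_pow, ← ht, htφ]; exact mem_zpowers _
      intro g
      exact hle (hgen' ▸ mem_top g)
    have hinv : ∀ g, h (φ g) = h g := fun g => by
      obtain ⟨i, hi⟩ := mem_zpowers_iff.mp (himg g)
      show (φ g) ^ 2 ^ e = _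
      rw [← map_pow, show g ^ 2 ^ e = h g from rfl, ← hi, map_zpow, htφ]
    exact ht1 (invariant_hom_trivial hX hgen' hf hcyc h (fun a b => hcomm _ _) hinv n)
  have hc : ∀ (a : zpowers n) (b : zpowers (φ n)), Commute ((zpowers n).subtype a) ((zpowers (φ n)).subtype b) :=
    fun a b => hcomm _ _
  let F := MonoidHom.noncommCoprod _ _ hc
  have hFi : Function.Injective F := by
    rw [injective_iff_map_eq_one]
    rintro ⟨a, b⟩ hab
    have hab' : (a : X) * b = 1 := hab
    have ha : (a : X) ∈ zpowers n ⊓ zpowers (φ n) :=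
      mem_inf.mpr ⟨a.2, by rw [eq_inv_of_mul_eq_one_left hab']; exact inv_mem b.2⟩
    rw [hdis, mem_bot] at ha
    rw [ha, one_mul] at hab'
    exact Prod.ext (Subtype.ext ha) (Subtype.ext hab')
  have hFs : Function.Surjective F := by
    rw [← MonoidHom.range_eq_top, eq_top_iff, ← hgen', closure_le]
    rintro y (rfl | rfl)
    · exact ⟨(⟨y, mem_zpowers y⟩, 1), by simp [F]⟩
    · exact ⟨(1, ⟨φ n, mem_zpowers _⟩), by simp [F]⟩
  refine ⟨e + 1, ⟨(MulEquiv.ofBijective F ⟨hFi, hFs⟩).symm.trans (MulEquiv.prodCongr ?_ ?_)⟩⟩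
  · exact (zmodCyclicMulEquiv (inferInstance : IsCyclic (zpowers n))).symm.trans
      (by rw [Nat.card_zpowers, hk]; exact MulEquiv.refl _)
  · exact (zmodCyclicMulEquiv (inferInstance : IsCyclic (zpowers (φ n)))).symm.trans
      (by rw [Nat.card_zpowers, hkφ]; exact MulEquiv.refl _)

theorem metacyclic_odd_aut (hX : IsPGroup 2 X) (hm : Cfsg.IsMetacyclic X)
    (hA : ¬ IsPGroup 2 (MulAut X)) :
    Nonempty (X ≃* QuaternionGroup 2) ∨
      ∃ n : ℕ, Nonempty (X ≃* Multiplicative (ZMod (2 ^ n)) × Multiplicative (ZMod (2 ^ n))) := by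
  classical
  haveI : Fact (Nat.Prime 2) := ⟨Nat.prime_two⟩
  obtain ⟨φ, j, hodd, hj, hne⟩ := OddAut.exists_ne_one_odd hA
  obtain ⟨N, hN, hNc, hQc⟩ := hm
  haveI := hN
  obtain ⟨⟨n, hnN⟩, hn⟩ := IsCyclic.exists_generator (α := N)
  obtain ⟨xq, hxq⟩ := IsCyclic.exists_generator (α := X ⧸ N)
  obtain ⟨x, rfl⟩ := QuotientGroup.mk_surjective xq
  have hNn : ∀ g ∈ N, g ∈ zpowers n := fun g hg => by
    obtain ⟨i, hi⟩ := mem_zpowers_iff.mp (hn ⟨g, hg⟩)
    exact ⟨i, congrArg Subtype.val hi⟩
  have hgen : closure {n, x} = ⊤ := by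
    rw [eq_top_iff]
    intro g _
    obtain ⟨i, hi⟩ := mem_zpowers_iff.mp (hxq (QuotientGroup.mk g))
    rw [← QuotientGroup.mk_zpow] at hi
    have h1 : (x ^ i)⁻¹ * g ∈ N := QuotientGroup.eq.mp hi
    rw [← mul_inv_cancel_left (x ^ i) g]
    have hx' : x ∈ closure ({n, x} : Set X) := Subgroup.subset_closure (Set.mem_insert_of_mem _ rfl)
    have hn' : n ∈ closure ({n, x} : Set X) := Subgroup.subset_closure (Set.mem_insert n _)
    refine mul_mem (zpow_mem hx' i) ?_
    exact (zpowers_le.mpr hn') (hNn _ h1)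
  obtain ⟨hgen', hnF, f, hf, hcyc⟩ := exists_cycle hX hodd hj hgen hne
  have hn1 : n ≠ 1 := fun h => hnF (h ▸ one_mem _)
  set m := φ n with hmdef
  set c := m * n * m⁻¹ * n⁻¹ with hcdef
  by_cases hab : ∀ a b : X, a * b = b * a
  · exact Or.inr (homocyclic hX hab hgen' hn1 hf hcyc)
  left
  have hcommN : commutator X ≤ N := by
    haveI : IsMulCommutative (X ⧸ N) := inferInstance
    rw [← Subgroup.Normal.quotient_commutative_iff_commutator_le]
    infer_instance
  haveI : IsCyclic (commutator X) :=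
    isCyclic_of_injective (Subgroup.inclusion hcommN) (Subgroup.inclusion_injective hcommN)
  have hfix : ∀ d ∈ commutator X, φ d = d := by
    intro d hd
    obtain ⟨⟨g, hg⟩, hgen⟩ := IsCyclic.exists_generator (α := commutator X)
    have hφg : φ g ∈ commutator X := by
      have hc := Subgroup.characteristic_iff_comap_eq.mp (inferInstance : (commutator X).Characteristic) φ
      rw [← hc] at hg
      exact hg
    obtain ⟨i, hi⟩ := mem_zpowers_iff.mp (hgen ⟨φ g, hφg⟩)
    have hgi : φ g = g ^ i * 1 := by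
      rw [mul_one]; exact (congrArg Subtype.val hi).symm
    have h1 := OddAut.fix_zpow hj hodd (Z := ⊥) bot_le
      (fun ζ hζ => by rw [mem_bot.mp hζ, map_one]) hX (one_mem _) hgi
    obtain ⟨k, hk⟩ := mem_zpowers_iff.mp (hgen ⟨d, hd⟩)
    rw [← show g ^ k = d from congrArg Subtype.val hk, map_zpow, h1]
  -- conjugation on the derived group
  let cj : X →* MulAut (commutator X) :=
    { toFun := fun g => ((MulAut.conjNormal (H := commutator X)) g)
      map_one' := map_one _
      map_mul' := map_mul _ }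
  have hcj : ∀ g, cj (φ g) = cj g := fun g => by
    refine MulEquiv.ext fun d => Subtype.ext ?_
    show φ g * (d : X) * (φ g)⁻¹ = g * (d : X) * g⁻¹
    have h1 := hfix _ ((inferInstance : (commutator X).Normal).conj_mem _ d.2 g)
    rwa [map_mul, map_mul, map_inv, hfix _ d.2] at h1
  have hcentral : ∀ d ∈ commutator X, ∀ g : X, g * d = d * g := by
    intro d hd g
    have h1 := invariant_hom_trivial hX hgen' hf hcyc cj
      (fun a b => CfsgLib.TwoGroupAct.mulAut_comm_of_cyclic _ _) hcj g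
    have h2 : g * d * g⁻¹ = d := congrArg (fun ψ : MulAut (commutator X) => ((ψ ⟨d, hd⟩ : commutator X) : X)) h1
    exact mul_inv_eq_iff_eq_mul.mp h2
  have hcX : c ∈ commutator X := by
    rw [hcdef, _root_.commutator_def, ← commutatorElement_def]
    exact Subgroup.commutator_mem_commutator (mem_top _) (mem_top _)
  have hccen : ∀ g : X, g * c = c * g := hcentral c hcX
  have hc1 : c ≠ 1 := by
    intro h
    apply hab
    have hmn : m * n = n * m := by rwa [hcdef, mul_inv_eq_one, mul_inv_eq_iff_eq_mul] at h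
    have hcl : ∀ a ∈ ({n, m} : Set X), ∀ b ∈ ({n, m} : Set X), a * b = b * a := by
      rintro a (rfl | rfl) b (rfl | rfl)
      exacts [rfl, hmn.symm, hmn, rfl]
    have hcc : IsMulCommutative (closure ({n, m} : Set X)) := Subgroup.isMulCommutative_closure hcl
    intro a b
    exact congrArg Subtype.val (hcc.is_comm.comm ⟨a, hgen' ▸ mem_top a⟩ ⟨b, hgen' ▸ mem_top b⟩)
  -- the derived group is generated by `c`
  haveI hCn : (zpowers c).Normal := ⟨fun d hd g => by
    obtain ⟨i, rfl⟩ := mem_zpowers_iff.mp hd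
    have hgc : g * c ^ i = c ^ i * g := ((show Commute g c from hccen g).zpow_right i).eq
    rw [hgc, mul_inv_cancel_right]
    exact hd⟩
  have hXc : commutator X ≤ zpowers c := by
    have hq : ∀ a b : X ⧸ zpowers c, a * b = b * a := by
      have hmn : (m : X ⧸ zpowers c) * n = n * m := by
        rw [← QuotientGroup.mk_mul, ← QuotientGroup.mk_mul, QuotientGroup.eq]
        refine ⟨-1, ?_⟩
        have h1 : (m * n)⁻¹ * (n * m) = (m * n)⁻¹ * c⁻¹ * (m * n) := by rw [hcdef]; group
        show c ^ (-1 : ℤ) = _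
        rw [h1, zpow_neg_one, mul_assoc, show c⁻¹ * (m * n) = (m * n) * c⁻¹ from
          ((show Commute (m * n) c from hccen _).inv_right).eq.symm, inv_mul_cancel_left]
      have htop : closure ({(n : X ⧸ zpowers c), (m : X ⧸ zpowers c)} : Set (X ⧸ zpowers c)) = ⊤ := by
        have := congrArg (Subgroup.map (QuotientGroup.mk' (zpowers c))) hgen'
        rw [MonoidHom.map_closure, Set.image_pair, Subgroup.map_top_of_surjective _ (QuotientGroup.mk'_surjective _)] at this
        exact this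
      have hcc : IsMulCommutative (closure ({(n : X ⧸ zpowers c), (m : X ⧸ zpowers c)} : Set _)) :=
        Subgroup.isMulCommutative_closure (by
          rintro a (rfl | rfl) b (rfl | rfl)
          exacts [rfl, hmn.symm, hmn, rfl])
      intro a b
      exact congrArg Subtype.val (hcc.is_comm.comm ⟨a, htop ▸ mem_top a⟩ ⟨b, htop ▸ mem_top b⟩)
    rw [← Subgroup.Normal.quotient_commutative_iff_commutator_le]
    exact ⟨⟨hq⟩⟩
  set π := QuotientGroup.mk' (zpowers c) with hπ
  obtain ⟨a, ha⟩ := IsPGroup.iff_orderOf.mp (hX.to_quotient (zpowers c)) (π n)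
  have hna : n ^ 2 ^ a ∈ zpowers c := by
    rw [← QuotientGroup.eq_one_iff]
    show π (n ^ 2 ^ a) = 1
    rw [map_pow, ← ha, pow_orderOf_eq_one]
  have hcn : c ∈ zpowers (n ^ 2 ^ a) := by
    obtain ⟨i, hi⟩ := mem_zpowers_iff.mp (hNn c (hcommN hcX))
    have hd : (orderOf (π n) : ℤ) ∣ i := by
      rw [orderOf_dvd_iff_zpow_eq_one, ← map_zpow, hi]
      exact (QuotientGroup.eq_one_iff c).mpr (mem_zpowers c)
    obtain ⟨d, hd⟩ := hd
    refine ⟨d, ?_⟩
    show (n ^ 2 ^ a) ^ d = c
    rw [← hi, hd, ha, ← zpow_natCast, ← zpow_mul]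
  obtain ⟨a, rfl⟩ : ∃ a', a = a' + 1 := ⟨a - 1, by
    rcases Nat.eq_zero_or_pos a with h | h
    · subst h
      rw [pow_zero, pow_one] at hna
      exfalso
      exact hnF ((zpowers_le.mpr ((CfsgLib.PGroup.commutator_le_frattini hX) hcX)) hna)
    · omega⟩
  have hpowc : ∀ g : X, g ^ 2 ^ (a + 1) ∈ zpowers c := by
    intro g
    have hab' : ∀ u v : X ⧸ zpowers c, u * v = v * u := by
      have hcm := (Subgroup.Normal.quotient_commutative_iff_commutator_le (N := zpowers c)).mpr hXc
      exact fun u v => hcm.is_comm.comm u v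
    let pw : X →* X ⧸ zpowers c := MonoidHom.mk' (fun g => π g ^ 2 ^ (a + 1)) fun u v => by
      rw [map_mul, (show Commute (π u) (π v) from hab' _ _).mul_pow]
    have hle : closure {n, φ n} ≤ pw.ker := by
      rw [closure_le]
      rintro y (rfl | rfl) <;> show π _ ^ 2 ^ (a + 1) = 1
      · rw [← ha, pow_orderOf_eq_one]
      · rw [← map_pow, ← map_pow]
        refine (QuotientGroup.eq_one_iff _).mpr ?_
        obtain ⟨i, hi⟩ := mem_zpowers_iff.mp hna
        rw [← hi, map_zpow, hfix c hcX]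
        exact zpow_mem (mem_zpowers c) i
    have := hle (hgen' ▸ mem_top g)
    rw [← QuotientGroup.eq_one_iff]
    show π (g ^ 2 ^ (a + 1)) = 1
    rw [map_pow]; exact this
  have ha0 : a = 0 := by
    by_contra hane
    -- the power map is an invariant homomorphism modulo `c ^ 2 ^ a`
    set W := zpowers (c ^ 2 ^ a) with hW
    haveI : W.Normal := ⟨fun d hd g => by
      have hd' : d ∈ zpowers c := (zpowers_le.mpr (npow_mem_zpowers c _)) hd
      obtain ⟨i, rfl⟩ := mem_zpowers_iff.mp hd'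
      rw [((show Commute g c from hccen g).zpow_right i).eq, mul_inv_cancel_right]; exact hd⟩
    have hmul : ∀ u v : X, (QuotientGroup.mk ((u * v) ^ 2 ^ (a + 1)) : X ⧸ W) =
        QuotientGroup.mk (u ^ 2 ^ (a + 1)) * QuotientGroup.mk (v ^ 2 ^ (a + 1)) := by
      intro u v
      have hd : v * u * v⁻¹ * u⁻¹ ∈ commutator X := by
        rw [_root_.commutator_def, ← commutatorElement_def]
        exact Subgroup.commutator_mem_commutator (mem_top _) (mem_top _)
      rw [mul_pow_class_two (fun g => hcentral _ hd g), QuotientGroup.mk_mul, QuotientGroup.mk_mul]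
      have hz : (v * u * v⁻¹ * u⁻¹) ^ (2 ^ (a + 1)).choose 2 ∈ W := by
        obtain ⟨i, hi⟩ := mem_zpowers_iff.mp (hXc hd)
        have hch : (2 ^ (a + 1)).choose 2 = 2 ^ a * (2 ^ (a + 1) - 1) := by
          rw [Nat.choose_two_right, pow_succ, mul_assoc, mul_comm 2 (2 ^ a * 2 - 1), ← mul_assoc,
            Nat.mul_div_cancel _ (by norm_num : 0 < 2)]
        rw [← hi, hch, ← zpow_natCast, ← zpow_mul, Nat.cast_mul, mul_comm i, mul_assoc, zpow_mul, zpow_natCast]
        exact zpow_mem (mem_zpowers _) _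
      rw [(QuotientGroup.eq_one_iff _).mpr hz, one_mul]
    let pm : X →* X ⧸ W := MonoidHom.mk' (fun g => QuotientGroup.mk (g ^ 2 ^ (a + 1))) hmul
    have hA : ∀ u v, pm u * pm v = pm v * pm u := fun u v => by
      show (QuotientGroup.mk (u ^ 2 ^ (a + 1)) : X ⧸ W) * QuotientGroup.mk (v ^ 2 ^ (a + 1)) = _
      obtain ⟨i, hi⟩ := mem_zpowers_iff.mp (hpowc u)
      rw [← QuotientGroup.mk_mul, ← hi, ← ((show Commute (v ^ 2 ^ (a + 1)) c from hccen _).zpow_right i).eq, hi,
        QuotientGroup.mk_mul]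
      rfl
    have hinv : ∀ g, pm (φ g) = pm g := fun g => by
      show (QuotientGroup.mk (φ g ^ 2 ^ (a + 1)) : X ⧸ W) = QuotientGroup.mk (g ^ 2 ^ (a + 1))
      obtain ⟨i, hi⟩ := mem_zpowers_iff.mp (hpowc g)
      rw [← map_pow, ← hi, map_zpow, hfix c hcX]
    have h1 : (QuotientGroup.mk (n ^ 2 ^ (a + 1)) : X ⧸ W) = 1 :=
      invariant_hom_trivial hX hgen' hf hcyc pm hA hinv n
    rw [QuotientGroup.eq_one_iff] at h1
    have hcW : c ∈ W := (zpowers_le.mpr h1) hcn
    obtain ⟨i, hi⟩ := mem_zpowers_iff.mp hcW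
    obtain ⟨l, hl⟩ := IsPGroup.iff_orderOf.mp hX c
    have hd : (orderOf c : ℤ) ∣ 2 ^ a * i - 1 := by
      rw [orderOf_dvd_sub_iff_zpow_eq_zpow, zpow_one, zpow_mul,
        show (2 : ℤ) ^ a = ((2 ^ a : ℕ) : ℤ) by push_cast; rfl, zpow_natCast, hi]
    rcases Nat.eq_zero_or_pos l with rfl | hl'
    · rw [pow_zero, orderOf_eq_one_iff] at hl; exact hc1 hl
    · have h2 : (2 : ℤ) ∣ 2 ^ a * i - 1 :=
        (Int.natCast_dvd_natCast.mpr (hl ▸ dvd_pow_self 2 hl'.ne' : 2 ∣ orderOf c)).trans hd
      have h3 : (2 : ℤ) ∣ 2 ^ a * i := dvd_mul_of_dvd_left (dvd_pow_self 2 hane) i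
      omega
  subst ha0
  rw [zero_add, pow_one] at hna hcn hpowc
  -- `c` has order 2
  have hc2 : c * c = 1 := by
    obtain ⟨i, hi⟩ := mem_zpowers_iff.mp (hpowc m)
    have h1 : m * m * n = n * (m * m) := by
      rw [← pow_two, ← hi]; exact ((show Commute n c from hccen n).zpow_right i).eq.symm
    have h2 : m * n = c * n * m := by rw [hcdef]; group
    have h3 : c * c * (n * (m * m)) = 1 * (n * (m * m)) := by
      calc c * c * (n * (m * m)) = c * (c * n * m) * m := by simp only [mul_assoc]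
        _ = m * (c * n * m) := by
          rw [← h2]
          calc c * (m * n) * m = m * (c * n) * m := by rw [← mul_assoc c m, ← hccen m]; simp only [mul_assoc]
            _ = _ := by rw [h2]; simp only [mul_assoc]
        _ = m * (m * n) := by rw [← h2]
        _ = 1 * (n * (m * m)) := by rw [one_mul, ← h1, mul_assoc]
    exact mul_right_cancel h3
  have hnn : n * n = c := by
    obtain ⟨i, hi⟩ := mem_zpowers_iff.mp hna
    rw [← pow_two]
    obtain ⟨s, rfl | rfl⟩ := Int.even_or_odd' i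
    · exfalso
      rw [zpow_mul, zpow_two, hc2, one_zpow] at hi
      rw [← hi, zpowers_one_eq_bot, mem_bot] at hcn
      exact hc1 hcn
    · rw [zpow_add_one, zpow_mul, zpow_two, hc2, one_zpow, one_mul] at hi
      exact hi.symm
  have hon : orderOf n = 2 * 2 :=
    orderOf_eq_prime_pow (p := 2) (n := 1)
      (fun h => hc1 (by rw [← hnn, ← pow_two]; simpa using h))
      (by rw [show (2 : ℕ) ^ (1 + 1) = 2 * 2 by norm_num, pow_mul, pow_two n, hnn, pow_two, hc2])
  have hmm : m * m = c := by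
    rw [hmdef, ← map_mul, hnn, hfix c hcX]
  have hmn : m * n * m⁻¹ = n⁻¹ := by
    have h1 : m * n * m⁻¹ = c * n := by rw [hcdef]; group
    rw [h1]
    refine eq_inv_of_mul_eq_one_left ?_
    rw [mul_assoc, hnn, hc2]
  have hnot : m ∉ zpowers n := by
    intro h
    obtain ⟨i, hi⟩ := mem_zpowers_iff.mp h
    rw [← hi, ← zpow_add_one, ← zpow_neg, ← zpow_add, ← zpow_neg_one n, zpow_eq_zpow_iff_modEq, hon,
      Int.modEq_iff_dvd] at hmn
    push_cast at hmn
    omega
  have hform : ∀ g : X, ∃ i : ℤ, g = n ^ i ∨ g = m * n ^ i := fun g => by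
      have hg : g ∈ closure {n, φ n} := hgen' ▸ mem_top g
      have hnm : ∀ i : ℤ, m * n ^ i = n ^ (-i) * m := conj_inv_zpow hmn
      have hm2 : ∀ i : ℤ, m * m * n ^ i = n ^ (2 + i) := fun i => by
        rw [hmm, ← hnn, zpow_add, zpow_two]
      induction hg using closure_induction with
      | mem y hy =>
        rcases hy with rfl | rfl
        · exact ⟨1, Or.inl (zpow_one _).symm⟩
        · exact ⟨0, Or.inr (by rw [zpow_zero, mul_one])⟩
      | one => exact ⟨0, Or.inl (zpow_zero _).symm⟩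
      | mul u v _ _ hu hv =>
        obtain ⟨i, rfl | rfl⟩ := hu <;> obtain ⟨k, rfl | rfl⟩ := hv
        · exact ⟨i + k, Or.inl (zpow_add _ _ _).symm⟩
        · refine ⟨-i + k, Or.inr ?_⟩
          rw [zpow_add, ← mul_assoc, ← mul_assoc, hnm, neg_neg]
        · exact ⟨i + k, Or.inr (by rw [mul_assoc, ← zpow_add])⟩
        · refine ⟨2 + (-i + k), Or.inl ?_⟩
          rw [← hm2, zpow_add, hnm i]
          calc n ^ (-i) * m * (m * n ^ k) = n ^ (-i) * (m * m) * n ^ k := by simp only [mul_assoc]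
            _ = m * m * n ^ (-i) * n ^ k := by rw [hmm, ((show Commute (n ^ (-i)) c from hccen _)).eq]
            _ = _ := by simp only [mul_assoc]
      | inv u _ hu =>
        obtain ⟨i, rfl | rfl⟩ := hu
        · exact ⟨-i, Or.inl (zpow_neg _ _).symm⟩
        · refine ⟨2 + i, Or.inr ?_⟩
          refine inv_eq_of_mul_eq_one_right ?_
          rw [hnm i]
          calc n ^ (-i) * m * (m * n ^ (2 + i)) = n ^ (-i) * (m * m * n ^ (2 + i)) := by simp only [mul_assoc]
            _ = n ^ (-i + (2 + (2 + i))) := by rw [hm2, ← zpow_add]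
            _ = 1 := by
              rw [← orderOf_dvd_iff_zpow_eq_one, hon]
              push_cast
              exact ⟨1, by ring⟩
  obtain ⟨eq⟩ := exists_quaternion_mulEquiv (m := 2) (by norm_num) hon
    (by rw [pow_two, hmm, hnn]) hmn hnot (⊤ : Subgroup X) (fun g => ⟨fun _ => hform g, fun _ => mem_top g⟩)
  exact ⟨Subgroup.topEquiv.symm.trans eq⟩

end CfsgLib.TwoFusion.MetacyclicAut
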