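import Cfsg.Agent.Lib.Invol.GlaubermanZStar
import Cfsg.Agent.Lib.Case.TwoNilpotent
import Cfsg.Agent.Lib.TwoFusion.FusionTools

/-!
# The Z*-theorem for elements of `2`-power order

If `c` and all its powers have no further conjugates in a Sylow `2`-subgroup, then `c` is central
modulo the odd core.
-/

set_option autoImplicit false

namespace CfsgLib.TwoFusion.ZStarPower

universe u

open CfsgLib.Solvable

theorem oddCore_quotient_central {G : Type u} [Group G] [Finite G]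
    (hO : Cfsg.pPrimeCore 2 G = ⊥) (Z : Subgroup G) [Z.Normal] (hZ2 : IsPGroup 2 Z)
    (hcyc : IsCyclic Z) : Cfsg.pPrimeCore 2 (G ⧸ Z) = ⊥ := by
  have : Fact (Nat.Prime 2) := ⟨Nat.prime_two⟩
  set O2 := Cfsg.pPrimeCore 2 (G ⧸ Z) with hO2
  haveI : O2.Normal := pPrimeCore_normal 2 (G ⧸ Z)
  set M := O2.comap (QuotientGroup.mk' Z) with hM
  have hZM : Z ≤ M := fun x hx => by
    show QuotientGroup.mk' Z x ∈ O2
    rw [QuotientGroup.mk'_apply, (QuotientGroup.eq_one_iff x).mpr hx]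
    exact O2.one_mem
  have hidx : Odd (Z.subgroupOf M).index := by
    let f : M →* G ⧸ Z := (QuotientGroup.mk' Z).comp M.subtype
    have hker : f.ker = Z.subgroupOf M := by
      ext x; simp [f, MonoidHom.mem_ker, Subgroup.mem_subgroupOf]
    rw [← hker, Subgroup.index_ker, MonoidHom.range_comp, Subgroup.range_subtype,
      Subgroup.map_comap_eq_self_of_surjective (QuotientGroup.mk'_surjective Z)]
    exact Nat.coprime_two_right.mp (pPrimeCore_card_coprime 2 (G ⧸ Z))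
  have hZ' : IsPGroup 2 (Z.subgroupOf M) := hZ2.of_equiv (Subgroup.subgroupOfEquivOfLe hZM).symm
  obtain ⟨l, hl⟩ := CfsgLib.Case.index_oddCore_of_cyclic (Z.subgroupOf M) hZ' hidx
    ((Subgroup.subgroupOfEquivOfLe hZM).isCyclic.mpr hcyc)
  have hbot : Cfsg.pPrimeCore 2 M = ⊥ := by
    have h := map_subtype_pPrimeCore_le (p := 2) M
    rw [hO, le_bot_iff, Subgroup.map_eq_bot_iff_of_injective _ M.subtype_injective] at h
    exact h
  rw [hbot, Subgroup.index_bot] at hl
  have htop : Z.subgroupOf M = ⊤ := Subgroup.index_eq_one.mp (Nat.eq_one_of_dvd_coprimes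
    ((Nat.coprime_two_right.mpr hidx).pow_right l) dvd_rfl (hl ▸ Subgroup.index_dvd_card _))
  rw [eq_bot_iff]
  intro y hy
  obtain ⟨x, rfl⟩ := QuotientGroup.mk'_surjective Z y
  exact Subgroup.mem_bot.mpr ((QuotientGroup.eq_one_iff x).mpr (Subgroup.subgroupOf_eq_top.mp htop hy))

theorem central_mod_core : ∀ (n : ℕ) (G : Type u) [Group G] [Finite G] (S : Sylow 2 G) (c : G),
    c ∈ S → c ^ 2 ^ n = 1 →
    (∀ (i : ℕ) (g : G), g * c ^ i * g⁻¹ ∈ S → g * c ^ i * g⁻¹ = c ^ i) →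
    ∀ g : G, c * g * c⁻¹ * g⁻¹ ∈ Cfsg.pPrimeCore 2 G := by
  intro n
  induction n with
  | zero =>
    intro G _ _ S c _ hc _ g
    rw [pow_zero, pow_one] at hc
    simp [hc]
  | succ n ih =>
    intro G _ _ S c hcS hc hiso g
    have : Fact (Nat.Prime 2) := ⟨Nat.prime_two⟩
    haveI : (Cfsg.pPrimeCore 2 G).Normal := pPrimeCore_normal 2 G
    set O := Cfsg.pPrimeCore 2 G with hO
    let π : G →* G ⧸ O := QuotientGroup.mk' O
    have hπs : Function.Surjective π := QuotientGroup.mk'_surjective O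
    set S1 := S.mapSurjective hπs with hS1
    set c1 := π c with hc1
    -- the hypothesis passes to `G ⧸ O`
    have hiso1 : ∀ (i : ℕ) (x : G ⧸ O), x * c1 ^ i * x⁻¹ ∈ S1 → x * c1 ^ i * x⁻¹ = c1 ^ i := by
      intro i x hx
      obtain ⟨x, rfl⟩ := hπs x
      rw [hc1, ← map_pow, ← map_inv, ← map_mul, ← map_mul] at hx ⊢
      obtain ⟨s, hs, hsx⟩ := hx
      set R := (S : Subgroup G) ⊔ O with hR
      have hodd : Odd ((S : Subgroup G).relIndex R) :=
        (FusionTools.sylow_index_odd S).of_dvd_nat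
          (Dvd.intro _ (Subgroup.relIndex_mul_index (le_sup_left : (S : Subgroup G) ≤ R)))
      have hxR : x * c ^ i * x⁻¹ ∈ R := by
        have h1 : s⁻¹ * (x * c ^ i * x⁻¹) ∈ O := QuotientGroup.eq.mp hsx
        simpa using R.mul_mem (Subgroup.mem_sup_left hs) (Subgroup.mem_sup_right h1)
      obtain ⟨r, hr, hrS⟩ := FusionTools.exists_conj_le R (S : Subgroup G)
        ((Subgroup.zpowers (c ^ i)).map (MulAut.conj x).toMonoidHom) S.isPGroup' le_sup_left hodd
        ((S.isPGroup'.to_le (Subgroup.zpowers_le.mpr ((S : Subgroup G).pow_mem hcS i))).map _) (by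
          rintro _ ⟨w, ⟨j, rfl⟩, rfl⟩
          simpa [← conj_zpow] using R.zpow_mem hxR j)
      have hr' := hrS (x * c ^ i * x⁻¹) ⟨c ^ i, Subgroup.mem_zpowers _, rfl⟩
      rw [hR, sup_comm] at hr
      obtain ⟨o, ho, s', hs', rfl⟩ := Subgroup.mem_sup_of_normal_left.mp hr
      have h2 : o * s' * x * c ^ i * (o * s' * x)⁻¹ ∈ (S : Subgroup G) := by
        simpa [mul_assoc] using hr'
      have h3 := hiso i (o * s' * x) h2
      have h4 : π (o * s') * π (x * c ^ i * x⁻¹) * (π (o * s'))⁻¹ = π (c ^ i) := by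
        rw [← map_inv, ← map_mul, ← map_mul]; exact congrArg π (by simpa [mul_assoc] using h3)
      have h5 : π o = 1 := (QuotientGroup.eq_one_iff o).mpr ho
      rw [map_mul π o s', h5, one_mul] at h4
      -- conjugate back
      have h6 : π (x * c ^ i * x⁻¹) = π (s'⁻¹ * c ^ i * s'⁻¹⁻¹) := by
        rw [map_mul π (s'⁻¹ * c ^ i), map_mul π s'⁻¹, ← h4]
        simp [mul_assoc]
      rw [h6, hiso i s'⁻¹ (by
        exact (S : Subgroup G).mul_mem ((S : Subgroup G).mul_mem ((S : Subgroup G).inv_mem hs')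
          ((S : Subgroup G).pow_mem hcS i)) ((S : Subgroup G).inv_mem ((S : Subgroup G).inv_mem hs')))]
    have hc1S : c1 ∈ S1 := ⟨c, hcS, rfl⟩
    -- the involution below `c1` is central
    set y := c1 ^ 2 ^ n with hy
    have hyy : y ^ 2 = 1 := by
      rw [hy, ← pow_mul, ← pow_succ, hc1, ← map_pow, hc, map_one]
    have hycent : ∀ x : G ⧸ O, x * y = y * x := by
      intro x
      by_cases hy1 : y = 1
      · rw [hy1, mul_one, one_mul]
      obtain ⟨N, hNn, hNodd, hNc⟩ := CfsgLib.Invol.zStar_sylow S1 y (orderOf_eq_prime hyy hy1)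
        (hiso1 (2 ^ n))
      have hN : N = ⊥ := eq_bot_iff.mpr
        (pPrimeCore_quotient_eq_bot (p := 2) O rfl ▸ le_pPrimeCore hNn (Nat.coprime_two_right.mpr hNodd))
      have h1 := hNc x
      rw [hN, Subgroup.mem_bot, mul_inv_eq_one, mul_inv_eq_iff_eq_mul] at h1
      exact h1.symm
    set Z := Subgroup.zpowers y with hZ
    haveI : Z.Normal := ⟨fun m hm x => by
      obtain ⟨j, rfl⟩ := Subgroup.mem_zpowers_iff.mp hm
      rw [((show Commute x y from hycent x).zpow_right j).eq, mul_inv_cancel_right]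
      exact ⟨j, rfl⟩⟩
    have hZS : Z ≤ (S1 : Subgroup (G ⧸ O)) :=
      Subgroup.zpowers_le.mpr ((S1 : Subgroup (G ⧸ O)).pow_mem hc1S _)
    let π2 : G ⧸ O →* (G ⧸ O) ⧸ Z := QuotientGroup.mk' Z
    have hπ2 : Function.Surjective π2 := QuotientGroup.mk'_surjective Z
    have hIH := ih ((G ⧸ O) ⧸ Z) (S1.mapSurjective hπ2) (π2 c1) ⟨c1, hc1S, rfl⟩
      (by rw [← map_pow]; exact (QuotientGroup.eq_one_iff y).mpr (Subgroup.mem_zpowers y))
      (fun i x hx => by
        obtain ⟨x, rfl⟩ := hπ2 x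
        rw [← map_pow, ← map_inv, ← map_mul, ← map_mul] at hx ⊢
        obtain ⟨s, hs, hsx⟩ := hx
        have h1 : s⁻¹ * (x * c1 ^ i * x⁻¹) ∈ Z := QuotientGroup.eq.mp hsx
        have h2 : x * c1 ^ i * x⁻¹ ∈ (S1 : Subgroup (G ⧸ O)) := by
          simpa using (S1 : Subgroup (G ⧸ O)).mul_mem hs (hZS h1)
        rw [hiso1 i x h2]) (π2 (π g))
    rw [oddCore_quotient_central (pPrimeCore_quotient_eq_bot (p := 2) O rfl) Z
      (S1.isPGroup'.to_le hZS) (Subgroup.isCyclic_zpowers y), Subgroup.mem_bot,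
      ← map_inv, ← map_inv, ← map_mul, ← map_mul, ← map_mul] at hIH
    have h1 : c1 * π g * c1⁻¹ * (π g)⁻¹ ∈ (S1 : Subgroup (G ⧸ O)) :=
      hZS ((QuotientGroup.eq_one_iff _).mp hIH)
    have h2 : π g * c1 ^ 1 * (π g)⁻¹ ∈ (S1 : Subgroup (G ⧸ O)) := by
      have h3 := (S1 : Subgroup (G ⧸ O)).mul_mem ((S1 : Subgroup (G ⧸ O)).inv_mem h1) hc1S
      simpa [mul_assoc] using h3
    have h4 := hiso1 1 (π g) h2
    rw [pow_one, mul_inv_eq_iff_eq_mul] at h4
    rw [← QuotientGroup.eq_one_iff]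
    show π (c * g * c⁻¹ * g⁻¹) = 1
    rw [map_mul, map_mul, map_mul, map_inv, map_inv, ← hc1, ← h4, mul_inv_cancel_right, mul_inv_cancel]

end CfsgLib.TwoFusion.ZStarPower
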