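import Cfsg.Agent.Lib.TwoFusion.FusionTools
import Cfsg.Agent.Lib.Invol.GlaubermanZStar
import Mathlib.GroupTheory.SchurZassenhaus
import Mathlib.GroupTheory.SemidirectProduct

/-!
Abelian Sylow 2-subgroups: elements centralised by the normalizer are central modulo the core;
automorphisms centralising the Sylow subgroup.
-/

set_option autoImplicit false

universe u

namespace CfsgLib.TwoFusion

open Subgroup

/-- An odd order normal subgroup next to a central involution. -/
theorem core_quotient_eq_bot {G : Type u} [Group G] [Finite G] (hO : Cfsg.pPrimeCore 2 G = ⊥) {γ : G}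
    (hγ : γ ∈ center G) (hγ2 : orderOf γ = 2) [(zpowers γ).Normal] :
    Cfsg.pPrimeCore 2 (G ⧸ zpowers γ) = ⊥ := by
  set Q := Cfsg.pPrimeCore 2 (G ⧸ zpowers γ) with hQdef
  haveI : Q.Normal := CfsgLib.Solvable.pPrimeCore_normal 2 _
  set K := Q.comap (QuotientGroup.mk' (zpowers γ)) with hK
  haveI : K.Normal := inferInstance
  have hγK : zpowers γ ≤ K := fun x hx => by
    show QuotientGroup.mk' (zpowers γ) x ∈ Q
    rw [(QuotientGroup.eq_one_iff x).mpr hx |> fun h => (show QuotientGroup.mk' (zpowers γ) x = 1 from h)]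
    exact one_mem Q
  set Z := (zpowers γ).subgroupOf K with hZ
  have hZcard : Nat.card Z = 2 := by
    rw [hZ, Nat.card_congr (subgroupOfEquivOfLe hγK).toEquiv, Nat.card_zpowers, hγ2]
  have hindex : Z.index ∣ Nat.card Q := by
    let f : K →* Q := (QuotientGroup.mk' (zpowers γ)).subgroupComap Q
    have hf : f.ker = Z := by
      ext x
      rw [MonoidHom.mem_ker, Subtype.ext_iff, hZ, mem_subgroupOf]
      exact QuotientGroup.eq_one_iff (x : G)
    rw [← hf, Subgroup.index_ker]
    exact Subgroup.card_subgroup_dvd_card _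
  have hcop : Nat.Coprime (Nat.card Z) Z.index := by
    rw [hZcard]
    exact (Nat.Coprime.coprime_dvd_left hindex (CfsgLib.Solvable.pPrimeCore_card_coprime 2 _)).symm
  obtain ⟨M, hM⟩ := exists_right_complement'_of_coprime hcop
  have hMi : M.index = 2 := by rw [hM.index_eq_card, hZcard]
  have hMc : Odd (Nat.card M) := by
    rw [← hM.symm.index_eq_card]
    exact Nat.coprime_two_left.mp (hZcard ▸ hcop)
  have hMn : (M.map K.subtype).Normal := by
    constructor
    rintro _ ⟨m, hm, rfl⟩ g
    have hgm : g * (m : G) * g⁻¹ ∈ K := (inferInstance : K.Normal).conj_mem _ m.2 g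
    refine ⟨⟨_, hgm⟩, FusionTools.mem_of_index_two_of_odd hMi ?_, rfl⟩
    rw [← Subgroup.orderOf_coe]
    show Odd (orderOf (g * (m : G) * g⁻¹))
    rw [show orderOf (g * (m : G) * g⁻¹) = orderOf (m : G) from
      orderOf_injective (MulAut.conj g).toMonoidHom (MulAut.conj g).injective _, Subgroup.orderOf_coe]
    exact hMc.of_dvd_nat (by
      have := orderOf_dvd_natCard (⟨m, hm⟩ : M)
      rwa [Subgroup.orderOf_mk] at this)
  have hMbot : M = ⊥ := by
    have h : M.map K.subtype ≤ Cfsg.pPrimeCore 2 G := CfsgLib.Solvable.le_pPrimeCore hMn (by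
      rw [Subgroup.card_map_of_injective K.subtype_injective]
      exact Nat.coprime_two_right.mpr hMc)
    rw [hO, le_bot_iff, Subgroup.map_eq_bot_iff_of_injective _ K.subtype_injective] at h
    exact h
  have hZtop : Z = ⊤ := by
    rw [← Subgroup.index_eq_one, hM.symm.index_eq_card, hMbot, Subgroup.card_bot]
  rw [eq_bot_iff]
  intro q hq
  obtain ⟨g, rfl⟩ := QuotientGroup.mk_surjective q
  have hgK : g ∈ K := hq
  have h : (⟨g, hgK⟩ : K) ∈ Z := hZtop ▸ mem_top _
  rw [mem_bot, QuotientGroup.eq_one_iff]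
  exact h

/-- An element of an abelian Sylow 2-subgroup centralised by its normalizer is central. -/
theorem central_of_normalizer_fixed (N : ℕ) : ∀ (G : Type u) [Group G] [Finite G],
    Nat.card G ≤ N → Cfsg.pPrimeCore 2 G = ⊥ → ∀ (P : Sylow 2 G), IsMulCommutative (P : Subgroup G) →
    ∀ x ∈ (P : Subgroup G), (∀ n ∈ normalizer ((P : Subgroup G) : Set G), n * x * n⁻¹ = x) →
      x ∈ center G := by
  induction N with
  | zero => intro G _ _ hN; have := Nat.card_pos (α := G); omega
  | succ N ih =>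
    intro G _ _ hN hO P hP x hx hfix
    haveI : Fact (Nat.Prime 2) := ⟨Nat.prime_two⟩
    haveI := hP
    by_cases hx1 : x = 1
    · rw [hx1]; exact one_mem _
    obtain ⟨k, hk⟩ := IsPGroup.iff_orderOf.mp P.isPGroup' ⟨x, hx⟩
    rw [Subgroup.orderOf_mk] at hk
    obtain ⟨i, rfl⟩ : ∃ i, k = i + 1 := ⟨k - 1, by
      rcases Nat.eq_zero_or_pos k with h | h
      · rw [h, pow_zero, orderOf_eq_one_iff] at hk; exact absurd hk hx1
      · omega⟩
    set γ := x ^ 2 ^ i with hγdef
    have hγP : γ ∈ (P : Subgroup G) := pow_mem hx _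
    have hγ2 : orderOf γ = 2 := by
      rw [hγdef, orderOf_pow_of_dvd (by positivity) (by rw [hk]; exact pow_dvd_pow 2 (Nat.le_succ i)), hk,
        pow_succ, Nat.mul_div_cancel_left _ (by positivity)]
    have burnside : ∀ y ∈ (P : Subgroup G),
        (∀ n ∈ normalizer ((P : Subgroup G) : Set G), n * y * n⁻¹ = y) →
        ∀ g : G, g * y * g⁻¹ ∈ (P : Subgroup G) → g * y * g⁻¹ = y := by
      intro y hy hn g hg
      obtain ⟨n, hnN, he⟩ := P.conj_eq_normalizer_conj_of_mem y g⁻¹ hy (by rw [inv_inv]; exact hg)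
      rw [inv_inv] at he
      rw [he]
      have := hn n⁻¹ (inv_mem hnN)
      rwa [inv_inv] at this
    have hγfix : ∀ n ∈ normalizer ((P : Subgroup G) : Set G), n * γ * n⁻¹ = γ := fun n hn => by
      rw [hγdef, ← conj_pow, hfix n hn]
    have hiso := CfsgLib.Invol.isIsolatedInvolution_of_sylow P hγ2 (burnside γ hγP hγfix)
    have hγc : γ ∈ center G := by
      rw [mem_center_iff]
      intro g
      have h := CfsgLib.Invol.zStar hiso g
      rw [hO, mem_bot, mul_inv_eq_one, mul_inv_eq_iff_eq_mul] at h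
      exact h.symm
    haveI : (zpowers γ).Normal := ⟨fun n hn g => by
      rw [mem_center_iff.mp ((zpowers_le.mpr hγc) hn) g, mul_inv_cancel_right]; exact hn⟩
    set π := QuotientGroup.mk' (zpowers γ) with hπ
    have hcard : Nat.card (G ⧸ zpowers γ) ≤ N := by
      have h := (zpowers γ).index_mul_card
      rw [Nat.card_zpowers, hγ2] at h
      have h1 : Nat.card (G ⧸ zpowers γ) = (zpowers γ).index := rfl
      have h2 := Nat.card_pos (α := G)
      omega
    have hZP : zpowers γ ≤ (P : Subgroup G) := zpowers_le.mpr hγP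
    have hc' := ih (G ⧸ zpowers γ) hcard (core_quotient_eq_bot hO hγc hγ2)
      (P.mapSurjective (QuotientGroup.mk'_surjective (zpowers γ))) ⟨⟨?_⟩⟩ (π x) ⟨x, hx, rfl⟩ ?_
    · -- lift centrality
      rw [mem_center_iff] at hc' ⊢
      intro g
      have h := hc' (π g)
      have hmem : x⁻¹ * (g * x * g⁻¹) ∈ zpowers γ := by
        rw [← QuotientGroup.eq_one_iff]
        show π (x⁻¹ * (g * x * g⁻¹)) = 1
        rw [map_mul, map_mul, map_mul, map_inv, map_inv, h, mul_inv_cancel_right, inv_mul_cancel]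
      have hgx : g * x * g⁻¹ ∈ (P : Subgroup G) := by
        have := mul_mem hx (hZP hmem)
        rwa [mul_inv_cancel_left] at this
      exact mul_inv_eq_iff_eq_mul.mp (burnside x hx hfix g hgx)
    · rintro ⟨_, p, hp, rfl⟩ ⟨_, q, hq, rfl⟩
      apply Subtype.ext
      show π p * π q = π q * π p
      rw [← map_mul, ← map_mul, show p * q = q * p from
        congrArg Subtype.val (hP.is_comm.comm ⟨p, hp⟩ ⟨q, hq⟩)]
    · intro n hn
      obtain ⟨n, rfl⟩ := QuotientGroup.mk'_surjective (zpowers γ) n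
      have hcm : ((P : Subgroup G).map π).comap π = (P : Subgroup G) := by
        rw [Subgroup.comap_map_eq, sup_of_le_left]
        rw [hπ, QuotientGroup.ker_mk']
        exact hZP
      have hnN : n ∈ normalizer ((P : Subgroup G) : Set G) := by
        rw [mem_normalizer_iff]
        intro p
        conv_lhs => rw [← hcm]
        conv_rhs => rw [← hcm]
        rw [mem_comap, mem_comap, map_mul, map_mul, map_inv]
        exact mem_normalizer_iff.mp hn (π p)
      show π n * π x * (π n)⁻¹ = π x
      rw [← map_inv, ← map_mul, ← map_mul, hfix n hnN]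

theorem mem_center_of_normalizer_fixed {G : Type u} [Group G] [Finite G]
    (hO : Cfsg.pPrimeCore 2 G = ⊥) (P : Sylow 2 G) (hP : IsMulCommutative (P : Subgroup G))
    {x : G} (hx : x ∈ (P : Subgroup G))
    (hfix : ∀ n ∈ normalizer ((P : Subgroup G) : Set G), n * x * n⁻¹ = x) : x ∈ center G :=
  central_of_normalizer_fixed (Nat.card G) G le_rfl hO P hP x hx hfix

/-- The norm from the normalizer of an abelian Sylow subgroup. -/
theorem exists_fixed_norm {Γ A : Type*} [Group Γ] [Finite Γ] [CommGroup A] (π : Γ →* A)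
    (S : Sylow 2 Γ) (hS : IsMulCommutative (S : Subgroup Γ)) {s : Γ} (hs : s ∈ (S : Subgroup Γ)) :
    ∃ β ∈ (S : Subgroup Γ), ∃ m : ℕ, Odd m ∧ π β = π s ^ m ∧
      ∀ n ∈ normalizer ((S : Subgroup Γ) : Set Γ), n * β * n⁻¹ = β := by
  classical
  letI : CommGroup (S : Subgroup Γ) :=
    { (inferInstance : Group (S : Subgroup Γ)) with mul_comm := hS.is_comm.comm }
  set N := normalizer ((S : Subgroup Γ) : Set Γ) with hN
  set C := (centralizer ((S : Subgroup Γ) : Set Γ)).subgroupOf N with hC
  letI : Fintype (N ⧸ C) := Fintype.ofFinite _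
  let f : N ⧸ C → (S : Subgroup Γ) := fun q => Quotient.liftOn' q
    (fun n => (S : Subgroup Γ).normalizerMonoidHom n ⟨s, hs⟩) (fun a b h => by
      rw [QuotientGroup.leftRel_apply] at h
      rw [hC, mem_subgroupOf, mem_centralizer_iff] at h
      apply Subtype.ext
      show (a : Γ) * s * (a : Γ)⁻¹ = b * s * (b : Γ)⁻¹
      have h' := h s hs
      simp only [Subgroup.coe_mul, Subgroup.coe_inv] at h'
      calc (a : Γ) * s * (a : Γ)⁻¹ = a * (s * ((a : Γ)⁻¹ * b)) * (b : Γ)⁻¹ := by group
        _ = _ := by rw [h']; group)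
  have hf : ∀ (n : N) (q : N ⧸ C),
      (S : Subgroup Γ).normalizerMonoidHom n (f q) = f (n • q) := by
    intro n q
    induction q using QuotientGroup.induction_on with | _ a =>
    show _ = (S : Subgroup Γ).normalizerMonoidHom (n * a) ⟨s, hs⟩
    rw [map_mul, MulAut.mul_apply]
    rfl
  refine ⟨((∏ q, f q : (S : Subgroup Γ)) : Γ), SetLike.coe_mem _, Fintype.card (N ⧸ C), ?_, ?_, ?_⟩
  · rw [← Nat.card_eq_fintype_card]
    show Odd C.index
    refine (FusionTools.sylow_index_odd S).of_dvd_nat ?_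
    have h1 : C.index ∣ (S : Subgroup Γ).relIndex N := Subgroup.index_dvd_of_le (fun x hx => by
      rw [hC, mem_subgroupOf, mem_centralizer_iff]
      exact fun y hy => congrArg Subtype.val (hS.is_comm.comm ⟨y, hy⟩ ⟨(x : Γ), hx⟩))
    exact h1.trans (Subgroup.relIndex_dvd_index_of_le le_normalizer)
  · have h : ∀ q, π.comp (S : Subgroup Γ).subtype (f q) = π s := fun q => by
      induction q using QuotientGroup.induction_on with | _ a =>
      show π ((a : Γ) * s * (a : Γ)⁻¹) = π s
      rw [map_mul, map_mul, map_inv, mul_comm (π (a : Γ)), mul_inv_cancel_right]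
    show π.comp (S : Subgroup Γ).subtype (∏ q, f q) = _
    rw [map_prod, Finset.prod_congr rfl (fun q _ => h q), Finset.prod_const, Finset.card_univ]
  · intro n hn
    show (((S : Subgroup Γ).normalizerMonoidHom ⟨n, hn⟩ (∏ q, f q) : (S : Subgroup Γ)) : Γ) = _
    rw [map_prod]
    congr 1
    exact Fintype.prod_equiv (MulAction.toPerm (⟨n, hn⟩ : N)) _ _ (fun q => hf _ q)

/-- A 2-automorphism centralising an abelian Sylow 2-subgroup is inner when the core is trivial. -/
theorem exists_inner_of_fix_sylow {G : Type u} [Group G] [Finite G]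
    (hcore : Cfsg.pPrimeCore 2 G = ⊥) (P : Sylow 2 G) (hab : IsMulCommutative (P : Subgroup G))
    (α : MulAut G) (h2 : ∃ j : ℕ, orderOf α = 2 ^ j) (hfix : ∀ x ∈ (P : Subgroup G), α x = x) :
    ∃ g : G, ∀ x : G, α x = g * x * g⁻¹ := by
  classical
  haveI : Fact (Nat.Prime 2) := ⟨Nat.prime_two⟩
  obtain ⟨j, hj⟩ := h2
  let φ : zpowers α →* MulAut G := (zpowers α).subtype
  haveI : Finite (MulAut G) := Finite.of_injective _ MulEquiv.toEquiv_injective
  haveI : Finite (G ⋊[φ] zpowers α) := Finite.of_equiv _ SemidirectProduct.equivProd.symm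
  have hA : IsPGroup 2 (zpowers α) := IsPGroup.of_card (n := j) (by rw [Nat.card_zpowers, hj])
  have hstab : ∀ a : zpowers α, ∀ x ∈ (P : Subgroup G), φ a x = x := by
    intro a x hx
    have hle : zpowers α ≤ MulAction.stabilizer (MulAut G) x := zpowers_le.mpr (hfix x hx)
    exact hle a.2
  have hcomm : ∀ a : zpowers α, ∀ p ∈ (P : Subgroup G),
      (SemidirectProduct.inr a : G ⋊[φ] zpowers α) * SemidirectProduct.inl p =
        SemidirectProduct.inl p * SemidirectProduct.inr a := by
    intro a p hp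
    have h := SemidirectProduct.inl_aut (φ := φ) a p
    rw [hstab a p hp, map_inv] at h
    exact (mul_inv_eq_iff_eq_mul.mp h.symm)
  letI : CommGroup (zpowers α) :=
    { (inferInstance : Group (zpowers α)) with mul_comm := mul_comm' }
  -- the Sylow subgroup `P × A`
  let S₀ : Subgroup (G ⋊[φ] zpowers α) :=
    { carrier := {w | w.left ∈ (P : Subgroup G)}
      one_mem' := one_mem (P : Subgroup G)
      mul_mem' := fun {a b} ha hb => by
        show a.left * φ a.right b.left ∈ (P : Subgroup G)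
        rw [hstab _ _ hb]; exact mul_mem ha hb
      inv_mem' := fun {a} ha => by
        show φ a.right⁻¹ a.left⁻¹ ∈ (P : Subgroup G)
        rw [hstab _ _ (inv_mem ha)]; exact inv_mem ha }
  have hS₀card : Nat.card S₀ = Nat.card (P : Subgroup G) * Nat.card (zpowers α) := by
    rw [← Nat.card_prod]
    exact Nat.card_congr ⟨fun w => (⟨w.1.left, w.2⟩, w.1.right),
      fun w => ⟨⟨w.1, w.2⟩, w.1.2⟩, fun w => rfl, fun w => rfl⟩
  have hS₀2 : IsPGroup 2 S₀ := by
    obtain ⟨a, ha⟩ := IsPGroup.iff_card.mp P.isPGroup'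
    exact IsPGroup.of_card (n := a + j) (by rw [hS₀card, ha, Nat.card_zpowers, hj, pow_add])
  have hS₀i : ¬ 2 ∣ S₀.index := by
    have h1 := S₀.index_mul_card
    have h3 := (P : Subgroup G).index_mul_card
    rw [SemidirectProduct.card, hS₀card, ← h3, mul_assoc,
      Nat.mul_left_inj (Nat.mul_pos Nat.card_pos Nat.card_pos).ne'] at h1
    rw [h1]
    exact P.not_dvd_index
  set S : Sylow 2 (G ⋊[φ] zpowers α) := hS₀2.toSylow hS₀i with hSdef
  have hSc : IsMulCommutative (S : Subgroup (G ⋊[φ] zpowers α)) := ⟨⟨fun v w => Subtype.ext (by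
    refine SemidirectProduct.ext ?_ (mul_comm _ _)
    show v.1.left * φ v.1.right w.1.left = w.1.left * φ w.1.right v.1.left
    rw [hstab _ _ w.2, hstab _ _ v.2]
    exact congrArg Subtype.val (hab.is_comm.comm ⟨_, v.2⟩ ⟨_, w.2⟩))⟩⟩
  -- trivial core
  have hO : Cfsg.pPrimeCore 2 (G ⋊[φ] zpowers α) = ⊥ := by
    haveI : (Cfsg.pPrimeCore 2 (G ⋊[φ] zpowers α)).Normal := CfsgLib.Solvable.pPrimeCore_normal 2 _
    set N := Cfsg.pPrimeCore 2 (G ⋊[φ] zpowers α)
    have hNodd := CfsgLib.Solvable.pPrimeCore_card_coprime 2 (G ⋊[φ] zpowers α)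
    have hker : ∀ w ∈ N, w.right = 1 := by
      intro w hw
      rw [← orderOf_eq_one_iff]
      refine Nat.eq_one_of_dvd_coprimes (k := orderOf w.right)
        (Nat.Coprime.pow_right j hNodd) ?_ ?_
      · exact (orderOf_map_dvd (SemidirectProduct.rightHom (φ := φ)) w).trans
          (by simpa using orderOf_dvd_natCard (⟨w, hw⟩ : N))
      · rw [← hj, ← Nat.card_zpowers α]
        exact orderOf_dvd_natCard _
    have hcomap : N.comap SemidirectProduct.inl ≤ Cfsg.pPrimeCore 2 G := by
      refine CfsgLib.Solvable.le_pPrimeCore inferInstance (Nat.Coprime.coprime_dvd_left ?_ hNodd)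
      exact Subgroup.card_comap_dvd_of_injective N _ SemidirectProduct.inl_injective
    rw [hcore, le_bot_iff] at hcomap
    rw [eq_bot_iff]
    intro w hw
    have hwl : w = SemidirectProduct.inl w.left := SemidirectProduct.ext rfl (hker w hw)
    have h : w.left ∈ N.comap (SemidirectProduct.inl : G →* G ⋊[φ] zpowers α) := by
      rw [Subgroup.mem_comap, ← hwl]; exact hw
    rw [hcomap, mem_bot] at h
    rw [mem_bot, hwl, h, map_one]
  obtain ⟨β, hβS, m, hm, hπ, hβfix⟩ := exists_fixed_norm SemidirectProduct.rightHom S hSc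
    (s := SemidirectProduct.inr ⟨α, mem_zpowers α⟩) (show (1 : G) ∈ (P : Subgroup G) from one_mem _)
  have hβc := mem_center_of_normalizer_fixed hO S hSc hβS hβfix
  have hα : ∀ x : G, (α ^ m) x = (β.left)⁻¹ * x * β.left := by
    intro x
    have h := mem_center_iff.mp hβc (SemidirectProduct.inl x)
    have h1 : x * β.left = β.left * φ β.right x := by
      have h2 := congrArg SemidirectProduct.left h
      simpa using h2
    have h3 : (β.right : MulAut G) = α ^ m := by
      have h4 : β.right = (⟨α, mem_zpowers α⟩ : zpowers α) ^ m := by simpa using hπ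
      rw [h4, SubmonoidClass.coe_pow]
    show (α ^ m) x = _
    rw [← h3]
    show φ β.right x = _
    rw [mul_assoc, h1, inv_mul_cancel_left]
  have hinner : ∀ i : ℕ, ∃ g : G, ∀ x : G, ((α ^ m) ^ i) x = g * x * g⁻¹ := by
    intro i
    induction i with
    | zero => exact ⟨1, fun x => by simp⟩
    | succ i ih =>
      obtain ⟨g, hg⟩ := ih
      refine ⟨g * (β.left)⁻¹, fun x => ?_⟩
      rw [pow_succ, MulAut.mul_apply, hα, hg]
      group
  obtain ⟨i, hi⟩ : ∃ i : ℕ, (α ^ m) ^ i = α :=
    exists_pow_eq_self_of_coprime (by rw [hj]; exact (Nat.coprime_two_right.mpr hm).pow_right j)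
  obtain ⟨g, hg⟩ := hinner i
  exact ⟨g, fun x => by rw [← hg x, hi]⟩

end CfsgLib.TwoFusion
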