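import Cfsg.Agent.Lib.TwoFusion.WRQuatLocal

/-!
If `z` is conjugate to an involution of the base then `|N(V) : V C(V)| = 6`.
-/

set_option autoImplicit false

namespace CfsgLib.TwoFusion.WRFusion

open LocalAut FusionTools Subgroup

variable {G : Type*} [Group G] [Finite G] (S : Sylow 2 G) (D : WRGens (S : Subgroup G))

theorem card_S : Nat.card (S : Subgroup G) = 2 * Nat.card (baseG D) := by
  rw [card_baseG, D.hcard, ← pow_succ']

theorem exists_abelian_ge (e : ℤ) (h : IsConj (zG D) (aG D) ∨ IsConj (zG D) (cG D)) :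
    ∃ U' : Subgroup G, IsPGroup 2 U' ∧ IsMulCommutative U' ∧ Nat.card U' = Nat.card (baseG D) ∧
      wG D e (-e) ∈ U' ∧ uG D 1 1 ∈ U' := by
  set v := wG D e (-e) with hv
  set ζ := uG D 1 1 with hζ
  have hzv : IsConj (zG D) v := isConj_wG D (by simp)
  have hζS : ∀ s ∈ (S : Subgroup G), s * ζ = ζ * s := by
    obtain ⟨-, hc⟩ := (mem_centerG (g := ζ)).mp (centerG_eq D ▸ mem_zpowers _)
    exact hc
  have hvζ : v * ζ = ζ * v := hζS v (D.u e (-e) * D.z).2
  have hv2 : v * v = 1 := congrArg Subtype.val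
    (show D.u e (-e) * D.z * (D.u e (-e) * D.z) = 1 by rw [← pow_two, D.uz_sq, add_neg_cancel, D.u_zero])
  set P := Subgroup.closure {v, ζ} with hP
  have hP2 : IsPGroup 2 P := S.isPGroup'.to_le (by
    rw [hP, Subgroup.closure_le]
    rintro g (rfl | rfl)
    exacts [(D.u e (-e) * D.z).2, (D.u 1 1).2])
  have hvP : v ∈ P := Subgroup.subset_closure (Or.inl rfl)
  have hζP : ζ ∈ P := Subgroup.subset_closure (Or.inr rfl)
  have hPv : P ≤ centralizer ({v} : Set G) := by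
    rw [hP, Subgroup.closure_le]
    rintro g (rfl | rfl) <;> rw [SetLike.mem_coe, Subgroup.mem_centralizer_singleton_iff]
    exact hvζ.symm
  by_cases hvc : IsConj v (cG D)
  · obtain ⟨g, hg⟩ := isConj_iff.mp hvc
    obtain ⟨S₁, hPS, hSM⟩ := exists_sylow_between S (centralizer ({v} : Set G)) P hP2 hPv g
      (fun s hs => by
        rw [Subgroup.mem_centralizer_singleton_iff]
        have e : s * (g * v * g⁻¹) = g * v * g⁻¹ * s := by rw [hg]; exact (cG_comm D hs).symm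
        calc g⁻¹ * s * g * v = g⁻¹ * (s * (g * v * g⁻¹)) * g := by group
          _ = v * (g⁻¹ * s * g) := by rw [e]; group)
    obtain ⟨D', hk, hQ⟩ := exists_gens_of_sylow S S₁ D
    have hv1 : v ≠ 1 := fun h' => by
      obtain ⟨w, hw⟩ := isConj_iff.mp hzv
      rw [h', conj_eq_one_iff] at hw
      have := orderOf_zG D
      rw [hw, orderOf_one] at this
      omega
    have hvc' : v = cG D' := center_involution D' (hPS hvP)
      (fun s hs => Subgroup.mem_centralizer_singleton_iff.mp (hSM hs)) hv1 hv2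
    refine ⟨baseG D', isPGroup_baseG S₁ D', ⟨⟨fun p q => Subtype.ext (baseG_comm D' p.2 q.2)⟩⟩,
      by rw [card_baseG, card_baseG, hk], hvc' ▸ cG_mem_baseG D', ?_⟩
    obtain ⟨a, b, hab | hab⟩ := D'.normalForm ⟨ζ, hPS hζP⟩
    · exact (mem_baseG D').mpr ⟨a, b, congrArg Subtype.val hab⟩
    · exfalso
      have hpow : (⟨ζ, hPS hζP⟩ : (S₁ : Subgroup G)) ^ (2 ^ (D.k + 1)) =
          D'.u ((a + b) * D.Q) ((a + b) * D.Q) := by
        rw [hab, pow_succ', pow_mul, D'.uz_sq, D'.u_pow, D.hQ, Nat.cast_pow, Nat.cast_ofNat]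
      have hG : ζ ^ (2 ^ (D.k + 1)) = cG D := by
        have e2 : D.u 1 1 ^ (2 ^ (D.k + 1)) = D.c := by
          rw [D.u_pow, WRGens.c, D.hQ, one_mul, Nat.cast_pow, Nat.cast_ofNat, ← pow_succ']
        exact congrArg Subtype.val e2
      have hc' : cG D = cG D' := by
        have hu : uG D' ((a + b) * D.Q) ((a + b) * D.Q) = cG D :=
          (congrArg Subtype.val hpow).symm.trans (by rw [SubgroupClass.coe_pow]; exact hG)
        rw [← hu]
        refine congrArg Subtype.val (D'.diag_involution_eq_c (by rw [sub_self]; exact dvd_zero _)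
          (Subtype.ext ?_) fun h1 => cG_ne_one D (hu.symm.trans (congrArg Subtype.val h1)))
        rw [pow_two, Subgroup.coe_mul]
        show uG D' _ _ * uG D' _ _ = 1
        rw [hu, cG_sq]
      rw [← hvc'] at hc'
      exact D.u_ne_uz _ _ _ _ (Subtype.ext hc')
  · have hza : IsConj (zG D) (aG D) := h.resolve_right fun h' => hvc (hzv.symm.trans h')
    have hac : ¬ IsConj (aG D) (cG D) := fun h' => hvc ((hzv.symm.trans hza).trans h')
    obtain ⟨g, hg⟩ := isConj_iff.mp (hzv.symm.trans hza)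
    have hUa : baseG D ≤ centralizer ({aG D} : Set G) := fun u hu =>
      Subgroup.mem_centralizer_singleton_iff.mpr
        (baseG_comm D hu ((mem_baseG D).mpr ⟨_, _, rfl⟩))
    obtain ⟨R, hR, hRM, hUR, -, hall⟩ :=
      exists_sylow_in (centralizer ({aG D} : Set G)) (baseG D) (isPGroup_baseG S D) hUa
    have hRU : R = baseG D := by
      refine (Subgroup.eq_of_le_of_card_ge hUR ?_).symm
      obtain ⟨r, hr⟩ := IsPGroup.iff_card.mp hR
      rw [hr, card_baseG]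
      refine Nat.pow_le_pow_right two_pos ?_
      by_contra hlt
      obtain ⟨S', hS'⟩ := exists_sylow_eq S R hR (by
        rw [hr, D.hcard]; exact Nat.pow_le_pow_right two_pos (by omega))
      exact hac (isConj_c_of_le_centralizer S S' D (orderOf_aG D) (hS' ▸ hRM)).2
    obtain ⟨h', -, hh⟩ := hall (P.map (MulAut.conj g).toMonoidHom) (hP2.map _) (by
      rintro _ ⟨p, hp, rfl⟩
      rw [Subgroup.mem_centralizer_singleton_iff]
      show g * p * g⁻¹ * aG D = aG D * (g * p * g⁻¹)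
      rw [← hg]
      calc g * p * g⁻¹ * (g * v * g⁻¹) = g * (p * v) * g⁻¹ := by group
        _ = _ := by rw [Subgroup.mem_centralizer_singleton_iff.mp (hPv hp)]; group)
    refine ⟨(baseG D).map (MulAut.conj (h' * g)⁻¹).toMonoidHom, (isPGroup_baseG S D).map _, ⟨⟨?_⟩⟩,
      Subgroup.card_map_of_injective (MulAut.conj (h' * g)⁻¹).injective, ?_, ?_⟩
    · rintro ⟨_, p, hp, rfl⟩ ⟨_, q, hq, rfl⟩
      apply Subtype.ext
      show (MulAut.conj (h' * g)⁻¹).toMonoidHom p * (MulAut.conj (h' * g)⁻¹).toMonoidHom q = _ * _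
      rw [← map_mul, baseG_comm D hp hq, map_mul]
    · refine ⟨h' * g * v * (h' * g)⁻¹, ?_, by simp [mul_assoc]⟩
      rw [← hRU]
      convert hh _ ⟨v, hvP, rfl⟩ using 1
      simp [mul_assoc]
    · refine ⟨h' * g * ζ * (h' * g)⁻¹, ?_, by simp [mul_assoc]⟩
      rw [← hRU]
      convert hh _ ⟨ζ, hζP, rfl⟩ using 1
      simp [mul_assoc]

/-- If `z ~ a` or `z ~ c` then `|N(V) : V C(V)| = 6`. -/
theorem qz_six_of_conj (e : ℤ) (h : IsConj (zG D) (aG D) ∨ IsConj (zG D) (cG D)) :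
    (qzG D e ⊔ centralizer (qzG D e : Set G)).relIndex (normalizer (qzG D e : Set G)) = 6 := by
  obtain ⟨iV, vV, cV, hi, hv, r, hiv, hvv, hcv, hd, hcard, hrel, hr, hr2, hfix⟩ := qz_data S D e
  rw [hrel]
  obtain ⟨U', hU'2, hU'ab, hU'card, hvU, hζU⟩ := exists_abelian_ge S D e h
  set v := wG D e (-e) with hvdef
  set ζ := uG D 1 1 with hζdef
  set A := zpowers v ⊔ centerG (S := (S : Subgroup G)) with hA
  have hZA : centerG (S := (S : Subgroup G)) ≤ A := le_sup_right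
  have hvA : v ∈ A := Subgroup.mem_sup_left (mem_zpowers v)
  have hAV : A ≤ qzG D e := sup_le (zpowers_le.mpr (w_mem_qzG D ⟨0, by ring⟩)) (centerG_le_qzG D e)
  have hAU : A ≤ U' := sup_le (zpowers_le.mpr hvU) (by rw [centerG_eq D, zpowers_le]; exact hζU)
  have hcA : ∀ ξ : qzG D e, ξ ∈ center (qzG D e) → (ξ : G) ∈ A := fun ξ hξ => by
    obtain ⟨d, hd'⟩ := center_qzG D hξ
    refine hZA ?_
    rw [centerG_eq D, hd']
    exact ⟨d, (SubgroupClass.coe_zpow _ _).symm.trans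
      (congrArg Subtype.val (show D.u 1 1 ^ d = D.u d d by rw [D.u_zpow, one_mul]))⟩
  have hVA : qzG D e ≤ normalizer (A : Set G) := by
    have key : ∀ p ∈ qzG D e, ∀ a ∈ A, p * a * p⁻¹ ∈ A := by
      intro p hp
      suffices A ≤ A.comap (MulAut.conj p).toMonoidHom from fun a ha => this ha
      rw [hA, sup_le_iff, zpowers_le, ← hA]
      refine ⟨?_, fun a ha => ?_⟩
      · show p * v * p⁻¹ ∈ A
        have h1 := hd.abelian ⟨p, hp⟩ vV
        have e1 : p * v * p⁻¹ =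
            v * ((vV⁻¹ * (⟨p, hp⟩ * vV * (⟨p, hp⟩ : qzG D e)⁻¹) : qzG D e) : G) := by
          simp only [Subgroup.coe_mul, Subgroup.coe_inv, hvv]
          group
        rw [e1]
        exact mul_mem hvA (hcA _ h1)
      · show p * a * p⁻¹ ∈ A
        obtain ⟨-, hc⟩ := mem_centerG.mp ha
        rw [hc p (qzG_le D e hp), mul_inv_cancel_right]
        exact hZA ha
    intro p hp
    rw [Subgroup.mem_normalizer_iff]
    refine fun x => ⟨key p hp x, fun hx => ?_⟩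
    have := key p⁻¹ (inv_mem hp) _ hx
    simpa [mul_assoc] using this
  obtain ⟨R, hR, hRM, hVR, -, hall⟩ := exists_sylow_in (normalizer (A : Set G)) (qzG D e)
    (S.isPGroup'.to_le (qzG_le D e)) hVA
  obtain ⟨h', hh', hh⟩ := hall U' hU'2 (by
    intro u hu
    rw [Subgroup.mem_normalizer_iff]
    intro x
    have hc : ∀ a ∈ A, u * a * u⁻¹ = a := fun a ha => by
      rw [show u * a = a * u from congrArg Subtype.val (hU'ab.is_comm.comm ⟨u, hu⟩ ⟨a, hAU ha⟩),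
        mul_inv_cancel_right]
    refine ⟨fun hx => by rwa [hc x hx], fun hx => ?_⟩
    have h2 := hc _ hx
    have h3 : u * x * u⁻¹ = x := by
      have := congrArg (fun w => u⁻¹ * w * u) h2
      simpa [mul_assoc] using this
    rwa [h3] at hx)
  set U₃ := U'.map (MulAut.conj h').toMonoidHom with hU₃
  have hU₃R : U₃ ≤ R := by rintro _ ⟨u, hu, rfl⟩; exact hh u hu
  have hAU₃ : A ≤ U₃ := fun a ha => by
    refine ⟨h'⁻¹ * a * h', hAU ?_, by simp [mul_assoc]⟩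
    refine (Subgroup.mem_normalizer_iff.mp hh' _).mpr ?_
    simpa [mul_assoc] using ha
  have hU₃c : ∀ p ∈ U₃, ∀ q ∈ U₃, p * q = q * p := by
    rintro _ ⟨p, hp, rfl⟩ _ ⟨q, hq, rfl⟩
    rw [← map_mul, show p * q = q * p from congrArg Subtype.val (hU'ab.is_comm.comm ⟨p, hp⟩ ⟨q, hq⟩),
      map_mul]
  have hU₃card : Nat.card U₃ = Nat.card (baseG D) := by
    rw [hU₃, Subgroup.card_map_of_injective (MulAut.conj h').injective, hU'card]
  obtain ⟨p, hp, q, hq, hpq⟩ := qzG_noncomm D e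
  obtain ⟨S₃, hS₃⟩ := exists_sylow_eq S R hR (by
    obtain ⟨m, hm⟩ := IsPGroup.iff_card.mp hR
    rw [hm, D.hcard]
    refine Nat.pow_le_pow_right two_pos (Nat.succ_le_of_lt ?_)
    rw [← Nat.pow_lt_pow_iff_right (a := 2) one_lt_two, ← hm, ← card_baseG, ← hU₃card]
    exact lt_of_le_of_ne (Subgroup.card_le_of_le hU₃R) fun he => hpq (by
      have := Subgroup.eq_of_le_of_card_ge hU₃R he.ge
      exact hU₃c p (this ▸ hVR hp) q (this ▸ hVR hq)))
  obtain ⟨D₃, hk, hQ⟩ := exists_gens_of_sylow S S₃ D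
  have hbase : U₃ = baseG D₃ := eq_baseG D₃ (hS₃ ▸ hU₃R)
    ⟨⟨fun p q => Subtype.ext (hU₃c p p.2 q q.2)⟩⟩ (by rw [hU₃card, card_baseG, hk])
  have hVS : qzG D e ≤ (S₃ : Subgroup G) := hS₃ ▸ hVR
  have hZ : centerG (S := (S : Subgroup G)) = centerG (S := (S₃ : Subgroup G)) := by
    refine Subgroup.eq_of_le_of_card_ge ?_ (by rw [card_centerG D, card_centerG D₃, hk])
    intro g hg
    obtain ⟨hgS, hgc⟩ := mem_centerG.mp hg
    exact center_le_centerG D₃ hVS (qzG_noncomm D e) (centerG_le_qzG D e hg)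
      (fun p hp => hgc p (qzG_le D e hp))
  have hdiag3 : ∀ d : ℤ, uG D₃ d d ∈ A := fun d => hZA (by
    rw [hZ]
    exact ⟨D₃.u d d, D₃.mem_center_iff_diag.mpr (by rw [sub_self]; exact dvd_zero _), rfl⟩)
  have hne : v * (iV : G) ≠ (iV : G) * v := by
    rw [hiv]
    intro h'
    have h2 := D.u_commute_uz_iff.mp (Subtype.ext h'.symm)
    exact D.not_dvd_two_Q (by simpa [two_mul] using h2)
  have hv2 : v * v = 1 := congrArg Subtype.val
    (show D.u e (-e) * D.z * (D.u e (-e) * D.z) = 1 by rw [← pow_two, D.uz_sq, add_neg_cancel, D.u_zero])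
  have ha₃ : aG D₃ ∈ A := by
    have hvb : v ∈ baseG D₃ := hbase ▸ hAU₃ hvA
    rcases base_involution_cases D₃ hvb (fun h1 => hne (by rw [h1, one_mul, mul_one])) hv2 with
      h1 | h1 | h1
    · exact absurd (by rw [h1]; exact cG_comm D₃ (hVS iV.2)) hne
    · exact h1 ▸ hvA
    · rw [show aG D₃ = uG D₃ 0 (2 * D₃.Q) * uG D₃ (2 * D₃.Q) (2 * D₃.Q) from congrArg Subtype.val
        (show D₃.u (2 * D₃.Q) 0 = D₃.u 0 (2 * D₃.Q) * D₃.u (2 * D₃.Q) (2 * D₃.Q) by
          rw [D₃.u_mul, D₃.u_eq_iff]; exact ⟨⟨0, by ring⟩, ⟨-1, by ring⟩⟩)]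
      exact mul_mem (h1 ▸ hvA) (hdiag3 _)
  have hantiA : uG D₃ D₃.Q (-D₃.Q) ∈ A := by
    rw [show uG D₃ D₃.Q (-D₃.Q) = aG D₃ * uG D₃ (-D₃.Q) (-D₃.Q) from congrArg Subtype.val
      (show D₃.u D₃.Q (-D₃.Q) = D₃.u (2 * D₃.Q) 0 * D₃.u (-D₃.Q) (-D₃.Q) by
        rw [D₃.u_mul]; congr 1 <;> ring)]
    exact mul_mem ha₃ (hdiag3 _)
  obtain ⟨a, b, hab⟩ : ∃ a b : ℤ, (iV : G) = wG D₃ a b := by
    obtain ⟨a, b, h1 | h1⟩ := D₃.normalForm ⟨iV, hVS iV.2⟩
    · exact absurd (baseG_comm D₃ (hbase ▸ hAU₃ hvA)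
        ((mem_baseG D₃).mpr ⟨a, b, congrArg Subtype.val h1⟩)) hne
    · exact ⟨a, b, congrArg Subtype.val h1⟩
  set ρ := uG D₃ D₃.Q 0 with hρ
  have hρA : ∀ x ∈ A, ρ * x * ρ⁻¹ = x := fun x hx => by
    rw [baseG_comm D₃ ((mem_baseG D₃).mpr ⟨_, _, rfl⟩) (hbase ▸ hAU₃ hx), mul_inv_cancel_right]
  have hρi : ρ * (iV : G) * ρ⁻¹ = uG D₃ D₃.Q (-D₃.Q) * (iV : G) := by
    rw [hρ, hab]
    exact congrArg Subtype.val (show D₃.u D₃.Q 0 * (D₃.u a b * D₃.z) * (D₃.u D₃.Q 0)⁻¹ =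
      D₃.u D₃.Q (-D₃.Q) * (D₃.u a b * D₃.z) by
        rw [D₃.conj_uz, D₃.u_mul_uz, D₃.uz_eq_iff]; exact ⟨⟨0, by ring⟩, ⟨0, by ring⟩⟩)
  have hρV : (qzG D e).map (MulAut.conj ρ).toMonoidHom = qzG D e := by
    refine Subgroup.eq_of_le_of_card_ge ?_ (Subgroup.card_map_of_injective (MulAut.conj ρ).injective).ge
    rintro _ ⟨x, hx, rfl⟩
    show ρ * x * ρ⁻¹ ∈ qzG D e
    have hz : ∀ ξ ∈ center (qzG D e), ρ * (ξ : G) * ρ⁻¹ = ξ := fun ξ hξ => hρA _ (hcA ξ hξ)
    obtain ⟨ξ, hξ, h1 | h1 | h1 | h1⟩ := hd.gen ⟨x, hx⟩ <;>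
      rw [show x = _ from congrArg Subtype.val h1]
    · rw [hz ξ hξ]; exact ξ.2
    all_goals simp only [Subgroup.coe_mul, conj_mul.symm, hz ξ hξ, hρi, hvv, hρA v hvA]
    · exact mul_mem (mul_mem (hAV hantiA) iV.2) ξ.2
    · exact mul_mem (hAV hvA) ξ.2
    · exact mul_mem (mul_mem (mul_mem (hAV hantiA) iV.2) (hAV hvA)) ξ.2
  let r₃ : normalizer (qzG D e : Set G) := ⟨ρ, by
    rw [Subgroup.mem_normalizer_iff]
    intro x
    constructor
    · intro hx; rw [← hρV]; exact ⟨x, hx, rfl⟩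
    · intro hx
      rw [← hρV] at hx
      obtain ⟨y, hy, hxy⟩ := hx
      have e' : y = x := by
        have hxy : ρ * y * ρ⁻¹ = ρ * x * ρ⁻¹ := hxy
        simpa using hxy
      exact e' ▸ hy⟩
  have hr3v : quotPerm (qzG D e) r₃ ⟨vV, hv⟩ = ⟨vV, hv⟩ := by
    apply Subtype.ext
    rw [quotPerm_apply]
    congr 1
    apply Subtype.ext
    rw [coe_normalizerMonoidHom, hvv]
    exact hρA v hvA
  have hr32 : quotPerm (qzG D e) (r₃ * r₃) = 1 := by
    rw [quotPerm_eq_one_iff]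
    intro m
    rw [normalizerMonoidHom_eq_conj _ (h := ⟨aG D₃, hAV ha₃⟩) (c := (1 : G)) (one_mem _) (by
      rw [mul_one]
      exact (congrArg Subtype.val (show D₃.u D₃.Q 0 * D₃.u D₃.Q 0 = D₃.u (2 * D₃.Q) 0 by
        rw [D₃.u_mul, two_mul, zero_add])).symm)]
    exact hd.abelian _ _
  have hr3 : quotPerm (qzG D e) r₃ ≠ 1 := by
    intro h'
    have h2 := (quotPerm_eq_one_iff _ _).mp h' iV
    have h3 : iV * (iV⁻¹ * (qzG D e).normalizerMonoidHom r₃ iV) * iV⁻¹ =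
        iV⁻¹ * (qzG D e).normalizerMonoidHom r₃ iV := by
      rw [Subgroup.mem_center_iff.mp h2, mul_inv_cancel_right]
    rw [← h3] at h2
    have h4 : uG D₃ D₃.Q (-D₃.Q) ∈ centerG (S := (S : Subgroup G)) := by
      obtain ⟨d, hd'⟩ := center_qzG D h2
      rw [centerG_eq D]
      refine ⟨d, ?_⟩
      show uG D 1 1 ^ d = _
      have e4 : uG D 1 1 ^ d = uG D d d := (SubgroupClass.coe_zpow _ _).symm.trans
        (congrArg Subtype.val (show D.u 1 1 ^ d = D.u d d by rw [D.u_zpow, one_mul]))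
      rw [e4, ← hd']
      simp only [Subgroup.coe_mul, Subgroup.coe_inv, coe_normalizerMonoidHom]
      show (iV : G) * ((iV : G)⁻¹ * (ρ * (iV : G) * ρ⁻¹)) * (iV : G)⁻¹ = _
      rw [hρi]; group
    rw [hZ] at h4
    obtain ⟨s, hs, hse⟩ := h4
    rw [show s = D₃.u D₃.Q (-D₃.Q) from Subtype.ext hse] at hs
    exact D₃.not_dvd_two_Q (by simpa [two_mul] using D₃.mem_center_iff_diag.mp hs)
  refine index_ker_eq_six _ hcard hr hr2 hr3 hr32 fun h' => ?_
  have h1 := hfix ⟨vV, hv⟩ (by rw [h']; exact hr3v)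
  have h2 := QuotientGroup.eq.mp (congrArg Subtype.val h1)
  obtain ⟨d, hd'⟩ := center_qzG D h2
  simp only [Subgroup.coe_mul, Subgroup.coe_inv, hvv, hiv] at hd'
  have h5 : D.u D.Q (-D.Q) = D.u e (-e) * D.z * D.u d d :=
    Subtype.ext ((inv_mul_eq_iff_eq_mul.mp hd') :)
  rw [D.uz_mul_u] at h5
  exact D.u_ne_uz _ _ _ _ h5

end CfsgLib.TwoFusion.WRFusion
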