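import Cfsg.Agent.S1205
import Cfsg.Agent.Lib.TwoFusion.WRQuatCase
import Cfsg.Agent.Lib.TwoFusion.WRWeakClosed
import Cfsg.Agent.Lib.TwoFusion.WRTheorems
import Cfsg.Agent.Lib.TwoFusion.WRQuatSix
import Cfsg.Agent.Lib.TwoFusion.QDTheorems
import Cfsg.Agent.Lib.TwoFusion.ConjUtil

/-!
# Involution centralizers in groups with quasi-dihedral or wreathed Sylow `2`-subgroups
and no subgroup of index `2`
-/

set_option autoImplicit false

namespace CfsgLib.TwoFusion.InvolCentralizer

variable {G : Type*} [Group G] [Finite G]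

/-- The relative index is computed inside any subgroup containing the larger group. -/
theorem relIndex_subgroupOf_eq {A B C : Subgroup G} (hB : B ≤ C) :
    (A.subgroupOf C).relIndex (B.subgroupOf C) = A.relIndex B := by
  show (A.comap C.subtype).relIndex (B.comap C.subtype) = _
  rw [Subgroup.relIndex_comap, Subgroup.map_comap_eq, Subgroup.range_subtype, inf_eq_right.mpr hB]

/-- Transport of wreathed generators along an isomorphism. -/
def mapGens {A B : Type*} [Group A] [Group B] (D : WRGens A) (e : A ≃* B) : WRGens B where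
  x := e D.x
  y := e D.y
  z := e D.z
  k := D.k
  Q := D.Q
  hQ := D.hQ
  hord := by rw [MulEquiv.orderOf_eq]; exact D.hord
  hcomm := by rw [← map_mul, ← map_mul, D.hcomm]
  hdisj := by
    have h := congrArg (Subgroup.map e.toMonoidHom) D.hdisj
    rw [Subgroup.map_inf _ _ _ e.injective, MonoidHom.map_zpowers, MonoidHom.map_zpowers,
      Subgroup.map_bot] at h
    exact h
  hz := by rw [MulEquiv.orderOf_eq]; exact D.hz
  hrel := by rw [← map_inv, ← map_mul, ← map_mul, D.hrel]
  hcard := by rw [← Nat.card_congr e.toEquiv]; exact D.hcard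

theorem mapGens_u {A B : Type*} [Group A] [Group B] (D : WRGens A) (e : A ≃* B) (a b : ℤ) :
    (mapGens D e).u a b = e (D.u a b) := by
  simp [mapGens, WRGens.u, map_zpow]

theorem exists_index_two_of_hom {M : ℕ} (hM : 2 ∣ M) (f : G →* Multiplicative (ZMod M))
    (hf : Function.Surjective f) : ∃ H : Subgroup G, H.index = 2 := by
  refine ⟨((ZMod.castHom hM (ZMod 2)).toAddMonoidHom.toMultiplicative.comp f).ker, ?_⟩
  have hs : Function.Surjective ((ZMod.castHom hM (ZMod 2)).toAddMonoidHom.toMultiplicative.comp f) := by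
    intro y
    obtain ⟨x, hx⟩ := ZMod.castHom_surjective hM (Multiplicative.toAdd y)
    obtain ⟨g, hg⟩ := hf (Multiplicative.ofAdd x)
    exact ⟨g, by simp [hg, hx]⟩
  rw [Subgroup.index_ker, MonoidHom.range_eq_top.mpr hs, Subgroup.card_top]
  exact Nat.card_zmod 2

/-- In a wreathed group without subgroup of index two every involution is fused to the centre. -/
theorem wr_isConj_c (hG : ∀ H : Subgroup G, H.index ≠ 2) (S : Sylow 2 G)
    (D : WRGens (S : Subgroup G)) : IsConj (WRFusion.aG D) (WRFusion.cG D) ∧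
      (IsConj (WRFusion.zG D) (WRFusion.aG D) ∨ IsConj (WRFusion.zG D) (WRFusion.cG D)) := by
  constructor
  · by_contra hac
    obtain ⟨f, hf, -, -⟩ := WRFusion.exists_hom S D hac
    obtain ⟨H, hH⟩ := exists_index_two_of_hom (dvd_pow_self 2 (by omega)) f hf
    exact hG H hH
  · by_contra h
    push Not at h
    obtain ⟨M, -, hM, -⟩ := WRFusion.exists_avoid_z S D h.1 h.2
    exact hG M hM

theorem qd_isConj (hG : ∀ H : Subgroup G, H.index ≠ 2) (S : Sylow 2 G)
    (D : QDGens (S : Subgroup G)) : IsConj (QDFusion.vG D 0) (QDFusion.cG D) ∧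
      IsConj (QDFusion.vG D 1) (QDFusion.qG D) := by
  constructor <;> by_contra h
  · obtain ⟨M, -, hM, -⟩ := QDFusion.exists_avoid_y S D h
    exact hG M hM
  · obtain ⟨M, -, hM, -⟩ := QDFusion.exists_avoid_xy S D h
    exact hG M hM

theorem conj_into_centre (hG : ∀ H : Subgroup G, H.index ≠ 2) (S : Sylow 2 G)
    (hS : Cfsg.IsQuasiDihedral (S : Subgroup G) ∨ Cfsg.IsWreathed (S : Subgroup G)) {x : G}
    (hx : orderOf x = 2) :
    ∃ S' : Sylow 2 G, x ∈ S' ∧ ∀ s ∈ (S' : Subgroup G), s * x = x * s := by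
  have : Fact (Nat.Prime 2) := ⟨Nat.prime_two⟩
  obtain ⟨g, hg⟩ := FusionTools.exists_conj_mem_sylow S x (d := 1) (by rw [hx, pow_one])
  have ho : orderOf (g * x * g⁻¹) = 2 := by rw [← hx]; exact (MulAut.conj g).orderOf_eq x
  obtain ⟨c, hcS, hcc, hcx⟩ : ∃ c ∈ (S : Subgroup G),
      (∀ s ∈ (S : Subgroup G), s * c = c * s) ∧ IsConj x c := by
    rcases hS with hQD | hW
    · obtain ⟨D⟩ := CfsgLib.TwoFusion.exists_qdGens hQD
      refine ⟨QDFusion.cG D, (D.c).2, fun s hs => (QDFusion.cG_comm D hs).symm,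
        (isConj_iff.mpr ⟨g, rfl⟩ : IsConj x (g * x * g⁻¹)).trans ?_⟩
      rcases QDFusion.involution_cases D hg ho with h | h
      · rw [h]
      · exact h.symm.trans (qd_isConj hG S D).1
    · obtain ⟨D⟩ := CfsgLib.TwoFusion.exists_wrGens hW
      refine ⟨WRFusion.cG D, (D.c).2, fun s hs => (WRFusion.cG_comm D hs).symm,
        (isConj_iff.mpr ⟨g, rfl⟩ : IsConj x (g * x * g⁻¹)).trans ?_⟩
      obtain ⟨hac, hz⟩ := wr_isConj_c hG S D
      rcases WRFusion.involution_cases D hg ho with h | h | h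
      · rw [h]
      · exact h.symm.trans hac
      · exact h.symm.trans (hz.elim (fun hza => hza.trans hac) id)
  obtain ⟨k, hk⟩ := isConj_iff.mp hcx.symm
  refine ⟨k • S, ?_, ?_⟩
  · show x ∈ (k • S : Sylow 2 G).toSubgroup
    rw [Sylow.coe_subgroup_smul, ← hk]
    exact Subgroup.smul_mem_pointwise_smul _ (MulAut.conj k) _ hcS
  · intro s hs
    rw [Sylow.coe_subgroup_smul, Subgroup.mem_pointwise_smul_iff_inv_smul_mem] at hs
    have h := hcc (k⁻¹ * s * k) (by simpa [MulAut.smul_def] using hs)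
    rw [← hk]
    calc s * (k * c * k⁻¹) = k * (k⁻¹ * s * k * c) * k⁻¹ := by simp [mul_assoc]
      _ = k * c * k⁻¹ * s := by rw [h]; simp [mul_assoc]

theorem wr_six_subgroupOf (S : Sylow 2 G) (D : WRGens (S : Subgroup G)) (C : Subgroup G)
    (hSC : (S : Subgroup G) ≤ C) (e : ℤ)
    (hC : Subgroup.normalizer (WRFusion.qzG D e : Set G) ≤ C)
    (h6 : (WRFusion.qzG D e ⊔ Subgroup.centralizer (WRFusion.qzG D e : Set G)).relIndex
      (Subgroup.normalizer (WRFusion.qzG D e : Set G)) = 6) (R : Sylow 2 C)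
    (D' : WRGens (R : Subgroup C))
    (hD' : ∀ a b, ((WRFusion.uG D' a b : C) : G) = WRFusion.uG D a b)
    (hD'z : ∀ a b, ((WRFusion.wG D' a b : C) : G) = WRFusion.wG D a b) :
    (WRFusion.qzG D' e ⊔ Subgroup.centralizer (WRFusion.qzG D' e : Set C)).relIndex
      (Subgroup.normalizer (WRFusion.qzG D' e : Set C)) = 6 := by
  set V := WRFusion.qzG D e with hV
  have hVC : V ≤ C := (WRFusion.qzG_le D e).trans hSC
  have hQ : D'.Q = D.Q := by
    have h1 : Nat.card (R : Subgroup C) = Nat.card (S : Subgroup G) := by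
      obtain ⟨R', hR'⟩ : ∃ R' : Sylow 2 C, (R' : Subgroup C) = (S : Subgroup G).subgroupOf C :=
        ⟨S.subtype hSC, rfl⟩
      rw [Nat.card_congr (R.equiv R').toEquiv, hR',
        Nat.card_congr (Subgroup.subgroupOfEquivOfLe hSC).toEquiv]
    rw [D'.hcard, D.hcard] at h1
    have := Nat.pow_right_injective (le_refl 2) h1
    rw [D'.hQ, D.hQ, show D'.k = D.k by omega]
  have hV' : WRFusion.qzG D' e = V.subgroupOf C := by
    ext w
    rw [Subgroup.mem_subgroupOf, hV, WRFusion.mem_qzG, WRFusion.mem_qzG]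
    constructor
    · rintro ⟨a, b, ⟨rfl, h⟩ | ⟨rfl, h⟩⟩
      · exact ⟨a, b, Or.inl ⟨hD' a b, hQ ▸ h⟩⟩
      · exact ⟨a, b, Or.inr ⟨hD'z a b, hQ ▸ h⟩⟩
    · rintro ⟨a, b, ⟨h1, h⟩ | ⟨h1, h⟩⟩
      · exact ⟨a, b, Or.inl ⟨Subtype.ext (h1.trans (hD' a b).symm), hQ.symm ▸ h⟩⟩
      · exact ⟨a, b, Or.inr ⟨Subtype.ext (h1.trans (hD'z a b).symm), hQ.symm ▸ h⟩⟩
  have hN : Subgroup.normalizer (V.subgroupOf C : Set C) =
      (Subgroup.normalizer (V : Set G)).subgroupOf C := by
    ext w
    simp only [Subgroup.mem_subgroupOf, Subgroup.mem_normalizer_iff]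
    constructor
    · intro h v
      constructor
      · intro hv
        simpa [Subgroup.mem_subgroupOf] using (h ⟨v, hVC hv⟩).mp hv
      · intro hv
        have hvC : v ∈ C := by
          simpa [mul_assoc] using C.mul_mem (C.mul_mem (C.inv_mem w.2) (hVC hv)) w.2
        exact (h ⟨v, hvC⟩).mpr (by simpa [Subgroup.mem_subgroupOf] using hv)
    · intro h v
      simpa [Subgroup.mem_subgroupOf] using h (v : G)
  have hZ : Subgroup.centralizer (V.subgroupOf C : Set C) =
      (Subgroup.centralizer (V : Set G)).subgroupOf C := by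
    ext w
    simp only [Subgroup.mem_subgroupOf, Subgroup.mem_centralizer_iff]
    constructor
    · intro h v hv
      exact congrArg Subtype.val (h ⟨v, hVC hv⟩ hv)
    · intro h v hv
      exact Subtype.ext (h (v : G) hv)
  rw [hV', hN, hZ, ← Subgroup.subgroupOf_sup hVC
    ((Subgroup.centralizer_le_normalizer _).trans hC), relIndex_subgroupOf_eq hC, h6]

/-- The structure of an involution centralizer. -/
theorem centralizer_structure (hG : ∀ H : Subgroup G, H.index ≠ 2) (S : Sylow 2 G)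
    (hS : Cfsg.IsQuasiDihedral (S : Subgroup G) ∨ Cfsg.IsWreathed (S : Subgroup G)) (x : G)
    (hx : orderOf x = 2) :
    ∃ R : Sylow 2 ↥(Subgroup.centralizer ({x} : Set G)), Nat.card R = Nat.card S ∧
      (∃ K : Subgroup ↥(Subgroup.centralizer ({x} : Set G)), K.Normal ∧ (∃ a : ℕ, K.index = 2 ^ a) ∧
        (∀ H : Subgroup ↥K, H.index ≠ 2) ∧ (∀ P : Sylow 2 ↥K, ∃ m : ℕ, 1 ≤ m ∧
          Nonempty ((P : Subgroup ↥K) ≃* QuaternionGroup (2 ^ m)))) ∧
      (∀ Z₀ : Subgroup ↥(Subgroup.centralizer ({x} : Set G)),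
        Z₀ ≤ ((Subgroup.center (R : Subgroup ↥(Subgroup.centralizer ({x} : Set G)))).map
          (R : Subgroup ↥(Subgroup.centralizer ({x} : Set G))).subtype) →
        Cfsg.IsWeaklyClosed Z₀ (R : Subgroup ↥(Subgroup.centralizer ({x} : Set G)))) := by
  have : Fact (Nat.Prime 2) := ⟨Nat.prime_two⟩
  obtain ⟨S', hxS, hxc⟩ := conj_into_centre hG S hS hx
  set C := Subgroup.centralizer ({x} : Set G) with hC
  have hSC : (S' : Subgroup G) ≤ C := fun s hs => Subgroup.mem_centralizer_singleton_iff.mpr (hxc s hs)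
  set R : Sylow 2 C := S'.subtype hSC with hR
  have hxC : x ∈ C := hSC hxS
  let e0 : (S' : Subgroup G) ≃* (R : Subgroup C) := (Subgroup.subgroupOfEquivOfLe hSC).symm
  have he0 : ∀ s : (S' : Subgroup G), (((e0 s : (R : Subgroup C)) : C) : G) = (s : G) := fun s => rfl
  have hcard : Nat.card R = Nat.card S :=
    (Nat.card_congr e0.toEquiv).symm.trans (Nat.card_congr (S'.equiv S).toEquiv)
  have hxcen : ∀ c : C, c * ⟨x, hxC⟩ = ⟨x, hxC⟩ * c := fun c =>
    Subtype.ext (Subgroup.mem_centralizer_singleton_iff.mp c.2)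
  refine ⟨R, hcard, ?_⟩
  rcases hS with hQD | hW
  · have hQR : Cfsg.IsQuasiDihedral (R : Subgroup C) :=
      QDFusion.isQuasiDihedral_of_mulEquiv ((S.equiv S').trans e0) hQD
    obtain ⟨D'⟩ := CfsgLib.TwoFusion.exists_qdGens hQR
    obtain ⟨D⟩ := QDFusion.exists_gens_of_sylow S S' hQD
    have hZc : ∀ t : (R : Subgroup C), t ∈ Subgroup.center (R : Subgroup C) →
        t = 1 ∨ t = D'.x ^ (4 * D'.P) := by
      intro t ht
      obtain ⟨i, rfl | rfl⟩ := D'.normalForm t
      · have h := D'.commute_zpow_zy_iff.mp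
          (((Subgroup.mem_center_iff.mp ht) (D'.x ^ (0 : ℤ) * D'.y)).symm)
        obtain ⟨c, rfl⟩ := h
        rcases Int.even_or_odd c with ⟨d, rfl⟩ | ⟨d, rfl⟩
        · exact Or.inl (D'.zpow_eq_one_iff.mpr ⟨d, by ring⟩)
        · exact Or.inr (D'.zpow_eq_iff.mpr ⟨d, by ring⟩)
      · exfalso
        have h := D'.commute_zpow_zy_iff.mp ((Subgroup.mem_center_iff.mp ht) (D'.x ^ (1 : ℤ)))
        have := D'.P_pos
        have := Int.le_of_dvd one_pos h
        omega
    have hxR : (⟨x, hxC⟩ : C) ∈ (R : Subgroup C) := hxS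
    have hxD : (⟨⟨x, hxC⟩, hxR⟩ : (R : Subgroup C)) = D'.x ^ (4 * D'.P) :=
      (hZc _ (Subgroup.mem_center_iff.mpr fun s => Subtype.ext (hxcen s))).resolve_left fun e => by
        have h1 : x = 1 := congrArg (fun t : (R : Subgroup C) => ((t : C) : G)) e
        rw [h1, orderOf_one] at hx
        omega
    have hcG : ∀ c : C, c * QDFusion.cG D' = QDFusion.cG D' * c := by
      intro c
      rw [show QDFusion.cG D' = (⟨x, hxC⟩ : C) from (congrArg Subtype.val hxD).symm]
      exact hxcen c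
    have hy : ¬ IsConj (QDFusion.vG D' 0) (QDFusion.cG D') := by
      intro h
      obtain ⟨g, hg⟩ := isConj_iff.mp h.symm
      rw [hcG, mul_inv_cancel_right] at hg
      exact QDFusion.vG_ne_cG R D' 0 hg.symm
    have hv : IsConj (QDFusion.vG D' 1) (QDFusion.qG D') := by
      have hall : ∀ t ∈ (S' : Subgroup G), orderOf t = 4 → IsConj (QDFusion.qG D) t := fun t ht ho =>
        (QDFusion.order_four_cases D ht ho).elim id fun h =>
          (qd_isConj hG S' D).2.symm.trans h
      have hv4 : orderOf ((QDFusion.vG D' 1 : C) : G) = 4 := by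
        rw [Subgroup.orderOf_coe]; exact QDFusion.orderOf_vG_odd D' (by omega)
      have hq4 : orderOf ((QDFusion.qG D' : C) : G) = 4 := by
        rw [Subgroup.orderOf_coe]; exact QDFusion.orderOf_qG D'
      obtain ⟨g, hg⟩ := isConj_iff.mp ((hall _ (D'.x ^ (1 : ℤ) * D'.y).2 hv4).symm.trans
        (hall _ (D'.q).2 hq4))
      have hv2 : ((QDFusion.vG D' 1 : C) : G) ^ 2 = x := by
        have h := congrArg (fun t : (R : Subgroup C) => ((t : C) : G))
          ((D'.sq_zy_odd (i := 1) (by omega)).trans hxD.symm)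
        simpa using h
      have hq2 : ((QDFusion.qG D' : C) : G) ^ 2 = x := by
        have h := congrArg (fun t : (R : Subgroup C) => ((t : C) : G)) (D'.q_sq.trans hxD.symm)
        simpa [pow_two] using h
      have hgC : g ∈ C := by
        rw [hC, Subgroup.mem_centralizer_singleton_iff, ← mul_inv_eq_iff_eq_mul]
        have hg' : g * ((QDFusion.vG D' 1 : C) : G) * g⁻¹ = ((QDFusion.qG D' : C) : G) := hg
        conv_lhs => rw [← hv2, ← conj_pow, hg', hq2]
      exact isConj_iff.mpr ⟨⟨g, hgC⟩, Subtype.ext hg⟩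
    obtain ⟨eq⟩ := D'.quatSub_nonempty_mulEquiv (i := 1) (by omega)
    obtain ⟨⟨K, hKn, hK, hKq, hK2⟩, -⟩ := Cfsg.Agent.S1205.result R hQR
      (QDFusion.fourAt R D' 0 (dvd_zero 2)) (QDFusion.fourAt_klein R D' 0 (dvd_zero 2))
      (Subgroup.map_subtype_le _) ((D'.quatSub 1 (by omega)).map (R : Subgroup C).subtype)
      (Subgroup.map_subtype_le _)
      ((Subgroup.equivMapOfInjective _ _ (R : Subgroup C).subtype_injective).symm.trans eq)
      ((QDFusion.klein_index R D' (QDFusion.fourAt_klein R D' 0 (dvd_zero 2))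
        (Subgroup.map_subtype_le _)).resolve_right fun h => hy
          ((QDFusion.klein_six_iff R D' (QDFusion.fourAt_klein R D' 0 (dvd_zero 2))
            (Subgroup.map_subtype_le _)).mp h))
      ((QDFusion.quat_six_iff R D' (Subgroup.map_subtype_le _)
        ((Subgroup.equivMapOfInjective _ _ (R : Subgroup C).subtype_injective).symm.trans eq)).mpr hv)
    refine ⟨⟨K, hKn, ⟨1, by rw [hK, pow_one]⟩, hK2, hKq⟩, fun Z₀ hZ₀ => ⟨fun w hw => ?_, fun g _ => ?_⟩⟩
    · obtain ⟨t, -, rfl⟩ := hZ₀ hw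
      exact t.2
    · have hfix : ∀ w ∈ Z₀, g * w * g⁻¹ = w := by
        intro w hw
        obtain ⟨t, ht, rfl⟩ := hZ₀ hw
        rcases hZc t ht with rfl | rfl
        · simp
        · rw [show (R : Subgroup C).subtype (D'.x ^ (4 * D'.P)) = (⟨x, hxC⟩ : C) from
            (congrArg Subtype.val hxD).symm, hxcen, mul_inv_cancel_right]
      ext w
      constructor
      · rintro ⟨v, hv, rfl⟩
        show g * v * g⁻¹ ∈ Z₀
        rw [hfix v hv]; exact hv
      · intro hw
        exact ⟨w, hw, hfix w hw⟩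
  · obtain ⟨D0⟩ := CfsgLib.TwoFusion.exists_wrGens hW
    obtain ⟨D, -, -⟩ := WRFusion.exists_gens_of_sylow S S' D0
    let D' : WRGens (R : Subgroup C) := mapGens D e0
    have hu : ∀ a b, ((WRFusion.uG D' a b : C) : G) = WRFusion.uG D a b := fun a b => by
      show (((mapGens D e0).u a b : (R : Subgroup C)) : C).1 = _
      rw [mapGens_u]
      exact he0 _
    have hw : ∀ a b, ((WRFusion.wG D' a b : C) : G) = WRFusion.wG D a b := fun a b => by
      show (((mapGens D e0).u a b * e0 D.z : (R : Subgroup C)) : C).1 = _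
      rw [mapGens_u, ← map_mul]
      exact he0 _
    have hxD : x = WRFusion.cG D := WRFusion.center_involution D hxS hxc
      (fun e => by rw [e, orderOf_one] at hx; omega) (by
        have h := pow_orderOf_eq_one x
        rwa [hx, pow_two] at h)
    have hc' : WRFusion.cG D' = (⟨x, hxC⟩ : C) := Subtype.ext ((hu _ _).trans hxD.symm)
    have hac : ¬ IsConj (WRFusion.aG D') (WRFusion.cG D') := by
      intro h
      obtain ⟨g, hg⟩ := isConj_iff.mp h.symm
      rw [hc', hxcen, mul_inv_cancel_right, ← hc'] at hg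
      exact WRFusion.aG_ne_cG D' hg.symm
    have hN : Subgroup.normalizer (WRFusion.qzG D 0 : Set G) ≤ C := by
      intro n hn
      have hcV : WRFusion.cG D ∈ WRFusion.qzG D 0 :=
        WRFusion.centerG_le_qzG D 0 (WRFusion.mem_centerG.mpr ⟨(D.c).2, fun t ht =>
          (WRFusion.cG_comm D ht).symm⟩)
      have hfix := WRFusion.qz_fix_center S' D 0 ⟨n, hn⟩ ⟨_, hcV⟩
        (Subgroup.mem_center_iff.mpr fun t => Subtype.ext
          (WRFusion.cG_comm D (WRFusion.qzG_le D 0 t.2)).symm)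
      have h2 : n * WRFusion.cG D * n⁻¹ = WRFusion.cG D := congrArg Subtype.val hfix
      rw [hC, hxD, Subgroup.mem_centralizer_singleton_iff, ← mul_inv_eq_iff_eq_mul]
      exact h2
    have h6 := wr_six_subgroupOf S' D C hSC 0 hN
      (WRFusion.qz_six_of_conj S' D 0 (wr_isConj_c hG S' D).2) R D' hu hw
    have hz := WRFusion.isConj_of_qz_six R D' 0 h6
    obtain ⟨K, hKn, hK, hKq, hK2⟩ := WRFusion.quaternion_case R D' hac hz
    exact ⟨⟨K, hKn, ⟨_, hK⟩, hK2, hKq⟩, fun Z₀ hZ₀ => WRFusion.weakly_closed R D' hac Z₀ hZ₀⟩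

end CfsgLib.TwoFusion.InvolCentralizer
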