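import Cfsg.Agent.Lib.Invol.GlaubermanZStar
import Cfsg.Agent.Lib.Solvable.CoprimeAction

/-!
A 2-group `Q` complementing a normal subgroup `N`, with an element `t` of `Z(Q) ∩ [Q,Q]` having
the same centraliser in `N` as `Q`: then `[N,Q]` has odd order.
-/

set_option autoImplicit false
open scoped Pointwise
open Subgroup
open scoped commutatorElement

namespace CfsgLib.TwoFusion.CentralFactor

universe u

theorem eq_one_of_two_pow_of_odd {G : Type u} [Group G] [Finite G] {x : G} {S D : Subgroup G}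
    (hS : IsPGroup 2 S) (hD : Odd (Nat.card D)) (hxS : x ∈ S) (hxD : x ∈ D) : x = 1 := by
  have := Fact.mk Nat.prime_two
  have hcop : (Nat.card S).Coprime (Nat.card D) := by
    obtain ⟨k, hk⟩ := IsPGroup.iff_card.1 hS
    rw [hk]
    exact (Nat.coprime_two_left.2 hD).pow_left k
  exact disjoint_def.1 (disjoint_of_coprime_natCard hcop) hxS hxD

/-- The involution below `t` is isolated, given the conclusion inside its centraliser. -/
theorem isolated_of_local {G : Type u} [Group G] [Finite G] {N Q O1 : Subgroup G} [N.Normal]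
    (hG : Q ⊔ N = ⊤) (hQ : IsPGroup 2 Q) {z : G} (hz2 : orderOf z = 2) (hzQ : z ∈ Q)
    (hzc : ∀ q ∈ Q, Commute z q) (hzd : z ∈ ⁅Q, Q⁆) (hO1 : Odd (Nat.card O1))
    (hO1H : ∀ m ∈ N, Commute z m → ∀ q ∈ Q, m * q * m⁻¹ * q⁻¹ ∈ O1) :
    Cfsg.IsIsolatedInvolution z := by
  have := Fact.mk Nat.prime_two
  refine ⟨hz2, fun g hg => ?_⟩
  set H := centralizer ({z} : Set G) with hH
  have memH : ∀ {x : G}, x ∈ H ↔ Commute z x := fun {x} => by
    rw [hH, mem_centralizer_singleton_iff]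
    exact ⟨fun h => h.symm, fun h => h.symm⟩
  have hQH : Q ≤ H := fun q hq => memH.2 (hzc q hq)
  obtain ⟨P, hP⟩ := IsPGroup.exists_le_sylow
    (P := Q.subgroupOf H) (hQ.of_equiv (subgroupOfEquivOfLe hQH).symm)
  set S := (P : Subgroup H).map H.subtype with hS
  have hS2 : IsPGroup 2 S := P.2.map _
  have hQS : Q ≤ S := by
    rw [hS, ← map_subgroupOf_eq_of_le hQH]
    exact map_mono hP
  have hSH : S ≤ H := map_subtype_le _
  -- elements of `S ⊓ N` commute with `Q`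
  have hSN : ∀ m ∈ S, m ∈ N → ∀ q ∈ Q, Commute m q := by
    intro m hm hmN q hq
    have h1 : m * q * m⁻¹ * q⁻¹ ∈ S :=
      S.mul_mem (S.mul_mem (S.mul_mem hm (hQS hq)) (S.inv_mem hm)) (S.inv_mem (hQS hq))
    have h2 := eq_one_of_two_pow_of_odd hS2 hO1 h1 (hO1H m hmN (memH.1 (hSH hm)) q hq)
    rw [mul_inv_eq_one, mul_inv_eq_iff_eq_mul] at h2
    exact h2
  -- 2-subgroups of `H` are conjugate into `S` by elements of `N`
  have hinto : ∀ U : Subgroup G, U ≤ H → IsPGroup 2 U →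
      ∃ h ∈ N, Commute z h ∧ ∀ u ∈ U, h * u * h⁻¹ ∈ S := by
    intro U hUH hU
    obtain ⟨R, hR⟩ := IsPGroup.exists_le_sylow
      (P := U.subgroupOf H) (hU.of_equiv (subgroupOfEquivOfLe hUH).symm)
    obtain ⟨k, hk⟩ := MulAction.exists_smul_eq H R P
    obtain ⟨q, hq, n, hn, hkq⟩ : ∃ q ∈ Q, ∃ n ∈ N, q * n = (k : G) :=
      Subgroup.mem_sup_of_normal_right.mp (hG ▸ mem_top (k : G))
    refine ⟨n, hn, ?_, fun u hu => ?_⟩
    · have : n = q⁻¹ * (k : G) := by rw [← hkq]; group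
      rw [this]
      exact memH.1 (H.mul_mem (H.inv_mem (hQH hq)) k.2)
    · have h1 : (k : G) * u * (k : G)⁻¹ ∈ S := by
        refine ⟨k * ⟨u, hUH hu⟩ * k⁻¹, ?_, rfl⟩
        rw [← hk]
        exact ⟨⟨u, hUH hu⟩, hR (mem_subgroupOf.2 hu), rfl⟩
      have e : n * u * n⁻¹ = q⁻¹ * ((k : G) * u * (k : G)⁻¹) * q := by rw [← hkq]; group
      rw [e]
      exact S.mul_mem (S.mul_mem (S.inv_mem (hQS hq)) h1) (hQS hq)
  -- reduce to a conjugate by an element of `N` lying in `S`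
  obtain ⟨q, hq, n, hn, hqn⟩ : ∃ q ∈ Q, ∃ n ∈ N, q * n = g :=
    Subgroup.mem_sup_of_normal_right.mp (hG ▸ mem_top g)
  set n0 := q * n * q⁻¹ with hn0
  have hn0N : n0 ∈ N := Normal.conj_mem inferInstance n hn q
  have hy : g * z * g⁻¹ = n0 * z * n0⁻¹ := by
    rw [← hqn, hn0]
    calc q * n * z * (q * n)⁻¹ = q * n * z * (z⁻¹ * q⁻¹ * z * q) * n⁻¹ * q⁻¹ := by
          rw [show z⁻¹ * q⁻¹ * z * q = 1 by
            rw [mul_assoc, (hzc q hq).eq]; group]
          group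
      _ = _ := by group
  rw [hy] at hg ⊢
  obtain ⟨h1, h1N, h1z, h1S⟩ := hinto (zpowers (n0 * z * n0⁻¹))
    (zpowers_le.2 (memH.2 hg))
    (IsPGroup.of_card (n := 1) (by
      have h : orderOf (n0 * z * n0⁻¹) = 2 := (orderOf_injective
        (MulAut.conj n0).toMonoidHom (MulAut.conj n0).injective z).trans hz2
      rw [Nat.card_zpowers, h]; norm_num))
  set n1 := h1 * n0 with hn1
  have hn1N : n1 ∈ N := N.mul_mem h1N hn0N
  suffices h : n1 * z * n1⁻¹ = z by
    have e : n0 * z * n0⁻¹ = h1⁻¹ * (n1 * z * n1⁻¹) * h1 := by rw [hn1]; group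
    rw [e, h, mul_assoc, h1z.eq, inv_mul_cancel_left]
  have hy1S : n1 * z * n1⁻¹ ∈ S := by
    have := h1S _ (mem_zpowers _)
    rwa [show n1 * z * n1⁻¹ = h1 * (n0 * z * n0⁻¹) * h1⁻¹ by rw [hn1]; group]
  have hy1Q : ∀ a ∈ Q, Commute (n1 * z * n1⁻¹) a := by
    intro a ha
    have hmS : n1 * z * n1⁻¹ * z⁻¹ ∈ S := S.mul_mem hy1S (S.inv_mem (hQS hzQ))
    have hmN : n1 * z * n1⁻¹ * z⁻¹ ∈ N := by
      rw [show n1 * z * n1⁻¹ * z⁻¹ = n1 * (z * n1⁻¹ * z⁻¹) by group]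
      exact N.mul_mem hn1N (Normal.conj_mem inferInstance _ (N.inv_mem hn1N) z)
    simpa using (hSN _ hmS hmN a ha).mul_left (hzc a ha)
  -- conjugate `n1⁻¹ Q n1` into `S`
  obtain ⟨h2, h2N, h2z, h2S⟩ := hinto (Q.map (MulAut.conj n1⁻¹).toMonoidHom) (by
      rintro _ ⟨a, ha, rfl⟩
      refine memH.2 ?_
      have h := (hy1Q a ha).map (MulAut.conj n1⁻¹).toMonoidHom
      simpa [mul_assoc] using h)
    (hQ.map _)
  set n2 := n1 * h2⁻¹ with hn2
  have hn2N : n2 ∈ N := N.mul_mem hn1N (N.inv_mem h2N)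
  have hy2 : n2 * z * n2⁻¹ = n1 * z * n1⁻¹ := by
    rw [hn2, mul_inv_rev, inv_inv]
    calc n1 * h2⁻¹ * z * (h2 * n1⁻¹) = n1 * (h2⁻¹ * (z * h2)) * n1⁻¹ := by group
      _ = _ := by rw [h2z.eq, inv_mul_cancel_left]
  have hy2Q : ∀ a ∈ Q, Commute (n2 * z * n2⁻¹) a := by rw [hy2]; exact hy1Q
  set r : G → G := fun a => n2⁻¹ * a * n2 * a⁻¹ with hr
  have hrN : ∀ a : G, r a ∈ N := fun a => by
    show n2⁻¹ * a * n2 * a⁻¹ ∈ N
    rw [show n2⁻¹ * a * n2 * a⁻¹ = n2⁻¹ * (a * n2 * a⁻¹) by group]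
    exact N.mul_mem (N.inv_mem hn2N) (Normal.conj_mem inferInstance _ hn2N a)
  have hrS : ∀ a ∈ Q, r a ∈ S := fun a ha => by
    refine S.mul_mem ?_ (S.inv_mem (hQS ha))
    have := h2S _ ⟨a, ha, rfl⟩
    simpa [hn2, mul_assoc] using this
  have hrQ : ∀ a ∈ Q, ∀ b ∈ Q, Commute (r a) b := fun a ha => hSN _ (hrS a ha) (hrN a)
  let φ : Q →* G :=
    { toFun := fun a => r a
      map_one' := by simp [hr]
      map_mul' := fun a b => by
        have h := hrQ b b.2 (a : G)⁻¹ (Q.inv_mem a.2)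
        show r ((a : G) * b) = r a * r b
        calc r ((a : G) * b) = (n2⁻¹ * a * n2) * (r b * (a : G)⁻¹) := by simp only [hr]; group
          _ = (n2⁻¹ * a * n2) * ((a : G)⁻¹ * r b) := by rw [h.eq]
          _ = r a * r b := by simp only [hr]; group }
  have hab : ∀ a b : Q, Commute (φ a) (φ b) := by
    intro a b
    have hrz : Commute (φ a) (φ ⟨z, hzQ⟩) :=
      (Commute.map (show Commute a ⟨z, hzQ⟩ from Subtype.ext (hzc a a.2).symm.eq) φ)
    have h1 : Commute (r a) (n2⁻¹ * z * n2) := by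
      have e : n2⁻¹ * z * n2 = r z * z := by simp only [hr]; group
      rw [e]
      exact hrz.mul_right (hrQ a a.2 z hzQ)
    have h2 : Commute z (n2 * r a * n2⁻¹) := by
      have h := h1.map (MulAut.conj n2).toMonoidHom
      simpa [mul_assoc] using h.symm
    have h3 := hO1H _ (Normal.conj_mem inferInstance _ (hrN (a : G)) n2) h2 b b.2
    have e : n2⁻¹ * (n2 * r a * n2⁻¹ * b * (n2 * r a * n2⁻¹)⁻¹ * (b : G)⁻¹) * n2 =
        r a * r b * (r a)⁻¹ * (r b)⁻¹ := by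
      have hc := hrQ a a.2 b b.2
      have e2 : n2⁻¹ * b * n2 = r b * b := by simp only [hr]; group
      calc _ = r a * (n2⁻¹ * b * n2) * (r a)⁻¹ * (n2⁻¹ * b * n2)⁻¹ := by group
        _ = r a * r b * ((b : G) * (r a)⁻¹) * (b : G)⁻¹ * (r b)⁻¹ := by rw [e2]; group
        _ = r a * r b * ((r a)⁻¹ * (b : G)) * (b : G)⁻¹ * (r b)⁻¹ := by rw [hc.inv_left.eq]
        _ = _ := by group
    have h4 : r a * r b * (r a)⁻¹ * (r b)⁻¹ = 1 := eq_one_of_two_pow_of_odd hS2
      (D := O1.map (MulAut.conj n2⁻¹).toMonoidHom)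
      (by rwa [card_map_of_injective (MulAut.conj n2⁻¹).injective])
      (S.mul_mem (S.mul_mem (S.mul_mem (hrS a a.2) (hrS b b.2)) (S.inv_mem (hrS a a.2)))
        (S.inv_mem (hrS b b.2)))
      (e ▸ ⟨_, h3, by simp [mul_assoc]⟩)
    rw [mul_inv_eq_one, mul_inv_eq_iff_eq_mul] at h4
    exact h4
  have hker : ⁅Q, Q⁆ ≤ φ.ker.map Q.subtype := commutator_le.2 fun a ha b hb =>
    ⟨⁅(⟨a, ha⟩ : Q), ⟨b, hb⟩⁆, by
      rw [SetLike.mem_coe, MonoidHom.mem_ker, map_commutatorElement,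
        commutatorElement_eq_one_iff_commute]
      exact hab _ _, rfl⟩
  obtain ⟨w, hw, hwz⟩ := hker hzd
  have hr1 : r z = 1 := by
    have : φ w = 1 := hw
    rw [← hwz]
    exact this
  have : n2⁻¹ * z * n2 = z := by simpa only [hr, mul_inv_eq_one] using hr1
  rw [← hy2]
  calc n2 * z * n2⁻¹ = n2 * (n2⁻¹ * z * n2) * n2⁻¹ := by rw [this]
    _ = z := by group

/-- If `t ∈ Z(Q) ∩ [Q,Q]` has the same centraliser in `N` as `Q`, then `Q` acts trivially on `N`
modulo a normal subgroup of odd order. -/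
theorem exists_odd_normal : ∀ (n : ℕ) (G : Type u) [Group G] [Finite G], Nat.card G = n →
    ∀ (N Q : Subgroup G) [N.Normal], Q ⊔ N = ⊤ → IsPGroup 2 Q → Q ⊓ N = ⊥ →
    ∀ t ∈ Q, (∀ q ∈ Q, Commute t q) → t ∈ ⁅Q, Q⁆ →
    (∀ m ∈ N, Commute t m → ∀ q ∈ Q, Commute m q) →
    ∃ D : Subgroup G, D.Normal ∧ D ≤ N ∧ Odd (Nat.card D) ∧
      ∀ m ∈ N, ∀ q ∈ Q, m * q * m⁻¹ * q⁻¹ ∈ D := by
  intro n
  induction n using Nat.strong_induction_on with
  | _ n ih =>
  intro G _ _ hn N Q _ hG hQ hdisj t htQ htc htd hC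
  have := Fact.mk Nat.prime_two
  by_cases ht1 : t = 1
  · refine ⟨⊥, normal_bot, bot_le, by simp, fun m hm q hq => ?_⟩
    have h := hC m hm (ht1 ▸ Commute.one_left m) q hq
    rw [mem_bot, h.eq]
    group
  obtain ⟨k, hk⟩ := IsPGroup.iff_orderOf.1 hQ ⟨t, htQ⟩
  rw [Subgroup.orderOf_mk] at hk
  obtain ⟨k, rfl⟩ : ∃ j, k = j + 1 := ⟨k - 1, (Nat.sub_add_cancel (Nat.one_le_iff_ne_zero.2
    fun h => ht1 (orderOf_eq_one_iff.1 (by rw [hk, h, pow_zero])))).symm⟩
  set z := t ^ 2 ^ k with hz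
  have hz2 : orderOf z = 2 := by
    rw [hz, orderOf_pow' t (by positivity), hk, Nat.gcd_eq_right (pow_dvd_pow 2 (Nat.le_succ k)),
      pow_succ, Nat.mul_div_cancel_left _ (by positivity)]
  have hzQ : z ∈ Q := Q.pow_mem htQ _
  have hzc : ∀ q ∈ Q, Commute z q := fun q hq => (htc q hq).pow_left _
  have hzd : z ∈ ⁅Q, Q⁆ := pow_mem htd _
  by_cases hcen : ∀ g : G, Commute z g
  · set Z := zpowers z with hZ
    have hZn : Z.Normal := ⟨fun m hm g => by
      obtain ⟨j, rfl⟩ := mem_zpowers_iff.1 hm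
      rw [((hcen g).symm.zpow_right j).eq, mul_inv_cancel_right]
      exact hm⟩
    have hZQ : Z ≤ Q := zpowers_le.2 hzQ
    set f := QuotientGroup.mk' Z with hf
    have hfs : Function.Surjective f := QuotientGroup.mk'_surjective Z
    have hker : ∀ x : G, f x = 1 ↔ x ∈ Z := fun x => QuotientGroup.eq_one_iff x
    have hNone : ∀ x ∈ N, f x = 1 → x = 1 := fun x hx h =>
      mem_bot.1 (hdisj ▸ ⟨hZQ ((hker x).1 h), hx⟩)
    have : (N.map f).Normal := Normal.map inferInstance f hfs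
    have hlt : Nat.card (G ⧸ Z) < n := by
      rw [← hn, ← index_eq_card, ← card_mul_index Z]
      exact lt_mul_of_one_lt_left (Nat.pos_of_ne_zero index_ne_zero_of_finite)
        (by rw [hZ, Nat.card_zpowers, hz2]; norm_num)
    obtain ⟨D, hDn, hDN, hDo, hD⟩ := ih _ hlt (G ⧸ Z) rfl (N.map f) (Q.map f)
      (by rw [← Subgroup.map_sup, hG, map_top_of_surjective f hfs])
      (hQ.map f)
      (by
        rw [eq_bot_iff]
        rintro _ ⟨⟨a, ha, rfl⟩, m, hm, hma⟩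
        have hmQ : m ∈ Q := by
          have h : f (m * a⁻¹) = 1 := by rw [map_mul, map_inv, hma, mul_inv_cancel]
          simpa using Q.mul_mem (hZQ ((hker _).1 h)) ha
        have hm1 : m = 1 := mem_bot.1 (hdisj ▸ (⟨hmQ, hm⟩ : m ∈ Q ⊓ N))
        rw [mem_bot, ← hma, hm1, map_one])
      (f t) (mem_map_of_mem f htQ)
      (by rintro _ ⟨q, hq, rfl⟩; exact (htc q hq).map f)
      (by rw [← map_commutator]; exact mem_map_of_mem f htd)
      (by
        rintro _ ⟨m, hm, rfl⟩ h _ ⟨q, hq, rfl⟩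
        refine (hC m hm ?_ q hq).map f
        have h1 : t * m * t⁻¹ * m⁻¹ ∈ N :=
          N.mul_mem (Normal.conj_mem inferInstance m hm t) (N.inv_mem hm)
        have h2 := hNone _ h1 (by
          rw [map_mul, map_mul, map_mul, map_inv, map_inv, h.eq]; group)
        rw [mul_inv_eq_one, mul_inv_eq_iff_eq_mul] at h2
        exact h2)
    refine ⟨N ⊓ D.comap f, inferInstance, inf_le_left, ?_, fun m hm q hq => ⟨?_, ?_⟩⟩
    · let g : ↥(N ⊓ D.comap f) →* D := (f.comp (N ⊓ D.comap f).subtype).codRestrict D fun x => x.2.2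
      refine hDo.of_dvd_nat (card_dvd_of_injective g ((injective_iff_map_eq_one g).2 fun x hx => ?_))
      exact Subtype.ext (hNone _ x.2.1 (congrArg Subtype.val hx))
    · rw [show m * q * m⁻¹ * q⁻¹ = m * (q * m⁻¹ * q⁻¹) by group]
      exact N.mul_mem hm (Normal.conj_mem inferInstance _ (N.inv_mem hm) q)
    · show f (m * q * m⁻¹ * q⁻¹) ∈ D
      rw [map_mul, map_mul, map_mul, map_inv, map_inv]
      exact hD _ (mem_map_of_mem f hm) _ (mem_map_of_mem f hq)
  set H := centralizer ({z} : Set G) with hH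
  have memH : ∀ {x : G}, x ∈ H ↔ Commute z x := fun {x} => by
    rw [hH, mem_centralizer_singleton_iff]
    exact ⟨fun h => h.symm, fun h => h.symm⟩
  have hQH : Q ≤ H := fun q hq => memH.2 (hzc q hq)
  have hlt : Nat.card H < n := by
    rw [← hn]
    exact lt_of_le_of_ne (card_le_card_group H) fun h => hcen fun g =>
      memH.1 (eq_top_of_card_eq H h ▸ mem_top g)
  obtain ⟨D1, hD1n, hD1N, hD1o, hD1⟩ := ih _ hlt H rfl (N.subgroupOf H) (Q.subgroupOf H)
    (by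
      refine eq_top_iff.2 fun x _ => ?_
      obtain ⟨q, hq, m, hm, hqm⟩ : ∃ q ∈ Q, ∃ m ∈ N, q * m = (x : G) :=
        Subgroup.mem_sup_of_normal_right.mp (hG ▸ mem_top (x : G))
      have hmH : m ∈ H := by
        rw [show m = q⁻¹ * (x : G) by rw [← hqm]; group]
        exact H.mul_mem (H.inv_mem (hQH hq)) x.2
      have : x = (⟨q, hQH hq⟩ : H) * ⟨m, hmH⟩ := Subtype.ext hqm.symm
      rw [this]
      exact mul_mem_sup (mem_subgroupOf.2 hq) (mem_subgroupOf.2 hm))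
    (hQ.of_equiv (subgroupOfEquivOfLe hQH).symm)
    (by
      rw [eq_bot_iff]
      intro x hx
      exact mem_bot.2 (Subtype.ext (mem_bot.1 (hdisj ▸ ⟨hx.1, hx.2⟩))))
    ⟨t, hQH htQ⟩ htQ (fun q hq => Subtype.ext (htc _ hq).eq)
    (by
      have h : ⁅Q, Q⁆ = (⁅Q.subgroupOf H, Q.subgroupOf H⁆).map H.subtype := by
        rw [map_commutator, map_subgroupOf_eq_of_le hQH]
      obtain ⟨y, hy, hyt⟩ := h ▸ htd
      rwa [show (⟨t, hQH htQ⟩ : H) = y from Subtype.ext hyt.symm])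
    (fun m hm h q hq => Subtype.ext (hC _ hm (congrArg Subtype.val h.eq) _ hq).eq)
  set O1 := D1.map H.subtype with hO1
  have hO1o : Odd (Nat.card O1) := by rwa [hO1, Subgroup.card_subtype]
  have hO1H : ∀ m ∈ N, Commute z m → ∀ q ∈ Q, m * q * m⁻¹ * q⁻¹ ∈ O1 := fun m hm h q hq =>
    ⟨_, hD1 ⟨m, memH.2 h⟩ hm ⟨q, hQH hq⟩ hq, rfl⟩
  have hiso := isolated_of_local hG hQ hz2 hzQ hzc hzd hO1o hO1H
  set M := Cfsg.pPrimeCore 2 G ⊓ N with hM
  have : (Cfsg.pPrimeCore 2 G).Normal := CfsgLib.Solvable.pPrimeCore_normal 2 G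
  have hMo : Odd (Nat.card M) :=
    (Nat.coprime_two_right.1 (CfsgLib.Solvable.pPrimeCore_card_coprime 2 G)).of_dvd_nat
      (card_dvd_of_le inf_le_left)
  have hzN : Disjoint (zpowers z) N := disjoint_iff.2
    (le_bot_iff.1 (hdisj ▸ inf_le_inf_right N (zpowers_le.2 hzQ)))
  have hdec : ∀ m ∈ N, ∃ d ∈ M, m * d ∈ N ∧ Commute z (m * d) := by
    intro m hm
    obtain ⟨d, hd, h⟩ := CfsgLib.Solvable.exists_mul_mem_normalizer (A := zpowers z) (D := M)
      le_normalizer_of_normal (by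
        rw [Nat.card_zpowers, hz2]
        exact Nat.coprime_two_left.2 hMo) (Or.inl inferInstance) (x := m) (fun a ha => by
          refine ⟨?_, N.mul_mem (N.inv_mem hm) (Normal.conj_mem inferInstance m hm a)⟩
          obtain ⟨j, rfl⟩ := mem_zpowers_iff.1 ha
          set π := QuotientGroup.mk' (Cfsg.pPrimeCore 2 G) with hπ
          have hc : Commute (π z) (π m) := by
            have h : π (z * m * z⁻¹ * m⁻¹) = 1 :=
              (QuotientGroup.eq_one_iff _).2 (CfsgLib.Invol.zStar hiso m)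
            rw [map_mul, map_mul, map_mul, map_inv, map_inv, mul_inv_eq_one,
              mul_inv_eq_iff_eq_mul] at h
            exact h
          refine (QuotientGroup.eq_one_iff _).1 ?_
          show π (m⁻¹ * (z ^ j * m * (z ^ j)⁻¹)) = 1
          rw [map_mul, map_mul, map_mul, map_inv, map_inv, map_zpow, (hc.zpow_left j).eq]
          group)
    refine ⟨d, hd, N.mul_mem hm hd.2, ?_⟩
    have h2 := CfsgLib.Solvable.inf_normalizer_le_centralizer (A := zpowers z) (K := N)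
      le_normalizer_of_normal hzN ⟨N.mul_mem hm hd.2, h⟩
    exact mem_centralizer_iff.1 h2 z (mem_zpowers z)
  have hMH : H ≤ normalizer (O1 : Set G) := by
    have h := le_normalizer_map (H := D1) H.subtype
    rw [normalizer_eq_top_iff.2 hD1n, ← MonoidHom.range_eq_map, range_subtype] at h
    exact h
  have hsupn : (M ⊔ O1).Normal := by
    refine normalizer_eq_top_iff.1 (eq_top_iff.2 ?_)
    have hH' : H ≤ normalizer ((M ⊔ O1 : Subgroup G) : Set G) := fun x hx =>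
      mem_normalizer_iff_map_conj_eq.2 (by
        rw [Subgroup.map_sup, mem_normalizer_iff_map_conj_eq.1 (hMH hx),
          mem_normalizer_iff_map_conj_eq.1 ((normalizer_eq_top_iff (H := M)).2 inferInstance ▸ mem_top x)])
    rw [← hG]
    refine sup_le (hQH.trans hH') fun m hm => ?_
    obtain ⟨d, hd, -, hdc⟩ := hdec m hm
    have : m = m * d * d⁻¹ := by group
    rw [this]
    exact mul_mem (hH' (memH.2 hdc)) (le_normalizer (mem_sup_left (M.inv_mem hd)))
  refine ⟨M ⊔ O1, hsupn, sup_le inf_le_right ?_, ?_, fun m hm q hq => ?_⟩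
  · rintro _ ⟨x, hx, rfl⟩
    exact hD1N hx
  · have := CfsgLib.Solvable.card_sup_dvd_mul M O1
    exact (hMo.mul hO1o).of_dvd_nat this
  · obtain ⟨d, hd, hmdN, hdc⟩ := hdec m hm
    have e : m * q * m⁻¹ * q⁻¹ =
        (m * d) * (d⁻¹ * (q * d * q⁻¹)) * (m * d)⁻¹ * ((m * d) * q * (m * d)⁻¹ * q⁻¹) := by group
    rw [e]
    exact mul_mem (mem_sup_left (Normal.conj_mem inferInstance _
      (M.mul_mem (M.inv_mem hd) (Normal.conj_mem inferInstance d hd q)) _))
      (mem_sup_right (hO1H _ hmdN hdc q hq))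

theorem odd_card_commutator {G : Type u} [Group G] [Finite G] (N Q : Subgroup G) [N.Normal]
    (hG : Q ⊔ N = ⊤) (hQ : IsPGroup 2 Q) (hdisj : Q ⊓ N = ⊥) (t : G)
    (htZ : t ∈ Q ⊓ centralizer (Q : Set G)) (htQ : t ∈ ⁅Q, Q⁆)
    (hC : N ⊓ centralizer (Q : Set G) = N ⊓ centralizer ({t} : Set G)) :
    Odd (Nat.card ↥⁅N, Q⁆) := by
  obtain ⟨D, -, -, hDo, hD⟩ := exists_odd_normal _ G rfl N Q hG hQ hdisj t htZ.1
    (fun q hq => (mem_centralizer_iff.1 htZ.2 q hq).symm) htQ (fun m hm h q hq => by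
      have : m ∈ N ⊓ centralizer (Q : Set G) :=
        hC ▸ ⟨hm, mem_centralizer_singleton_iff.2 h.symm.eq⟩
      exact (mem_centralizer_iff.1 this.2 q hq).symm)
  exact hDo.of_dvd_nat (card_dvd_of_le (commutator_le.2 fun m hm q hq => by
    rw [commutatorElement_def]
    exact hD m hm q hq))

end CfsgLib.TwoFusion.CentralFactor
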