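import Cfsg.Agent.Lib.TwoFusion.Isolated
import Cfsg.Agent.Lib.Solvable.Core
import Mathlib.GroupTheory.Perm.Cycle.Type

/-!
An isolated involution that is central modulo the odd core normalizes a Sylow subgroup containing
any given invariant `p`-subgroup which is maximal such.
-/

set_option autoImplicit false

namespace CfsgLib.TwoFusion

universe u

/-- The conclusion of the Z* theorem, for all finite groups of one universe. -/
def ZStarAll : Prop :=
  ∀ (G : Type u) [Group G] [Finite G] (x : G), Cfsg.IsIsolatedInvolution x →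
    ∀ g : G, x * g * x⁻¹ * g⁻¹ ∈ Cfsg.pPrimeCore 2 G

variable {G : Type u} [Group G] [Finite G]

/-- An involution normalizing a subgroup of odd order normalizes one of its Sylow subgroups. -/
theorem exists_invariant_sylow {p : ℕ} [Fact p.Prime] {z : G} (hz : z * z = 1) (M : Subgroup G)
    (hM : Odd (Nat.card M)) (hzM : z ∈ Subgroup.normalizer (M : Set G)) :
    ∃ R : Sylow p M, z ∈ Subgroup.normalizer (((R : Subgroup M).map M.subtype : Subgroup G) : Set G) := by
  classical
  haveI : Fact (Nat.Prime 2) := ⟨Nat.prime_two⟩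
  haveI : Fintype (Sylow p M) := Fintype.ofFinite _
  set φ : MulAut M := M.normalizerMonoidHom ⟨z, hzM⟩ with hφ
  have hφ2 : φ * φ = 1 := by
    rw [hφ, ← map_mul, show (⟨z, hzM⟩ * ⟨z, hzM⟩ : Subgroup.normalizer (M : Set G)) = 1 from
      Subtype.ext hz, map_one]
  let σ : Equiv.Perm (Sylow p M) := MulAction.toPerm φ
  have hσ : σ ^ 2 ^ 1 = 1 := by
    ext R : 1
    rw [pow_one, pow_two, Equiv.Perm.mul_apply, Equiv.Perm.one_apply]
    show φ • φ • R = R
    rw [← mul_smul, hφ2, one_smul]
  have hodd : ¬ 2 ∣ Fintype.card (Sylow p M) := by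
    rw [← Nat.card_eq_fintype_card]
    intro h
    have hdvd : Nat.card (Sylow p M) ∣ Nat.card M :=
      (Sylow.card_dvd_index default).trans (Subgroup.index_dvd_card _)
    exact (Nat.not_even_iff_odd.mpr hM) (even_iff_two_dvd.mpr (h.trans hdvd))
  obtain ⟨R, hR⟩ := Equiv.Perm.exists_fixed_point_of_prime hodd hσ
  refine ⟨R, ?_⟩
  have hR' : φ • R = R := hR
  have key : ∀ r ∈ (R : Subgroup M), φ r ∈ (R : Subgroup M) := fun r hr => by
    rw [← hR', Sylow.pointwise_smul_def]
    exact Subgroup.smul_mem_pointwise_smul r φ _ hr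
  have key' : ∀ x ∈ (R : Subgroup M).map M.subtype, z * x * z⁻¹ ∈ (R : Subgroup M).map M.subtype := by
    rintro _ ⟨r, hr, rfl⟩
    exact ⟨φ r, key r hr, rfl⟩
  rw [Subgroup.mem_normalizer_iff]
  refine fun x => ⟨key' x, fun hx => ?_⟩
  have h := key' _ hx
  rw [show z * (z * x * z⁻¹) * z⁻¹ = (z * z) * x * (z * z)⁻¹ by group, hz, one_mul, inv_one, mul_one] at h
  exact h

theorem isIsolatedInvolution_subgroup {H : Subgroup G} {z : H}
    (hz : Cfsg.IsIsolatedInvolution (z : G)) : Cfsg.IsIsolatedInvolution z :=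
  ⟨by rw [← Subgroup.orderOf_coe]; exact hz.1, fun g hg => Subtype.ext (hz.2 g
    (congrArg Subtype.val (hg : z * (g * z * g⁻¹) = (g * z * g⁻¹) * z)))⟩

/-- Maximal invariant `p`-subgroups under an isolated involution are Sylow subgroups. -/
theorem isolated_invariant_sylow (hZ : ZStarAll.{u}) (z : G) (hz : Cfsg.IsIsolatedInvolution z)
    {p : ℕ} [hp : Fact p.Prime] (Q : Subgroup G) (hQ : IsPGroup p Q)
    (hzQ : z ∈ Subgroup.normalizer (Q : Set G))
    (hmax : ∀ R : Subgroup G, IsPGroup p R → z ∈ Subgroup.normalizer (R : Set G) → Q ≤ R → R = Q) :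
    ∃ P : Sylow p G, (P : Subgroup G) = Q := by
  haveI h2 : Fact (Nat.Prime 2) := ⟨Nat.prime_two⟩
  rcases hp.out.eq_two_or_odd' with rfl | hpodd
  · have hzp : IsPGroup 2 (Subgroup.zpowers z) :=
      IsPGroup.of_card (n := 1) (by rw [Nat.card_zpowers, hz.1, pow_one])
    have hle : Subgroup.zpowers z ≤ Subgroup.normalizer (Q : Set G) := Subgroup.zpowers_le.mpr hzQ
    have hsup := hzp.to_sup_of_normal_right' hQ hle
    obtain ⟨P, hP⟩ := hsup.exists_le_sylow
    have hzP : z ∈ (P : Subgroup G) := hP (Subgroup.mem_sup_left (Subgroup.mem_zpowers z))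
    exact ⟨P, hmax _ P.isPGroup' (Subgroup.le_normalizer hzP) (le_sup_right.trans hP)⟩
  · set N := Subgroup.normalizer (Q : Set G) with hN
    set Q' := Q.subgroupOf N with hQ'
    have hQ'p : IsPGroup p Q' := hQ.of_equiv (Subgroup.subgroupOfEquivOfLe Subgroup.le_normalizer).symm
    haveI hQ'n : Q'.Normal := Subgroup.normal_in_normalizer
    obtain ⟨P₁, hP₁⟩ := hQ'p.exists_le_sylow
    set O := Cfsg.pPrimeCore 2 N with hO
    haveI hOn : O.Normal := CfsgLib.Solvable.pPrimeCore_normal 2 N
    set z' : N := ⟨z, hzQ⟩ with hz'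
    have hiso := hZ N z' (isIsolatedInvolution_subgroup hz)
    set M := O ⊔ (P₁ : Subgroup N) with hM
    have hzM : z' ∈ Subgroup.normalizer (M : Set N) := by
      have key : ∀ x ∈ M, z' * x * z'⁻¹ ∈ M := fun x hx => by
        have h := mul_mem (Subgroup.mem_sup_left (hiso x) : z' * x * z'⁻¹ * x⁻¹ ∈ M) hx
        rwa [inv_mul_cancel_right] at h
      rw [Subgroup.mem_normalizer_iff]
      refine fun x => ⟨key x, fun hx => ?_⟩
      have h := key _ hx
      have hzz : z' * z' = 1 := Subtype.ext (by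
        show z * z = 1
        rw [← pow_two, ← hz.1]; exact pow_orderOf_eq_one z)
      rw [show z' * (z' * x * z'⁻¹) * z'⁻¹ = (z' * z') * x * (z' * z')⁻¹ by group, hzz, one_mul,
        inv_one, mul_one] at h
      exact h
    have hModd : Odd (Nat.card M) := by
      have h1 : O.relIndex M ∣ Nat.card (P₁ : Subgroup N) := by
        rw [hM, Subgroup.relIndex_sup_left]
        exact Subgroup.relIndex_dvd_card ..
      have h2 : Odd (Nat.card (P₁ : Subgroup N)) := by
        obtain ⟨k, hk⟩ := IsPGroup.iff_card.mp P₁.isPGroup'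
        rw [hk]; exact hpodd.pow
      have h3 : Odd (Nat.card O) :=
        Nat.coprime_two_right.mp (CfsgLib.Solvable.pPrimeCore_card_coprime 2 N)
      rw [← Subgroup.card_mul_index (O.subgroupOf M), Nat.card_congr
        (Subgroup.subgroupOfEquivOfLe (le_sup_left : O ≤ M)).toEquiv]
      exact h3.mul (h2.of_dvd_nat h1)
    obtain ⟨R, hR⟩ := exists_invariant_sylow (p := p) (z := z')
      (Subtype.ext (by show z * z = 1; rw [← pow_two, ← hz.1]; exact pow_orderOf_eq_one z)) M hModd hzM
    set R₁ := (R : Subgroup M).map M.subtype with hR₁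
    have hR₁p : IsPGroup p R₁ := R.isPGroup'.map _
    have hcard : Nat.card (P₁ : Subgroup N) ≤ Nat.card R₁ := by
      have hle : (P₁ : Subgroup N) ≤ M := le_sup_right
      have hP' : IsPGroup p ((P₁ : Subgroup N).subgroupOf M) :=
        P₁.isPGroup'.of_equiv (Subgroup.subgroupOfEquivOfLe hle).symm
      obtain ⟨T, hT⟩ := hP'.exists_le_sylow
      rw [← Nat.card_congr (Subgroup.subgroupOfEquivOfLe hle).toEquiv, hR₁,
        Subgroup.card_map_of_injective M.subtype_injective, Nat.card_congr (R.equiv T).toEquiv]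
      exact Subgroup.card_le_of_le hT
    obtain ⟨T₁, hT₁⟩ := hR₁p.exists_le_sylow
    have hRT : R₁ = (T₁ : Subgroup N) := Subgroup.eq_of_le_of_card_ge hT₁ (by
      rw [Nat.card_congr (T₁.equiv P₁).toEquiv]; exact hcard)
    have hQR : Q' ≤ R₁ := by
      rw [hRT]
      obtain ⟨g, hg⟩ := MulAction.exists_smul_eq N P₁ T₁
      rw [← hg, Sylow.coe_subgroup_smul]
      intro x hx
      rw [Subgroup.mem_pointwise_smul_iff_inv_smul_mem]
      refine hP₁ ?_
      show (MulAut.conj g)⁻¹ x ∈ Q'
      rw [MulAut.conj_inv_apply]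
      have := hQ'n.conj_mem x hx g⁻¹
      rwa [inv_inv] at this
    have hQRG : Q ≤ R₁.map N.subtype := fun q hq =>
      ⟨⟨q, Subgroup.le_normalizer hq⟩, hQR (show _ ∈ Q' from hq), rfl⟩
    have hzR : z ∈ Subgroup.normalizer ((R₁.map N.subtype : Subgroup G) : Set G) :=
      Subgroup.le_normalizer_map N.subtype ⟨z', hR, rfl⟩
    have heq := hmax _ (hR₁p.map _) hzR hQRG
    have hP₁Q : (P₁ : Subgroup N) = Q' := (Subgroup.eq_of_le_of_card_ge hP₁ (by
      rw [Nat.card_congr (Subgroup.subgroupOfEquivOfLe (Subgroup.le_normalizer : Q ≤ N)).toEquiv,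
        Nat.card_congr (P₁.equiv T₁).toEquiv, ← hRT, ← heq,
        Subgroup.card_map_of_injective N.subtype_injective])).symm
    obtain ⟨P, hQP⟩ := hQ.exists_le_sylow
    refine ⟨P, le_antisymm ?_ hQP⟩
    by_contra hne
    -- the normalizer grows inside `P`
    have hnil : Group.IsNilpotent (P : Subgroup G) := P.isPGroup'.isNilpotent
    have hlt : Q.subgroupOf P < ⊤ := lt_top_iff_ne_top.mpr fun h => hne (Subgroup.subgroupOf_eq_top.mp h)
    have hgrow := Group.normalizerCondition_of_isNilpotent (Q.subgroupOf (P : Subgroup G)) hlt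
    obtain ⟨x, hxn, hxQ⟩ := SetLike.exists_of_lt hgrow
    apply hxQ
    have hxN : (x : G) ∈ N := by
      rw [hN, Subgroup.mem_normalizer_iff]
      rw [Subgroup.mem_normalizer_iff] at hxn
      intro q
      constructor
      · intro hq; exact (hxn ⟨q, hQP hq⟩).mp hq
      · intro hq
        have hqP : q ∈ (P : Subgroup G) := by
          have h1 := mul_mem (mul_mem (inv_mem x.2) (hQP hq)) x.2
          rwa [show (x : G)⁻¹ * ((x : G) * q * (x : G)⁻¹) * x = q by group] at h1
        exact (hxn ⟨q, hqP⟩).mpr hq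
    have hple : IsPGroup p (((P : Subgroup G) ⊓ N).subgroupOf N) :=
      (P.isPGroup'.to_le inf_le_left).of_equiv (Subgroup.subgroupOfEquivOfLe inf_le_right).symm
    have hle : Q' ≤ ((P : Subgroup G) ⊓ N).subgroupOf N := fun q hq => ⟨hQP hq, q.2⟩
    have := P₁.is_maximal' hple (hP₁Q.le.trans hle)
    have hx' : (⟨x, hxN⟩ : N) ∈ ((P : Subgroup G) ⊓ N).subgroupOf N := ⟨x.2, hxN⟩
    rw [this, hP₁Q] at hx'
    exact hx'

end CfsgLib.TwoFusion
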