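import Mathlib.GroupTheory.Transfer
import Mathlib.GroupTheory.Sylow
import Mathlib.GroupTheory.Abelianization.Defs
import Mathlib.GroupTheory.Nilpotent
import Cfsg.Agent.Lib.TwoFusion.Isolated

/-!
Transfer from the centralizer of an isolated involution.
-/

set_option autoImplicit false

namespace CfsgLib.TwoFusion.Isolated

open Cfsg MulAction Subgroup

variable {G : Type*} [Group G] [Finite G] {z : G}

theorem odd_index_centralizer (hz : IsIsolatedInvolution z) :
    Odd (Subgroup.centralizer ({z} : Set G)).index := by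
  have h2 : IsPGroup 2 (Subgroup.zpowers z) :=
    IsPGroup.of_card (n := 1) (by rw [Nat.card_zpowers, hz.1, pow_one])
  obtain ⟨S, hS⟩ := h2.exists_le_sylow
  have hzS : z ∈ S := hS (Subgroup.mem_zpowers z)
  have hle : (S : Subgroup G) ≤ Subgroup.centralizer ({z} : Set G) := fun x hx =>
    Subgroup.mem_centralizer_singleton_iff.mpr (commute_of_mem_two_group hz S.isPGroup' hzS hx)
  exact Odd.of_dvd_nat (Nat.not_even_iff_odd.mp fun h => S.not_dvd_index h.two_dvd)
    (Subgroup.index_dvd_of_le hle)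

/-- The transfer to an abelian group of a character of `C(z)` restricts to the power by the index. -/
theorem transfer_restrict (hz : IsIsolatedInvolution z) {A : Type*} [CommGroup A]
    (φ : Subgroup.centralizer ({z} : Set G) →* A) (c : Subgroup.centralizer ({z} : Set G)) :
    φ.transfer (c : G) = φ c ^ (Subgroup.centralizer ({z} : Set G)).index := by
  classical
  let C := Subgroup.centralizer ({z} : Set G)
  haveI : Fintype (G ⧸ C) := Fintype.ofFinite _
  have key : ∀ (k : ℕ) (g₀ : G) (h : g₀⁻¹ * (c : G) ^ k * g₀ ∈ C),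
      φ ⟨g₀⁻¹ * (c : G) ^ k * g₀, h⟩ = φ c ^ k := by
    intro k g₀ h
    have hck : ((c : G) ^ k) ∈ C := C.pow_mem c.2 k
    obtain ⟨d, -, hdz, hd⟩ := fusion_in_centralizer hz (H := ⊤) (Subgroup.mem_normalizer_iff.mpr fun _ => by simp)
      (Subgroup.mem_centralizer_singleton_iff.mp hck) (Subgroup.mem_centralizer_singleton_iff.mp h)
      (Subgroup.mem_top g₀⁻¹) (by rw [inv_inv])
    have hdC : d ∈ C := Subgroup.mem_centralizer_singleton_iff.mpr hdz
    have e : (⟨g₀⁻¹ * (c : G) ^ k * g₀, h⟩ : C) = ⟨d, hdC⟩ * c ^ k * (⟨d, hdC⟩ : C)⁻¹ := by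
      ext; simpa using hd.symm
    rw [e, map_mul, map_mul, map_inv, map_pow, mul_inv_cancel_comm]
  haveI : Fintype (Quotient (MulAction.orbitRel (Subgroup.zpowers (c : G)) (G ⧸ C))) :=
    Fintype.ofFinite _
  rw [MonoidHom.transfer_eq_prod_quotient_orbitRel_zpowers_quot,
    Subgroup.index_eq_sum_minimalPeriod _ (c : G), ← Finset.prod_pow_eq_pow_sum]
  exact Finset.prod_congr rfl fun q _ => key _ _ _

end CfsgLib.TwoFusion.Isolated
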