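import Cfsg.Agent.Lib.TwoFusion.OddAut
import Cfsg.Agent.Lib.TwoFusion.DihedralIso
import Cfsg.Agent.Lib.PGroup.Basic
import Cfsg.Agent.Lib.TwoGroupAct.FrattiniBound
import Cfsg.Agent.Lib.Solvable.CoprimeMulAction
import Cfsg.Prelude.Def_OddOrderLocal
import Mathlib.GroupTheory.Abelianization.Defs

/-!
Metacyclic 2-groups with an automorphism of odd order.
-/

set_option autoImplicit false

namespace CfsgLib.TwoFusion.MetacyclicAut

open Subgroup
open scoped commutatorElement

variable {X : Type*} [Group X]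

theorem mul_pow_class_two {x y : X} (hc : ∀ g : X, g * (y * x * y⁻¹ * x⁻¹) = y * x * y⁻¹ * x⁻¹ * g)
    (k : ℕ) : (x * y) ^ k = (y * x * y⁻¹ * x⁻¹) ^ k.choose 2 * (x ^ k * y ^ k) := by
  set c := y * x * y⁻¹ * x⁻¹ with hcdef
  have hyx : y * x = c * (x * y) := by rw [hcdef]; group
  have hpow : ∀ j : ℕ, y ^ j * x = c ^ j * (x * y ^ j) := by
    intro j
    induction j with
    | zero => simp
    | succ j ih =>
      have hyc : y * c ^ j = c ^ j * y := ((show Commute y c from hc y).pow_right j).eq
      calc y ^ (j + 1) * x = y * (y ^ j * x) := by rw [pow_succ', mul_assoc]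
        _ = y * c ^ j * (x * y ^ j) := by rw [ih, mul_assoc]
        _ = c ^ j * ((y * x) * y ^ j) := by rw [hyc]; group
        _ = _ := by rw [hyx, pow_succ, pow_succ']; simp only [mul_assoc]
  induction k with
  | zero => simp
  | succ k ih =>
    have hxc : x ^ k * c ^ k = c ^ k * x ^ k := ((show Commute (x ^ k) c from hc _).pow_right k).eq
    calc (x * y) ^ (k + 1) = c ^ k.choose 2 * (x ^ k * (y ^ k * x) * y) := by
          rw [pow_succ, ih]; simp only [mul_assoc]
      _ = c ^ k.choose 2 * (x ^ k * c ^ k * (x * (y ^ k * y))) := by rw [hpow]; simp only [mul_assoc]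
      _ = c ^ k.choose 2 * c ^ k * (x ^ (k + 1) * y ^ (k + 1)) := by
          rw [hxc, pow_succ x, pow_succ y]; simp only [mul_assoc]
      _ = _ := by
          rw [← pow_add]
          congr 2
          rw [Nat.choose_succ_succ', Nat.choose_one_right, add_comm]

variable [Finite X] (hX : IsPGroup 2 X) {φ : MulAut X} {j : ℕ} (hodd : Odd j) (hj : φ ^ j = 1)
  {n x : X} (hgen : closure {n, x} = ⊤)

include hX hodd hj hgen in
/-- The action on the Frattini quotient. -/
theorem exists_cycle (hne : φ ≠ 1) :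
    closure {n, φ n} = ⊤ ∧ n ∉ frattini X ∧ ∃ f ∈ frattini X, φ (φ n) = n * φ n * f := by
  haveI : Fact (Nat.Prime 2) := ⟨Nat.prime_two⟩
  set F := frattini X
  haveI : F.Characteristic := inferInstance
  set π := QuotientGroup.mk' F with hπ
  have hφF : ∀ g, φ g ∈ F ↔ g ∈ F := fun g => by
    conv_rhs => rw [← Subgroup.characteristic_iff_comap_eq.mp (inferInstance : F.Characteristic) φ]
    rfl
  have hsq : ∀ g : X, π g * π g = 1 := fun g => by
    rw [← map_mul, ← pow_two]
    exact (QuotientGroup.eq_one_iff _).mpr (CfsgLib.PGroup.pow_mem_frattini hX g)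
  have hcomm : ∀ g h : X, π g * π h = π h * π g := fun g h => by
    have h1 := hsq (g * h)
    rw [map_mul] at h1
    calc π g * π h = π g * π h * ((π h * π g) * (π h * π g)) := by
          rw [← map_mul π h g, hsq, mul_one]
      _ = π g * (π h * π h) * π g * (π h * π g) := by simp only [mul_assoc]
      _ = π h * π g := by rw [hsq, mul_one, hsq, one_mul]
  have h4 : ∀ g : X, π g = 1 ∨ π g = π n ∨ π g = π x ∨ π g = π n * π x := by
    have hmul : ∀ a b : X, π a * (π a * π b) = π b := fun a b => by rw [← mul_assoc, hsq, one_mul]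
    intro g
    have hg : g ∈ closure {n, x} := hgen ▸ mem_top g
    induction hg using closure_induction with
    | mem y hy =>
      rcases hy with rfl | rfl
      · exact Or.inr (Or.inl rfl)
      · exact Or.inr (Or.inr (Or.inl rfl))
    | one => exact Or.inl (map_one π)
    | inv y _ hy => rwa [map_inv, inv_eq_of_mul_eq_one_right (hsq y)]
    | mul y w _ _ hy hw =>
      have hxnx : π x * (π n * π x) = π n := by rw [hcomm n x, hmul]
      have hnxn : π n * π x * π n = π x := by rw [hcomm n x, mul_assoc, hsq, mul_one]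
      rcases hy with hy | hy | hy | hy <;> rcases hw with hw | hw | hw | hw <;>
        simp only [map_mul, hy, hw, one_mul, mul_one, hsq, hmul, hxnx, hnxn, mul_assoc, hcomm x n,
          true_or, or_true]
  have hnot : ¬ ∀ g, π (φ g) = π g := by
    intro h
    apply hne
    have hcop : (Nat.card (Subgroup.zpowers φ)).Coprime (Nat.card (frattini X)) := by
      obtain ⟨a, ha⟩ := IsPGroup.iff_card.mp (hX.to_subgroup (frattini X))
      rw [ha, Nat.card_zpowers]
      exact ((Nat.coprime_two_right.mpr
        (hodd.of_dvd_nat (orderOf_dvd_of_pow_eq_one hj)))).pow_right a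
    have key : ∀ (a : Subgroup.zpowers φ) (g : X), g⁻¹ * (a • g) ∈ frattini X := by
      rintro ⟨a, ha⟩ g
      obtain ⟨i, rfl⟩ := Subgroup.mem_zpowers_iff.mp ha
      obtain ⟨i, hi⟩ : ∃ m : ℕ, φ ^ i = φ ^ m := by
        haveI : Finite (MulAut X) := Finite.of_injective _ MulEquiv.toEquiv_injective
        obtain ⟨m, hm⟩ := (isOfFinOrder_of_finite φ).mem_powers_iff_mem_zpowers.mpr ha
        exact ⟨m, hm.symm⟩
      show g⁻¹ * (φ ^ _) g ∈ F
      rw [hi]
      have : ∀ m : ℕ, π ((φ ^ m) g) = π g := by
        intro m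
        induction m with
        | zero => rfl
        | succ m ih => rw [pow_succ', MulAut.mul_apply, h, ih]
      exact QuotientGroup.eq.mp (this i).symm
    refine MulEquiv.ext fun g => ?_
    exact CfsgLib.Solvable.smul_eq_self_of_trivial_on_frattini_quotient hcop key
      ⟨φ, mem_zpowers φ⟩ g
  -- no fixed point among the three classes
  have hgen2 : π n ≠ 1 ∧ π (φ n) ≠ π n := by
    by_contra hcon
    apply hnot
    let ψ : MulAut (X ⧸ F) := QuotientGroup.congr F F φ (Subgroup.characteristic_iff_map_eq.mp inferInstance φ)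
    have hψ : ∀ g, ψ (π g) = π (φ g) := fun g => rfl
    have hψj : ψ ^ j = 1 := by
      have : ∀ (m : ℕ) g, (ψ ^ m) (π g) = π ((φ ^ m) g) := by
        intro m
        induction m with
        | zero => intro g; rfl
        | succ m ih => intro g; rw [pow_succ', MulAut.mul_apply, ih, hψ, pow_succ', MulAut.mul_apply]
      refine MulEquiv.ext fun q => ?_
      obtain ⟨g, rfl⟩ := QuotientGroup.mk'_surjective F q
      rw [this, hj]; rfl
    have hn : π (φ n) = π n := by
      by_contra hne'
      refine hcon ⟨fun h1 => hne' ?_, hne'⟩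
      rw [h1, ← map_one π]
      exact (QuotientGroup.eq_one_iff _).mpr ((hφF n).mpr ((QuotientGroup.eq_one_iff _).mp h1)) |>.trans
        (map_one π).symm
    have hx : π (φ x) = π x := by
      rcases h4 (φ x) with h | h | h | h
      · rw [h]
        exact ((QuotientGroup.eq_one_iff x).mpr ((hφF x).mp ((QuotientGroup.eq_one_iff _).mp h))).symm
      · have h2 : ψ (π x) = ψ (π n) := by rw [hψ, hψ, h, hn]
        rw [h, ψ.injective h2]
      · exact h
      · have := OddAut.fix_step (φ := ψ) hψj hodd (g := π x) (α := π n) (by rw [hψ, h, hcomm]) (by rw [hψ, hn])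
          (e := 1) (by rw [pow_one, pow_two, hsq])
        rwa [hψ] at this
    intro g
    rcases h4 g with h | h | h | h
    · rw [h]
      exact (QuotientGroup.eq_one_iff _).mpr ((hφF g).mpr ((QuotientGroup.eq_one_iff _).mp h))
    · rw [← hψ, h, hψ, hn]
    · rw [← hψ, h, hψ, hx]
    · rw [← hψ, h, map_mul, hψ, hψ, hn, hx]
  obtain ⟨hn1, hn2⟩ := hgen2
  have hnF : n ∉ F := fun h => hn1 ((QuotientGroup.eq_one_iff n).mpr h)
  have hφn1 : π (φ n) ≠ 1 := fun h => hnF ((hφF n).mp ((QuotientGroup.eq_one_iff _).mp h))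
  have hspan : ∀ g : X, π g = 1 ∨ π g = π n ∨ π g = π (φ n) ∨ π g = π n * π (φ n) := by
    intro g
    rcases h4 (φ n) with h | h | h | h
    · exact absurd h hφn1
    · exact absurd h hn2
    · rcases h4 g with h' | h' | h' | h' <;> rw [h'] <;> simp only [h, true_or, or_true]
    · have hmul : π n * (π n * π x) = π x := by rw [← mul_assoc, hsq, one_mul]
      rcases h4 g with h' | h' | h' | h' <;> rw [h'] <;> simp only [h, hmul, true_or, or_true]
  refine ⟨?_, hnF, ?_⟩
  · refine frattini_nongenerating ?_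
    rw [eq_top_iff]
    intro g _
    have key : ∀ y ∈ closure {n, φ n}, π g = π y → g ∈ closure {n, φ n} ⊔ frattini X := fun y hy h => by
      have h2 : y⁻¹ * g ∈ F := QuotientGroup.eq.mp h.symm
      rw [← mul_inv_cancel_left y g]
      exact mul_mem (mem_sup_left hy) (mem_sup_right h2)
    have h1 : n ∈ closure {n, φ n} := subset_closure (Or.inl rfl)
    have h2 : φ n ∈ closure {n, φ n} := subset_closure (Or.inr rfl)
    rcases hspan g with h | h | h | h
    · exact key 1 (one_mem _) (h.trans (map_one π).symm)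
    · exact key n h1 h
    · exact key (φ n) h2 h
    · exact key (n * φ n) (mul_mem h1 h2) (h.trans (map_mul π _ _).symm)
  · refine ⟨(n * φ n)⁻¹ * φ (φ n), QuotientGroup.eq.mp ?_, (mul_inv_cancel_left _ _).symm⟩
    show π (n * φ n) = π (φ (φ n))
    rw [map_mul]
    rcases hspan (φ (φ n)) with h | h | h | h
    · exact absurd ((hφF _).mp ((QuotientGroup.eq_one_iff _).mp h)) (fun h' => hnF ((hφF n).mp h'))
    · -- order two would force a fixed point
      exfalso
      let ψ : MulAut (X ⧸ F) := QuotientGroup.congr F F φ (Subgroup.characteristic_iff_map_eq.mp inferInstance φ)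
      have hψ : ∀ g, ψ (π g) = π (φ g) := fun g => rfl
      have hev : ∀ m : ℕ, (ψ ^ (2 * m + 1)) (π n) = π (φ n) := by
        intro m
        induction m with
        | zero => rw [mul_zero, zero_add, pow_one, hψ]
        | succ m ih =>
          rw [show 2 * (m + 1) + 1 = (2 * m + 1).succ.succ by omega, pow_succ', pow_succ',
            MulAut.mul_apply, MulAut.mul_apply, ih, hψ, h, hψ]
      obtain ⟨m, rfl⟩ := hodd
      have hψj : ∀ (m : ℕ) g, (ψ ^ m) (π g) = π ((φ ^ m) g) := by
        intro m
        induction m with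
        | zero => intro g; rfl
        | succ m ih => intro g; rw [pow_succ', MulAut.mul_apply, ih, hψ, pow_succ', MulAut.mul_apply]
      have := hev m
      rw [hψj, hj] at this
      exact hn2 this.symm
    · exfalso
      have h' : φ (n⁻¹ * φ n) ∈ F := by
        rw [map_mul, map_inv]; exact QuotientGroup.eq.mp h.symm
      exact hn2 (QuotientGroup.eq.mpr ((hφF _).mp h')).symm
    · exact h.symm

omit [Finite X] in
/-- An invariant homomorphism to a commutative group is trivial. -/
theorem invariant_hom_trivial [Finite X] (hX : IsPGroup 2 X) (hgen' : closure {n, φ n} = ⊤)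
    {f : X} (hf : f ∈ frattini X) (hcyc : φ (φ n) = n * φ n * f)
    {A : Type*} [Group A] (h : X →* A) (hA : ∀ a b, h a * h b = h b * h a) (hinv : ∀ g, h (φ g) = h g) :
    ∀ g, h g = 1 := by
  haveI : Fact (Nat.Prime 2) := ⟨Nat.prime_two⟩
  have hrange : ∀ g, h g ∈ zpowers (h n) := by
    have hle : closure {n, φ n} ≤ (zpowers (h n)).comap h := by
      rw [closure_le]
      rintro y (rfl | rfl)
      · exact mem_zpowers _
      · show h (φ n) ∈ zpowers (h n)
        rw [hinv]; exact mem_zpowers _
    intro g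
    exact hle (hgen' ▸ mem_top g)
  haveI hN : ((zpowers (h n ^ (2 : ℕ))).comap h).Normal := ⟨fun g hg w => by
    show h (w * g * w⁻¹) ∈ zpowers (h n ^ (2 : ℕ))
    rw [map_mul, map_mul, hA, map_inv, mul_inv_cancel_right]
    exact hg⟩
  have hfN : f ∈ (zpowers (h n ^ (2 : ℕ))).comap h := by
    refine CfsgLib.PGroup.frattini_le_of_elementary (p := 2) ?_ ?_ hf
    · intro a b
      show h ⁅a, b⁆ ∈ zpowers (h n ^ (2 : ℕ))
      rw [commutatorElement_def, map_mul, map_mul, map_mul, hA a b, map_inv, map_inv, mul_inv_cancel_right,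
        mul_inv_cancel]
      exact one_mem _
    · intro a
      obtain ⟨i, hi⟩ := mem_zpowers_iff.mp (hrange a)
      refine ⟨i, ?_⟩
      show (h n ^ (2 : ℕ)) ^ i = h (a ^ 2)
      rw [map_pow, ← hi, ← zpow_natCast (h n), ← zpow_mul, mul_comm, zpow_mul, zpow_natCast]
  obtain ⟨i, hi⟩ := mem_zpowers_iff.mp hfN
  have h1 : h n = h n * h n * h f := by
    conv_lhs => rw [← hinv n, ← hinv (φ n), hcyc]
    rw [map_mul, map_mul, hinv]
  have h2 : h n ^ (1 + 2 * i) = 1 := by
    have h3 : h n * h f = 1 := by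
      rw [mul_assoc] at h1
      exact mul_eq_left.mp h1.symm
    rw [zpow_add, zpow_one, zpow_mul, zpow_ofNat]
    rw [← hi] at h3
    exact h3
  obtain ⟨e, he⟩ := hX n
  have hdvd : (orderOf (h n) : ℤ) ∣ 1 + 2 * i := orderOf_dvd_iff_zpow_eq_one.mpr h2
  obtain ⟨d, -, hd⟩ := (Nat.dvd_prime_pow Nat.prime_two).mp
    (orderOf_dvd_of_pow_eq_one (by rw [← map_pow, he, map_one]) : orderOf (h n) ∣ 2 ^ e)
  have hn1 : h n = 1 := by
    rcases Nat.eq_zero_or_pos d with rfl | hd'
    · rw [← orderOf_eq_one_iff, hd, pow_zero]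
    · exfalso
      have : (2 : ℤ) ∣ 1 + 2 * i :=
        (Int.natCast_dvd_natCast.mpr (hd ▸ dvd_pow_self 2 hd'.ne' : 2 ∣ orderOf (h n))).trans hdvd
      omega
  intro g
  have := hrange g
  rwa [hn1, zpowers_one_eq_bot, mem_bot] at this

end CfsgLib.TwoFusion.MetacyclicAut
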