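import Cfsg.Agent.Lib.TwoFusion.InvariantSylow
import Cfsg.Agent.Lib.Invol.GlaubermanZStar

/-!
Involution classes in which all products have `p`-power order, `p` odd.
-/

set_option autoImplicit false

namespace CfsgLib.TwoFusion

variable {G : Type*} [Group G] [Finite G]

theorem isIsolated_of_power_products {p : ℕ} (hpodd : Odd p) {d : G} (hd : orderOf d = 2)
    (hprod : ∀ a ∈ conjugatesOf d, ∀ b ∈ conjugatesOf d, ∃ k : ℕ, orderOf (a * b) = p ^ k) :
    Cfsg.IsIsolatedInvolution d := by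
  refine ⟨hd, fun g hg => ?_⟩
  have hdd := mul_self_of_orderOf_eq_two hd
  obtain ⟨k, hk⟩ := hprod d (mem_conjugatesOf_self) (g * d * g⁻¹) (isConj_iff.mpr ⟨g, rfl⟩)
  have h2 : (d * (g * d * g⁻¹)) ^ 2 = 1 := by
    rw [hg.mul_pow, pow_two, pow_two, hdd, one_mul,
      show g * d * g⁻¹ * (g * d * g⁻¹) = g * (d * d) * g⁻¹ by group, hdd]
    group
  have h3 : orderOf (d * (g * d * g⁻¹)) = 1 :=
    Nat.eq_one_of_dvd_coprimes ((Nat.coprime_two_left.mpr (hpodd.pow (n := k)))) (orderOf_dvd_of_pow_eq_one h2)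
      (hk ▸ dvd_rfl)
  rw [orderOf_eq_one_iff] at h3
  exact (mul_eq_one_iff_inv_eq.mp h3).symm.trans (inv_eq_self_of_orderOf_eq_two hd)

/-- Products of two members of such a class lie in the `p`-core. -/
theorem mul_mem_pCore_of_power_products {p : ℕ} [hp : Fact p.Prime] (hpodd : Odd p) {d : G}
    (hd : orderOf d = 2)
    (hprod : ∀ a ∈ conjugatesOf d, ∀ b ∈ conjugatesOf d, ∃ k : ℕ, orderOf (a * b) = p ^ k) :
    ∀ a ∈ conjugatesOf d, ∀ b ∈ conjugatesOf d, a * b ∈ Cfsg.pCore p G := by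
  have hiso := isIsolated_of_power_products hpodd hd hprod
  have hdd := mul_self_of_orderOf_eq_two hd
  have hdi := inv_eq_self_of_orderOf_eq_two hd
  set O := Cfsg.pPrimeCore 2 G with hO
  haveI hOn : O.Normal := CfsgLib.Solvable.pPrimeCore_normal 2 G
  have hOodd : Odd (Nat.card O) :=
    Nat.coprime_two_right.mp (CfsgLib.Solvable.pPrimeCore_card_coprime 2 G)
  have hdO : d ∈ Subgroup.normalizer (O : Set G) := by
    rw [Subgroup.normalizer_eq_top]; exact Subgroup.mem_top d
  have hkO : ∀ g : G, g * d * g⁻¹ * d ∈ O := by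
    intro g
    have h := inv_mem (CfsgLib.Invol.zStar hiso g)
    rw [show (d * g * d⁻¹ * g⁻¹)⁻¹ = g * d * g⁻¹ * d⁻¹ by group, hdi] at h
    exact h
  set C := O ⊓ Subgroup.centralizer ({d} : Set G) with hC
  set C' := C.subgroupOf O with hC'
  -- Sylow subgroups for primes other than `p` centralise `d`
  have hother : ∀ r : ℕ, r.Prime → r ≠ p → ¬ r ∣ C'.index := by
    intro r hr hrp
    haveI : Fact r.Prime := ⟨hr⟩
    obtain ⟨R, hR⟩ := exists_invariant_sylow (p := r) hdd O hOodd hdO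
    intro hdvd
    refine R.not_dvd_index (hdvd.trans (Subgroup.index_dvd_of_le fun x hx => ?_))
    refine ⟨x.2, Subgroup.mem_centralizer_singleton_iff.mpr ?_⟩
    have hxR : (x : G) ∈ (R : Subgroup O).map O.subtype := ⟨x, hx, rfl⟩
    have h1 : d * (x : G) * d⁻¹ * (x : G)⁻¹ ∈ (R : Subgroup O).map O.subtype :=
      mul_mem ((Subgroup.mem_normalizer_iff.mp hR _).mp hxR) (inv_mem hxR)
    obtain ⟨e, he⟩ := IsPGroup.iff_orderOf.mp (R.isPGroup'.map O.subtype) ⟨_, h1⟩
    obtain ⟨k, hk⟩ := hprod d mem_conjugatesOf_self ((x : G) * d * (x : G)⁻¹) (isConj_iff.mpr ⟨(x : G), rfl⟩)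
    rw [show d * ((x : G) * d * (x : G)⁻¹) = d * (x : G) * d⁻¹ * (x : G)⁻¹ by rw [hdi]; group] at hk
    rw [← Subgroup.orderOf_coe] at he
    have h2 : orderOf (d * (x : G) * d⁻¹ * (x : G)⁻¹) = 1 :=
      Nat.eq_one_of_dvd_coprimes (((Nat.coprime_primes hr hp.out).mpr hrp).pow e k)
        (dvd_of_eq he) (dvd_of_eq hk)
    rw [orderOf_eq_one_iff, mul_inv_eq_one, mul_inv_eq_iff_eq_mul] at h2
    exact h2.symm
  obtain ⟨Pp, hPp⟩ := exists_invariant_sylow (p := p) hdd O hOodd hdO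
  obtain ⟨a, ha⟩ : ∃ a : ℕ, C'.index = p ^ a := by
    refine ⟨_, Nat.eq_prime_pow_of_unique_prime_dvd Subgroup.FiniteIndex.index_ne_zero ?_⟩
    intro r hr hdvd
    by_contra h
    exact hother r hr h hdvd
  -- `O = P C`
  have hcover : ∀ u : O, ∃ x ∈ (Pp : Subgroup O), x⁻¹ * u ∈ C' := by
    let f : ↥(Pp : Subgroup O) ⧸ C'.subgroupOf (Pp : Subgroup O) → O ⧸ C' :=
      fun q => Quotient.liftOn' q (fun x => QuotientGroup.mk (x : O)) (fun x y h => by
        rw [QuotientGroup.leftRel_apply] at h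
        exact QuotientGroup.eq.mpr h)
    have hinj : Function.Injective f := by
      intro q q' h
      induction q using QuotientGroup.induction_on with | _ x =>
      induction q' using QuotientGroup.induction_on with | _ y =>
      exact QuotientGroup.eq.mpr (QuotientGroup.eq.mp h :)
    have hcard : Nat.card (O ⧸ C') ≤ Nat.card (↥(Pp : Subgroup O) ⧸ C'.subgroupOf (Pp : Subgroup O)) := by
      show C'.index ≤ C'.relIndex (Pp : Subgroup O)
      obtain ⟨i, -, hi⟩ := (Nat.dvd_prime_pow hp.out).mp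
        ((Pp.card_eq_multiplicity ▸ Subgroup.relIndex_dvd_card (H := C') (K := (Pp : Subgroup O))) :
          C'.relIndex (Pp : Subgroup O) ∣ p ^ (Nat.card O).factorization p)
      -- compare `p`-parts
      have h1 := Subgroup.card_mul_index C'
      have h2 : Nat.card (C'.subgroupOf (Pp : Subgroup O)) * C'.relIndex (Pp : Subgroup O) =
          Nat.card (Pp : Subgroup O) := Subgroup.card_mul_index _
      have h3 : Nat.card (C'.subgroupOf (Pp : Subgroup O)) ∣ Nat.card C' := by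
        rw [← Subgroup.inf_subgroupOf_right,
          Nat.card_congr (Subgroup.subgroupOfEquivOfLe (inf_le_right :
            C' ⊓ (Pp : Subgroup O) ≤ (Pp : Subgroup O))).toEquiv]
        exact Subgroup.card_dvd_of_le inf_le_left
      have h4 : Nat.card (C'.subgroupOf (Pp : Subgroup O)) * p ^ a ∣ Nat.card (Pp : Subgroup O) := by
        rw [Pp.card_eq_multiplicity]
        have h5 : Nat.card (C'.subgroupOf (Pp : Subgroup O)) * p ^ a ∣ Nat.card O := by
          rw [← h1, ha]; exact Nat.mul_dvd_mul_right h3 _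
        have h6 : Nat.card (C'.subgroupOf (Pp : Subgroup O)) ∣ p ^ (Nat.card O).factorization p := by
          rw [← Pp.card_eq_multiplicity]; exact Dvd.intro _ h2
        obtain ⟨j, -, hj⟩ := (Nat.dvd_prime_pow hp.out).mp h6
        rw [hj, ← pow_add] at h5 ⊢
        exact Nat.pow_dvd_pow p ((hp.out.pow_dvd_iff_le_factorization Nat.card_pos.ne').mp h5)
      rw [← h2] at h4
      rw [ha]
      exact Nat.le_of_dvd (Nat.pos_of_ne_zero (fun h => by rw [h, mul_zero] at h2; exact Nat.card_pos.ne h2))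
        (Nat.dvd_of_mul_dvd_mul_left Nat.card_pos h4)
    intro u
    obtain ⟨q, hq⟩ := ((Function.Injective.bijective_of_nat_card_le hinj) hcard).2 (QuotientGroup.mk u)
    induction q using QuotientGroup.induction_on with | _ x =>
    exact ⟨x, x.2, QuotientGroup.eq.mp hq⟩
  set P := (Pp : Subgroup O).map O.subtype with hP
  have hkP : ∀ g : G, g * d * g⁻¹ * d ∈ P := by
    intro g
    set k := g * d * g⁻¹ * d with hk
    have hkodd : Odd (orderOf k) :=
      hOodd.of_dvd_nat (by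
        have := orderOf_dvd_natCard (⟨k, hkO g⟩ : O)
        rwa [Subgroup.orderOf_mk] at this)
    have hki : d * k * d⁻¹ = k⁻¹ := by
      rw [hk, show (g * d * g⁻¹ * d)⁻¹ = d⁻¹ * (g * d⁻¹ * g⁻¹) by group, hdi]
      calc d * (g * d * g⁻¹ * d) * d = d * (g * d * g⁻¹) * (d * d) := by group
        _ = _ := by rw [hdd, mul_one]
    have hm : oddSqrt k * d * (oddSqrt k)⁻¹ = k * d := by
      have hm' : d * oddSqrt k * d⁻¹ = (oddSqrt k)⁻¹ := inverted_pow hki _
      rw [conj_of_inverted hm', oddSqrt_sq hkodd]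
    obtain ⟨x, hxP, hxC⟩ := hcover ⟨oddSqrt k, oddSqrt_mem (hkO g)⟩
    set c := (x : G)⁻¹ * oddSqrt k with hc
    have hcd : c * d = d * c :=
      Subgroup.mem_centralizer_singleton_iff.mp
        ((Subgroup.mem_inf.mp (Subgroup.mem_subgroupOf.mp hxC)).2)
    have hkx : k = (x : G) * (d * (x : G)⁻¹ * d⁻¹) := by
      have e : oddSqrt k = (x : G) * c := by rw [hc, mul_inv_cancel_left]
      rw [e, show (x : G) * c * d * ((x : G) * c)⁻¹ = (x : G) * (c * d * c⁻¹) * (x : G)⁻¹ by group,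
        hcd, mul_inv_cancel_right] at hm
      calc k = k * d * d⁻¹ := (mul_inv_cancel_right k d).symm
        _ = _ := by rw [← hm]; group
    rw [hkx]
    have hxP' : (x : G) ∈ P := ⟨x, hxP, rfl⟩
    exact mul_mem hxP' ((Subgroup.mem_normalizer_iff.mp hPp _).mp (inv_mem hxP'))
  set W := Subgroup.closure (Set.range fun g : G => g * d * g⁻¹ * d) with hW
  have hWp : IsPGroup p W := (Pp.isPGroup'.map O.subtype).to_le (by
    rw [hW, Subgroup.closure_le]
    rintro _ ⟨g, rfl⟩
    exact hkP g)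
  have hWn : W.Normal := by
    constructor
    intro w hw h
    have hle : W ≤ W.comap (MulAut.conj h).toMonoidHom := by
      rw [hW, Subgroup.closure_le, ← hW]
      rintro _ ⟨g, rfl⟩
      show h * (g * d * g⁻¹ * d) * h⁻¹ ∈ W
      rw [show h * (g * d * g⁻¹ * d) * h⁻¹ = (h * g * d * (h * g)⁻¹ * d) * (h * d⁻¹ * h⁻¹ * d)⁻¹ by
        group, hdi]
      exact mul_mem (Subgroup.subset_closure ⟨h * g, rfl⟩) (inv_mem (Subgroup.subset_closure ⟨h, rfl⟩))
    exact hle hw
  intro a ha b hb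
  obtain ⟨g, rfl⟩ := isConj_iff.mp ha
  obtain ⟨h, rfl⟩ := isConj_iff.mp hb
  refine CfsgLib.Solvable.le_pCore hWn hWp ?_
  rw [show g * d * g⁻¹ * (h * d * h⁻¹) = (g * d * g⁻¹ * d) * (h * d⁻¹ * h⁻¹ * d)⁻¹ by group, hdi]
  exact mul_mem (Subgroup.subset_closure ⟨g, rfl⟩) (inv_mem (Subgroup.subset_closure ⟨h, rfl⟩))

end CfsgLib.TwoFusion
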