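import Cfsg.Agent.Lib.TwoFusion.QDFusion

/-!
The local indices of the four-subgroups and quaternion subgroups in groups with quasi-dihedral
Sylow 2-subgroups, and their relation with fusion.
-/

set_option autoImplicit false

namespace CfsgLib.TwoFusion.QDFusion

open LocalAut FusionTools Subgroup

variable {G : Type*} [Group G]

theorem quotPerm_map_iff (H : Subgroup G) (n : normalizer (H : Set G)) {m m' : H}
    (hm : (m : H ⧸ center H) ≠ 1) (hm' : (m' : H ⧸ center H) ≠ 1) :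
    quotPerm H n ⟨m, hm⟩ = ⟨m', hm'⟩ ↔ (H.normalizerMonoidHom n m)⁻¹ * m' ∈ center H := by
  rw [Subtype.ext_iff, quotPerm_apply, QuotientGroup.eq]

variable [Finite G]

theorem card_ne_one {T : Subgroup G} (hT : IsKleinFour T) : Nat.card {m : T // m ≠ 1} = 3 := by
  show Set.ncard ({1}ᶜ : Set T) = 3
  rw [Set.ncard_compl, Set.ncard_singleton, hT.card_four]

variable (S : Sylow 2 G) (D : QDGens (S : Subgroup G))

abbrev kleinPerm (T : Subgroup G) :
    normalizer (T : Set G) →* Equiv.Perm {m : T // m ≠ 1} :=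
  normPerm T (fun m => m ≠ 1) (fun σ m => by simp)

theorem klein_transposition {T : Subgroup G} (hT : IsKleinFour T) (hTS : T ≤ (S : Subgroup G)) :
    ∃ (r : normalizer (T : Set G)) (c : {m : T // m ≠ 1}), ((c : T) : G) = cG D ∧
      kleinPerm T r c = c ∧ kleinPerm T r ≠ 1 ∧ kleinPerm T (r * r) = 1 ∧
      ∀ m, kleinPerm T r m = m → m = c := by
  obtain ⟨hc, hq, hfix, ⟨t, ht, htc, ht1⟩, -⟩ := klein_facts D hT hTS
  let r : normalizer (T : Set G) := ⟨qG D, hq⟩
  let c : {m : T // m ≠ 1} := ⟨⟨cG D, hc⟩, fun h => cG_ne_one D (congrArg Subtype.val h)⟩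
  have hfx : ∀ m, kleinPerm T r m = m → m = c := fun m hm => by
    have h1 := normPerm_apply T (fun m => m ≠ 1) (fun σ m => by simp) r m
    have h2 : qG D * ((m : T) : G) * (qG D)⁻¹ = (m : T) := by
      rw [show (kleinPerm T r m : T) = (m : T) by rw [hm]] at h1
      exact h1.symm
    rcases hfix _ (m : T).2 h2 with h | h
    · exact absurd (Subtype.ext h) m.2
    · exact Subtype.ext (Subtype.ext h)
  refine ⟨r, c, rfl, ?_, fun h => htc ?_, ?_, hfx⟩
  · apply Subtype.ext; apply Subtype.ext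
    show ((kleinPerm T r c : T) : G) = cG D
    rw [normPerm_apply]
    show qG D * cG D * (qG D)⁻¹ = cG D
    rw [← cG_comm D (D.q).2, mul_inv_cancel_right]
  · have := hfx ⟨⟨t, ht⟩, fun h' => ht1 (congrArg Subtype.val h')⟩ (by rw [h]; rfl)
    exact congrArg (fun m : {m : T // m ≠ 1} => ((m : T) : G)) this
  · rw [normPerm_eq_one_iff]
    intro m _
    show qG D * qG D * (m : G) * (qG D * qG D)⁻¹ = m
    rw [show qG D * qG D = cG D from congrArg Subtype.val D.q_sq, cG_comm D (hTS m.2),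
      mul_inv_cancel_right]

include D in
theorem klein_index {T : Subgroup G} (hT : IsKleinFour T) (hTS : T ≤ (S : Subgroup G)) :
    (centralizer (T : Set G)).relIndex (normalizer (T : Set G)) = 2 ∨
      (centralizer (T : Set G)).relIndex (normalizer (T : Set G)) = 6 := by
  obtain ⟨r, c, -, -, hr, hr2, -⟩ := klein_transposition S D hT hTS
  rw [relIndex_centralizer_eq]
  exact index_ker_two_or_six _ (card_ne_one hT) hr hr2

theorem klein_six_iff {T : Subgroup G} (hT : IsKleinFour T) (hTS : T ≤ (S : Subgroup G)) :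
    (centralizer (T : Set G)).relIndex (normalizer (T : Set G)) = 6 ↔ IsConj (vG D 0) (cG D) := by
  obtain ⟨hc, -, -, ⟨t, ht, htc, ht1⟩, hconj⟩ := klein_facts D hT hTS
  obtain ⟨r, c, hcv, hrc, hr, hr2, hfix⟩ := klein_transposition S D hT hTS
  rw [relIndex_centralizer_eq]
  constructor
  · intro h6
    obtain ⟨w, -, hw, hall⟩ := exists_odd_fpf _ (card_ne_one hT) h6
    let t' : {m : T // m ≠ 1} := ⟨⟨t, ht⟩, fun h => ht1 (congrArg Subtype.val h)⟩
    refine (hconj t ht ht1 htc).trans ?_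
    rcases hall t' c with h | h | h
    · exact absurd (by rw [← hcv, h]) htc
    · refine isConj_iff.mpr ⟨w, ?_⟩
      rw [← hcv, ← h, normPerm_apply]
    · refine isConj_iff.mpr ⟨(w * w : normalizer (T : Set G)), ?_⟩
      rw [← hcv, ← h, normPerm_apply, normPerm_apply]
      simp only [Subgroup.coe_mul]
      group
      rfl
  · intro hyc
    obtain ⟨g, hg⟩ := isConj_iff.mp ((hconj t ht ht1 htc).symm.trans hyc)
    haveI : IsKleinFour T := hT
    have hTc : T ≤ centralizer ({t} : Set G) := fun m hm =>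
      Subgroup.mem_centralizer_singleton_iff.mpr (congrArg Subtype.val
        ((IsKleinFour.isMulCommutative (G := T)).is_comm.comm ⟨m, hm⟩ ⟨t, ht⟩))
    obtain ⟨S', hTS', hS'M⟩ := exists_sylow_between S (centralizer ({t} : Set G)) T
      (S.isPGroup'.to_le hTS) hTc g (fun s hs => by
        rw [Subgroup.mem_centralizer_singleton_iff]
        have e : s * (g * t * g⁻¹) = (g * t * g⁻¹) * s := by rw [hg]; exact (cG_comm D hs).symm
        calc g⁻¹ * s * g * t = g⁻¹ * (s * (g * t * g⁻¹)) * g := by group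
          _ = t * (g⁻¹ * s * g) := by rw [e]; group)
    obtain ⟨D'⟩ := exists_gens_of_sylow S S' (isQuasiDihedral_of_gens D)
    obtain ⟨r', c', hc'v, hr'c, hr', hr'2, hfix'⟩ := klein_transposition S' D' hT hTS'
    refine index_ker_eq_six _ (card_ne_one hT) hr hr2 hr' hr'2 fun h => ?_
    have h1 : kleinPerm T r c' = c' := by
      show normPerm T _ _ r c' = c'
      rw [h]; exact hr'c
    have h2 : c' = c := hfix _ h1
    -- `t` is the central involution of `S'`
    obtain ⟨-, -, hf', -⟩ := klein_facts D' hT hTS'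
    have h3 : t = 1 ∨ t = cG D' := hf' t ht (by
      have := Subgroup.mem_centralizer_singleton_iff.mp (hS'M (D'.q).2)
      rw [this, mul_inv_cancel_right])
    rcases h3 with h3 | h3
    · exact ht1 h3
    · exact htc (by rw [h3, ← hc'v, h2, hcv])

theorem normal_order_four {s : (S : Subgroup G)} (ho : orderOf s = 4)
    (hn : ∀ g : (S : Subgroup G), g * s * g⁻¹ ∈ Subgroup.zpowers s) : s = D.q ∨ s = D.q⁻¹ := by
  rcases D.orderOf_eq_four_cases ho with h | h | ⟨i, hi, h⟩
  · exact Or.inl h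
  · exact Or.inr h
  · exfalso
    subst h
    obtain ⟨e, he⟩ := hn (D.x ^ (1 : ℤ))
    rw [D.conj_zy] at he
    have he : (D.x ^ i * D.y) ^ e = D.x ^ (i + (2 - 4 * D.P) * 1) * D.y := he
    have hsq : (D.x ^ i * D.y) ^ (2 : ℤ) = D.c := by
      rw [zpow_two, ← pow_two, D.sq_zy_odd hi]
    obtain ⟨t, rfl | rfl⟩ := Int.even_or_odd' e
    · rw [zpow_mul, hsq, ← zpow_mul] at he
      exact D.zpow_ne_zpow_mul_y _ _ he
    · rw [zpow_add_one, zpow_mul, hsq, ← zpow_mul, D.mul_zy, D.zy_eq_iff] at he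
      have h8 : (4 : ℤ) ∣ 4 * D.P * t + i - (i + (2 - 4 * D.P) * 1) :=
        (Dvd.dvd.trans ⟨2 * D.P, by ring⟩ he)
      rw [show 4 * D.P * t + i - (i + (2 - 4 * D.P) * 1) = 4 * (D.P * t + D.P) - 2 by ring] at h8
      omega

/-- The transposition induced on a quaternion subgroup by `S`. -/
theorem quat_transposition {Q : Subgroup G} (hQS : Q ≤ (S : Subgroup G))
    (e : Q ≃* QuaternionGroup 2) :
    ∃ (i : ℤ) (iQ vQ : Q) (_ : ¬ 2 ∣ i) (hiq : (iQ : Q ⧸ center Q) ≠ 1)
      (_ : (vQ : Q ⧸ center Q) ≠ 1) (r : normalizer (Q : Set G)),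
      (iQ : G) = qG D ∧ (vQ : G) = vG D i ∧ Nat.card {q : Q ⧸ center Q // q ≠ 1} = 3 ∧
      (Q ⊔ centralizer (Q : Set G)).relIndex (normalizer (Q : Set G)) = (quotPerm Q).ker.index ∧
      quotPerm Q r ≠ 1 ∧ quotPerm Q (r * r) = 1 ∧ quotPerm Q r ⟨iQ, hiq⟩ = ⟨iQ, hiq⟩ ∧
      (∀ m, quotPerm Q r m = m → m = ⟨iQ, hiq⟩) ∧ (∀ ζ ∈ center Q, ζ = 1 ∨ (ζ : G) = cG D) := by
  obtain ⟨i, iQ, vQ, cQ, hi, hiv, hvv, hcv, hd, hin, hvn, hivn, hcen, hmem⟩ := quat_data D hQS e
  have hne : ∀ {m : Q}, m ∉ center Q → (m : Q ⧸ center Q) ≠ 1 :=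
    fun hm h => hm ((QuotientGroup.eq_one_iff _).mp h)
  obtain ⟨haq, haa, t, hav⟩ := quatSub_swap D hi
  set a : (S : Subgroup G) := D.x ^ D.P with hadef
  let ι : Q →* (S : Subgroup G) := Subgroup.inclusion hQS
  have hι : Function.Injective ι := Subgroup.inclusion_injective hQS
  have ei : ι iQ = D.q := Subtype.ext hiv
  have ev : ι vQ = D.x ^ i * D.y := Subtype.ext hvv
  have ec : ι cQ = D.c := Subtype.ext hcv
  have hQsub : ∀ s : (S : Subgroup G), (s : G) ∈ Q ↔ s ∈ D.quatSub i hi := fun s =>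
    (hmem s).trans ⟨fun ⟨_, h⟩ => h, fun h => ⟨hi, h⟩⟩
  have haQ : ∀ s ∈ D.quatSub i hi, a * s * a⁻¹ ∈ D.quatSub i hi := by
    intro s hs
    have hav' : a * (D.x ^ i * D.y) * a⁻¹ ∈ D.quatSub i hi := by
      rw [hav]
      exact mul_mem (mul_mem (D.q_mem_quatSub hi) (D.zy_mem_quatSub hi))
        (zpow_mem (D.c_mem_quatSub hi) t)
    obtain ⟨j, rfl | rfl⟩ := (D.mem_quatSub hi s).mp hs
    · rw [← conj_zpow, haq]; exact zpow_mem (D.q_mem_quatSub hi) j
    · rw [show a * (D.x ^ i * D.y * D.q ^ j) * a⁻¹ =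
        (a * (D.x ^ i * D.y) * a⁻¹) * (a * D.q ^ j * a⁻¹) by group, ← conj_zpow, haq]
      exact mul_mem hav' (zpow_mem (D.q_mem_quatSub hi) j)
  have haN : (a : G) ∈ normalizer (Q : Set G) := by
    rw [Subgroup.mem_normalizer_iff]
    intro g
    constructor
    · intro hg
      exact (hQsub (a * ⟨g, hQS hg⟩ * a⁻¹)).mpr (haQ _ ((hQsub _).mp hg))
    · intro hg
      have hgS : g ∈ (S : Subgroup G) := by
        have h1 := mul_mem (mul_mem (inv_mem a.2) (hQS hg)) a.2
        rwa [show (a : G)⁻¹ * ((a : G) * g * (a : G)⁻¹) * a = g by group] at h1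
      have h2 : (a * ⟨g, hgS⟩ * a⁻¹ : (S : Subgroup G)) ∈ D.quatSub i hi := (hQsub _).mp hg
      have h3 := haQ _ h2
      rw [show a * (a * ⟨g, hgS⟩ * a⁻¹) * a⁻¹ = D.q * ⟨g, hgS⟩ * D.q⁻¹ by rw [← haa]; group] at h3
      have h4 := mul_mem (mul_mem (inv_mem (D.q_mem_quatSub hi)) h3) (D.q_mem_quatSub hi)
      rw [show D.q⁻¹ * (D.q * ⟨g, hgS⟩ * D.q⁻¹) * D.q = (⟨g, hgS⟩ : (S : Subgroup G)) by group] at h4
      exact (hQsub ⟨g, hgS⟩).mpr h4
  let r : normalizer (Q : Set G) := ⟨a, haN⟩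
  have hσ : ∀ m : Q, ι (Q.normalizerMonoidHom r m) = a * ι m * a⁻¹ := fun m => rfl
  have hri : quotPerm Q r ⟨iQ, hne hin⟩ = ⟨iQ, hne hin⟩ := by
    rw [quotPerm_map_iff, show Q.normalizerMonoidHom r iQ = iQ from hι (by rw [hσ, ei, haq]),
      inv_mul_cancel]
    exact one_mem _
  have hσv : Q.normalizerMonoidHom r vQ = iQ * vQ * cQ ^ t := hι (by
    rw [hσ, ev, hav, map_mul, map_mul, map_zpow, ei, ev, ec])
  have hrv : quotPerm Q r ⟨vQ, hne hvn⟩ = ⟨(iQ * vQ : Q), hne hivn⟩ := by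
    rw [quotPerm_map_iff, hσv, mul_inv_rev, inv_mul_cancel_right]
    exact inv_mem (zpow_mem hd.center_mem t)
  have hfix : ∀ m, quotPerm Q r m = m → m = ⟨iQ, hne hin⟩ := by
    rintro ⟨q, hq⟩ hm
    obtain ⟨m, rfl⟩ := QuotientGroup.mk_surjective q
    obtain ⟨ζ, hζ, rfl | rfl | rfl | rfl⟩ := hd.gen m
    · exact absurd ((QuotientGroup.eq_one_iff _).mpr hζ) hq
    · exact Subtype.ext (by simp [(QuotientGroup.eq_one_iff ζ).mpr hζ])
    · exfalso
      have e1 : (⟨_, hq⟩ : {q : Q ⧸ center Q // q ≠ 1}) = ⟨vQ, hne hvn⟩ :=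
        Subtype.ext (by simp [(QuotientGroup.eq_one_iff ζ).mpr hζ])
      rw [e1, hrv] at hm
      have h := congrArg Subtype.val hm
      simp only [QuotientGroup.mk_mul] at h
      exact hne hin (mul_eq_right.mp h)
    · exfalso
      have e1 : (⟨_, hq⟩ : {q : Q ⧸ center Q // q ≠ 1}) = ⟨(iQ * vQ : Q), hne hivn⟩ :=
        Subtype.ext (by simp [(QuotientGroup.eq_one_iff ζ).mpr hζ])
      rw [e1, ← hrv] at hm
      have h := (quotPerm Q r).injective hm
      rw [hrv] at h
      have h' := congrArg Subtype.val h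
      simp only [QuotientGroup.mk_mul] at h'
      exact hne hin (mul_eq_right.mp h')
  have hr1 : quotPerm Q r ≠ 1 := fun h => by
    have h1 := hfix ⟨vQ, hne hvn⟩ (by rw [h]; rfl)
    rw [h1, hri] at hrv
    have h2 := congrArg Subtype.val hrv
    simp only [QuotientGroup.mk_mul] at h2
    exact hne hvn (mul_eq_left.mp h2.symm)
  have hfixc : ∀ (n : normalizer (Q : Set G)), ∀ ζ ∈ center Q, Q.normalizerMonoidHom n ζ = ζ := by
    intro n ζ hζ
    have h2 : Q.normalizerMonoidHom n ζ ∈ center Q := by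
      rw [Subgroup.mem_center_iff]
      intro g
      obtain ⟨g, rfl⟩ := (Q.normalizerMonoidHom n).surjective g
      rw [← map_mul, ← map_mul, Subgroup.mem_center_iff.mp hζ g]
    rcases hcen ζ hζ with rfl | rfl
    · exact map_one _
    · rcases hcen _ h2 with h | h
      · rw [← map_one (Q.normalizerMonoidHom n)] at h
        exact absurd ((Q.normalizerMonoidHom n).injective h) hd.c_ne_one
      · exact h
  refine ⟨i, iQ, vQ, hi, hne hin, hne hvn, r, hiv, hvv, hd.card_points hin hvn hivn,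
    hd.relIndex_eq hfixc, hr1, ?_, hri, hfix, fun ζ hζ => (hcen ζ hζ).imp_right fun h => by rw [h, hcv]⟩
  rw [← MonoidHom.mem_ker]
  refine sup_centralizer_le_ker_of_mem hd ?_
  show ((a * a : (S : Subgroup G)) : G) ∈ Q
  rw [haa]
  exact (hQsub _).mpr (D.q_mem_quatSub hi)
where
  sup_centralizer_le_ker_of_mem {Q : Subgroup G} {iQ vQ cQ : Q} (hd : FourData Q iQ vQ cQ)
      {n : normalizer (Q : Set G)} (hn : (n : G) ∈ Q) : n ∈ (quotPerm Q).ker := by
    rw [MonoidHom.mem_ker, quotPerm_eq_one_iff]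
    intro m
    rw [normalizerMonoidHom_eq_conj Q (h := ⟨n, hn⟩) (c := (1 : G)) (one_mem _) (mul_one _)]
    exact hd.abelian _ _

include D in
theorem quat_index {Q : Subgroup G} (hQS : Q ≤ (S : Subgroup G)) (e : Q ≃* QuaternionGroup 2) :
    (Q ⊔ centralizer (Q : Set G)).relIndex (normalizer (Q : Set G)) = 2 ∨
      (Q ⊔ centralizer (Q : Set G)).relIndex (normalizer (Q : Set G)) = 6 := by
  obtain ⟨i, iQ, vQ, -, hiq, hvq, r, -, -, hcard, hrel, hr, hr2, -⟩ := quat_transposition S D hQS e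
  rw [hrel]
  exact index_ker_two_or_six _ hcard hr hr2

theorem quat_six_iff {Q : Subgroup G} (hQS : Q ≤ (S : Subgroup G)) (e : Q ≃* QuaternionGroup 2) :
    (Q ⊔ centralizer (Q : Set G)).relIndex (normalizer (Q : Set G)) = 6 ↔
      IsConj (vG D 1) (qG D) := by
  obtain ⟨i, iQ, vQ, hi, hiq, hvq, r, hiv, hvv, hcard, hrel, hr, hr2, hri, hfix, hcen⟩ :=
    quat_transposition S D hQS e
  rw [hrel]
  have hv1 : IsConj (vG D 1) (vG D i) := isConj_vG D (by omega)
  constructor
  · intro h6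
    obtain ⟨w, -, -, hall⟩ := exists_odd_fpf _ hcard h6
    -- some element of the normalizer maps the class of `v` to the class of `q`
    obtain ⟨n, hn⟩ : ∃ n, quotPerm Q n ⟨vQ, hvq⟩ = ⟨iQ, hiq⟩ := by
      rcases hall ⟨vQ, hvq⟩ ⟨iQ, hiq⟩ with h | h | h
      · exact ⟨1, by rw [map_one, h]; rfl⟩
      · exact ⟨w, h⟩
      · exact ⟨w * w, by rw [map_mul]; exact h⟩
    rw [quotPerm_map_iff] at hn
    refine hv1.trans ?_
    rcases hcen _ hn with h | h
    · refine isConj_iff.mpr ⟨(n : G), ?_⟩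
      rw [← hvv, ← hiv, ← inv_mul_eq_one.mp h]
      rfl
    · refine isConj_iff.mpr ⟨vG D 0 * n, ?_⟩
      have h1 : (n : G) * vG D i * (n : G)⁻¹ = (qG D)⁻¹ := by
        simp only [Subgroup.coe_mul, Subgroup.coe_inv, coe_normalizerMonoidHom, hvv, hiv] at h
        have h2 : (n : G) * vG D i * (n : G)⁻¹ = qG D * cG D := by
          have h3 := eq_mul_inv_of_mul_eq (inv_mul_eq_iff_eq_mul.mp h).symm
          rw [show (cG D)⁻¹ = cG D from inv_eq_of_mul_eq_one_right
            (congrArg Subtype.val D.c_mul_c)] at h3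
          exact h3
        rw [h2]
        exact congrArg Subtype.val (eq_inv_of_mul_eq_one_left (a := D.q * D.c) (b := D.q) (by
          rw [mul_assoc, D.c_comm, ← mul_assoc, D.q_sq, D.c_mul_c]))
      have h4 := congrArg Subtype.val (D.zy_conj_q 0)
      calc _ = vG D 0 * ((n : G) * vG D i * (n : G)⁻¹) * (vG D 0)⁻¹ := by simp only [mul_inv_rev, mul_assoc]
        _ = (vG D 0 * qG D * (vG D 0)⁻¹)⁻¹ := by rw [h1, conj_inv]
        _ = qG D := by
          rw [show vG D 0 * qG D * (vG D 0)⁻¹ = (qG D)⁻¹ from h4, inv_inv]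
  · intro hvq'
    obtain ⟨g, hg⟩ := isConj_iff.mp (hv1.symm.trans hvq')
    set v := vG D i with hvdef
    have hzv : ∀ {h : G}, h * v * h⁻¹ ∈ zpowers v → h⁻¹ * v * h ∈ zpowers v →
        h ∈ normalizer (zpowers v : Set G) := by
      intro h h1 h2
      rw [Subgroup.mem_normalizer_iff]
      intro x
      constructor
      · rintro ⟨j, rfl⟩
        show h * v ^ j * h⁻¹ ∈ zpowers v
        rw [← conj_zpow]
        exact zpow_mem h1 j
      · rintro ⟨j, hj⟩
        have hj : v ^ j = h * x * h⁻¹ := hj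
        have e : x = (h⁻¹ * v * h) ^ j := by
          have := conj_zpow (a := h⁻¹) (b := v) (i := j)
          rw [inv_inv] at this
          rw [this, hj]; group
        rw [e]
        exact zpow_mem h2 j
    obtain ⟨i', iQ', vQ', cQ', hi', hiv', hvv', hcv', hd', -, -, -, hcen', -⟩ := quat_data D hQS e
    have hvc : v * v = cG D := by
      rw [← pow_two, hvdef]
      exact congrArg Subtype.val (D.sq_zy_odd hi)
    have hQn : Q ≤ normalizer (zpowers v : Set G) := by
      have key : ∀ h : Q, (h : G) * v * (h : G)⁻¹ ∈ zpowers v := by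
        intro h
        rcases hcen _ (hd'.abelian h vQ) with h1 | h1
        · have h2 := congrArg Subtype.val (inv_mul_eq_one.mp h1)
          simp only [Subgroup.coe_mul, Subgroup.coe_inv, hvv] at h2
          rw [← h2]; exact mem_zpowers v
        · simp only [Subgroup.coe_mul, Subgroup.coe_inv, hvv] at h1
          rw [inv_mul_eq_iff_eq_mul.mp h1, ← hvc]
          exact mul_mem (mem_zpowers v) (mul_mem (mem_zpowers v) (mem_zpowers v))
      intro h hh
      refine hzv (key ⟨h, hh⟩) ?_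
      have := key (⟨h, hh⟩⁻¹)
      simpa using this
    have hSn : ∀ s ∈ (S : Subgroup G), g⁻¹ * s * g ∈ normalizer (zpowers v : Set G) := by
      have key : ∀ s ∈ (S : Subgroup G), g⁻¹ * s * g * v * (g⁻¹ * s * g)⁻¹ ∈ zpowers v := by
        intro s hs
        have h1 : s * qG D * s⁻¹ = qG D ∨ s * qG D * s⁻¹ = (qG D)⁻¹ := by
          obtain ⟨j, hj | hj⟩ := D.normalForm (⟨s, hs⟩ : (S : Subgroup G))
          · refine Or.inl ?_
            have e1 : (⟨s, hs⟩ : (S : Subgroup G)) * D.q * (⟨s, hs⟩ : (S : Subgroup G))⁻¹ = D.q := by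
              rw [hj, ← zpow_add, ← zpow_neg, ← zpow_add]; congr 1; ring
            exact congrArg Subtype.val e1
          · refine Or.inr ?_
            have e1 : (⟨s, hs⟩ : (S : Subgroup G)) * D.q * (⟨s, hs⟩ : (S : Subgroup G))⁻¹ = D.q⁻¹ := by
              rw [hj, D.zy_conj_q]
            exact congrArg Subtype.val e1
        have e2 : g⁻¹ * s * g * v * (g⁻¹ * s * g)⁻¹ = g⁻¹ * (s * qG D * s⁻¹) * g := by
          rw [← hg]; group
        rw [e2]
        rcases h1 with h1 | h1 <;> rw [h1, ← hg]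
        · simp [mul_assoc, mem_zpowers]
        · simp [mul_assoc]
      intro s hs
      refine hzv (key s hs) ?_
      have := key s⁻¹ (inv_mem hs)
      convert this using 1
      group
    obtain ⟨S', hQS', hS'M⟩ := exists_sylow_between S (normalizer (zpowers v : Set G)) Q
      (S.isPGroup'.to_le hQS) hQn g hSn
    obtain ⟨D'⟩ := exists_gens_of_sylow S S' (isQuasiDihedral_of_gens D)
    obtain ⟨i₁, iQ₁, vQ₁, -, hiq₁, -, r₁, hiv₁, -, -, -, hr₁, hr₁2, hri₁, -, -⟩ :=
      quat_transposition S' D' hQS' e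
    have hvS : v ∈ (S' : Subgroup G) := hQS' (hvv ▸ vQ.2)
    have hnorm := normal_order_four S' D' (s := ⟨v, hvS⟩)
      (by rw [← Subgroup.orderOf_coe]; exact orderOf_vG_odd D hi)
      (fun g => by
        obtain ⟨j, hj⟩ := (Subgroup.mem_normalizer_iff.mp (hS'M g.2) v).mp (mem_zpowers v)
        exact ⟨j, Subtype.ext hj⟩)
    -- the class of `v` is the class fixed by `r₁`
    have hcls : (⟨vQ, hvq⟩ : {q : Q ⧸ center Q // q ≠ 1}) = ⟨iQ₁, hiq₁⟩ := by
      refine Subtype.ext (QuotientGroup.eq.mpr ?_)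
      rcases hnorm with h | h
      · have h1 : vQ = iQ₁ := Subtype.ext (by rw [hvv, hiv₁]; exact congrArg Subtype.val h)
        rw [h1, inv_mul_cancel]; exact one_mem _
      · have h1 : iQ₁ = vQ⁻¹ := Subtype.ext (by
          rw [Subgroup.coe_inv, hvv, hiv₁]
          exact (inv_eq_iff_eq_inv.mpr (congrArg Subtype.val h)).symm)
        rw [h1, ← mul_inv_rev]
        refine inv_mem ?_
        rw [show vQ * vQ = cQ' from Subtype.ext (by rw [Subgroup.coe_mul, hvv, hcv', hvc])]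
        exact hd'.center_mem
    refine index_ker_eq_six _ hcard hr hr2 hr₁ hr₁2 fun h => ?_
    have h1 : quotPerm Q r ⟨vQ, hvq⟩ = ⟨vQ, hvq⟩ := by rw [h, hcls]; exact hri₁
    have h2 := QuotientGroup.eq.mp (congrArg Subtype.val (hfix _ h1))
    rcases hcen _ h2 with h3 | h3
    · have h4 := congrArg Subtype.val h3
      simp only [Subgroup.coe_mul, Subgroup.coe_inv, hvv, hiv, OneMemClass.coe_one] at h4
      exact D.zpow_ne_zpow_mul_y _ _ (Subtype.ext (inv_mul_eq_one.mp h4).symm)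
    · simp only [Subgroup.coe_mul, Subgroup.coe_inv, hvv, hiv] at h3
      have h4 : D.q = (D.x ^ i * D.y) * D.c := Subtype.ext (inv_mul_eq_iff_eq_mul.mp h3)
      rw [D.zy_mul] at h4
      exact D.zpow_ne_zpow_mul_y _ _ h4

end CfsgLib.TwoFusion.QDFusion
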