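import Cfsg.Prelude.Def_Transfer
import Cfsg.Agent.Lib.PGroup.Basic
import Cfsg.Agent.Lib.TwoFusion.OddAut
import Cfsg.Agent.Lib.TwoFusion.SymplecticHyperplanes

/-!
2-groups without large normal elementary abelian subgroups and with a group of automorphisms of
odd order: elementary lemmas.
-/

set_option autoImplicit false

namespace CfsgLib.TwoFusion.ScnEmpty

open Subgroup

variable {X : Type*} [Group X] [Finite X] {A : Subgroup (MulAut X)}

/-- The standing hypotheses. -/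
structure Setup (A : Subgroup (MulAut X)) : Prop where
  pgroup : IsPGroup 2 X
  odd : Odd (Nat.card A)
  gen : Subgroup.closure {g : X | ∃ φ ∈ A, ∃ x : X, g = x⁻¹ * φ x} = ⊤
  noE8 : ∀ U : Subgroup X, U.Normal → IsMulCommutative U →
    ∀ E : Subgroup X, E ≤ U → Cfsg.IsElementaryAbelian 2 E → Nat.card E ≠ 8

theorem noE8_of_scn (hX : IsPGroup 2 X)
    (hscn : ¬ ∃ A : Subgroup X, A.Normal ∧ Subgroup.centralizer (A : Set X) = A ∧
      ∃ E : Subgroup X, E ≤ A ∧ Cfsg.IsElementaryAbelian 2 E ∧ Nat.card E = 8)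
    (U : Subgroup X) (hUn : U.Normal) (hUc : IsMulCommutative U)
    (E : Subgroup X) (hE : E ≤ U) (hEe : Cfsg.IsElementaryAbelian 2 E) : Nat.card E ≠ 8 := by
  intro h8
  haveI : Fact (Nat.Prime 2) := ⟨Nat.prime_two⟩
  obtain ⟨M, ⟨hMn, hMc, hUM⟩, hmax⟩ :=
    (Set.toFinite {B : Subgroup X | B.Normal ∧ IsMulCommutative B ∧ U ≤ B}).exists_maximal
      ⟨U, hUn, hUc, le_rfl⟩
  haveI := hMn
  refine hscn ⟨M, hMn, CfsgLib.PGroup.centralizer_eq_of_maximal_normal_abelian hX M hMc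
    (fun B hBn hBc hMB => le_antisymm (hmax ⟨hBn, hBc, hUM.trans hMB⟩ hMB) hMB),
    E, hE.trans hUM, hEe, h8⟩

namespace Setup

variable (S : Setup A)
include S

/-- A subgroup containing every generator `x⁻¹ * φ x` is everything. -/
theorem eq_top {H : Subgroup X} (h : ∀ φ ∈ A, ∀ x : X, x⁻¹ * φ x ∈ H) : H = ⊤ := by
  rw [eq_top_iff, ← S.gen, closure_le]
  rintro g ⟨φ, hφ, x, rfl⟩
  exact h φ hφ x

/-- No invariant subgroup of index two. -/
theorem index_ne_two {H : Subgroup X} (h : ∀ φ ∈ A, ∀ x ∈ H, φ x ∈ H) : H.index ≠ 2 := by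
  intro h2
  have hH := S.eq_top (H := H) fun φ hφ x => by
    rw [Subgroup.mul_mem_iff_of_index_two h2, inv_mem_iff]
    refine ⟨fun hx => h φ hφ x hx, fun hx => ?_⟩
    have := h φ⁻¹ (inv_mem hφ) _ hx
    rwa [MulAut.inv_apply_self] at this
  rw [hH, index_top] at h2
  omega

/-- Averaging: a homomorphism to an abelian group is trivial at an element with invariant value of
two-power order. -/
theorem eq_one_of_invariant {M : Type*} [CommGroup M] (F : X →* M) {g : X}
    (h : ∀ φ ∈ A, F (φ g) = F g) : F g = 1 := by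
  classical
  haveI : Fintype A := Fintype.ofFinite A
  let N : X →* M := ∏ φ : A, F.comp (φ : MulAut X).toMonoidHom
  have hN : ∀ x, N x = ∏ φ : A, F ((φ : MulAut X) x) := fun x => by
    simp [N, MonoidHom.finsetProd_apply]
  have hker : N.ker = ⊤ := S.eq_top fun φ hφ x => by
    rw [MonoidHom.mem_ker, map_mul, map_inv, inv_mul_eq_one, hN, hN]
    exact (Fintype.prod_equiv (Equiv.mulRight (⟨φ, hφ⟩ : A)) _ _ (fun ψ => rfl)).symm
  have h1 : N g = 1 := MonoidHom.mem_ker.mp (hker ▸ mem_top g)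
  rw [hN, Finset.prod_congr rfl (fun (φ : A) _ => h (φ : MulAut X) φ.2), Finset.prod_const, Finset.card_univ,
    ← Nat.card_eq_fintype_card] at h1
  obtain ⟨k, hk⟩ := S.pgroup g
  have h2 : F g ^ 2 ^ k = 1 := by rw [← map_pow, hk, map_one]
  have h3 : F g ^ Nat.gcd (Nat.card A) (2 ^ k) = 1 := pow_gcd_eq_one.mpr ⟨h1, h2⟩
  rwa [(Nat.coprime_two_right.mpr S.odd).pow_right k, pow_one] at h3

/-- Fixed elements lie in the derived subgroup. -/
theorem mem_commutator_of_fixed {z : X} (h : ∀ φ ∈ A, φ z = z) : z ∈ commutator X := by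
  rw [← Abelianization.ker_of, MonoidHom.mem_ker]
  exact S.eq_one_of_invariant _ fun φ hφ => by rw [h φ hφ]

/-- An abelian invariant set whose involutions are fixed is fixed. -/
theorem fixed_of_involutions {K : Subgroup X} (hKA : ∀ φ ∈ A, ∀ k ∈ K, φ k ∈ K)
    (hc : ∀ a ∈ K, ∀ b ∈ K, a * b = b * a)
    (hinv : ∀ k ∈ K, k * k = 1 → ∀ φ ∈ A, φ k = k) : ∀ φ ∈ A, ∀ k ∈ K, φ k = k := by
  intro φ hφ
  obtain ⟨j, hj, hφj⟩ : ∃ j, Odd j ∧ φ ^ j = 1 :=
    ⟨Nat.card A, S.odd, congrArg Subtype.val (pow_card_eq_one' (x := (⟨φ, hφ⟩ : A)))⟩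
  suffices ∀ n : ℕ, ∀ k ∈ K, k ^ 2 ^ n = 1 → φ k = k by
    intro k hk
    obtain ⟨n, hn⟩ := S.pgroup k
    exact this n k hk hn
  intro n
  induction n with
  | zero => intro k _ h; rw [pow_zero, pow_one] at h; rw [h, map_one]
  | succ n ih =>
    intro k hk h
    have h2 : φ (k * k) = k * k :=
      ih _ (mul_mem hk hk) (by rw [← pow_two, ← pow_mul, ← pow_succ']; exact h)
    set α := k⁻¹ * φ k with hα
    have hαK : α ∈ K := mul_mem (inv_mem hk) (hKA φ hφ k hk)
    have hα2 : α * α = 1 := by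
      rw [map_mul] at h2
      rw [hα, show k⁻¹ * φ k * (k⁻¹ * φ k) = k⁻¹ * (φ k * k⁻¹) * φ k by group,
        hc _ (hKA φ hφ k hk) _ (inv_mem hk),
        show k⁻¹ * (k⁻¹ * φ k) * φ k = (k * k)⁻¹ * (φ k * φ k) by group, h2, inv_mul_cancel]
    exact CfsgLib.TwoFusion.OddAut.fix_step hφj hj (α := α) (by rw [hα, mul_inv_cancel_left])
      (hinv α hαK hα2 φ hφ) (e := 1) (by rw [pow_one, pow_two, hα2])

/-- An invariant normal subgroup centralized by `A` is central. -/
theorem mem_center_of_fixed {K : Subgroup X} (hK : K.Normal) (hfix : ∀ φ ∈ A, ∀ k ∈ K, φ k = k)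
    {k : X} (hk : k ∈ K) : k ∈ center X := by
  have h := S.eq_top (H := centralizer ({k} : Set X)) fun φ hφ x => by
    rw [mem_centralizer_singleton_iff]
    have e := hfix φ hφ _ (hK.conj_mem k hk x)
    rw [map_mul, map_mul, map_inv, hfix φ hφ k hk] at e
    calc x⁻¹ * φ x * k = x⁻¹ * (φ x * k * (φ x)⁻¹) * φ x := by group
      _ = x⁻¹ * (x * k * x⁻¹) * φ x := by rw [e]
      _ = k * (x⁻¹ * φ x) := by group
  exact mem_center_iff.mpr fun g => mem_centralizer_singleton_iff.mp (h ▸ mem_top g)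

/-- If every invariant normal abelian subgroup is central, squares are central. -/
theorem sq_mem_center (h : ∀ K : Subgroup X, K.Normal → IsMulCommutative K →
    (∀ φ ∈ A, ∀ k ∈ K, φ k ∈ K) → K ≤ center X) (x : X) : x * x ∈ center X := by
  haveI : Fact (Nat.Prime 2) := ⟨Nat.prime_two⟩
  let T : Subgroup X :=
    { carrier := {t | t * t ∈ center X ∧ ∀ y : X, y * t * y⁻¹ * t⁻¹ ∈ center X}
      one_mem' := ⟨by simp, fun y => by simp⟩
      mul_mem' := by
        rintro s t ⟨hs, hs'⟩ ⟨ht, ht'⟩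
        refine ⟨?_, fun y => ?_⟩
        · rw [show s * t * (s * t) = s * (t * s * t⁻¹ * s⁻¹) * (s * (t * t)) by group,
            mem_center_iff.mp (hs' t) s, mul_assoc, ← mul_assoc s s]
          exact mul_mem (hs' t) (mul_mem hs ht)
        · rw [show y * (s * t) * y⁻¹ * (s * t)⁻¹ =
            (y * s * y⁻¹ * s⁻¹) * (s * (y * t * y⁻¹ * t⁻¹) * s⁻¹) by group,
            mem_center_iff.mp (ht' y) s, mul_inv_cancel_right]
          exact mul_mem (hs' y) (ht' y)
      inv_mem' := by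
        rintro t ⟨ht, ht'⟩
        refine ⟨by rw [← mul_inv_rev]; exact inv_mem ht, fun y => ?_⟩
        rw [show y * t⁻¹ * y⁻¹ * t⁻¹⁻¹ = t⁻¹ * (y * t * y⁻¹ * t⁻¹)⁻¹ * t by group,
          mem_center_iff.mp (inv_mem (ht' y)) t⁻¹, inv_mul_cancel_right]
        exact inv_mem (ht' y) }
  have hTn : T.Normal := ⟨fun t ht y => by
    have : y * t * y⁻¹ * t⁻¹ ∈ T := by
      refine ⟨mul_mem (ht.2 y) (ht.2 y), fun z => ?_⟩
      rw [mem_center_iff.mp (ht.2 y) z, mul_inv_cancel_right, mul_inv_cancel]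
      exact one_mem _
    simpa using mul_mem this ht⟩
  have hTA : ∀ φ ∈ A, ∀ t ∈ T, φ t ∈ T := by
    intro φ hφ t ht
    have hZ : ∀ z ∈ center X, φ z ∈ center X := fun z hz => mem_center_iff.mpr fun g => by
      obtain ⟨g, rfl⟩ := φ.surjective g
      rw [← map_mul, ← map_mul, mem_center_iff.mp hz g]
    refine ⟨by rw [← map_mul]; exact hZ _ ht.1, fun y => ?_⟩
    obtain ⟨y, rfl⟩ := φ.surjective y
    rw [← map_inv, ← map_inv, ← map_mul, ← map_mul, ← map_mul]
    exact hZ _ (ht.2 y)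
  haveI := hTn
  set Y := centralizer (T : Set X) with hY
  have hYA : ∀ φ ∈ A, ∀ y ∈ Y, φ y ∈ Y := fun φ hφ y hy => mem_centralizer_iff.mpr fun t ht => by
    have h1 := hTA φ⁻¹ (inv_mem hφ) t ht
    have h2 := congrArg φ (mem_centralizer_iff.mp hy _ h1)
    rwa [map_mul, map_mul, MulAut.apply_inv_self] at h2
  haveI : Y.Normal := inferInstanceAs (centralizer (T : Set X)).Normal
  have hYT : Y ⊓ T ≤ center X := h _ inferInstance
    ⟨⟨fun a b => Subtype.ext (mem_centralizer_iff.mp b.2.1 _ a.2.2)⟩⟩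
    (fun φ hφ k hk => ⟨hYA φ hφ k hk.1, hTA φ hφ k hk.2⟩)
  have hZY : center X ≤ Y := center_le_centralizer _
  have hYZ : Y ≤ center X := by
    by_contra hne
    obtain ⟨y, hy, hyZ, hy2, hyc⟩ := CfsgLib.PGroup.exists_step S.pgroup (center X) Y
      (lt_of_le_of_ne hZY (fun h => hne h.ge))
    exact hyZ (hYT ⟨hy, by rw [← pow_two]; exact hy2, fun g => by
      have hh := inv_mem (hyc g)
      rw [commutatorElement_inv, commutatorElement_def] at hh
      exact hh⟩)
  refine hYZ (mem_centralizer_iff.mpr fun t ht => ?_)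
  set c := x * t * x⁻¹ * t⁻¹ with hc
  have hcc := mem_center_iff.mp (ht.2 x)
  have e1 : x * t * x⁻¹ = c * t := by rw [hc]; group
  have e3 : c * c = 1 := by
    have e : x * (t * t) * x⁻¹ = t * t := by rw [mem_center_iff.mp ht.1 x, mul_inv_cancel_right]
    rw [show x * (t * t) * x⁻¹ = x * t * x⁻¹ * (x * t * x⁻¹) by group, e1, mul_assoc c t,
      ← mul_assoc t c, hcc t, mul_assoc c t, ← mul_assoc, mul_eq_right] at e
    exact e
  have e2 : x * x * t * (x * x)⁻¹ = t := by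
    rw [show x * x * t * (x * x)⁻¹ = x * (x * t * x⁻¹) * x⁻¹ by group, e1, ← mul_assoc, hcc x,
      mul_assoc c x t, mul_assoc c, e1, ← mul_assoc, e3, one_mul]
  exact (mul_inv_eq_iff_eq_mul.mp e2).symm

end Setup

end CfsgLib.TwoFusion.ScnEmpty
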