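import Cfsg.Agent.Lib.TwoFusion.ScnEmptyFlip

/-!
A maximal invariant normal abelian subgroup of exponent at least four has exponent exactly four.
-/

set_option autoImplicit false

namespace CfsgLib.TwoFusion.ScnEmpty

open Subgroup
open scoped commutatorElement

variable {X : Type*} [Group X] [Finite X] {A : Subgroup (MulAut X)} {W : Subgroup X} {φ : MulAut X}

omit [Finite X] in
theorem sq_of_commute {c y : X} (h : y * c = c * y) (hy : y * y = 1) (e : c * y * (c * y) = 1) :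
    c * c = 1 := by
  rw [mul_assoc c y, ← mul_assoc y c, h, mul_assoc c y, hy, mul_one] at e
  exact e

theorem Turn.big (T : Turn A W φ) (hna : ¬ IsMulCommutative X) {U : Subgroup X} (hUn : U.Normal)
    (hUc : ∀ u ∈ U, ∀ v ∈ U, u * v = v * u) (hUA : ∀ ψ ∈ A, ∀ u ∈ U, ψ u ∈ U) (hWU : W ≤ U)
    (hUinv : ∀ u ∈ U, u * u = 1 → u ∈ W)
    (hmax : ∀ K : Subgroup X, K.Normal → IsMulCommutative K → (∀ ψ ∈ A, ∀ k ∈ K, ψ k ∈ K) →
      U ≤ K → K = U)
    (hexp : ∃ u ∈ U, u * u ≠ 1) :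
    (∀ x : X, x * x ∈ W) ∧ ∀ z ∈ center X, z * z = 1 := by
  classical
  haveI : Fact (Nat.Prime 2) := ⟨Nat.prime_two⟩
  haveI := hUn
  have hWc : ∀ {w : X}, w ∈ W → ∀ g : X, g * w = w * g := fun hw g => T.comm hw
  have hconj : ∀ g : X, ∀ u ∈ U, ⁅g, u⁆ ∈ U := fun g u hu => by
    rw [commutatorElement_def]
    exact mul_mem (hUn.conj_mem u hu g) (inv_mem hu)
  -- the exponent
  have hex : ∃ a : ℕ, ∀ u ∈ U, u ^ 2 ^ (a + 1) = 1 := by
    obtain ⟨N, hN⟩ := T.setup.pgroup.exists_card_eq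
    exact ⟨N, fun u _ => by rw [pow_succ, pow_mul, ← hN, pow_card_eq_one', one_pow]⟩
  obtain ⟨a, ha, hamin⟩ : ∃ a, (∀ u ∈ U, u ^ 2 ^ (a + 1) = 1) ∧ ∃ u ∈ U, u ^ 2 ^ a ≠ 1 := by
    refine ⟨Nat.find hex, Nat.find_spec hex, ?_⟩
    by_contra hc
    push Not at hc
    rcases Nat.eq_zero_or_pos (Nat.find hex) with h0 | h0
    · obtain ⟨u, hu, hu2⟩ := hexp
      exact hu2 (by
        have := hc u hu
        rw [h0, pow_zero, pow_one] at this
        rw [this, one_mul])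
    · refine Nat.find_min hex (m := Nat.find hex - 1) (by omega) fun u hu => ?_
      rw [show Nat.find hex - 1 + 1 = Nat.find hex by omega]
      exact hc u hu
  have ha1 : 1 ≤ a := by
    by_contra h0
    obtain ⟨u, hu, hu2⟩ := hexp
    have := ha u hu
    rw [show a = 0 by omega, zero_add, pow_one, pow_two] at this
    exact hu2 this
  have hκW : ∀ u ∈ U, u ^ 2 ^ a ∈ W := fun u hu => hUinv _ (pow_mem hu _) (by
    rw [← pow_add, ← two_mul, ← pow_succ']; exact ha u hu)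
  have hpowmul : ∀ n : ℕ, ∀ u ∈ U, ∀ v ∈ U, (u * v) ^ n = u ^ n * v ^ n := fun n u hu v hv =>
    Commute.mul_pow (hUc u hu v hv) n
  -- every element of `W` is a `2 ^ a`-th power
  have hsurj : ∀ w ∈ W, ∃ u ∈ U, u ^ 2 ^ a = w := by
    let P : Subgroup X :=
      { carrier := {w | ∃ u ∈ U, u ^ 2 ^ a = w}
        one_mem' := ⟨1, one_mem _, one_pow _⟩
        mul_mem' := by
          rintro _ _ ⟨u, hu, rfl⟩ ⟨v, hv, rfl⟩
          exact ⟨u * v, mul_mem hu hv, hpowmul _ u hu v hv⟩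
        inv_mem' := by
          rintro _ ⟨u, hu, rfl⟩
          exact ⟨u⁻¹, inv_mem hu, inv_pow _ _⟩ }
    obtain ⟨u, hu, hu1⟩ := hamin
    have hP : P = W := T.eq_of_invariant (H := P) (by rintro _ ⟨v, hv, rfl⟩; exact hκW v hv)
      (by rintro _ ⟨v, hv, rfl⟩; exact ⟨φ v, hUA φ T.mem v hv, (map_pow φ v _).symm⟩)
      (h := u ^ 2 ^ a) ⟨u, hu, rfl⟩ hu1
    exact fun w hw => (hP.ge hw : w ∈ P)
  have hWκ : ∀ w ∈ W, w ^ 2 ^ a = 1 := fun w hw => by
    obtain ⟨a', rfl⟩ : ∃ a', a = a' + 1 := ⟨a - 1, by omega⟩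
    rw [pow_succ', pow_mul, pow_two, T.sq w hw, one_pow]
  -- the kernel of that power consists of the squares
  letI : CommGroup ↥U :=
    { (inferInstance : Group ↥U) with mul_comm := fun u v => Subtype.ext (hUc u u.2 v v.2) }
  let sq : U →* U := powMonoidHom 2
  let κ : U →* U := powMonoidHom (2 ^ a)
  have hkerW : ∀ u : U, u ^ 2 = 1 ↔ (u : X) ∈ W := fun u => by
    constructor
    · intro h
      exact hUinv u u.2 (by rw [← pow_two]; simpa using congrArg Subtype.val h)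
    · intro h
      exact Subtype.ext (by rw [coe_pow, coe_one, pow_two, T.sq _ h])
  have hcardW : ∀ S : Subgroup U, (∀ u : U, u ∈ S ↔ (u : X) ∈ W) → Nat.card S = 4 := fun S hS => by
    have e : Nat.card (S.map U.subtype) = Nat.card S := card_map_of_injective U.subtype_injective
    rw [← T.card, ← e]
    congr 2
    ext x
    constructor
    · rintro ⟨u, hu, rfl⟩; exact (hS u).mp hu
    · exact fun hx => ⟨⟨x, hWU hx⟩, (hS _).mpr hx, rfl⟩
  have hsq_ker : ∀ v ∈ U, v ^ 2 ^ a = 1 → ∃ u ∈ U, u * u = v := by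
    have hle : sq.range ≤ κ.ker := by
      rintro _ ⟨u, rfl⟩
      apply Subtype.ext
      show (((u : U) ^ 2) ^ 2 ^ a : U).1 = 1
      rw [coe_pow, coe_pow, ← pow_mul, ← pow_succ']
      exact ha u u.2
    have hk : Nat.card sq.ker = 4 := hcardW _ fun u => hkerW u
    have hκr : Nat.card κ.range = 4 := hcardW _ fun u => by
      constructor
      · rintro ⟨v, rfl⟩
        exact hκW v v.2
      · intro h
        obtain ⟨v, hv, e⟩ := hsurj u h
        exact ⟨⟨v, hv⟩, Subtype.ext e⟩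
    have e1 : Nat.card U = Nat.card sq.range * 4 := by
      rw [← hk, ← index_ker, mul_comm, card_mul_index]
    have e2 : Nat.card U = 4 * Nat.card κ.ker := by
      rw [← hκr, ← index_ker, mul_comm, card_mul_index]
    have heq : sq.range = κ.ker := eq_of_le_of_card_ge hle (by omega)
    intro v hv hv1
    obtain ⟨u, hu⟩ := (heq.ge (show (⟨v, hv⟩ : U) ∈ κ.ker from Subtype.ext (by simpa [κ] using hv1)))
    exact ⟨u, u.2, by rw [← pow_two]; exact congrArg Subtype.val hu⟩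
  -- self-centralization
  have hCU : ∀ y : X, (∀ u ∈ U, y * u = u * y) → y ∈ U := by
    let R : Subgroup X :=
      { carrier := {y | (∀ u ∈ U, y * u = u * y) ∧ y * y ∈ U ∧ ∀ x : X, ⁅x, y⁆ ∈ U}
        one_mem' := ⟨fun u _ => by simp, by simp, fun x => by simp⟩
        mul_mem' := by
          rintro y y' ⟨h1, h2, h3⟩ ⟨h1', h2', h3'⟩
          refine ⟨fun u hu => by rw [mul_assoc, h1' u hu, ← mul_assoc, h1 u hu, mul_assoc], ?_,
            fun x => ?_⟩
          · rw [show y * y' * (y * y') = y * ⁅y', y⁆ * y * (y' * y') by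
              rw [commutatorElement_def]; group, h1 _ (h3 y')]
            exact mul_mem (by rw [mul_assoc]; exact mul_mem (h3 y') h2) h2'
          · rw [show ⁅x, y * y'⁆ = ⁅x, y⁆ * (y * ⁅x, y'⁆ * y⁻¹) by
              simp only [commutatorElement_def]; group, h1 _ (h3' x), mul_inv_cancel_right]
            exact mul_mem (h3 x) (h3' x)
        inv_mem' := by
          rintro y ⟨h1, h2, h3⟩
          refine ⟨fun u hu => by rw [inv_mul_eq_iff_eq_mul, ← mul_assoc, h1 u hu, mul_inv_cancel_right],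
            by rw [← mul_inv_rev]; exact inv_mem h2, fun x => ?_⟩
          rw [show ⁅x, y⁻¹⁆ = y⁻¹ * ⁅x, y⁆⁻¹ * y by simp only [commutatorElement_def]; group,
            mul_assoc, ← h1 _ (inv_mem (h3 x)), inv_mul_cancel_left]
          exact inv_mem (h3 x) }
    have hUR : U ≤ R := fun u hu => ⟨fun v hv => hUc u hu v hv, mul_mem hu hu, fun x => hconj x u hu⟩
    have hRn : R.Normal := ⟨fun y hy g => by
      have h : g * y * g⁻¹ = ⁅g, y⁆ * y := by rw [commutatorElement_def]; group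
      rw [h]; exact mul_mem (hUR (hy.2.2 g)) hy⟩
    have hRA : ∀ ψ ∈ A, ∀ y ∈ R, ψ y ∈ R := fun ψ hψ y hy => by
      have hback : ∀ u ∈ U, ∃ v ∈ U, ψ v = u := fun u hu =>
        ⟨ψ⁻¹ u, hUA _ (inv_mem hψ) u hu, MulAut.apply_inv_self X ψ u⟩
      refine ⟨fun u hu => ?_, by rw [← map_mul]; exact hUA ψ hψ _ hy.2.1, fun x => ?_⟩
      · obtain ⟨v, hv, rfl⟩ := hback u hu
        rw [← map_mul, ← map_mul, hy.1 v hv]
      · obtain ⟨x, rfl⟩ := ψ.surjective x
        rw [← map_commutatorElement]; exact hUA ψ hψ _ (hy.2.2 x)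
    -- elements with square in the squares
    have hlow : ∀ y ∈ R, (y * y) ^ 2 ^ a = 1 → y ∈ U := by
      intro y hy h
      obtain ⟨v, hv, hv2⟩ := hsq_ker _ hy.2.1 h
      have hy' : y * v⁻¹ ∈ R := mul_mem hy (inv_mem (hUR hv))
      have hy2 : y * v⁻¹ * (y * v⁻¹) = 1 := by
        rw [show y * v⁻¹ * (y * v⁻¹) = y * (v⁻¹ * y) * v⁻¹ by group, ← hy.1 _ (inv_mem hv),
          ← mul_assoc, ← hv2]
        group
      have hyU : y * v⁻¹ ∈ W := T.setup.mem_of_sq_eq_one T.le_center T.sq T.card hy2 fun x => by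
        rw [← commutatorElement_def]
        have hc : ⁅x, y * v⁻¹⁆ ∈ U := hy'.2.2 x
        refine hUinv _ hc ?_
        set c := ⁅x, y * v⁻¹⁆ with hcdef
        set y' := y * v⁻¹
        have e : c * y' * (c * y') = 1 := by
          rw [hcdef, show ⁅x, y'⁆ * y' * (⁅x, y'⁆ * y') = x * (y' * y') * x⁻¹ by
            rw [commutatorElement_def]; group, hy2]
          group
        exact sq_of_commute (hy'.1 c hc) hy2 e
      have := mul_mem (hWU hyU) hv
      rwa [inv_mul_cancel_right] at this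
    have hcc : ∀ y ∈ R, ∀ z ∈ R, ⁅y, z⁆ ∈ W := fun y hy z hz => hUinv _ (hz.2.2 y) (by
      have h : ⁅y, z * z⁆ = 1 := commutatorElement_eq_one_iff_mul_comm.mpr (hy.1 _ hz.2.1)
      rw [show ⁅y, z * z⁆ = ⁅y, z⁆ * (z * ⁅y, z⁆ * z⁻¹) by
        simp only [commutatorElement_def]; group, hz.1 _ (hz.2.2 y), mul_inv_cancel_right] at h
      exact h)
    have hψmul : ∀ y ∈ R, ∀ z ∈ R, (y * z * (y * z)) ^ 2 ^ a = (y * y) ^ 2 ^ a * (z * z) ^ 2 ^ a := by
      intro y hy z hz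
      rw [show y * z * (y * z) = y * ⁅z, y⁆ * y * (z * z) by rw [commutatorElement_def]; group,
        hWc (hcc z hz y hy) y, mul_assoc _ y y, hpowmul _ _ (mul_mem (hz.2.1 |> fun _ => hy.2.2 z) hy.2.1) _ hz.2.1,
        hpowmul _ _ (hy.2.2 z) _ hy.2.1, hWκ _ (hcc z hz y hy), one_mul]
    have hψW : ∀ y ∈ R, (y * y) ^ 2 ^ a ∈ W := fun y hy => hκW _ hy.2.1
    have hsame : ∀ y ∈ R, ∀ z ∈ R, (y * y) ^ 2 ^ a = (z * z) ^ 2 ^ a → ⁅y, z⁆ = 1 := by
      intro y hy z hz h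
      have hu : y * z ∈ U := hlow _ (mul_mem hy hz) (by
        rw [hψmul y hy z hz, h, T.sq _ (hψW z hz)])
      have h1 := hy.1 _ hu
      rw [mul_assoc y z y] at h1
      exact commutatorElement_eq_one_iff_mul_comm.mpr (mul_left_cancel h1)
    have hcu : ∀ y ∈ R, ∀ z ∈ R, ∀ u ∈ U, ⁅y, z * u⁆ = ⁅y, z⁆ := fun y hy z _ u hu => by
      rw [show ⁅y, z * u⁆ = ⁅y, z⁆ * (z * ⁅y, u⁆ * z⁻¹) by simp only [commutatorElement_def]; group,
        commutatorElement_eq_one_iff_mul_comm.mpr (hy.1 u hu), mul_one, mul_inv_cancel, mul_one]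
    have hcmul : ∀ y ∈ R, ∀ z ∈ R, ∀ t ∈ R, ⁅y, z * t⁆ = ⁅y, z⁆ * ⁅y, t⁆ := fun y hy z _ t ht => by
      rw [show ⁅y, z * t⁆ = ⁅y, z⁆ * (z * ⁅y, t⁆ * z⁻¹) by simp only [commutatorElement_def]; group,
        hWc (hcc y hy t ht) z, mul_inv_cancel_right]
    have hab : ∀ y ∈ R, ∀ z ∈ R, ⁅y, z⁆ = 1 := by
      intro y hy z hz
      by_cases hw : (y * y) ^ 2 ^ a = 1
      · exact commutatorElement_eq_one_iff_mul_comm.mpr (hz.1 y (hlow y hy hw)).symm
      by_cases hw' : (z * z) ^ 2 ^ a = 1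
      · exact commutatorElement_eq_one_iff_mul_comm.mpr (hy.1 z (hlow z hz hw'))
      by_cases hww : (y * y) ^ 2 ^ a = (z * z) ^ 2 ^ a
      · exact hsame y hy z hz hww
      set w := (y * y) ^ 2 ^ a with hwdef
      set z₀ := φ y with hz₀
      have hz₀R : z₀ ∈ R := hRA φ T.mem y hy
      have hz₀ψ : (z₀ * z₀) ^ 2 ^ a = φ w := by rw [hz₀, ← map_mul, ← map_pow]
      have key : ⁅y, z₀⁆ = 1 := by
        have hR2 : φ z₀ ∈ R := hRA φ T.mem z₀ hz₀R
        have hψ2 : (φ z₀ * φ z₀) ^ 2 ^ a = w * φ w := by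
          rw [← map_mul, ← map_pow, hz₀ψ, T.cube (hψW y hy) hw]
        have hu : (y * z₀)⁻¹ * φ z₀ ∈ U := by
          have hm := inv_mem (mul_mem hy hz₀R)
          refine hlow _ (mul_mem hm hR2) ?_
          have hprod : (y * z₀ * (y * z₀)) ^ 2 ^ a = w * φ w := by rw [hψmul y hy z₀ hz₀R, hz₀ψ]
          rw [hψmul _ hm _ hR2, hψ2, ← mul_inv_rev, inv_pow, hprod, inv_mul_cancel]
        have hfix : φ ⁅y, z₀⁆ = ⁅y, z₀⁆ := by
          rw [map_commutatorElement, ← hz₀,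
            show φ z₀ = y * z₀ * ((y * z₀)⁻¹ * φ z₀) by rw [mul_inv_cancel_left],
            hcu z₀ hz₀R _ (mul_mem hy hz₀R) _ hu, hcmul z₀ hz₀R y hy z₀ hz₀R, commutatorElement_self,
            mul_one, ← commutatorElement_inv]
          exact inv_eq_of_mul_eq_one_right (T.sq _ (hcc y hy z₀ hz₀R))
        by_contra hne
        exact T.ne (hcc y hy z₀ hz₀R) hne hfix
      have hwW := hψW y hy
      rcases T.mem_four hwW (T.apply_mem hwW) hw (fun h => hw (φ.map_eq_one_iff.mp h))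
        (T.ne hwW hw).symm (hψW z hz) with h | h | h | h
      · exact absurd h hw'
      · exact absurd h.symm hww
      · have hu : z₀⁻¹ * z ∈ U := hlow _ (mul_mem (inv_mem hz₀R) hz) (by
          rw [hψmul _ (inv_mem hz₀R) _ hz, ← mul_inv_rev, inv_pow, hz₀ψ, h, inv_mul_cancel])
        rw [show z = z₀ * (z₀⁻¹ * z) by group, hcu y hy z₀ hz₀R _ hu, key]
      · have hu : (y * z₀)⁻¹ * z ∈ U := hlow _ (mul_mem (inv_mem (mul_mem hy hz₀R)) hz) (by
          rw [hψmul _ (inv_mem (mul_mem hy hz₀R)) _ hz, ← mul_inv_rev, inv_pow,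
            hψmul y hy z₀ hz₀R, hz₀ψ, h, inv_mul_cancel])
        rw [show z = y * z₀ * ((y * z₀)⁻¹ * z) by group, hcu y hy _ (mul_mem hy hz₀R) _ hu,
          hcmul y hy y hy z₀ hz₀R, commutatorElement_self, one_mul, key]
    have hRU : R = U := hmax R hRn ⟨⟨fun u v => Subtype.ext
      (commutatorElement_eq_one_iff_mul_comm.mp (hab u u.2 v v.2))⟩⟩ hRA hUR
    intro y hy
    by_contra hyU
    have hlt : U < centralizer (U : Set X) :=
      lt_of_le_of_ne (fun u hu => mem_centralizer_iff.mpr fun v hv => hUc v hv u hu)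
        (fun h => hyU (h ▸ mem_centralizer_iff.mpr fun v hv => (hy v hv).symm))
    obtain ⟨t, ht, htU, ht2, htc⟩ := CfsgLib.PGroup.exists_step T.setup.pgroup U _ hlt
    refine htU (hRU ▸ (⟨fun u hu => (mem_centralizer_iff.mp ht u hu).symm,
      by rw [← pow_two]; exact ht2, fun x => ?_⟩ : t ∈ R))
    have h := inv_mem (htc x)
    rwa [commutatorElement_inv] at h
  -- the pairing at the level of elements of order four
  have hsqU : ∀ w ∈ W, ∃ u ∈ U, u * u = w := fun w hw => hsq_ker w (hWU hw) (hWκ w hw)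
  have hcsq : ∀ g : X, ∀ u ∈ U, ⁅g, u⁆ * ⁅g, u⁆ = ⁅g, u * u⁆ := fun g u hu => by
    rw [show ⁅g, u * u⁆ = ⁅g, u⁆ * (u * ⁅g, u⁆ * u⁻¹) by simp only [commutatorElement_def]; group,
      hUc u hu _ (hconj g u hu), mul_inv_cancel_right]
  have hWcomm : ∀ g : X, ∀ w ∈ W, ⁅g, w⁆ = 1 := fun g w hw =>
    commutatorElement_eq_one_iff_mul_comm.mpr (hWc hw g)
  let D : Subgroup X :=
    { carrier := {u | u ∈ U ∧ u ^ 4 = 1}
      one_mem' := ⟨one_mem _, one_pow _⟩
      mul_mem' := fun {u v} hu hv => ⟨mul_mem hu.1 hv.1, by rw [hpowmul 4 u hu.1 v hv.1, hu.2, hv.2, one_mul]⟩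
      inv_mem' := fun {u} hu => ⟨inv_mem hu.1, by rw [inv_pow, hu.2, inv_one]⟩ }
  have P1 : Pair A W D ⊤ 2 := by
    refine ⟨fun u hu v hv => hUc u hu.1 v hv.1,
      fun ψ hψ u hu => ⟨hUA ψ hψ u hu.1, by rw [← map_pow, hu.2, map_one]⟩,
      fun _ _ g _ => mem_top _, fun u hu => hUinv _ (pow_mem hu.1 _) (by rw [← pow_add]; exact hu.2),
      fun w hw => ?_, fun g _ u hu => ?_, fun g _ u hu h => ?_⟩
    · obtain ⟨u, hu, e⟩ := hsqU w hw
      exact ⟨u, ⟨hu, by rw [show (4 : ℕ) = 2 * 2 from rfl, pow_mul, pow_two u, e, pow_two, T.sq w hw]⟩,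
        by rw [pow_two, e]⟩
    · refine hUinv _ (hconj g u hu.1) ?_
      rw [hcsq g u hu.1]
      exact hWcomm g _ (hUinv _ (mul_mem hu.1 hu.1)
        (by rw [← pow_two, ← pow_two, ← pow_mul]; exact hu.2))
    · exact hWcomm g u (hUinv u hu.1 (by rwa [← pow_two]))
  rcases Nat.eq_or_lt_of_le ha1 with ha2 | ha2
  · -- exponent four
    subst ha2
    have h4 : ∀ u ∈ U, u ^ 4 = 1 := fun u hu => ha u hu
    have hxinj : ∀ x : X, x ∉ U → ∀ u ∈ U, ⁅x, u⁆ = 1 → u * u = 1 := by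
      intro x hx u hu h
      obtain ⟨v, hv, hne⟩ : ∃ v ∈ U, ⁅x, v⁆ ≠ 1 := by
        by_contra hc
        push Not at hc
        exact hx (hCU x fun v hv => commutatorElement_eq_one_iff_mul_comm.mp (hc v hv))
      have e := P1.injective_of_top T rfl (g := x) (P1.pow_mem v ⟨hv, h4 v hv⟩)
        (by rw [P1.pairFun_eq T (mem_top x) ⟨hv, h4 v hv⟩]; exact hne) (P1.pow_mem u ⟨hu, h4 u hu⟩)
        (by rw [P1.pairFun_eq T (mem_top x) ⟨hu, h4 u hu⟩]; exact h)
      rwa [← pow_two]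
    refine ⟨fun x => ?_, fun z hz => ?_⟩
    · by_cases hx : x ∈ U
      · exact hUinv _ (mul_mem hx hx) (by rw [← pow_two, ← pow_two, ← pow_mul]; exact h4 x hx)
      · have hxxU : x * x ∈ U := by
          refine hCU _ fun u hu => commutatorElement_eq_one_iff_mul_comm.mp ?_
          have hv := P1.val x (mem_top x) u ⟨hu, h4 u hu⟩
          rw [show ⁅x * x, u⁆ = x * ⁅x, u⁆ * x⁻¹ * ⁅x, u⁆ by simp only [commutatorElement_def]; group,
            hWc hv x, mul_inv_cancel_right, T.sq _ hv]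
        exact hUinv _ hxxU (hxinj x hx _ hxxU
          (commutatorElement_eq_one_iff_mul_comm.mpr (mul_assoc x x x).symm))
    · obtain ⟨x, hx⟩ : ∃ x, x ∉ U := by
        by_contra hc
        push Not at hc
        exact hna ⟨⟨fun u v => hUc u (hc u) v (hc v)⟩⟩
      have hzU : z ∈ U := hCU z fun u _ => (mem_center_iff.mp hz u).symm
      exact hxinj x hx z hzU (commutatorElement_eq_one_iff_mul_comm.mpr (mem_center_iff.mp hz x))
  -- larger exponent is impossible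
  exfalso
  have hUlt : U < ⊤ := lt_top_iff_ne_top.mpr fun h =>
    hna ⟨⟨fun u v => hUc u (h ▸ mem_top u) v (h ▸ mem_top v)⟩⟩
  haveI : (⊤ : Subgroup X).Normal := inferInstance
  obtain ⟨g₀, -, hg₀U, hg₀2, hg₀c⟩ := CfsgLib.PGroup.exists_step T.setup.pgroup U ⊤ hUlt
  let H : Subgroup X :=
    { carrier := {g | g * g ∈ U ∧ ∀ x : X, ⁅x, g⁆ ∈ U}
      one_mem' := ⟨by simp, fun x => by simp⟩
      mul_mem' := by
        rintro g h ⟨hg, hg'⟩ ⟨hh, hh'⟩
        refine ⟨?_, fun x => ?_⟩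
        · rw [show g * h * (g * h) = g * ⁅h, g⁆ * g⁻¹ * (g * g) * (h * h) by
            rw [commutatorElement_def]; group]
          exact mul_mem (mul_mem (hUn.conj_mem _ (hg' h) g) hg) hh
        · rw [show ⁅x, g * h⁆ = ⁅x, g⁆ * (g * ⁅x, h⁆ * g⁻¹) by
            simp only [commutatorElement_def]; group]
          exact mul_mem (hg' x) (hUn.conj_mem _ (hh' x) g)
      inv_mem' := by
        rintro g ⟨hg, hg'⟩
        refine ⟨by rw [← mul_inv_rev]; exact inv_mem hg, fun x => ?_⟩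
        rw [show ⁅x, g⁻¹⁆ = g⁻¹ * ⁅x, g⁆⁻¹ * g⁻¹⁻¹ by simp only [commutatorElement_def]; group]
        exact hUn.conj_mem _ (inv_mem (hg' x)) _ }
  have hg₀H : g₀ ∈ H := ⟨by rw [← pow_two]; exact hg₀2, fun x => by
    have := inv_mem (hg₀c x); rwa [commutatorElement_inv] at this⟩
  -- `d (d u) * (d u) ^ 2 = 1`
  have hkey : ∀ g ∈ H, ∀ u ∈ U, ⁅g, ⁅g, u⁆⁆ * (⁅g, u⁆ * ⁅g, u⁆) = 1 := by
    intro g hg u hu
    calc ⁅g, ⁅g, u⁆⁆ * (⁅g, u⁆ * ⁅g, u⁆) = g * ⁅g, u⁆ * g⁻¹ * ⁅g, u⁆ := by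
          simp only [commutatorElement_def]; group
      _ = ⁅g * g, u⁆ := by simp only [commutatorElement_def]; group
      _ = 1 := commutatorElement_eq_one_iff_mul_comm.mpr (hUc _ hg.1 u hu)
  have hF4 : ∀ g ∈ H, ∀ u ∈ D, ⁅g, u⁆ = 1 := by
    intro g hg
    by_contra hne
    push Not at hne
    obtain ⟨u₀, hu₀, hne⟩ := hne
    have hinj : ∀ k ∈ W, pairFun D 2 g k = 1 → k = 1 := fun k hk hfk =>
      P1.injective_of_top T rfl (g := g) (P1.pow_mem u₀ hu₀)
        (by rw [P1.pairFun_eq T (mem_top g) hu₀]; exact hne) hk hfk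
    set f := pairFun D 2 g
    have hfW : ∀ w ∈ W, f w ∈ W := fun w hw => P1.pairFun_mem T (mem_top g) hw
    have hff : ∀ w ∈ W, f (f w) * f w = 1 := by
      intro w hw
      obtain ⟨v, hv, hv'⟩ := hsqU w hw
      obtain ⟨u, hu, hu'⟩ := hsq_ker v hv (by
        obtain ⟨a', rfl⟩ : ∃ a', a = a' + 2 := ⟨a - 2, by omega⟩
        have e4 : v ^ 4 = 1 := by
          rw [show (4 : ℕ) = 2 * 2 from rfl, pow_mul, pow_two v, hv', pow_two, T.sq w hw]
        rw [show 2 ^ (a' + 2) = 4 * 2 ^ a' by rw [pow_add]; ring, pow_mul, e4, one_pow])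
      have hv4 : v ∈ D := ⟨hv, by
        rw [show (4 : ℕ) = 2 * 2 from rfl, pow_mul, pow_two v, hv', pow_two, T.sq w hw]⟩
      have e1 : ⁅g, u⁆ * ⁅g, u⁆ = f w := by
        rw [hcsq g u hu, hu', ← P1.pairFun_eq T (mem_top g) hv4, pow_two, hv']
      have hd4 : ⁅g, u⁆ ∈ D := ⟨hconj g u hu, by
        rw [show (4 : ℕ) = 2 * 2 from rfl, pow_mul, pow_two ⁅g, u⁆, e1, pow_two, T.sq _ (hfW w hw)]⟩
      have e2 := hkey g hg u hu
      rw [← P1.pairFun_eq T (mem_top g) hd4, pow_two, e1] at e2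
      exact e2
    have hid : ∀ w ∈ W, f w = w := by
      intro w hw
      have hm : f w * w ∈ W := mul_mem (hfW w hw) hw
      have h1 : f (f w * w) = 1 := by
        show pairFun D 2 g (f w * w) = 1
        rw [P1.pairFun_mul T (mem_top g) (hfW w hw) hw]; exact hff w hw
      have h2 := hinj _ hm h1
      rw [← mul_one (f w), ← T.sq w hw, ← mul_assoc, h2, one_mul]
    obtain ⟨w, hw, hne'⟩ := T.moves
    have hsum := P1.orbit_eq_one T rfl g hw
    rw [P1.pairFun_orbit T (mem_top g) hw] at hsum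
    change f w * φ (f (φ (φ w))) * φ (φ (f (φ w))) = 1 at hsum
    rw [hid w hw, hid _ (T.apply_mem (T.apply_mem hw)),
      hid _ (T.apply_mem hw), T.cube' hw, T.sq w hw, one_mul] at hsum
    exact hne' (by rw [hsum, map_one])
  have hdW : ∀ g ∈ H, ∀ u ∈ U, ⁅g, u⁆ ∈ W := by
    intro g hg
    suffices ∀ k : ℕ, ∀ u ∈ U, u ^ 2 ^ k = 1 → ⁅g, u⁆ * ⁅g, u⁆ = 1 from fun u hu =>
      hUinv _ (hconj g u hu) (this (a + 1) u hu (ha u hu))
    intro k
    induction k with
    | zero =>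
      intro u hu h
      rw [pow_zero, pow_one] at h
      subst h
      simp
    | succ k ih =>
      intro u hu h
      have h2 := ih (u * u) (mul_mem hu hu) (by rw [← pow_two, ← pow_mul, ← pow_succ']; exact h)
      rw [← hcsq g u hu] at h2
      have e := hkey g hg u hu
      rw [hF4 g hg _ ⟨hconj g u hu, ?_⟩, one_mul] at e
      · exact e
      · rw [show (4 : ℕ) = 2 * 2 from rfl, pow_mul, pow_two, pow_two, h2]
  have hH' : ∀ ψ ∈ A, ∀ g ∈ H, ψ g ∈ H := fun ψ hψ g hg => by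
    refine ⟨by rw [← map_mul]; exact hUA ψ hψ _ hg.1, fun x => ?_⟩
    obtain ⟨x, rfl⟩ := ψ.surjective x
    rw [← map_commutatorElement]; exact hUA ψ hψ _ (hg.2 x)
  have hker : ∀ g ∈ H, ∀ u ∈ U, u ^ 2 ^ a = 1 → ⁅g, u⁆ = 1 := fun g hg u hu h => by
    obtain ⟨v, hv, rfl⟩ := hsq_ker u hu h
    rw [← hcsq g v hv, T.sq _ (hdW g hg v hv)]
  have P2 : Pair A W U H (2 ^ a) := ⟨hUc, hUA, hH', hκW, hsurj, hdW, hker⟩
  obtain ⟨u₁, hu₁, hne₁⟩ : ∃ u ∈ U, ⁅g₀, u⁆ ≠ 1 := by
    by_contra hc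
    push Not at hc
    exact hg₀U (hCU g₀ fun v hv => commutatorElement_eq_one_iff_mul_comm.mp (hc v hv))
  obtain ⟨g, hg, hinj⟩ := P2.exists_injective T hg₀H (hκW u₁ hu₁)
    (by rw [P2.pairFun_eq T hg₀H hu₁]; exact hne₁)
  have hgU : g ∉ U := by
    intro hgU
    obtain ⟨u, hu, hu1⟩ := hamin
    refine hu1 (hinj _ (hκW u hu) ?_)
    rw [P2.pairFun_eq T hg hu]
    exact commutatorElement_eq_one_iff_mul_comm.mpr (hUc g hgU u hu)
  have hκg : (g * g) ^ 2 ^ a = 1 := by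
    refine hinj _ (hκW _ hg.1) ?_
    rw [P2.pairFun_eq T hg hg.1]
    exact commutatorElement_eq_one_iff_mul_comm.mpr (mul_assoc g g g).symm
  let m : U →* U :=
    { toFun := fun u => ⟨(u : X) * (g * u * g⁻¹), mul_mem u.2 (hUn.conj_mem _ u.2 g)⟩
      map_one' := Subtype.ext (by simp)
      map_mul' := fun u v => Subtype.ext (by
        show (u : X) * v * (g * (u * v) * g⁻¹) = u * (g * u * g⁻¹) * (v * (g * v * g⁻¹))
        rw [show g * ((u : X) * v) * g⁻¹ = g * u * g⁻¹ * (g * v * g⁻¹) by group,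
          show (u : X) * v * (g * u * g⁻¹ * (g * v * g⁻¹)) =
            u * (v * (g * u * g⁻¹)) * (g * v * g⁻¹) by group,
          hUc v v.2 _ (hUn.conj_mem _ u.2 g)]
        group) }
  have hm : ∀ u : U, (m u : X) = ((u : X) * u) * ⁅g, (u : X)⁆ := fun u => by
    show (u : X) * (g * u * g⁻¹) = _
    rw [show g * (u : X) * g⁻¹ = ⁅g, (u : X)⁆ * u by rw [commutatorElement_def]; group,
      mul_assoc (u : X) u, hUc u u.2 _ (hconj g u u.2)]
  have hκ4 : ∀ u : X, u ^ 4 = 1 → u ^ 2 ^ a = 1 := fun u h => by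
    obtain ⟨a', rfl⟩ : ∃ a', a = a' + 2 := ⟨a - 2, by omega⟩
    rw [show 2 ^ (a' + 2) = 4 * 2 ^ a' by rw [pow_add]; ring, pow_mul, h, one_pow]
  have hmker : ∀ u : U, m u = 1 ↔ (u : X) ∈ W := fun u => by
    constructor
    · intro h
      have e : ((u : X) * u) * ⁅g, (u : X)⁆ = 1 := by rw [← hm, h]; rfl
      have e' : (u : X) * u ∈ W := by
        rw [mul_eq_one_iff_eq_inv] at e; rw [e]; exact inv_mem (hdW g hg u u.2)
      rw [hker g hg u u.2 (hκ4 _ (by
        rw [show (4 : ℕ) = 2 * 2 from rfl, pow_mul, pow_two (u : X), pow_two, T.sq _ e'])), mul_one] at e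
      exact hUinv u u.2 e
    · intro h
      exact Subtype.ext (by rw [hm, hWcomm g _ h, mul_one, T.sq _ h]; rfl)
  have hmrange : m.range = κ.ker := by
    refine eq_of_le_of_card_ge ?_ ?_
    · rintro _ ⟨u, rfl⟩
      apply Subtype.ext
      show ((m u : U) ^ 2 ^ a : U).1 = 1
      rw [coe_pow, hm, hpowmul _ _ (mul_mem u.2 u.2) _ (hconj g u u.2), hWκ _ (hdW g hg u u.2),
        mul_one, ← pow_two, ← pow_mul, ← pow_succ']
      exact ha u u.2
    · have hκr : Nat.card κ.range = 4 := hcardW _ fun u => by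
        constructor
        · rintro ⟨v, rfl⟩
          exact hκW v v.2
        · intro h
          obtain ⟨v, hv, e⟩ := hsurj u h
          exact ⟨⟨v, hv⟩, Subtype.ext e⟩
      have hk : Nat.card m.ker = 4 := hcardW _ fun u => MonoidHom.mem_ker.trans (hmker u)
      have e1 : Nat.card U = Nat.card m.range * 4 := by
        rw [← hk, ← index_ker, mul_comm, card_mul_index]
      have e2 : Nat.card U = 4 * Nat.card κ.ker := by
        rw [← hκr, ← index_ker, mul_comm, card_mul_index]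
      omega
  obtain ⟨u, hu⟩ := hmrange.ge (show (⟨g * g, hg.1⟩⁻¹ : U) ∈ κ.ker from
    inv_mem (MonoidHom.mem_ker.mpr (Subtype.ext (by simpa [κ] using hκg))))
  have hinvo : ((u : X) * g) * (u * g) = 1 := by
    have e : (u : X) * (g * u * g⁻¹) = (g * g)⁻¹ := congrArg Subtype.val hu
    rw [show (u : X) * g * (u * g) = u * (g * u * g⁻¹) * (g * g) by group, e, inv_mul_cancel]
  have hg'H : (u : X) * g ∈ H := mul_mem ⟨mul_mem u.2 u.2, fun x => hconj x u u.2⟩ hg
  refine hgU ?_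
  have hW' : (u : X) * g ∈ W := T.setup.mem_of_sq_eq_one T.le_center T.sq T.card hinvo fun x => by
    rw [← commutatorElement_def]
    set y := (u : X) * g with hy
    set c := ⁅x, y⁆ with hc
    have hcU : c ∈ U := hg'H.2 x
    have e : c * y * (c * y) = 1 := by
      rw [hc, show ⁅x, y⁆ * y * (⁅x, y⁆ * y) = x * (y * y) * x⁻¹ by
        rw [commutatorElement_def]; group, hinvo]
      group
    have hm1 : m ⟨c, hcU⟩ = 1 := by
      apply Subtype.ext
      show c * (g * c * g⁻¹) = 1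
      have e2 : y * c * y⁻¹ = g * c * g⁻¹ := by
        rw [hy, show (u : X) * g * c * ((u : X) * g)⁻¹ = u * (g * c * g⁻¹) * (u : X)⁻¹ by group,
          hUc u u.2 _ (hUn.conj_mem _ hcU g), mul_inv_cancel_right]
      rw [← e2, inv_eq_of_mul_eq_one_right hinvo,
        show c * (y * c * y) = c * y * (c * y) by group, e]
    exact (hmker _).mp hm1
  have := mul_mem (inv_mem u.2) (hWU hW')
  rwa [inv_mul_cancel_left] at this

end CfsgLib.TwoFusion.ScnEmpty
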