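import Cfsg.Agent.Lib.TwoFusion.ScnEmptyFour

/-!
A central four-group with a fixed-point-free automorphism of odd order, and the pairings it
carries.
-/

set_option autoImplicit false

namespace CfsgLib.TwoFusion.ScnEmpty

open Subgroup
open scoped commutatorElement

variable {X : Type*} [Group X] [Finite X] {A : Subgroup (MulAut X)}

/-- A central four-group on which `φ ∈ A` acts without fixed points. -/
structure Turn (A : Subgroup (MulAut X)) (W : Subgroup X) (φ : MulAut X) : Prop where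
  setup : Setup A
  le_center : W ≤ center X
  sq : ∀ w ∈ W, w * w = 1
  card : Nat.card W = 4
  inv : ∀ ψ ∈ A, ∀ w ∈ W, ψ w ∈ W
  mem : φ ∈ A
  moves : ∃ w ∈ W, φ w ≠ w

namespace Turn

variable {W : Subgroup X} {φ : MulAut X} (T : Turn A W φ)
include T

theorem mem_four {a b : X} (ha : a ∈ W) (hb : b ∈ W) (ha1 : a ≠ 1) (hb1 : b ≠ 1) (hab : a ≠ b)
    {w : X} (hw : w ∈ W) : w = 1 ∨ w = a ∨ w = b ∨ w = a * b := by
  classical
  by_contra hc
  push Not at hc
  obtain ⟨h1, h2, h3, h4⟩ := hc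
  have hab1 : a * b ≠ 1 := fun h => hab (by
    rw [← mul_one a, ← T.sq b hb, ← mul_assoc, h, one_mul])
  have haab : a ≠ a * b := fun h => hb1 (mul_eq_left.mp h.symm)
  have hbab : b ≠ a * b := fun h => ha1 (mul_eq_right.mp h.symm)
  have hs : (↑({1, a, b, a * b, w} : Finset X) : Set X) ⊆ W := by
    intro v hv
    simp only [Finset.coe_insert, Finset.coe_singleton, Set.mem_insert_iff,
      Set.mem_singleton_iff] at hv
    rcases hv with rfl | rfl | rfl | rfl | rfl
    exacts [W.one_mem, ha, hb, mul_mem ha hb, hw]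
  have h := Set.ncard_le_ncard hs (Set.toFinite _)
  rw [Set.ncard_coe_finset] at h
  have h5 : ({1, a, b, a * b, w} : Finset X).card = 5 := by
    rw [Finset.card_insert_of_notMem, Finset.card_insert_of_notMem, Finset.card_insert_of_notMem,
      Finset.card_insert_of_notMem, Finset.card_singleton] <;>
      simp [ha1.symm, hb1.symm, hab1.symm, hab, haab, hbab, h1.symm, h2.symm, h3.symm, h4.symm,
        hb1, ha1]
  have h6 : (W : Set X).ncard = 4 := (Nat.card_coe_set_eq (W : Set X)).symm.trans T.card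
  omega

theorem comm {w v : X} (hw : w ∈ W) : v * w = w * v := mem_center_iff.mp (T.le_center hw) v

/-- An element of `A` fixing a nontrivial element of `W` fixes `W`. -/
theorem fixed_all {ψ : MulAut X} (hψ : ψ ∈ A) {w : X} (hw : w ∈ W) (hw1 : w ≠ 1) (hfix : ψ w = w)
    {v : X} (hv : v ∈ W) : ψ v = v := by
  by_cases hv1 : v = 1
  · rw [hv1, map_one]
  by_cases hvw : v = w
  · rw [hvw, hfix]
  rcases T.mem_four hw hv hw1 hv1 (Ne.symm hvw) (T.inv ψ hψ v hv) with h | h | h | h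
  · exact absurd (ψ.map_eq_one_iff.mp h) hv1
  · exact absurd (ψ.injective (h.trans hfix.symm)) hvw
  · exact h
  · rw [← T.comm hw] at h
    obtain ⟨j, hj, hψj⟩ : ∃ j, Odd j ∧ ψ ^ j = 1 :=
      ⟨Nat.card A, T.setup.odd, congrArg Subtype.val (pow_card_eq_one' (x := (⟨ψ, hψ⟩ : A)))⟩
    exact CfsgLib.TwoFusion.OddAut.fix_step hψj hj h hfix (e := 1)
      (by rw [pow_one, pow_two, T.sq w hw])

theorem ne {v : X} (hv : v ∈ W) (hv1 : v ≠ 1) : φ v ≠ v := fun h => by
  obtain ⟨w, hw, hne⟩ := T.moves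
  exact hne (T.fixed_all T.mem hv hv1 h hw)

theorem apply_mem {v : X} (hv : v ∈ W) : φ v ∈ W := T.inv φ T.mem v hv

/-- `φ` permutes the three involutions cyclically. -/
theorem cube {v : X} (hv : v ∈ W) (hv1 : v ≠ 1) : φ (φ v) = v * φ v := by
  have hφv1 : φ v ≠ 1 := fun h => hv1 (φ.map_eq_one_iff.mp h)
  rcases T.mem_four hv (T.apply_mem hv) hv1 hφv1 (T.ne hv hv1).symm
    (T.apply_mem (T.apply_mem hv)) with h | h | h | h
  · exact absurd (φ.map_eq_one_iff.mp h) hφv1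
  · exfalso
    have hall := T.fixed_all (ψ := φ * φ) (mul_mem T.mem T.mem) hv hv1 h hv
    obtain ⟨j, hj, hφj⟩ : ∃ j, Odd j ∧ φ ^ j = 1 :=
      ⟨Nat.card A, T.setup.odd, congrArg Subtype.val (pow_card_eq_one' (x := (⟨φ, T.mem⟩ : A)))⟩
    obtain ⟨l, rfl⟩ := hj
    have h4 : ∀ i : ℕ, ((φ * φ) ^ i) v = v := fun i => by
      induction i with
      | zero => rfl
      | succ i ih => rw [pow_succ', MulAut.mul_apply, ih, hall]
    apply T.ne hv hv1
    have h6 : (φ ^ (2 * l + 1)) v = φ v := by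
      rw [pow_succ', MulAut.mul_apply, pow_mul, pow_two, h4 l]
    rw [← h6, hφj, MulAut.one_apply]
  · exact absurd (φ.injective h) (T.ne hv hv1)
  · exact h

theorem cube' {v : X} (hv : v ∈ W) : φ (φ (φ v)) = v := by
  by_cases hv1 : v = 1
  · simp [hv1]
  rw [T.cube hv hv1, map_mul, T.cube hv hv1, T.comm (v := v) (T.apply_mem hv), ← mul_assoc,
    T.sq _ (T.apply_mem hv), one_mul]

/-- An invariant nontrivial subgroup of `W` is `W`. -/
theorem eq_of_invariant {H : Subgroup X} (hH : H ≤ W) (hinv : ∀ h ∈ H, φ h ∈ H) {h : X}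
    (hh : h ∈ H) (h1 : h ≠ 1) : H = W := by
  refine le_antisymm hH fun w hw => ?_
  rcases T.mem_four (hH hh) (hH (hinv h hh)) h1 (fun e => h1 (φ.map_eq_one_iff.mp e))
    (T.ne (hH hh) h1).symm hw with e | e | e | e <;> rw [e]
  exacts [one_mem _, hh, hinv h hh, mul_mem hh (hinv h hh)]

/-- Each element of `A` acts on `W` as a power of `φ`. -/
theorem apply_eq {ψ : MulAut X} (hψ : ψ ∈ A) :
    (∀ w ∈ W, ψ w = w) ∨ (∀ w ∈ W, ψ w = φ w) ∨ ∀ w ∈ W, ψ w = φ (φ w) := by
  obtain ⟨v, hv, hne⟩ := T.moves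
  have hv1 : v ≠ 1 := fun h => hne (by simp [h])
  have hφv1 : φ v ≠ 1 := fun h => hv1 (φ.map_eq_one_iff.mp h)
  rcases T.mem_four hv (T.apply_mem hv) hv1 hφv1 (T.ne hv hv1).symm (T.inv ψ hψ v hv) with h | h | h | h
  · exact absurd (ψ.map_eq_one_iff.mp h) hv1
  · exact Or.inl fun w hw => T.fixed_all hψ hv hv1 h hw
  · refine Or.inr (Or.inl fun w hw => ?_)
    have := T.fixed_all (ψ := φ⁻¹ * ψ) (mul_mem (inv_mem T.mem) hψ) hv hv1
      (by rw [MulAut.mul_apply, h, MulAut.inv_apply_self]) hw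
    rw [MulAut.mul_apply] at this
    conv_rhs => rw [← this]
    rw [MulAut.apply_inv_self]
  · refine Or.inr (Or.inr fun w hw => ?_)
    have := T.fixed_all (ψ := φ⁻¹ * (φ⁻¹ * ψ))
      (mul_mem (inv_mem T.mem) (mul_mem (inv_mem T.mem) hψ)) hv hv1
      (by rw [MulAut.mul_apply, MulAut.mul_apply, h, ← T.cube hv hv1, MulAut.inv_apply_self,
        MulAut.inv_apply_self]) hw
    rw [MulAut.mul_apply, MulAut.mul_apply] at this
    conv_rhs => rw [← this]
    rw [MulAut.apply_inv_self, MulAut.apply_inv_self]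

/-- A homogeneous additive map killing a nontrivial element is trivial when its three twists cancel. -/
theorem eq_one_of_kernel {f : X → X} (hf : ∀ v ∈ W, ∀ w ∈ W, f (v * w) = f v * f w)
    (hfW : ∀ v ∈ W, f v ∈ W)
    (hsum : ∀ v ∈ W, f v * φ (f (φ (φ v))) * φ (φ (f (φ v))) = 1)
    {k : X} (hk : k ∈ W) (hk1 : k ≠ 1) (hfk : f k = 1) {v : X} (hv : v ∈ W) : f v = 1 := by
  have h := hsum k hk
  rw [hfk, one_mul, T.cube hk hk1, hf k hk _ (T.apply_mem hk), hfk, one_mul] at h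
  set a := f (φ k) with ha
  have haW : a ∈ W := hfW _ (T.apply_mem hk)
  have ha1 : a = 1 := by
    by_contra ha1
    rw [T.cube haW ha1, T.comm (v := a) (T.apply_mem haW), ← mul_assoc, T.sq _ (T.apply_mem haW),
      one_mul] at h
    exact ha1 h
  rcases T.mem_four hk (T.apply_mem hk) hk1 (fun h => hk1 (φ.map_eq_one_iff.mp h))
    (T.ne hk hk1).symm hv with h | h | h | h
  · subst h
    have h' := hf 1 (one_mem W) 1 (one_mem W)
    rw [mul_one] at h'
    exact mul_eq_left.mp h'.symm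
  · rw [h, hfk]
  · rw [h]; exact ha1
  · rw [h, hf k hk _ (T.apply_mem hk), hfk, ← ha, ha1, one_mul]

end Turn

/-- A pairing between a subgroup `H` and `W`, through commutators with a homocyclic subgroup `D`. -/
structure Pair (A : Subgroup (MulAut X)) (W D H : Subgroup X) (n : ℕ) : Prop where
  comm : ∀ u ∈ D, ∀ v ∈ D, u * v = v * u
  invD : ∀ ψ ∈ A, ∀ u ∈ D, ψ u ∈ D
  invH : ∀ ψ ∈ A, ∀ g ∈ H, ψ g ∈ H
  pow_mem : ∀ u ∈ D, u ^ n ∈ W
  surj : ∀ w ∈ W, ∃ u ∈ D, u ^ n = w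
  val : ∀ g ∈ H, ∀ u ∈ D, ⁅g, u⁆ ∈ W
  ker : ∀ g ∈ H, ∀ u ∈ D, u ^ n = 1 → ⁅g, u⁆ = 1

open Classical in
/-- The map `W → W` given by `g`. -/
noncomputable def pairFun (D : Subgroup X) (n : ℕ) (g w : X) : X :=
  if h : ∃ u ∈ D, u ^ n = w then ⁅g, h.choose⁆ else 1

namespace Pair

variable {W D H : Subgroup X} {φ : MulAut X} {n : ℕ} (T : Turn A W φ) (P : Pair A W D H n)
include T P

theorem pairFun_eq {g u : X} (hg : g ∈ H) (hu : u ∈ D) : pairFun D n g (u ^ n) = ⁅g, u⁆ := by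
  have hex : ∃ v ∈ D, v ^ n = u ^ n := ⟨u, hu, rfl⟩
  unfold pairFun
  rw [dif_pos hex]
  obtain ⟨hv, hvn⟩ := hex.choose_spec
  set v := hex.choose
  have hk : u * v⁻¹ ∈ D := mul_mem hu (inv_mem hv)
  have hk1 : (u * v⁻¹) ^ n = 1 := by
    rw [Commute.mul_pow (P.comm u hu v⁻¹ (inv_mem hv)), inv_pow, hvn, mul_inv_cancel]
  have h := commutatorElement_eq_one_iff_mul_comm.mp (P.ker g hg _ hk hk1)
  have hcv := T.comm (v := u * v⁻¹) (P.val g hg v hv)
  calc ⁅g, v⁆ = ⁅g, v⁆ * (u * v⁻¹) * (u * v⁻¹)⁻¹ := by rw [mul_inv_cancel_right]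
    _ = (u * v⁻¹) * ⁅g, v⁆ * (u * v⁻¹)⁻¹ := by rw [hcv]
    _ = (u * v⁻¹ * g) * v * g⁻¹ * u⁻¹ := by rw [commutatorElement_def]; group
    _ = (g * (u * v⁻¹)) * v * g⁻¹ * u⁻¹ := by rw [h]
    _ = ⁅g, u⁆ := by rw [commutatorElement_def]; group

theorem pairFun_mem {g : X} (hg : g ∈ H) {w : X} (hw : w ∈ W) : pairFun D n g w ∈ W := by
  obtain ⟨u, hu, rfl⟩ := P.surj w hw
  rw [P.pairFun_eq T hg hu]; exact P.val g hg u hu

theorem pairFun_mul {g : X} (hg : g ∈ H) {v w : X} (hv : v ∈ W) (hw : w ∈ W) :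
    pairFun D n g (v * w) = pairFun D n g v * pairFun D n g w := by
  obtain ⟨a, ha, rfl⟩ := P.surj v hv
  obtain ⟨b, hb, rfl⟩ := P.surj w hw
  rw [← Commute.mul_pow (P.comm a ha b hb), P.pairFun_eq T hg ha, P.pairFun_eq T hg hb,
    P.pairFun_eq T hg (mul_mem ha hb),
    show ⁅g, a * b⁆ = ⁅g, a⁆ * (a * ⁅g, b⁆ * a⁻¹) by simp only [commutatorElement_def]; group,
    T.comm (v := a) (P.val g hg b hb), mul_inv_cancel_right]

theorem pairFun_mul_left {g h : X} (hg : g ∈ H) (hh : h ∈ H) {w : X} (hw : w ∈ W) :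
    pairFun D n (g * h) w = pairFun D n g w * pairFun D n h w := by
  obtain ⟨a, ha, rfl⟩ := P.surj w hw
  rw [P.pairFun_eq T hg ha, P.pairFun_eq T hh ha, P.pairFun_eq T (mul_mem hg hh) ha,
    show ⁅g * h, a⁆ = g * ⁅h, a⁆ * g⁻¹ * ⁅g, a⁆ by simp only [commutatorElement_def]; group,
    T.comm (v := g) (P.val h hh a ha), mul_inv_cancel_right,
    T.comm (v := ⁅h, a⁆) (P.val g hg a ha)]

theorem pairFun_map {ψ : MulAut X} (hψ : ψ ∈ A) {g : X} (hg : g ∈ H) {w : X} (hw : w ∈ W) :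
    pairFun D n (ψ g) (ψ w) = ψ (pairFun D n g w) := by
  obtain ⟨a, ha, rfl⟩ := P.surj w hw
  rw [map_pow, P.pairFun_eq T hg ha, P.pairFun_eq T (P.invH ψ hψ g hg) (P.invD ψ hψ a ha),
    map_commutatorElement]

/-- The orbit product of `g`. -/
theorem pairFun_orbit {g : X} (hg : g ∈ H) {v : X} (hv : v ∈ W) :
    pairFun D n (g * φ g * φ (φ g)) v = pairFun D n g v * φ (pairFun D n g (φ (φ v))) *
      φ (φ (pairFun D n g (φ v))) := by
  have h1 := P.invH φ T.mem g hg
  have h2 := P.invH φ T.mem _ h1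
  have hv1 := T.apply_mem hv
  rw [P.pairFun_mul_left T (mul_mem hg h1) h2 hv, P.pairFun_mul_left T hg h1 hv,
    ← P.pairFun_map T T.mem hg (T.apply_mem hv1), T.cube' hv,
    ← P.pairFun_map T T.mem hg hv1, ← P.pairFun_map T T.mem h1 (T.apply_mem hv1), T.cube' hv]

theorem orbit_comm {g : X} (hg : g ∈ H) {v : X} (hv : v ∈ W) :
    pairFun D n (g * φ g * φ (φ g)) (φ v) = φ (pairFun D n (g * φ g * φ (φ g)) v) := by
  have m : ∀ {w : X}, w ∈ W → φ w ∈ W := fun h => T.apply_mem h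
  have hf : ∀ {w : X}, w ∈ W → pairFun D n g w ∈ W := fun h => P.pairFun_mem T hg h
  rw [P.pairFun_orbit T hg (m hv), P.pairFun_orbit T hg hv, T.cube' hv, map_mul, map_mul,
    T.cube' (hf (m hv))]
  set a := pairFun D n g (φ v)
  set b := φ (pairFun D n g v)
  set c := φ (φ (pairFun D n g (φ (φ v))))
  rw [mul_assoc a, T.comm (v := b * c) (hf (m hv))]

/-- If some pairing map is nontrivial, one of them has trivial kernel. -/
theorem exists_injective {g : X} (hg : g ∈ H) {w : X} (hw : w ∈ W) (hne : pairFun D n g w ≠ 1) :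
    ∃ g' ∈ H, ∀ k ∈ W, pairFun D n g' k = 1 → k = 1 := by
  have h1 := P.invH φ T.mem g hg
  have h2 := P.invH φ T.mem _ h1
  by_cases hS : ∀ v ∈ W, pairFun D n (g * φ g * φ (φ g)) v = 1
  · refine ⟨g, hg, fun k hk hfk => ?_⟩
    by_contra hk1
    refine hne (T.eq_one_of_kernel (fun a ha b hb => P.pairFun_mul T hg ha hb)
      (fun a ha => P.pairFun_mem T hg ha) (fun a ha => ?_) hk hk1 hfk hw)
    rw [← P.pairFun_orbit T hg ha]; exact hS a ha
  · push Not at hS
    obtain ⟨v, hv, hv'⟩ := hS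
    refine ⟨_, mul_mem (mul_mem hg h1) h2, fun k hk hfk => ?_⟩
    by_contra hk1
    apply hv'
    have hk' : pairFun D n (g * φ g * φ (φ g)) (φ k) = 1 := by
      rw [P.orbit_comm T hg hk, hfk, map_one]
    rcases T.mem_four hk (T.apply_mem hk) hk1 (fun h => hk1 (φ.map_eq_one_iff.mp h))
      (T.ne hk hk1).symm hv with h | h | h | h
    · subst h
      have h' := P.pairFun_mul T (mul_mem (mul_mem hg h1) h2) (one_mem W) (one_mem W)
      rw [mul_one] at h'
      exact mul_eq_left.mp h'.symm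
    · rw [h, hfk]
    · rw [h, hk']
    · rw [h, P.pairFun_mul T (mul_mem (mul_mem hg h1) h2) hk (T.apply_mem hk), hfk, hk', one_mul]

/-- For a pairing with the whole group the orbit products are trivial. -/
theorem orbit_eq_one (htop : H = ⊤) (g : X) {v : X} (hv : v ∈ W) :
    pairFun D n (g * φ g * φ (φ g)) v = 1 := by
  subst htop
  letI : CommGroup ↥W :=
    { (inferInstance : Group ↥W) with mul_comm := fun a b => Subtype.ext (T.comm b.2) }
  let F : X →* (W → W) :=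
    { toFun := fun x w => ⟨pairFun D n x w, P.pairFun_mem T (mem_top x) w.2⟩
      map_one' := by
        funext w
        apply Subtype.ext
        have h := P.pairFun_mul_left T (mem_top (1 : X)) (mem_top 1) w.2
        rw [mul_one] at h
        exact (mul_eq_left.mp h.symm)
      map_mul' := fun x y => funext fun w =>
        Subtype.ext (P.pairFun_mul_left T (mem_top x) (mem_top y) w.2) }
  set G := g * φ g * φ (φ g) with hG
  have h := T.setup.eq_one_of_invariant F (g := G) fun ψ hψ => by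
    funext w
    apply Subtype.ext
    show pairFun D n (ψ G) w = pairFun D n G w
    obtain ⟨x, hx⟩ : ∃ x, ψ x = (w : X) := ⟨_, MulAut.apply_inv_self X ψ w⟩
    have hxW : x ∈ W := by
      have := T.inv ψ⁻¹ (inv_mem hψ) w w.2
      rwa [← hx, MulAut.inv_apply_self] at this
    rw [← hx, P.pairFun_map T hψ (mem_top G) hxW]
    have hmem := P.pairFun_mem T (mem_top G) hxW
    have hc : ∀ {u : X}, u ∈ W → pairFun D n G (φ u) = φ (pairFun D n G u) := fun hu =>
      P.orbit_comm T (mem_top g) hu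
    rcases T.apply_eq hψ with e | e | e <;> rw [e x hxW, e _ hmem]
    · exact (hc hxW).symm
    · rw [hc (T.apply_mem hxW), hc hxW]
  exact congrArg Subtype.val (congrFun h ⟨v, hv⟩)

/-- For a pairing with the whole group a nontrivial map has trivial kernel. -/
theorem injective_of_top (htop : H = ⊤) {g w : X} (hw : w ∈ W) (hne : pairFun D n g w ≠ 1) {k : X}
    (hk : k ∈ W) (hfk : pairFun D n g k = 1) : k = 1 := by
  have hg : g ∈ H := htop ▸ mem_top g
  by_contra hk1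
  refine hne (T.eq_one_of_kernel (fun a ha b hb => P.pairFun_mul T hg ha hb)
    (fun a ha => P.pairFun_mem T hg ha) (fun a ha => ?_) hk hk1 hfk hw)
  rw [← P.pairFun_orbit T hg ha]; exact P.orbit_eq_one T htop g ha

end Pair

end CfsgLib.TwoFusion.ScnEmpty
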