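import Cfsg.Agent.Lib.PGroup.Basic
import Mathlib.GroupTheory.Index
import Mathlib.Tactic.Group

/-!
Anisotropic quadratic maps from an elementary abelian 2-group to a four-group.
-/

set_option autoImplicit false

namespace CfsgLib.TwoFusion.ScnQuad

open Subgroup

variable {V W : Type*} [CommGroup V] [CommGroup W]

/-- An anisotropic nondegenerate quadratic map to a four-group, with its bilinear map. -/
structure Q4 (q : V → W) (B : V → V → W) : Prop where
  sq : ∀ v : V, v * v = 1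
  sqW : ∀ w : W, w * w = 1
  cardW : Nat.card W = 4
  quad : ∀ v w, q (v * w) = q v * q w * B v w
  left : ∀ u v w, B (u * v) w = B u w * B v w
  symm : ∀ v w, B v w = B w v
  self : ∀ v, B v v = 1
  aniso : ∀ v, q v = 1 → v = 1
  nondeg : ∀ v, (∀ w, B v w = 1) → v = 1

/-- Membership in a subgroup generated by two elements of an elementary abelian group. -/
theorem mem_zpowers_sq {G : Type*} [Group G] {a v : G} (ha : a * a = 1) (hv : v ∈ zpowers a) :
    v = 1 ∨ v = a := by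
  obtain ⟨i, rfl⟩ := mem_zpowers_iff.mp hv
  have ha' : a ^ (2 : ℤ) = 1 := by rw [zpow_two, ha]
  rcases Int.even_or_odd' i with ⟨l, rfl | rfl⟩
  · exact Or.inl (by rw [zpow_mul, ha', one_zpow])
  · exact Or.inr (by rw [zpow_add, zpow_mul, ha', one_zpow, one_mul, zpow_one])

theorem card_sup {G : Type*} [CommGroup G] [Finite G] (hsq : ∀ v : G, v * v = 1) {H : Subgroup G}
    {a : G} (ha : a ∉ H) : Nat.card ↥(H ⊔ zpowers a) = 2 * Nat.card H := by
  haveI : Fact (Nat.Prime 2) := ⟨Nat.prime_two⟩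
  exact CfsgLib.PGroup.card_sup_zpowers ha (by rw [pow_two, hsq]; exact one_mem _)

theorem card_zpowers_two {G : Type*} [CommGroup G] (hsq : ∀ v : G, v * v = 1) {a : G} (ha : a ≠ 1) :
    Nat.card (zpowers a) = 2 := by
  haveI : Fact (Nat.Prime 2) := ⟨Nat.prime_two⟩
  rw [Nat.card_zpowers]
  exact orderOf_eq_prime (by rw [pow_two, hsq]) ha

theorem mem_pair {G : Type*} [CommGroup G] (hsq : ∀ v : G, v * v = 1) {a b v : G}
    (h : v ∈ zpowers a ⊔ zpowers b) : v = 1 ∨ v = a ∨ v = b ∨ v = a * b := by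
  obtain ⟨s, hs, t, ht, rfl⟩ := mem_sup.mp h
  rcases mem_zpowers_sq (hsq a) hs with rfl | rfl <;>
    rcases mem_zpowers_sq (hsq b) ht with rfl | rfl <;> simp

theorem complement {G : Type*} [CommGroup G] [Finite G] (hsq : ∀ v : G, v * v = 1) {K : Subgroup G}
    {x : G} (hx : x ∈ K) (hx1 : x ≠ 1) :
    ∃ M ≤ K, x ∉ M ∧ Nat.card K = 2 * Nat.card M ∧ M ⊔ zpowers x = K := by
  obtain ⟨M, ⟨hMK, hxM⟩, hmax⟩ :=
    (Set.toFinite {M : Subgroup G | M ≤ K ∧ x ∉ M}).exists_maximal ⟨⊥, bot_le, fun h => hx1 (mem_bot.mp h)⟩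
  have heq : M ⊔ zpowers x = K := by
    refine le_antisymm (sup_le hMK (zpowers_le.mpr hx)) fun k hk => ?_
    by_cases hkM : k ∈ M
    · exact mem_sup_left hkM
    have hx' : x ∈ M ⊔ zpowers k := by
      by_contra h
      exact hkM ((hmax ⟨sup_le hMK (zpowers_le.mpr hk), h⟩ le_sup_left)
        (mem_sup_right (mem_zpowers k)))
    obtain ⟨m, hm, y, hy, he⟩ := mem_sup.mp hx'
    rcases mem_zpowers_sq (hsq k) hy with rfl | rfl
    · rw [mul_one] at he; exact absurd (he ▸ hm) hxM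
    · rw [show y = m⁻¹ * x by rw [← he, inv_mul_cancel_left]]
      exact mul_mem (mem_sup_left (inv_mem hm)) (mem_sup_right (mem_zpowers x))
  exact ⟨M, hMK, hxM, heq ▸ card_sup hsq hxM, heq⟩

theorem exists_triple {G : Type*} [CommGroup G] [Finite G] (hsq : ∀ v : G, v * v = 1) {M : Subgroup G}
    (h : 8 ≤ Nat.card M) : ∃ a b d, a ∈ M ∧ b ∈ M ∧ d ∈ M ∧ a ≠ 1 ∧ b ∉ zpowers a ∧
      d ∉ zpowers a ⊔ zpowers b := by
  have hne : ∀ H : Subgroup G, Nat.card H < Nat.card M → ∃ v ∈ M, v ∉ H := fun H hH => by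
    by_contra hc
    push Not at hc
    exact absurd (card_le_of_le hc) (not_le.mpr hH)
  obtain ⟨a, haM, ha⟩ := hne ⊥ (by rw [card_bot]; omega)
  have ha1 : a ≠ 1 := fun e => ha (e ▸ one_mem _)
  obtain ⟨b, hbM, hb⟩ := hne (zpowers a) (by rw [card_zpowers_two hsq ha1]; omega)
  obtain ⟨d, hdM, hd⟩ := hne (zpowers a ⊔ zpowers b)
    (by rw [card_sup hsq hb, card_zpowers_two hsq ha1]; omega)
  exact ⟨a, b, d, haM, hbM, hdM, ha1, hb, hd⟩

namespace Q4

variable {q : V → W} {B : V → V → W} (Q : Q4 q B)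
include Q

theorem right (u v w : V) : B u (v * w) = B u v * B u w := by
  rw [Q.symm, Q.left, Q.symm v, Q.symm w]

theorem q_one : q 1 = 1 := by
  have h := Q.quad 1 1
  rw [Q.self, mul_one, Q.sqW, mul_one] at h
  exact h

theorem B_one (u : V) : B u 1 = 1 := by
  have h := Q.right u 1 1
  rw [Q.sqW, mul_one] at h
  exact h

/-- `w ↦ B v w`. -/
def hom (v : V) : V →* W where
  toFun := B v
  map_one' := Q.B_one v
  map_mul' := Q.right v

theorem hom_apply (v w : V) : Q.hom v w = B v w := rfl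

theorem three_values [Finite W] {α β γ : W} (hα : α ≠ 1) (hβ : β ≠ 1) (hγ : γ ≠ 1) (hαβ : α ≠ β)
    (hαγ : α ≠ γ) (hβγ : β ≠ γ) : α * β * γ = 1 := by
  have hb : β ∉ zpowers α := fun h => by
    rcases mem_zpowers_sq (Q.sqW α) h with h | h
    exacts [hβ h, hαβ h.symm]
  have htop : zpowers α ⊔ zpowers β = ⊤ :=
    eq_top_of_card_eq _ (by rw [card_sup Q.sqW hb, card_zpowers_two Q.sqW hα, Q.cardW])
  rcases mem_pair Q.sqW (htop ▸ mem_top γ) with h | h | h | h
  · exact absurd h hγ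
  · exact absurd h.symm hαγ
  · exact absurd h.symm hβγ
  · rw [h, Q.sqW]

theorem no_iso3 [Finite W] {a b d : V} (ha : a ≠ 1) (hb : b ∉ zpowers a)
    (hd : d ∉ zpowers a ⊔ zpowers b) (hab : B a b = 1) (had : B a d = 1) (hbd : B b d = 1) :
    False := by
  have hdich : ∀ u v, B u v = 1 → q u = q v → u = v := fun u v h e => by
    have h1 := Q.aniso (u * v) (by rw [Q.quad, h, e, Q.sqW, mul_one])
    rw [← one_mul v, ← h1, mul_assoc, Q.sq, mul_one]
  have hb1 : b ≠ 1 := fun h => hb (h ▸ one_mem _)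
  have hd1 : d ≠ 1 := fun h => hd (h ▸ one_mem _)
  have habd := Q.three_values (fun h => ha (Q.aniso a h)) (fun h => hb1 (Q.aniso b h))
    (fun h => hd1 (Q.aniso d h)) (fun h => hb (hdich a b hab h ▸ mem_zpowers a))
    (fun h => hd (hdich a d had h ▸ mem_sup_left (mem_zpowers a)))
    (fun h => hd (hdich b d hbd h ▸ mem_sup_right (mem_zpowers b)))
  have hz := Q.aniso (a * b * d) (by rw [Q.quad, Q.quad, hab, mul_one, Q.left, had, hbd, mul_one,
    mul_one, habd])
  refine hd ?_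
  rw [show d = (a * b)⁻¹ from eq_inv_of_mul_eq_one_right hz]
  exact inv_mem (mul_mem (mem_sup_left (mem_zpowers a)) (mem_sup_right (mem_zpowers b)))

/-- Three independent vectors span two independent commuting ones. -/
theorem key3 [Finite W] {M : Subgroup V} {a b d : V} (haM : a ∈ M) (hbM : b ∈ M) (hdM : d ∈ M)
    (ha : a ≠ 1) (hb : b ∉ zpowers a) (hd : d ∉ zpowers a ⊔ zpowers b) :
    ∃ p ∈ M, ∃ r ∈ M, p ≠ 1 ∧ r ≠ 1 ∧ p ≠ r ∧ B p r = 1 := by
  have hA : a ∈ zpowers a ⊔ zpowers b := mem_sup_left (mem_zpowers a)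
  have hB : b ∈ zpowers a ⊔ zpowers b := mem_sup_right (mem_zpowers b)
  have hb1 : b ≠ 1 := fun h => hb (h ▸ one_mem _)
  have hd1 : d ≠ 1 := fun h => hd (h ▸ one_mem _)
  have hab' : a ≠ b := fun h => hb (h ▸ mem_zpowers a)
  have hinv : ∀ u v : V, u * v = 1 → v = u := fun u v h => by
    rw [← mul_one u, ← h, ← mul_assoc, Q.sq, one_mul]
  have hnot : ∀ u ∈ zpowers a ⊔ zpowers b, u * d ≠ 1 := fun u hu h => hd (hinv u d h ▸ hu)
  by_cases h1 : B a b = 1
  · exact ⟨a, haM, b, hbM, ha, hb1, hab', h1⟩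
  by_cases h2 : B a d = 1
  · exact ⟨a, haM, d, hdM, ha, hd1, fun h => hd (h ▸ hA), h2⟩
  by_cases h3 : B b d = 1
  · exact ⟨b, hbM, d, hdM, hb1, hd1, fun h => hd (h ▸ hB), h3⟩
  have cancel : ∀ u v : V, u = u * v → v = 1 := fun u v h => (mul_eq_left.mp h.symm)
  by_cases e1 : B a b = B a d
  · refine ⟨a, haM, b * d, mul_mem hbM hdM, ha, hnot b hB, fun h => hnot (a * b) (mul_mem hA hB) ?_, ?_⟩
    · rw [mul_assoc, ← h, Q.sq]
    · rw [Q.right, e1, Q.sqW]
  by_cases e2 : B a b = B b d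
  · refine ⟨b, hbM, a * d, mul_mem haM hdM, hb1, hnot a hA, fun h => hnot (a * b) (mul_mem hA hB) ?_, ?_⟩
    · rw [mul_assoc, mul_left_comm, ← h, Q.sq]
    · rw [Q.right, Q.symm b a, e2, Q.sqW]
  by_cases e3 : B a d = B b d
  · refine ⟨d, hdM, a * b, mul_mem haM hbM, hd1, fun h => hab' (hinv a b h).symm,
      fun h => hd (h ▸ mul_mem hA hB), ?_⟩
    rw [Q.right, Q.symm d a, Q.symm d b, e3, Q.sqW]
  refine ⟨a * b, mul_mem haM hbM, a * d, mul_mem haM hdM, fun h => hab' (hinv a b h).symm, hnot a hA,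
    fun h => hd (mul_left_cancel h ▸ hB), ?_⟩
  rw [Q.left, Q.right, Q.right, Q.self, one_mul, Q.symm b a]
  calc B a d * (B a b * B b d) = B a b * B a d * B b d := by
        rw [← mul_assoc, mul_comm (B a d) (B a b)]
    _ = 1 := Q.three_values h1 h2 h3 e1 e2 e3

variable [Finite V] [Finite W]

theorem card_eq_pow : ∃ n, Nat.card V = 2 ^ n := by
  haveI : Fact (Nat.Prime 2) := ⟨Nat.prime_two⟩
  exact IsPGroup.exists_card_eq (G := V) (fun v => ⟨1, by rw [pow_one, pow_two, Q.sq]⟩)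

theorem card_eq_ker_mul (v : V) : Nat.card V = Nat.card (Q.hom v).ker * Nat.card (Q.hom v).range := by
  rw [← index_ker, card_mul_index]

/-- The dimension is at most four. -/
theorem card_le : Nat.card V ≤ 16 := by
  obtain ⟨n, hn⟩ := Q.card_eq_pow
  by_contra hbig
  have h32 : 32 ≤ Nat.card V := by
    rw [hn] at hbig ⊢
    have : 5 ≤ n := by
      by_contra h
      exact hbig (le_trans (Nat.pow_le_pow_right two_pos (by omega : n ≤ 4)) (by norm_num))
    exact le_trans (by norm_num) (Nat.pow_le_pow_right two_pos this)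
  have hle : ∀ v, Nat.card (Q.hom v).range ≤ 4 := fun v =>
    (card_le_card_group _).trans_eq Q.cardW
  have hsurj : ∀ v, v ≠ 1 → Function.Surjective (Q.hom v) ∧ Nat.card V = 32 := by
    intro v hv
    have hK : Nat.card (Q.hom v).ker ≤ 8 := by
      by_contra hK
      have hvK : v ∈ (Q.hom v).ker := Q.self v
      obtain ⟨M, hMK, hvM, hKM, -⟩ := complement Q.sq hvK hv
      obtain ⟨a, b, d, haM, hbM, hdM, ha, hb, hd⟩ := exists_triple Q.sq (M := M) (by
        obtain ⟨m, hm⟩ := IsPGroup.exists_card_eq (p := 2) (G := M)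
          (fun u => ⟨1, Subtype.ext (by simp [pow_two, Q.sq])⟩)
        rw [hm] at hKM ⊢
        have : 3 ≤ m := by
          by_contra h
          have := Nat.pow_le_pow_right two_pos (by omega : m ≤ 2)
          omega
        exact le_trans (by norm_num) (Nat.pow_le_pow_right two_pos this))
      obtain ⟨p, hpM, r, hrM, hp, hr, hpr, hB⟩ := Q.key3 haM hbM hdM ha hb hd
      refine Q.no_iso3 hv (b := p) (d := r) (fun h => ?_) (fun h => ?_) (hMK hpM) (hMK hrM) hB
      · rcases mem_zpowers_sq (Q.sq v) h with h | h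
        exacts [hp h, hvM (h ▸ hpM)]
      · rcases mem_pair Q.sq h with h | h | h | h
        · exact hr h
        · exact hvM (h ▸ hrM)
        · exact hpr h.symm
        · refine hvM ?_
          rw [show v = r * p by rw [h, mul_assoc, Q.sq, mul_one]]
          exact mul_mem hrM hpM
    have h := Q.card_eq_ker_mul v
    have h32' : Nat.card V ≤ 8 * 4 := h.le.trans (Nat.mul_le_mul hK (hle v))
    refine ⟨?_, by omega⟩
    have : Nat.card (Q.hom v).range = 4 := by
      by_contra hne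
      have := hle v
      have h3 : Nat.card V ≤ 8 * 3 := h.le.trans (Nat.mul_le_mul hK (by omega))
      omega
    exact MonoidHom.range_eq_top.mp (eq_top_of_card_eq _ (this.trans Q.cardW.symm))
  haveI : Nontrivial V := Finite.one_lt_card_iff_nontrivial.mp (by omega)
  obtain ⟨x, hx⟩ := exists_ne (1 : V)
  haveI : Nontrivial W := Finite.one_lt_card_iff_nontrivial.mp (by rw [Q.cardW]; norm_num)
  obtain ⟨u, hu⟩ := exists_ne (1 : W)
  set S := zpowers u with hS
  have hSidx : S.index = 2 := by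
    have := card_mul_index S
    rw [hS, card_zpowers_two Q.sqW hu, Q.cardW] at this
    rw [hS]
    omega
  -- the radical modulo `u`
  have hrad : ∀ r : V, r ≠ 1 → S.comap (Q.hom r) ≠ ⊤ := fun r hr h => by
    have hS' : S = ⊤ := by
      rw [eq_top_iff]
      intro w _
      obtain ⟨s, rfl⟩ := (hsurj r hr).1 w
      exact (h ▸ mem_top s : s ∈ S.comap (Q.hom r))
    rw [hS', index_top] at hSidx
    omega
  have hV : Nat.card V = 32 := (hsurj x hx).2
  have hidx : ∀ r : V, r ≠ 1 → Nat.card ↥(S.comap (Q.hom r)) = 16 := fun r hr => by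
    have h := card_mul_index (S.comap (Q.hom r))
    rw [index_comap_of_surjective _ (hsurj r hr).1, hSidx, hV] at h
    omega
  have hxK : x ∈ S.comap (Q.hom x) := by
    rw [mem_comap, Q.hom_apply, Q.self]; exact one_mem _
  obtain ⟨M, hMK, hxM, hKM, heq⟩ := complement Q.sq hxK hx
  rw [hidx x hx] at hKM
  obtain ⟨a, b, d, haM, hbM, hdM, ha, hb, hd⟩ := exists_triple Q.sq (M := M) (by omega)
  have hMeq : zpowers a ⊔ zpowers b ⊔ zpowers d = M :=
    eq_of_le_of_card_ge (sup_le (sup_le (zpowers_le.mpr haM) (zpowers_le.mpr hbM)) (zpowers_le.mpr hdM))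
      (by rw [card_sup Q.sq hd, card_sup Q.sq hb, card_zpowers_two Q.sq ha]; omega)
  have hA : a ∈ zpowers a ⊔ zpowers b := mem_sup_left (mem_zpowers a)
  have hB : b ∈ zpowers a ⊔ zpowers b := mem_sup_right (mem_zpowers b)
  have hmul : ∀ α β : W, α ∉ S → β ∉ S → α * β ∈ S := fun α β hα hβ =>
    (mul_mem_iff_of_index_two hSidx).mpr (iff_of_false hα hβ)
  have hne : ∀ v, v ∈ zpowers a ⊔ zpowers b → v * d ≠ 1 := fun v hv h => hd (by
    rw [show d = v⁻¹ from eq_inv_of_mul_eq_one_right h]; exact inv_mem hv)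
  have hab1 : a * b ≠ 1 := fun h => hb (by
    rw [show b = a⁻¹ from eq_inv_of_mul_eq_one_right h]; exact inv_mem (mem_zpowers a))
  obtain ⟨r, hrM, hr1, hra, hrb, hrd⟩ : ∃ r ∈ M, r ≠ 1 ∧ B r a ∈ S ∧ B r b ∈ S ∧ B r d ∈ S := by
    have s1 : ∀ v, B v v ∈ S := fun v => by rw [Q.self]; exact one_mem _
    have sy : ∀ v w, B v w ∈ S → B w v ∈ S := fun v w h => by rwa [Q.symm]
    have ns : ∀ v w, B v w ∉ S → B w v ∉ S := fun v w h => by rwa [Q.symm]
    by_cases hC : B a b ∈ S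
    · by_cases hB' : B a d ∈ S
      · exact ⟨a, haM, ha, s1 a, hC, hB'⟩
      by_cases hA' : B b d ∈ S
      · exact ⟨b, hbM, fun h => hb (h ▸ one_mem _), sy _ _ hC, s1 b, hA'⟩
      refine ⟨a * b, mul_mem haM hbM, hab1, ?_, ?_, ?_⟩ <;> rw [Q.left]
      · exact mul_mem (s1 a) (sy _ _ hC)
      · exact mul_mem hC (s1 b)
      · exact hmul _ _ hB' hA'
    by_cases hB' : B a d ∈ S
    · by_cases hA' : B b d ∈ S
      · exact ⟨d, hdM, fun h => hd (h ▸ one_mem _), sy _ _ hB', sy _ _ hA', s1 d⟩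
      refine ⟨a * d, mul_mem haM hdM, hne a hA, ?_, ?_, ?_⟩ <;> rw [Q.left]
      · exact mul_mem (s1 a) (sy _ _ hB')
      · exact hmul _ _ hC (ns _ _ hA')
      · exact mul_mem hB' (s1 d)
    by_cases hA' : B b d ∈ S
    · refine ⟨b * d, mul_mem hbM hdM, hne b hB, ?_, ?_, ?_⟩ <;> rw [Q.left]
      · exact hmul _ _ (ns _ _ hC) (ns _ _ hB')
      · exact mul_mem (s1 b) (sy _ _ hA')
      · exact mul_mem hA' (s1 d)
    refine ⟨a * b * d, mul_mem (mul_mem haM hbM) hdM, hne _ (mul_mem hA hB), ?_, ?_, ?_⟩ <;>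
      rw [Q.left, Q.left, Q.self]
    · rw [one_mul]; exact hmul _ _ (ns _ _ hC) (ns _ _ hB')
    · rw [mul_one]; exact hmul _ _ hC (ns _ _ hA')
    · rw [mul_one]; exact hmul _ _ hB' hA'
  have hML : M ≤ S.comap (Q.hom r) := by
    rw [← hMeq]
    exact sup_le (sup_le (zpowers_le.mpr hra) (zpowers_le.mpr hrb)) (zpowers_le.mpr hrd)
  have hKL : S.comap (Q.hom r) = S.comap (Q.hom x) := by
    symm
    refine eq_of_le_of_card_ge ?_ (by rw [hidx x hx, hidx r hr1])
    rw [← heq]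
    refine sup_le hML (zpowers_le.mpr ?_)
    rw [mem_comap, Q.hom_apply, Q.symm]
    exact hMK hrM
  refine hrad (r * x) (fun h => hxM ?_) ?_
  · rw [show x = r⁻¹ from eq_inv_of_mul_eq_one_right h]; exact inv_mem hrM
  rw [eq_top_iff]
  intro s _
  rw [mem_comap, Q.hom_apply, Q.left, ← Q.hom_apply, ← Q.hom_apply,
    mul_mem_iff_of_index_two hSidx, ← mem_comap, ← mem_comap, hKL]

/-- In dimension three there is a unique commuting hyperplane. -/
theorem card_eight (h8 : Nat.card V = 8) :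
    ∃ P : Subgroup V, P.index = 2 ∧ (∀ v ∈ P, ∀ w ∈ P, B v w = 1) ∧
      ∀ R : Subgroup V, R.index = 2 → (∀ v ∈ R, ∀ w ∈ R, B v w = 1) → R = P := by
  obtain ⟨a, b, d, -, -, -, ha, hb, hd⟩ := exists_triple Q.sq (M := (⊤ : Subgroup V))
    (by rw [card_top, h8])
  obtain ⟨p, -, r, -, hp, hr, hpr, hB⟩ :=
    Q.key3 (M := ⊤) (mem_top a) (mem_top b) (mem_top d) ha hb hd
  have hr' : r ∉ zpowers p := fun h => by
    rcases mem_zpowers_sq (Q.sq p) h with h | h
    exacts [hr h, hpr h.symm]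
  have hiso : ∀ v ∈ zpowers p ⊔ zpowers r, ∀ w ∈ zpowers p ⊔ zpowers r, B v w = 1 := by
    intro v hv w hw
    rcases mem_pair Q.sq hv with e | e | e | e <;>
      rcases mem_pair Q.sq hw with e' | e' | e' | e' <;> rw [e, e'] <;>
      simp [Q.left, Q.right, Q.self, hB, Q.symm r p, Q.B_one, Q.symm 1]
  have hPidx : (zpowers p ⊔ zpowers r).index = 2 := by
    have := card_mul_index (zpowers p ⊔ zpowers r)
    rw [card_sup Q.sq hr', card_zpowers_two Q.sq hp, h8] at this
    omega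
  refine ⟨_, hPidx, hiso, fun R hR hRiso => ?_⟩
  set P := zpowers p ⊔ zpowers r with hP
  by_contra hne
  have hR4 : Nat.card R = 4 := by
    have := card_mul_index R
    rw [hR, h8] at this; omega
  have hP4 : Nat.card P = 4 := by
    have := card_mul_index P
    rw [hPidx, h8] at this; omega
  have htop : R ⊔ P = ⊤ := by
    by_contra hlt
    obtain ⟨s, hs, hsn⟩ : ∃ s, s ∈ R ∧ s ∉ P := by
      by_contra hc
      push Not at hc
      exact hne (eq_of_le_of_card_ge hc (by omega))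
    have h1 := card_sup Q.sq hsn
    have h2 : P ⊔ zpowers s ≤ R ⊔ P := sup_le le_sup_right ((zpowers_le.mpr hs).trans le_sup_left)
    exact hlt (eq_top_of_card_eq _ (le_antisymm (card_le_card_group _)
      (by rw [h8]; exact le_trans (by omega) (card_le_of_le h2))))
  obtain ⟨v, hvR, hvP, hv1⟩ : ∃ v, v ∈ R ∧ v ∈ P ∧ v ≠ 1 := by
    by_contra hc
    push Not at hc
    have hinj : Function.Injective (fun z : R × P => (z.1 : V) * z.2) := by
      rintro ⟨⟨u, hu⟩, ⟨w, hw⟩⟩ ⟨⟨u', hu'⟩, ⟨w', hw'⟩⟩ e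
      have e' : u'⁻¹ * u = w' * w⁻¹ := by
        have : u = u' * w' * w⁻¹ := eq_mul_inv_of_mul_eq e
        rw [this, mul_assoc, inv_mul_cancel_left]
      have h1 : u'⁻¹ * u = 1 :=
        hc _ (mul_mem (inv_mem hu') hu) (by rw [e']; exact mul_mem hw' (inv_mem hw))
      have h2 : u' = u := inv_mul_eq_one.mp h1
      subst h2
      have h3 : w = w' := mul_left_cancel (show u' * w = u' * w' from e)
      subst h3
      rfl
    have := Nat.card_le_card_of_injective _ hinj
    rw [Nat.card_prod, hR4, hP4, h8] at this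
    omega
  refine hv1 (Q.nondeg v fun w => ?_)
  obtain ⟨u, hu, t, ht, rfl⟩ := mem_sup.mp (htop ▸ mem_top w)
  rw [Q.right, hRiso v hvR u hu, hiso v hvP t ht, one_mul]

/-- In dimension two all values of the form lie in a subgroup of order two. -/
theorem card_four (h4 : Nat.card V = 4) : ∃ u : W, ∀ v w, B v w ∈ zpowers u := by
  haveI : Nontrivial V := Finite.one_lt_card_iff_nontrivial.mp (by omega)
  obtain ⟨a, ha⟩ := exists_ne (1 : V)
  obtain ⟨b, hb⟩ : ∃ b, b ∉ zpowers a := by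
    by_contra hc
    push Not at hc
    have h : zpowers a = ⊤ := eq_top_iff.mpr fun v _ => hc v
    have := card_zpowers_two Q.sq ha
    rw [h, card_top, h4] at this
    omega
  have htop : zpowers a ⊔ zpowers b = ⊤ :=
    eq_top_of_card_eq _ (by rw [card_sup Q.sq hb, card_zpowers_two Q.sq ha, h4])
  refine ⟨B a b, fun v w => ?_⟩
  rcases mem_pair Q.sq (htop ▸ mem_top v) with e | e | e | e <;>
    rcases mem_pair Q.sq (htop ▸ mem_top w) with e' | e' | e' | e' <;> rw [e, e'] <;>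
    simp [Q.left, Q.right, Q.self, Q.B_one, Q.symm 1, Q.symm b a, Q.sqW,
      mem_zpowers]

end Q4

end CfsgLib.TwoFusion.ScnQuad
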