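import Cfsg.Agent.Lib.TwoFusion.ScnEmptyBase
import Cfsg.Agent.Lib.TwoFusion.ScnEmptyQuad

/-!
The case of a centre of order four: the group is special of order 64.
-/

set_option autoImplicit false

namespace CfsgLib.TwoFusion.ScnEmpty

open Subgroup

variable {X : Type*} [Group X] [Finite X] {A : Subgroup (MulAut X)}

theorem normal_of_center_le {H : Subgroup X} (hH : center X ≤ H)
    (hc : ∀ x y : X, x * y * x⁻¹ * y⁻¹ ∈ center X) : H.Normal :=
  ⟨fun n hn g => by simpa using mul_mem (hH (hc g n)) hn⟩

/-- An involution whose commutators lie in a central elementary subgroup of order four lies in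
it. -/
theorem Setup.mem_of_sq_eq_one (S : Setup A) {W : Subgroup X} (hW : W ≤ center X)
    (hW2 : ∀ w ∈ W, w * w = 1) (hW4 : Nat.card W = 4) {s : X} (hs : s * s = 1)
    (hsc : ∀ x : X, x * s * x⁻¹ * s⁻¹ ∈ W) : s ∈ W := by
  haveI : Fact (Nat.Prime 2) := ⟨Nat.prime_two⟩
  by_contra hsW
  have hWe : Cfsg.IsElementaryAbelian 2 W :=
    ⟨⟨⟨fun a b => Subtype.ext (mem_center_iff.mp (hW b.2) a)⟩⟩,
      fun w hw => by rw [pow_two, hW2 w hw]⟩
  obtain ⟨hE, hE8⟩ := CfsgLib.TwoFusion.SymplecticHyperplanes.elem_insert hWe (x := s)
    (by rw [pow_two, hs]) hsW (fun e he => (mem_center_iff.mp (hW he) s).symm)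
  refine S.noE8 _ ?_ hE.1 _ le_rfl hE (by rw [hE8, hW4])
  refine ⟨fun n hn g => ?_⟩
  haveI : W.Normal := ⟨fun w hw g => by
    rw [mem_center_iff.mp (hW hw) g, mul_inv_cancel_right]; exact hw⟩
  obtain ⟨w, hw, t, ht, rfl⟩ := mem_sup_of_normal_left.mp hn
  have hwg : g * w * g⁻¹ = w := by rw [mem_center_iff.mp (hW hw) g, mul_inv_cancel_right]
  rw [show g * (w * t) * g⁻¹ = (g * w * g⁻¹) * (g * t * g⁻¹) by group, hwg]
  refine mul_mem (mem_sup_left hw) ?_
  obtain ⟨i, rfl⟩ := mem_zpowers_iff.mp ht
  rw [← conj_zpow]
  refine zpow_mem ?_ i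
  rw [show g * s * g⁻¹ = (g * s * g⁻¹ * s⁻¹) * s by group]
  exact mul_mem (mem_sup_left (hsc g)) (mem_sup_right (mem_zpowers s))

variable (S : Setup A)
include S

/-- The centre has order four and contains the squares: the group is special of order 64. -/
theorem Setup.special_sixty_four (hna : ¬ IsMulCommutative X) (hZ4 : Nat.card (center X) = 4)
    (hZ2 : ∀ z ∈ center X, z * z = 1) (hsq : ∀ x : X, x * x ∈ center X)
    (hcomm : commutator X = center X) :
    Cfsg.IsSpecial 2 X ∧ Nat.card X = 64 ∧ Nat.card {x : X // orderOf x = 2} = 3 ∧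
      ∀ x : X, orderOf x = 2 → x ∈ center X := by
  classical
  haveI : Fact (Nat.Prime 2) := ⟨Nat.prime_two⟩
  have hcmem : ∀ x y : X, x * y * x⁻¹ * y⁻¹ ∈ center X := fun x y => by
    rw [← hcomm, ← commutatorElement_def]
    exact commutator_mem_commutator (mem_top x) (mem_top y)
  have hinv : ∀ x : X, x * x = 1 → x ∈ center X := fun x hx =>
    S.mem_of_sq_eq_one le_rfl hZ2 hZ4 hx (fun y => hcmem y x)
  -- the quadratic map on the central quotient
  letI : CommGroup (X ⧸ center X) :=
    { (inferInstance : Group (X ⧸ center X)) with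
      mul_comm := fun a b => by
        induction a using QuotientGroup.induction_on with | _ x =>
        induction b using QuotientGroup.induction_on with | _ y =>
        rw [← QuotientGroup.mk_mul, ← QuotientGroup.mk_mul, eq_comm, QuotientGroup.eq]
        have := hcmem x⁻¹ y⁻¹
        simpa [mul_assoc] using this }
  letI : CommGroup ↥(center X) :=
    { (inferInstance : Group ↥(center X)) with
      mul_comm := fun a b => Subtype.ext (mem_center_iff.mp b.2 a) }
  let q : X ⧸ center X → center X := fun v => ⟨v.out * v.out, hsq _⟩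
  let B : X ⧸ center X → X ⧸ center X → center X := fun v w =>
    ⟨v.out * w.out * v.out⁻¹ * w.out⁻¹, hcmem _ _⟩
  have hout : ∀ x : X, ∃ z ∈ center X, (QuotientGroup.mk x : X ⧸ center X).out = x * z := fun x => by
    obtain ⟨z, hz⟩ := QuotientGroup.mk_out_eq_mul (center X) x
    exact ⟨z, z.2, hz⟩
  have hz' : ∀ (z g : X), z ∈ center X → g * z = z * g := fun z g hz => mem_center_iff.mp hz g
  have hq : ∀ x : X, (q (QuotientGroup.mk x) : X) = x * x := fun x => by
    obtain ⟨z, hz, e⟩ := hout x
    show _ * _ = _
    rw [e, show x * z * (x * z) = x * (z * x) * z by group, ← hz' z x hz,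
      show x * (x * z) * z = x * x * (z * z) by group, hZ2 z hz, mul_one]
  have hB : ∀ x y : X,
      (B (QuotientGroup.mk x) (QuotientGroup.mk y) : X) = x * y * x⁻¹ * y⁻¹ := fun x y => by
    obtain ⟨z, hz, e⟩ := hout x
    obtain ⟨z', hz'', e'⟩ := hout y
    show _ * _ * _⁻¹ * _⁻¹ = _
    rw [e, e', show x * z * (y * z') * (x * z)⁻¹ * (y * z')⁻¹ =
      x * (z * (y * z') * z⁻¹) * x⁻¹ * (y * z')⁻¹ by group, ← hz' z (y * z') hz, mul_inv_cancel_right,
      show x * (y * z') * x⁻¹ * (y * z')⁻¹ = x * y * (z' * x⁻¹ * z'⁻¹) * y⁻¹ by group,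
      ← hz' z' x⁻¹ hz'', mul_inv_cancel_right]
  have Q : ScnQuad.Q4 q B := by
    refine ⟨?_, fun w => Subtype.ext (hZ2 _ w.2), hZ4, ?_, ?_, ?_, ?_, ?_, ?_⟩
    · intro v
      induction v using QuotientGroup.induction_on with | _ x =>
      rw [← QuotientGroup.mk_mul, QuotientGroup.eq_one_iff]; exact hsq x
    · intro v w
      induction v using QuotientGroup.induction_on with | _ x =>
      induction w using QuotientGroup.induction_on with | _ y =>
      refine Subtype.ext ?_
      rw [← QuotientGroup.mk_mul]
      simp only [coe_mul, hq, hB]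
      have hc := hcmem x y
      set c := x * y * x⁻¹ * y⁻¹ with hcdef
      have e1 : y * x = c⁻¹ * (x * y) := by rw [hcdef]; group
      rw [show x * y * (x * y) = x * (y * x) * y by group, e1,
        show c⁻¹ = c by rw [inv_eq_iff_mul_eq_one, hZ2 c hc], ← mul_assoc x c, hz' c x hc,
        show c * x * (x * y) * y = c * (x * x * (y * y)) by group, ← hz' c _ hc]
    · intro u v w
      induction u using QuotientGroup.induction_on with | _ x =>
      induction v using QuotientGroup.induction_on with | _ y =>
      induction w using QuotientGroup.induction_on with | _ t =>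
      refine Subtype.ext ?_
      rw [← QuotientGroup.mk_mul]
      simp only [coe_mul, hB]
      rw [show x * y * t * (x * y)⁻¹ * t⁻¹ =
        x * (y * t * y⁻¹ * t⁻¹) * x⁻¹ * (x * t * x⁻¹ * t⁻¹) by group, hz' _ x (hcmem y t),
        mul_inv_cancel_right, hz' _ _ (hcmem x t)]
    · intro v w
      induction v using QuotientGroup.induction_on with | _ x =>
      induction w using QuotientGroup.induction_on with | _ y =>
      refine Subtype.ext ?_
      rw [hB, hB, ← inv_eq_of_mul_eq_one_right (hZ2 _ (hcmem y x))]
      group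
    · intro v
      induction v using QuotientGroup.induction_on with | _ x =>
      refine Subtype.ext ?_
      rw [hB, coe_one]; group
    · intro v hv
      induction v using QuotientGroup.induction_on with | _ x =>
      rw [QuotientGroup.eq_one_iff]
      exact hinv x (by rw [← hq x, hv, coe_one])
    · intro v hv
      induction v using QuotientGroup.induction_on with | _ x =>
      rw [QuotientGroup.eq_one_iff, mem_center_iff]
      intro y
      have := congrArg Subtype.val (hv (QuotientGroup.mk y))
      rw [hB, coe_one, mul_inv_eq_one, mul_inv_eq_iff_eq_mul] at this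
      exact this.symm
  have hX : Nat.card X = 4 * Nat.card (X ⧸ center X) := by
    rw [card_eq_card_quotient_mul_card_subgroup (center X), hZ4, mul_comm]
  obtain ⟨n, hn⟩ := Q.card_eq_pow
  have hn4 : n ≤ 4 := by
    have := Q.card_le
    rw [hn] at this
    exact (Nat.pow_le_pow_iff_right (by norm_num : 1 < 2)).mp (this.trans_eq (by norm_num : (16 : ℕ) = 2 ^ 4))
  have h16 : Nat.card (X ⧸ center X) = 16 := by
    interval_cases n
    · exfalso
      haveI : Subsingleton (X ⧸ center X) := (Nat.card_eq_one_iff_unique.mp (by simpa using hn)).1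
      refine hna ⟨⟨fun x y => ?_⟩⟩
      have hx : x ∈ center X := by
        rw [← QuotientGroup.eq_one_iff]; exact Subsingleton.elim _ _
      exact (mem_center_iff.mp hx y).symm
    · exfalso
      refine hna ⟨⟨fun x y => ?_⟩⟩
      have hB1 : B (QuotientGroup.mk x) (QuotientGroup.mk y) = 1 := by
        haveI : IsCyclic (X ⧸ center X) := isCyclic_of_prime_card (p := 2) (by simpa using hn)
        obtain ⟨a, ha⟩ := IsCyclic.exists_generator (α := X ⧸ center X)
        rcases ScnQuad.mem_zpowers_sq (Q.sq a) (ha (QuotientGroup.mk x)) with h | h <;>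
          rcases ScnQuad.mem_zpowers_sq (Q.sq a) (ha (QuotientGroup.mk y)) with h' | h' <;>
          rw [h, h'] <;> simp [Q.B_one, Q.self, Q.symm 1]
      have := congrArg Subtype.val hB1
      rw [hB, coe_one, mul_inv_eq_one, mul_inv_eq_iff_eq_mul] at this
      exact this
    · exfalso
      obtain ⟨u, hu⟩ := Q.card_four (by simpa using hn)
      have hle : commutator X ≤ (zpowers u).map (center X).subtype := by
        rw [_root_.commutator_def, commutator_le]
        intro x _ y _
        rw [commutatorElement_def, ← hB]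
        exact ⟨_, hu _ _, rfl⟩
      have h1 := card_le_of_le hle
      rw [hcomm, hZ4, card_map_of_injective (center X).subtype_injective, Nat.card_zpowers] at h1
      have h2 : orderOf u ≤ 2 := Nat.le_of_dvd two_pos
        (orderOf_dvd_of_pow_eq_one (by rw [pow_two, Q.sqW]))
      omega
    · exfalso
      obtain ⟨P, hP, hPiso, huniq⟩ := Q.card_eight (by simpa using hn)
      set P' := P.comap (QuotientGroup.mk' (center X)) with hP'
      have hP'idx : P'.index = 2 := by
        rw [hP', index_comap_of_surjective _ (QuotientGroup.mk'_surjective _), hP]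
      refine S.index_ne_two (H := P') (fun φ hφ x hx => ?_) hP'idx
      set R := (P'.comap φ.toMonoidHom).map (QuotientGroup.mk' (center X)) with hR
      have hker : (QuotientGroup.mk' (center X)).ker ≤ P'.comap φ.toMonoidHom := by
        rw [QuotientGroup.ker_mk']
        intro z hz
        rw [mem_comap, hP', mem_comap, QuotientGroup.mk'_apply]
        have hz1 : (QuotientGroup.mk (φ.toMonoidHom z) : X ⧸ center X) = 1 := by
          rw [QuotientGroup.eq_one_iff, mem_center_iff]
          intro g
          obtain ⟨g, rfl⟩ := φ.surjective g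
          show φ g * φ z = φ z * φ g
          rw [← map_mul, ← map_mul, mem_center_iff.mp hz g]
        rw [hz1]; exact one_mem _
      have hRidx : R.index = 2 := by
        rw [hR, index_map_eq _ (QuotientGroup.mk'_surjective _) hker,
          index_comap_of_surjective _ φ.surjective, hP'idx]
      have hRP : R = P := huniq R hRidx fun v hv w hw => by
        obtain ⟨a, ha, rfl⟩ := hv
        obtain ⟨b, hb, rfl⟩ := hw
        refine Subtype.ext ?_
        rw [QuotientGroup.mk'_apply, QuotientGroup.mk'_apply, hB, coe_one]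
        apply φ.injective
        have := congrArg Subtype.val (hPiso _ ha _ hb)
        rw [QuotientGroup.mk'_apply, QuotientGroup.mk'_apply, hB, coe_one] at this
        rw [map_mul, map_mul, map_mul, map_inv, map_inv, map_one]
        exact this
      have hcm : P'.comap φ.toMonoidHom = P' :=
        (comap_map_eq_self hker).symm.trans (congrArg (comap (QuotientGroup.mk' (center X))) hRP)
      rw [← hcm] at hx
      exact hx
    · simpa using hn
  refine ⟨⟨S.pgroup, le_antisymm ?_ (hcomm ▸ CfsgLib.PGroup.commutator_le_frattini S.pgroup), hcomm⟩,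
    by omega, ?_, ?_⟩
  · exact CfsgLib.PGroup.frattini_le_of_elementary (p := 2) (fun x y => by
      rw [commutatorElement_def]; exact hcmem x y) (fun x => by rw [pow_two]; exact hsq x)
  · have hset : {x : X | orderOf x = 2} = ((center X : Subgroup X) : Set X) \ {1} := by
      ext x
      constructor
      · intro hx
        exact ⟨hinv x (by rw [← pow_two, ← show orderOf x = 2 from hx]; exact pow_orderOf_eq_one x),
          fun h => by simp only [Set.mem_singleton_iff] at h; simp [h] at hx⟩
      · rintro ⟨hx, hx1⟩
        exact orderOf_eq_prime (by rw [pow_two]; exact hZ2 x hx) hx1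
    show Nat.card ↥{x : X | orderOf x = 2} = 3
    rw [hset, Nat.card_coe_set_eq, Set.ncard_sdiff_singleton_of_mem (one_mem _),
      ← Nat.card_coe_set_eq]
    exact congrArg (· - 1) hZ4
  · intro x hx
    exact hinv x (by rw [← pow_two, ← hx]; exact pow_orderOf_eq_one x)

end CfsgLib.TwoFusion.ScnEmpty
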