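import Cfsg.Agent.Lib.TwoFusion.ScnEmptyTwo
import Cfsg.Agent.Lib.TwoFusion.ScnEmptyBig

/-!
Nonabelian 2-groups without self-centralizing normal abelian subgroups of rank three that are
generated by commutators with automorphisms of odd order.
-/

set_option autoImplicit false

namespace CfsgLib.TwoFusion.ScnEmpty

open Subgroup
open scoped commutatorElement

variable {X : Type*} [Group X] [Finite X] {A : Subgroup (MulAut X)}

theorem Setup.classify (S : Setup A) (hna : ¬ IsMulCommutative X) :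
    Nonempty (X ≃* QuaternionGroup 2) ∨
      (Cfsg.IsSpecial 2 X ∧ Nat.card X = 64 ∧ Nat.card {x : X // orderOf x = 2} = 3 ∧
        ∀ x : X, orderOf x = 2 → x ∈ Subgroup.center X) ∨
      (Cfsg.IsExtraspecial 2 X ∧ Nat.card X = 32 ∧ Nat.card {x : X // orderOf x = 2} = 11) := by
  classical
  haveI : Fact (Nat.Prime 2) := ⟨Nat.prime_two⟩
  -- the central involutions
  let W : Subgroup X :=
    { carrier := {w | w ∈ center X ∧ w * w = 1}
      one_mem' := ⟨one_mem _, one_mul 1⟩
      mul_mem' := by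
        rintro v w ⟨hv, hv2⟩ ⟨hw, hw2⟩
        refine ⟨mul_mem hv hw, ?_⟩
        rw [show v * w * (v * w) = v * (w * v) * w by group, ← mem_center_iff.mp hw v,
          show v * (v * w) * w = v * v * (w * w) by group, hv2, hw2, one_mul]
      inv_mem' := by
        rintro w ⟨hw, hw2⟩
        exact ⟨inv_mem hw, by rw [← mul_inv_rev, hw2, inv_one]⟩ }
  have hWc : W ≤ center X := fun w hw => hw.1
  have hW2 : ∀ w ∈ W, w * w = 1 := fun w hw => hw.2
  have hWn : W.Normal := ⟨fun w hw g => by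
    rw [mem_center_iff.mp (hWc hw) g, mul_inv_cancel_right]; exact hw⟩
  have hWe : Cfsg.IsElementaryAbelian 2 W :=
    ⟨⟨⟨fun a b => Subtype.ext (mem_center_iff.mp b.2.1 a)⟩⟩,
      fun w hw => by rw [pow_two]; exact hW2 w hw⟩
  have hWA : ∀ ψ ∈ A, ∀ w ∈ W, ψ w ∈ W := fun ψ _ w hw => by
    refine ⟨mem_center_iff.mpr fun g => ?_, by rw [← map_mul, hW2 w hw, map_one]⟩
    obtain ⟨g, rfl⟩ := ψ.surjective g
    rw [← map_mul, ← map_mul, mem_center_iff.mp (hWc hw) g]
  have hnontriv : Nontrivial X := by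
    by_contra h
    rw [not_nontrivial_iff_subsingleton] at h
    exact hna ⟨⟨fun a b => Subsingleton.elim _ _⟩⟩
  have hZinv : ∀ N : Subgroup X, N.Normal → N ≠ ⊥ → ∃ z ∈ N, z ∈ W ∧ z ≠ 1 := by
    intro N hN hne
    haveI := hN
    obtain ⟨z, hzN, hzc, hz⟩ := CfsgLib.PGroup.exists_central_orderOf_eq S.pgroup N hne
    exact ⟨z, hzN, ⟨hzc, by rw [← pow_two, ← hz]; exact pow_orderOf_eq_one z⟩,
      fun h => by simp [h] at hz⟩
  obtain ⟨k, hk⟩ := (CfsgLib.Signalizer.elementary_isPGroup hWe).exists_card_eq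
  have hk2 : k ≤ 2 := by
    by_contra hk'
    obtain ⟨E, hEW, hEe, hE8⟩ :=
      CfsgLib.TwoFusion.SymplecticHyperplanes.exists_le_card_pow hWe hk (j := 3) (by omega)
    exact S.noE8 W hWn hWe.1 E hEW hEe hE8
  have hk1 : 1 ≤ k := by
    by_contra hk0
    obtain ⟨z, -, hzW, hz1⟩ := hZinv ⊤ inferInstance (fun h => by
      have := top_unique (a := (⊥ : Subgroup X)) h.le
      exact hna ⟨⟨fun a b => by
        have ha := (this ▸ mem_top a : a ∈ (⊥ : Subgroup X))
        rw [mem_bot] at ha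
        simp [ha]⟩⟩)
    have : W = ⊥ := eq_bot_of_card_eq _ (by rw [hk, show k = 0 by omega, pow_zero])
    exact hz1 (mem_bot.mp (this ▸ hzW))
  have hcomm_ne : commutator X ≠ ⊥ := fun h => hna ⟨⟨fun a b =>
    commutatorElement_eq_one_iff_mul_comm.mp (mem_bot.mp
      (h ▸ commutator_mem_commutator (mem_top a) (mem_top b)))⟩⟩
  -- normal abelian subgroups have their involutions in `W` when it is a four-group
  have hinvW : k = 2 → ∀ K : Subgroup X, K.Normal → (∀ a ∈ K, ∀ b ∈ K, a * b = b * a) →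
      ∀ s ∈ K, s * s = 1 → s ∈ W := by
    intro hk' K hKn hKc s hs hs2
    by_contra hsW
    obtain ⟨hE, hE8⟩ := CfsgLib.TwoFusion.SymplecticHyperplanes.elem_insert hWe (x := s)
      (by rw [pow_two, hs2]) hsW (fun e he => (mem_center_iff.mp (hWc he) s).symm)
    refine S.noE8 (K ⊔ W) (Subgroup.sup_normal K W) ?_ _
      (sup_le le_sup_right (zpowers_le.mpr (mem_sup_left hs))) hE (by rw [hE8, hk, hk']; norm_num)
    rw [← le_centralizer_iff_isMulCommutative]
    refine sup_le (fun a ha => mem_centralizer_iff.mpr fun b hb => ?_)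
      (fun a ha => mem_centralizer_iff.mpr fun b _ => mem_center_iff.mp (hWc ha) b)
    obtain ⟨u, hu, w, hw, rfl⟩ := mem_sup_of_normal_left.mp hb
    rw [mul_assoc, ← mem_center_iff.mp (hWc hw) a, ← mul_assoc, hKc u hu a ha, mul_assoc]
  have hcZ : (∀ x : X, x * x ∈ center X) → ∀ x y : X, ⁅x, y⁆ ∈ W := by
    intro hsq x y
    have hc : ⁅x, y⁆ ∈ center X := by
      rw [show ⁅x, y⁆ = (x * y) * (x * y) * (y⁻¹ * (x * x)⁻¹ * y⁻¹) by
        rw [commutatorElement_def]; group,
        mem_center_iff.mp (inv_mem (hsq x)) y⁻¹, mul_assoc (x * x)⁻¹, ← mul_inv_rev y y]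
      exact mul_mem (hsq _) (mul_mem (inv_mem (hsq x)) (inv_mem (hsq y)))
    refine ⟨hc, ?_⟩
    have h : ⁅x, y * y⁆ = 1 :=
      commutatorElement_eq_one_iff_mul_comm.mpr (mem_center_iff.mp (hsq y) x)
    rw [show ⁅x, y * y⁆ = ⁅x, y⁆ * (y * ⁅x, y⁆ * y⁻¹) by simp only [commutatorElement_def]; group,
      mem_center_iff.mp hc y, mul_inv_cancel_right] at h
    exact h
  have hcW : (∀ x : X, x * x ∈ center X) → commutator X ≤ W := by
    intro hsq
    rw [_root_.commutator_def, commutator_le]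
    exact fun x _ y _ => hcZ hsq x y
  by_cases hfix : ∀ ψ ∈ A, ∀ w ∈ W, ψ w = w
  · -- every invariant normal abelian subgroup is central
    have hcentral : ∀ K : Subgroup X, K.Normal → IsMulCommutative K →
        (∀ ψ ∈ A, ∀ a ∈ K, ψ a ∈ K) → K ≤ center X := by
      intro K hKn hKc hKA a ha
      have hc : ∀ a ∈ K, ∀ b ∈ K, a * b = b * a := fun a ha b hb =>
        congrArg Subtype.val (hKc.is_comm.comm ⟨a, ha⟩ ⟨b, hb⟩)
      refine S.mem_center_of_fixed hKn (S.fixed_of_involutions hKA hc fun s hs hs2 ψ hψ => ?_) ha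
      refine hfix ψ hψ s ?_
      by_cases hk' : k = 2
      · exact hinvW hk' K hKn hc s hs hs2
      -- otherwise compare with the involutions of `K`
      by_contra hsW
      let Ω : Subgroup X :=
        { carrier := {v | v ∈ K ∧ v * v = 1}
          one_mem' := ⟨one_mem _, one_mul 1⟩
          mul_mem' := by
            rintro u v ⟨hu, hu2⟩ ⟨hv, hv2⟩
            refine ⟨mul_mem hu hv, ?_⟩
            rw [show u * v * (u * v) = u * (v * u) * v by group, hc v hv u hu,
              show u * (u * v) * v = u * u * (v * v) by group, hu2, hv2, one_mul]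
          inv_mem' := by
            rintro u ⟨hu, hu2⟩
            exact ⟨inv_mem hu, by rw [← mul_inv_rev, hu2, inv_one]⟩ }
      have hΩn : Ω.Normal := ⟨fun v hv g => ⟨hKn.conj_mem v hv.1 g, by
        rw [show g * v * g⁻¹ * (g * v * g⁻¹) = g * (v * v) * g⁻¹ by group, hv.2]; group⟩⟩
      have hΩe : Cfsg.IsElementaryAbelian 2 Ω :=
        ⟨⟨⟨fun u v => Subtype.ext (hc u u.2.1 v v.2.1)⟩⟩, fun v hv => by rw [pow_two]; exact hv.2⟩
      have hΩA : ∀ φ ∈ A, ∀ v ∈ Ω, φ v ∈ Ω := fun φ hφ v hv =>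
        ⟨hKA φ hφ v hv.1, by rw [← map_mul, hv.2, map_one]⟩
      have hs1 : s ≠ 1 := fun h => hsW (h ▸ one_mem W)
      obtain ⟨z₀, hz₀Ω, hz₀W, hz₀1⟩ := hZinv Ω hΩn (fun h => hs1 (mem_bot.mp (h ▸ (⟨hs, hs2⟩ : s ∈ Ω))))
      have hz₀s : z₀ ≠ s := fun h => hsW (h ▸ hz₀W)
      -- `Ω` has order four
      have hΩ4 : ∀ v ∈ Ω, v = 1 ∨ v = z₀ ∨ v = s ∨ v = z₀ * s := by
        intro v hv
        by_contra hnot
        push Not at hnot
        obtain ⟨hv1, hvz, hvs, hvzs⟩ := hnot
        have hz₀e : Cfsg.IsElementaryAbelian 2 (zpowers z₀) :=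
          CfsgLib.TwoFusion.SymplecticHyperplanes.elem_of_le hΩe (zpowers_le.mpr hz₀Ω)
        have hz₀2 : z₀ * z₀ = 1 := hz₀W.2
        obtain ⟨h1, h1c⟩ := CfsgLib.TwoFusion.SymplecticHyperplanes.elem_insert hz₀e (x := s)
          (by rw [pow_two, hs2]) (fun h => by
            rcases ScnQuad.mem_zpowers_sq hz₀2 h with h | h
            exacts [hs1 h, hz₀s h.symm])
          (fun e he => hc e ((zpowers_le.mpr hz₀Ω.1) he) s hs)
        have hle : zpowers z₀ ⊔ zpowers s ≤ Ω := sup_le (zpowers_le.mpr hz₀Ω) (zpowers_le.mpr ⟨hs, hs2⟩)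
        obtain ⟨h2, h2c⟩ := CfsgLib.TwoFusion.SymplecticHyperplanes.elem_insert h1 (x := v)
          (by rw [pow_two, hv.2]) (fun h => by
            haveI : (zpowers z₀).Normal := ⟨fun u hu g => by
              obtain ⟨i, rfl⟩ := mem_zpowers_iff.mp hu
              rw [mem_center_iff.mp (zpow_mem hz₀W.1 i) g, mul_inv_cancel_right]
              exact hu⟩
            obtain ⟨u, hu, t, ht, e⟩ := mem_sup_of_normal_left.mp h
            rcases ScnQuad.mem_zpowers_sq hz₀2 hu with rfl | rfl <;>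
              rcases ScnQuad.mem_zpowers_sq hs2 ht with rfl | rfl
            · exact hv1 (by rw [← e, one_mul])
            · exact hvs (by rw [← e, one_mul])
            · exact hvz (by rw [← e, mul_one])
            · exact hvzs e.symm)
          (fun e he => hc e (hle he).1 v hv.1)
        refine S.noE8 K hKn hKc _ ?_ h2 ?_
        · exact sup_le (fun u hu => (hle hu).1) (zpowers_le.mpr hv.1)
        · rw [h2c, h1c, Nat.card_zpowers, orderOf_eq_prime (by rw [pow_two]; exact hz₀2) hz₀1]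
      -- the stabilizer of `s` is invariant of index two
      have hcen : ∀ g, g ∉ centralizer ({s} : Set X) → g * s * g⁻¹ = z₀ * s := by
        intro g hg
        rcases hΩ4 _ (hΩn.conj_mem s ⟨hs, hs2⟩ g) with h | h | h | h
        · exact absurd (conj_eq_one_iff.mp h) hs1
        · refine absurd ?_ hz₀s.symm
          rw [show s = g⁻¹ * (g * s * g⁻¹) * g by group, h, mem_center_iff.mp hz₀W.1 g⁻¹,
            inv_mul_cancel_right]
        · exact absurd (mem_centralizer_singleton_iff.mpr (mul_inv_eq_iff_eq_mul.mp h)) hg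
        · exact h
      obtain ⟨g₀, hg₀⟩ : ∃ g, g ∉ centralizer ({s} : Set X) := by
        by_contra hall
        push Not at hall
        exact hsW ⟨mem_center_iff.mpr fun g => mem_centralizer_singleton_iff.mp (hall g), hs2⟩
      have hidx : (centralizer ({s} : Set X)).index = 2 := by
        rw [index_eq_two_iff]
        refine ⟨g₀, fun g => ?_⟩
        by_cases hg : g ∈ centralizer ({s} : Set X)
        · exact Or.inr ⟨hg, fun h => hg₀ ((mul_mem_cancel_left hg).mp h)⟩
        · refine Or.inl ⟨mem_centralizer_singleton_iff.mpr (mul_inv_eq_iff_eq_mul.mp ?_), hg⟩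
          rw [show g * g₀ * s * (g * g₀)⁻¹ = g * (g₀ * s * g₀⁻¹) * g⁻¹ by group, hcen g₀ hg₀,
            show g * (z₀ * s) * g⁻¹ = g * z₀ * g⁻¹ * (g * s * g⁻¹) by group,
            mem_center_iff.mp hz₀W.1 g, mul_inv_cancel_right, hcen g hg, ← mul_assoc, hz₀W.2, one_mul]
      refine S.index_ne_two (fun φ hφ x hx => ?_) hidx
      have hφx : φ x * φ s = φ s * φ x := by
        rw [← map_mul, ← map_mul, mem_centralizer_singleton_iff.mp hx]
      rcases hΩ4 _ (hΩA φ hφ s ⟨hs, hs2⟩) with h | h | h | h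
      · exact absurd (φ.map_eq_one_iff.mp h) hs1
      · exact absurd (φ.injective (h.trans (hfix φ hφ z₀ hz₀W).symm)).symm hz₀s
      · rw [h] at hφx; exact mem_centralizer_singleton_iff.mpr hφx
      · rw [h, ← mul_assoc, mem_center_iff.mp hz₀W.1 (φ x), mul_assoc, mul_assoc] at hφx
        exact mem_centralizer_singleton_iff.mpr (mul_left_cancel hφx)
    have hsq := S.sq_mem_center hcentral
    have hZW : center X ≤ W := by
      have hZfix := S.fixed_of_involutions (K := center X)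
        (fun ψ _ z hz => mem_center_iff.mpr fun g => by
          obtain ⟨g, rfl⟩ := ψ.surjective g
          rw [← map_mul, ← map_mul, mem_center_iff.mp hz g])
        (fun a _ b hb => mem_center_iff.mp hb a)
        (fun z hz hz2 ψ hψ => hfix ψ hψ z ⟨hz, hz2⟩)
      exact fun z hz => hcW hsq (S.mem_commutator_of_fixed fun ψ hψ => hZfix ψ hψ z hz)
    have hWZ : W = center X := le_antisymm hWc hZW
    have hcomm : commutator X = center X := by
      refine le_antisymm ((hcW hsq).trans hWc) fun z hz => ?_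
      exact S.mem_commutator_of_fixed fun ψ hψ => hfix ψ hψ z (hZW hz)
    interval_cases k
    · rcases S.small_center hna (by rw [← hWZ, hk]; norm_num) hsq hcomm with h | h
      exacts [Or.inl h, Or.inr (Or.inr h)]
    · exact Or.inr (Or.inl (S.special_sixty_four hna (by rw [← hWZ, hk]; norm_num)
        (fun z hz => hW2 z (hZW hz)) hsq hcomm))
  -- a fixed-point-free action on the four-group
  push Not at hfix
  obtain ⟨φ, hφ, w₀, hw₀, hne⟩ := hfix
  have hk' : k = 2 := by
    by_contra hk'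
    have hk1' : Nat.card W = 2 := by rw [hk, show k = 1 by omega, pow_one]
    apply hne
    by_contra hne'
    have h3 := CfsgLib.TwoFusion.SymplecticHyperplanes.three_le_card hw₀ (hWA φ hφ w₀ hw₀)
      (fun h => hne' (by rw [h, map_one])) (fun h => hne' (by rw [h, φ.map_eq_one_iff.mp h]))
      (Ne.symm hne')
    omega
  subst hk'
  have hW4 : Nat.card W = 4 := by rw [hk]; norm_num
  have T : Turn A W φ := ⟨S, hWc, hW2, hW4, hWA, hφ, w₀, hw₀, hne⟩
  have key : (∀ x : X, x * x ∈ W) ∧ ∀ z ∈ center X, z * z = 1 := by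
    by_cases hall : ∀ K : Subgroup X, K.Normal → IsMulCommutative K →
        (∀ ψ ∈ A, ∀ a ∈ K, ψ a ∈ K) → K ≤ W
    · have hsq := S.sq_mem_center fun K h1 h2 h3 => (hall K h1 h2 h3).trans hWc
      have hZW : center X ≤ W := hall _ inferInstance
        ⟨⟨fun a b => Subtype.ext (mem_center_iff.mp b.2 a)⟩⟩
        (fun ψ _ z hz => mem_center_iff.mpr fun g => by
          obtain ⟨g, rfl⟩ := ψ.surjective g
          rw [← map_mul, ← map_mul, mem_center_iff.mp hz g])
      exact ⟨fun x => hZW (hsq x), fun z hz => hW2 z (hZW hz)⟩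
    push Not at hall
    obtain ⟨K, hKn, hKc, hKA, hKW⟩ := hall
    have hc : ∀ a ∈ K, ∀ b ∈ K, a * b = b * a := fun a ha b hb =>
      congrArg Subtype.val (hKc.is_comm.comm ⟨a, ha⟩ ⟨b, hb⟩)
    haveI := hKn
    haveI := hWn
    have hKWc : IsMulCommutative ↥(K ⊔ W) := by
      rw [← le_centralizer_iff_isMulCommutative]
      refine sup_le (fun a ha => mem_centralizer_iff.mpr fun b hb => ?_)
        (fun a ha => mem_centralizer_iff.mpr fun b _ => mem_center_iff.mp (hWc ha) b)
      obtain ⟨u, hu, w, hw, rfl⟩ := mem_sup_of_normal_left.mp hb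
      rw [mul_assoc, ← mem_center_iff.mp (hWc hw) a, ← mul_assoc, hc u hu a ha, mul_assoc]
    have hKWA : ∀ ψ ∈ A, ∀ a ∈ K ⊔ W, ψ a ∈ K ⊔ W := fun ψ hψ a ha => by
      obtain ⟨u, hu, w, hw, rfl⟩ := mem_sup_of_normal_left.mp ha
      rw [map_mul]
      exact mul_mem (mem_sup_left (hKA ψ hψ u hu)) (mem_sup_right (hWA ψ hψ w hw))
    obtain ⟨U, ⟨hUn, hUc, hUA, hKU⟩, hUmax⟩ := (Set.toFinite {U : Subgroup X | U.Normal ∧
        IsMulCommutative U ∧ (∀ ψ ∈ A, ∀ a ∈ U, ψ a ∈ U) ∧ K ⊔ W ≤ U}).exists_maximal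
      ⟨K ⊔ W, Subgroup.sup_normal K W, hKWc, hKWA, le_rfl⟩
    have hUc' : ∀ a ∈ U, ∀ b ∈ U, a * b = b * a := fun a ha b hb =>
      congrArg Subtype.val (hUc.is_comm.comm ⟨a, ha⟩ ⟨b, hb⟩)
    refine T.big hna hUn hUc' hUA (le_sup_right.trans hKU) (hinvW rfl U hUn hUc')
      (fun L h1 h2 h3 h4 => le_antisymm (hUmax ⟨h1, h2, h3, hKU.trans h4⟩ h4) h4) ?_
    by_contra hexp
    push Not at hexp
    exact hKW fun a ha => hinvW rfl K hKn hc a ha (hexp a (hKU (mem_sup_left ha)))
  obtain ⟨hsqW, hZ2⟩ := key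
  have hsq : ∀ x : X, x * x ∈ center X := fun x => hWc (hsqW x)
  have hWZ : W = center X := le_antisymm hWc fun z hz => ⟨hz, hZ2 z hz⟩
  have hcomm : commutator X = center X := by
    rw [← hWZ]
    obtain ⟨c, hc, hc1⟩ : ∃ c ∈ commutator X, c ≠ 1 := by
      by_contra h
      push Not at h
      exact hcomm_ne ((eq_bot_iff_forall _).mpr h)
    refine T.eq_of_invariant (hcW hsq) (fun h hh => ?_) hc hc1
    exact (Subgroup.characteristic_iff_le_comap.mp inferInstance φ) hh
  exact Or.inr (Or.inl (S.special_sixty_four hna (hWZ ▸ hW4) hZ2 hsq hcomm))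

end CfsgLib.TwoFusion.ScnEmpty
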