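import Cfsg.Agent.Lib.TwoFusion.ScnEmptyFour
import Cfsg.Agent.Lib.Solvable.UniqueInvolution
import Mathlib.GroupTheory.SpecificGroups.Quaternion

/-!
The case of a centre of order two: quaternion of order 8 or extraspecial of order 32.
-/

set_option autoImplicit false

namespace CfsgLib.TwoFusion.ScnEmpty

open Subgroup
open scoped commutatorElement

variable {X : Type*} [Group X] [Finite X] {A : Subgroup (MulAut X)}

theorem mem_or_mul_mem {H : Subgroup X} [H.Normal] {a g : X} (ha : a * a ∈ H)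
    (h : g ∈ H ⊔ zpowers a) : g ∈ H ∨ g * a⁻¹ ∈ H := by
  obtain ⟨u, hu, t, ht, rfl⟩ := mem_sup_of_normal_left.mp h
  obtain ⟨i, rfl⟩ := mem_zpowers_iff.mp ht
  have ha' : a ^ (2 : ℤ) ∈ H := by rwa [zpow_two]
  rcases Int.even_or_odd' i with ⟨l, rfl | rfl⟩
  · exact Or.inl (mul_mem hu (by rw [zpow_mul]; exact zpow_mem ha' l))
  · refine Or.inr ?_
    rw [zpow_add, zpow_mul, zpow_one, ← mul_assoc, mul_inv_cancel_right]
    exact mul_mem hu (zpow_mem ha' l)

variable (S : Setup A)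
include S

theorem Setup.small_center (hna : ¬ IsMulCommutative X) (hZ : Nat.card (center X) = 2)
    (hsq : ∀ x : X, x * x ∈ center X) (hcomm : commutator X = center X) :
    Nonempty (X ≃* QuaternionGroup 2) ∨
      (Cfsg.IsExtraspecial 2 X ∧ Nat.card X = 32 ∧ Nat.card {x : X // orderOf x = 2} = 11) := by
  classical
  haveI : Fact (Nat.Prime 2) := ⟨Nat.prime_two⟩
  set Z := center X with hZdef
  obtain ⟨z, hzZ, hz1⟩ : ∃ z ∈ Z, z ≠ 1 := by
    by_contra h
    push Not at h
    rw [(eq_bot_iff_forall _).mpr h, card_bot] at hZ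
    omega
  have hz2 : z * z = 1 := by
    have := pow_card_eq_one' (x := (⟨z, hzZ⟩ : Z))
    rw [hZ, pow_two] at this
    exact congrArg Subtype.val this
  have hZmem : ∀ w ∈ Z, w = 1 ∨ w = z := by
    intro w hw
    by_contra hc
    push Not at hc
    have h3 := CfsgLib.TwoFusion.SymplecticHyperplanes.three_le_card hzZ hw hz1 hc.1 hc.2.symm
    omega
  have hcen : ∀ w ∈ Z, ∀ g : X, g * w = w * g := fun w hw g => mem_center_iff.mp hw g
  have hcmem : ∀ x y : X, ⁅x, y⁆ ∈ Z := fun x y => by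
    rw [← hcomm]; exact commutator_mem_commutator (mem_top x) (mem_top y)
  have hc2 : ∀ x y : X, ⁅x, y⁆ * ⁅x, y⁆ = 1 := fun x y => by
    rcases hZmem _ (hcmem x y) with h | h <;> rw [h]
    exacts [one_mul 1, hz2]
  have hsymm : ∀ x y : X, ⁅x, y⁆ = ⁅y, x⁆ := fun x y => by
    rw [← commutatorElement_inv y x]; exact inv_eq_of_mul_eq_one_right (hc2 y x)
  have hcL : ∀ x y t : X, ⁅x * y, t⁆ = ⁅x, t⁆ * ⁅y, t⁆ := fun x y t => by
    rw [show ⁅x * y, t⁆ = x * ⁅y, t⁆ * x⁻¹ * ⁅x, t⁆ by simp only [commutatorElement_def]; group,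
      hcen _ (hcmem y t) x, mul_inv_cancel_right, hcen _ (hcmem x t)]
  have hcR : ∀ x y t : X, ⁅t, x * y⁆ = ⁅t, x⁆ * ⁅t, y⁆ := fun x y t => by
    rw [hsymm, hcL, hsymm x, hsymm y]
  have hcomm_iff : ∀ x y : X, x * y = y * x → ⁅x, y⁆ = 1 := fun x y h =>
    commutatorElement_eq_one_iff_mul_comm.mpr h
  have hsqmul : ∀ u v : X, u * v * (u * v) = u * u * (v * v) * ⁅u, v⁆ := fun u v => by
    rw [hcen _ (hcmem u v), ← inv_eq_of_mul_eq_one_right (hc2 u v), commutatorElement_inv,
      show u * u * (v * v) = u * (u * v) * v by group,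
      show u * v * (u * v) = u * (⁅v, u⁆ * (u * v)) * v by
        simp only [commutatorElement_def]; group,
      ← mul_assoc u ⁅v, u⁆, hcen _ (hcmem v u) u, mul_assoc ⁅v, u⁆ u, mul_assoc ⁅v, u⁆]
  have hnorm : ∀ H : Subgroup X, Z ≤ H → H.Normal := fun H hH =>
    normal_of_center_le hH (fun x y => by rw [← commutatorElement_def]; exact hcmem x y)
  have hsup : ∀ (H : Subgroup X) (a : X), Z ≤ H → a ∉ H →
      Nat.card ↥(H ⊔ zpowers a) = 2 * Nat.card H := fun H a hH ha => by
    haveI := hnorm H hH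
    exact CfsgLib.PGroup.card_sup_zpowers ha (by rw [pow_two]; exact hH (hsq a))
  -- no three commuting independent involutions
  have hE8 : ∀ u v : X, u * u = 1 → v * v = 1 → u * v = v * u → u ∉ Z → v ∉ Z ⊔ zpowers u → False := by
    intro u v hu hv huv huZ hvH
    have hZe : Cfsg.IsElementaryAbelian 2 Z :=
      ⟨⟨⟨fun a b => Subtype.ext (hcen _ b.2 _)⟩⟩, fun w hw => by
        rcases hZmem w hw with rfl | rfl
        exacts [one_pow 2, by rw [pow_two, hz2]]⟩
    obtain ⟨h1, h1c⟩ := CfsgLib.TwoFusion.SymplecticHyperplanes.elem_insert hZe (x := u)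
      (by rw [pow_two, hu]) huZ (fun e he => (hcen e he u).symm)
    have hle : Z ⊔ zpowers u ≤ centralizer ({v} : Set X) := sup_le
      (fun w hw => mem_centralizer_singleton_iff.mpr (hcen w hw v).symm)
      (zpowers_le.mpr (mem_centralizer_singleton_iff.mpr huv))
    obtain ⟨h2, h2c⟩ := CfsgLib.TwoFusion.SymplecticHyperplanes.elem_insert h1 (x := v)
      (by rw [pow_two, hv]) hvH (fun e he => mem_centralizer_singleton_iff.mp (hle he))
    exact S.noE8 _ (hnorm _ (le_sup_left.trans le_sup_left)) h2.1 _ le_rfl h2 (by omega)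
  -- a subgroup without outer involutions is small
  have hsmall : ∀ M : Subgroup X, Z ≤ M → (∀ m ∈ M, m ∉ Z → m * m = z) → Nat.card M ≤ 8 := by
    intro M hZM hM
    by_contra hbig
    have hne : ∀ H : Subgroup X, Nat.card H ≤ 8 → ∃ v ∈ M, v ∉ H := fun H hH => by
      by_contra hc
      push Not at hc
      exact absurd (card_le_of_le hc) (by omega)
    obtain ⟨a, haM, ha⟩ := hne Z (by omega)
    obtain ⟨b, hbM, hb⟩ := hne (Z ⊔ zpowers a) (by rw [hsup _ _ le_rfl ha, hZ]; norm_num)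
    obtain ⟨d, hdM, hd⟩ := hne (Z ⊔ zpowers a ⊔ zpowers b)
      (by rw [hsup _ _ le_sup_left hb, hsup _ _ le_rfl ha, hZ])
    have hA : a ∈ Z ⊔ zpowers a ⊔ zpowers b := mem_sup_left (mem_sup_right (mem_zpowers a))
    have hB : b ∈ Z ⊔ zpowers a ⊔ zpowers b := mem_sup_right (mem_zpowers b)
    have hZ2 : Z ≤ Z ⊔ zpowers a ⊔ zpowers b := le_sup_left.trans le_sup_left
    have hpair : ∀ u v, u ∈ M → v ∈ M → u ∉ Z → v ∉ Z → u * v ∉ Z → ⁅u, v⁆ = z := by
      intro u v hu hv hu' hv' huv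
      have h := hM _ (mul_mem hu hv) huv
      rw [hsqmul, hM u hu hu', hM v hv hv', hz2, one_mul] at h
      exact h
    have hb' : b ∉ Z := fun h => hb (mem_sup_left h)
    have hd' : d ∉ Z := fun h => hd (hZ2 h)
    have hab : a * b ∉ Z := fun h => hb ((mul_mem_cancel_left (mem_sup_right (mem_zpowers a))).mp
      (mem_sup_left h))
    have h3 := hM _ (mul_mem (mul_mem haM hbM) hdM) (fun h => hd ((mul_mem_cancel_left
      (mul_mem hA hB)).mp (hZ2 h)))
    rw [hsqmul, hM _ (mul_mem haM hbM) hab, hM d hdM hd', hcL,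
      hpair a d haM hdM ha hd' (fun h => hd ((mul_mem_cancel_left hA).mp (hZ2 h))),
      hpair b d hbM hdM hb' hd' (fun h => hd ((mul_mem_cancel_left hB).mp (hZ2 h))),
      hz2, one_mul] at h3
    exact hz1 h3.symm
  have hpow : ∀ H : Subgroup X, ∃ k, Nat.card H = 2 ^ k := fun H =>
    (S.pgroup.to_subgroup H).exists_card_eq
  have hfrat : Cfsg.IsExtraspecial 2 X :=
    ⟨⟨S.pgroup, le_antisymm
      (CfsgLib.PGroup.frattini_le_of_elementary (p := 2) hcmem (fun x => by rw [pow_two]; exact hsq x))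
      (hcomm.ge.trans (CfsgLib.PGroup.commutator_le_frattini S.pgroup)), hcomm⟩, hZ⟩
  have hX : ∃ k, Nat.card X = 2 ^ k := S.pgroup.exists_card_eq
  by_cases hno : ∀ x : X, x * x = 1 → x ∈ Z
  · -- no involution outside the centre
    left
    have h8 := hsmall ⊤ le_top (fun m _ hm => (hZmem _ (hsq m)).resolve_left (fun h => hm (hno m h)))
    rw [card_top] at h8
    rcases CfsgLib.Solvable.isCyclic_or_quaternion_of_unique_involution S.pgroup
      (fun u v hu hu1 hv hv1 => by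
        rw [pow_two] at hu hv
        rw [(hZmem u (hno u hu)).resolve_left hu1, (hZmem v (hno v hv)).resolve_left hv1])
      with hcyc | ⟨k, ⟨e⟩⟩
    · exfalso
      obtain ⟨g, hg⟩ := hcyc.exists_generator
      refine hna ⟨⟨fun u v => ?_⟩⟩
      obtain ⟨i, rfl⟩ := mem_zpowers_iff.mp (hg u)
      obtain ⟨j, rfl⟩ := mem_zpowers_iff.mp (hg v)
      exact (Commute.refl g).zpow_zpow i j
    · obtain ⟨k', hk'⟩ := hX
      have hce : Nat.card X = 4 * 2 ^ k := by
        rw [Nat.card_congr e.toEquiv, Nat.card_eq_fintype_card, QuaternionGroup.card]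
      rcases Nat.lt_or_ge k 2 with hk | hk
      · rcases Nat.eq_zero_or_pos k with rfl | hk0
        · exfalso
          exact hna ⟨⟨fun u v => (IsPGroup.isMulCommutative_of_card_eq_prime_sq (p := 2) (G := X)
            (by rw [hce]; norm_num)).is_comm.comm u v⟩⟩
        · obtain rfl : k = 1 := by omega
          exact ⟨e⟩
      · exfalso
        have : 4 * 2 ^ 2 ≤ 4 * 2 ^ k := Nat.mul_le_mul_left 4 (Nat.pow_le_pow_right two_pos hk)
        omega
  push Not at hno
  obtain ⟨x, hx2, hxZ⟩ := hno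
  set K := centralizer ({x} : Set X) with hK
  have hKmem : ∀ g, g ∈ K ↔ ⁅g, x⁆ = 1 := fun g => by
    rw [hK, mem_centralizer_singleton_iff, commutatorElement_eq_one_iff_mul_comm]
  have hZK : Z ≤ K := fun w hw => mem_centralizer_singleton_iff.mpr (hcen w hw x).symm
  have hxK : x ∈ K := mem_centralizer_singleton_iff.mpr rfl
  obtain ⟨s₀, hs₀⟩ : ∃ s, s ∉ K := by
    by_contra hc
    push Not at hc
    exact hxZ (mem_center_iff.mpr fun g => mem_centralizer_singleton_iff.mp (hc g))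
  have hcz : ∀ g, g ∉ K → ⁅g, x⁆ = z := fun g hg =>
    (hZmem _ (hcmem g x)).resolve_left (fun h => hg ((hKmem g).mpr h))
  have hKidx : K.index = 2 := by
    rw [index_eq_two_iff]
    refine ⟨s₀, fun g => ?_⟩
    by_cases hg : g ∈ K
    · refine Or.inr ⟨hg, fun h => hs₀ ((mul_mem_cancel_left hg).mp h)⟩
    · refine Or.inl ⟨(hKmem _).mpr ?_, hg⟩
      rw [hcL, hcz g hg, hcz s₀ hs₀, hz2]
  have hXK : Nat.card X = 2 * Nat.card K := by
    rw [← card_mul_index K, hKidx, mul_comm]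
  obtain ⟨M, ⟨hZM, hMK, hxM⟩, hmax⟩ :=
    (Set.toFinite {M : Subgroup X | Z ≤ M ∧ M ≤ K ∧ x ∉ M}).exists_maximal ⟨Z, le_rfl, hZK, hxZ⟩
  haveI := hnorm M hZM
  have heq : M ⊔ zpowers x = K := by
    refine le_antisymm (sup_le hMK (zpowers_le.mpr hxK)) fun k hk => ?_
    by_cases hkM : k ∈ M
    · exact mem_sup_left hkM
    have hx' : x ∈ M ⊔ zpowers k := by
      by_contra h
      exact hkM ((hmax ⟨hZM.trans le_sup_left, sup_le hMK (zpowers_le.mpr hk), h⟩ le_sup_left)
        (mem_sup_right (mem_zpowers k)))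
    rcases mem_or_mul_mem (hZM (hsq k)) hx' with h | h
    · exact absurd h hxM
    · rw [show k = (x * k⁻¹)⁻¹ * x by group]
      exact mul_mem (mem_sup_left (inv_mem h)) (mem_sup_right (mem_zpowers x))
  have hKM : Nat.card K = 2 * Nat.card M := heq ▸ hsup M x hZM hxM
  have hMsq : ∀ m ∈ M, m ∉ Z → m * m = z := fun m hm hmZ =>
    (hZmem _ (hsq m)).resolve_left fun h => hE8 x m hx2 h
      (mem_centralizer_singleton_iff.mp (hMK hm)).symm hxZ (fun hm' => by
        haveI := hnorm Z le_rfl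
        rcases mem_or_mul_mem (hsq x) hm' with h' | h'
        · exact hmZ h'
        · refine hxM ?_
          rw [show x = (m * x⁻¹)⁻¹ * m by group]
          exact mul_mem (inv_mem (hZM h')) hm)
  have hM8 := hsmall M hZM hMsq
  obtain ⟨r, hr⟩ := hpow M
  have hr3 : r ≤ 3 := by
    rw [hr] at hM8
    exact (Nat.pow_le_pow_iff_right (by norm_num : 1 < 2)).mp (hM8.trans_eq (by norm_num : (8 : ℕ) = 2 ^ 3))
  have hM2 : 2 ≤ Nat.card M := hZ ▸ card_le_of_le hZM
  interval_cases r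
  · omega
  · -- order 8 with an outer involution: no automorphism of odd order moves enough
    exfalso
    have hMZ : M = Z := (eq_of_le_of_card_ge hZM (by rw [hr, hZ]; norm_num)).symm
    subst hMZ
    haveI := hnorm Z le_rfl
    have hK4 : ∀ k ∈ K, k ∈ Z ∨ k * x⁻¹ ∈ Z := fun k hk => mem_or_mul_mem (hsq x) (heq ▸ hk)
    obtain ⟨φ, hφ, k, hk, hφk⟩ : ∃ φ ∈ A, ∃ k ∈ K, φ k ∉ K := by
      by_contra hc
      push Not at hc
      exact S.index_ne_two hc hKidx
    have hφZ : ∀ w, w ∈ Z → φ w = w := fun w hw => by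
      rcases hZmem w hw with rfl | rfl
      · exact map_one φ
      · refine (hZmem _ ?_).resolve_left (fun h => hz1 (φ.map_eq_one_iff.mp h))
        refine mem_center_iff.mpr fun g => ?_
        obtain ⟨g, rfl⟩ := φ.surjective g
        rw [← map_mul, ← map_mul, hcen _ hzZ g]
    set y := φ x with hy
    have hyK : y ∉ K := by
      intro h
      apply hφk
      rcases hK4 k hk with h1 | h1
      · rw [hφZ k h1]; exact hZK h1
      · rw [show φ k = φ (k * x⁻¹) * φ x by rw [← map_mul, inv_mul_cancel_right], hφZ _ h1]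
        exact mul_mem (hZK h1) h
    have hy2 : y * y = 1 := by rw [hy, ← map_mul, hx2, map_one]
    have hy' : φ y * φ y = 1 := by rw [← map_mul, hy2, map_one]
    obtain ⟨j, hj, hφj⟩ : ∃ j, Odd j ∧ φ ^ j = 1 :=
      ⟨Nat.card A, S.odd, congrArg Subtype.val (pow_card_eq_one' (x := (⟨φ, hφ⟩ : A)))⟩
    have hcase : φ y ∈ K ∨ φ y * y⁻¹ ∈ K := by
      by_cases h : φ y ∈ K
      · exact Or.inl h
      · exact Or.inr ((Subgroup.mul_mem_iff_of_index_two hKidx).mpr
          (iff_of_false h (fun h' => hyK (inv_mem_iff.mp h'))))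
    rcases hcase with h | h
    · rcases hK4 _ h with h1 | h1
      · refine hyK (hZK ?_)
        rw [show y = φ y by
          apply φ.injective
          exact (hφZ _ h1).symm]
        exact h1
      · have h2 : (φ ^ 2) x = x * (φ y * x⁻¹) := by
          rw [pow_two, MulAut.mul_apply, ← hy, hcen _ h1 x, inv_mul_cancel_right]
        have h3 := CfsgLib.TwoFusion.OddAut.fix_step (φ := φ ^ 2) (j := j)
          (by rw [← pow_mul, mul_comm, pow_mul, hφj, one_pow]) hj h2
          (by rw [pow_two, MulAut.mul_apply, hφZ _ h1, hφZ _ h1])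
          (e := 1) (by
            rcases hZmem _ h1 with h4 | h4 <;> rw [h4, pow_one, pow_two]
            exacts [one_mul 1, hz2])
        obtain ⟨l, rfl⟩ := hj
        have h4 : ∀ i : ℕ, ((φ ^ 2) ^ i) x = x := fun i => by
          induction i with
          | zero => rfl
          | succ i ih => rw [pow_succ', MulAut.mul_apply, ih, h3]
        refine hyK ?_
        have h5 : y = x := by
          have h6 : (φ ^ (2 * l + 1)) x = y := by
            rw [pow_succ', MulAut.mul_apply, pow_mul, h4 l]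
          rw [← h6, hφj, MulAut.one_apply]
        exact h5 ▸ hxK
    · rcases hK4 _ h with h1 | h1
      · refine hyK ?_
        have e : φ y = φ ((φ y * y⁻¹) * x) := by
          rw [map_mul, hφZ _ h1, ← hy, inv_mul_cancel_right]
        rw [φ.injective e]
        exact mul_mem (hZK h1) hxK
      · -- `φ y ∈ x y Z`, whose elements are not involutions
        have e : φ y = φ y * y⁻¹ * x⁻¹ * (x * y) := by group
        have hne : φ y * φ y = z := by
          rw [e, hsqmul, hsqmul x y, hx2, hy2, one_mul, one_mul, hsymm x y, hcz y hyK,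
            hcomm_iff _ _ (hcen _ h1 _).symm, mul_one]
          rcases hZmem _ h1 with h4 | h4 <;> rw [h4]
          · rw [one_mul, one_mul]
          · rw [hz2, one_mul]
        exact hz1 (hne.symm.trans hy')
  · -- order 16: the centre would be larger
    exfalso
    obtain ⟨a, haM, haZ⟩ : ∃ a ∈ M, a ∉ Z := by
      by_contra hc
      push Not at hc
      have := card_le_of_le (show M ≤ Z from hc)
      omega
    have hMeq : Z ⊔ zpowers a = M := eq_of_le_of_card_ge (sup_le hZM (zpowers_le.mpr haM))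
      (by rw [hsup _ _ le_rfl haZ, hr, hZ]; norm_num)
    have hKa : ∀ k ∈ K, ⁅a, k⁆ = 1 := by
      have hle : K ≤ centralizer ({a} : Set X) := by
        rw [← heq, ← hMeq]
        exact sup_le (sup_le (fun w hw => mem_centralizer_singleton_iff.mpr (hcen w hw a).symm)
          (zpowers_le.mpr (mem_centralizer_singleton_iff.mpr rfl)))
          (zpowers_le.mpr (mem_centralizer_singleton_iff.mpr
            (mem_centralizer_singleton_iff.mp (hMK haM)).symm))
      exact fun k hk => hcomm_iff _ _ (mem_centralizer_singleton_iff.mp (hle hk)).symm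
    have hca : ∀ g, g ∉ K → ⁅a, g⁆ = z := fun g hg =>
      (hZmem _ (hcmem a g)).resolve_left fun h => haZ (mem_center_iff.mpr fun u => by
        apply Eq.symm
        apply commutatorElement_eq_one_iff_mul_comm.mp
        by_cases hu : u ∈ K
        · exact hKa u hu
        · have hh := hKa _ ((Subgroup.mul_mem_iff_of_index_two hKidx).mpr (iff_of_false hg hu))
          rw [hcR, h, one_mul] at hh
          exact hh)
    have hxa : x * a ∈ Z := mem_center_iff.mpr fun u => by
      apply Eq.symm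
      apply commutatorElement_eq_one_iff_mul_comm.mp
      rw [hcL, hsymm x]
      by_cases hu : u ∈ K
      · rw [(hKmem u).mp hu, hKa u hu, one_mul]
      · rw [hcz u hu, hca u hu, hz2]
    exact hxM (by simpa using mul_mem (hZM hxa) (inv_mem haM))
  -- order 32
  right
  obtain ⟨a, haM, haZ⟩ : ∃ a ∈ M, a ∉ Z := by
    by_contra hc
    push Not at hc
    have := card_le_of_le (show M ≤ Z from hc)
    omega
  obtain ⟨b, hbM, hba⟩ : ∃ b ∈ M, b ∉ Z ⊔ zpowers a := by
    by_contra hc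
    push Not at hc
    have := card_le_of_le (show M ≤ Z ⊔ zpowers a from hc)
    rw [hsup _ _ le_rfl haZ, hr, hZ] at this
    norm_num at this
  have hMeq : Z ⊔ zpowers a ⊔ zpowers b = M :=
    eq_of_le_of_card_ge (sup_le (sup_le hZM (zpowers_le.mpr haM)) (zpowers_le.mpr hbM))
      (by rw [hsup _ _ le_sup_left hba, hsup _ _ le_rfl haZ, hr, hZ]; norm_num)
  have hbZ : b ∉ Z := fun h => hba (mem_sup_left h)
  have habZ : a * b ∉ Z := fun h => hba ((mul_mem_cancel_left (mem_sup_right (mem_zpowers a))).mp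
    (mem_sup_left h))
  have ha2 := hMsq a haM haZ
  have hb2 := hMsq b hbM hbZ
  have hab : ⁅a, b⁆ = z := by
    have h := hMsq _ (mul_mem haM hbM) habZ
    rw [hsqmul, ha2, hb2, hz2, one_mul] at h
    exact h
  have hxa : ⁅x, a⁆ = 1 := (hsymm x a).trans ((hKmem a).mp (hMK haM))
  have hxb : ⁅x, b⁆ = 1 := (hsymm x b).trans ((hKmem b).mp (hMK hbM))
  obtain ⟨s, hsK, hsa, hsb, hs2⟩ : ∃ s, s ∉ K ∧ ⁅s, a⁆ = 1 ∧ ⁅s, b⁆ = 1 ∧ s * s = 1 := by
    have hmv : ∀ g, g ∉ K → ∀ m ∈ K, g * m ∉ K := fun g hg m hm h => hg ((mul_mem_cancel_right hm).mp h)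
    have hself : ∀ g : X, ⁅g, g⁆ = 1 := fun g => commutatorElement_self g
    obtain ⟨s₁, hs₁, hs₁a⟩ : ∃ s, s ∉ K ∧ ⁅s, a⁆ = 1 := by
      rcases hZmem _ (hcmem s₀ a) with h | h
      · exact ⟨s₀, hs₀, h⟩
      · exact ⟨s₀ * b, hmv _ hs₀ _ (hMK hbM), by rw [hcL, h, hsymm b a, hab, hz2]⟩
    obtain ⟨s₂, hs₂, hs₂a, hs₂b⟩ : ∃ s, s ∉ K ∧ ⁅s, a⁆ = 1 ∧ ⁅s, b⁆ = 1 := by
      rcases hZmem _ (hcmem s₁ b) with h | h
      · exact ⟨s₁, hs₁, hs₁a, h⟩
      · exact ⟨s₁ * a, hmv _ hs₁ _ (hMK haM), by rw [hcL, hs₁a, hself, one_mul],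
          by rw [hcL, h, hab, hz2]⟩
    rcases hZmem _ (hsq s₂) with h | h
    · exact ⟨s₂, hs₂, hs₂a, hs₂b, h⟩
    · exact ⟨s₂ * x, hmv _ hs₂ _ hxK, by rw [hcL, hs₂a, hxa, one_mul],
        by rw [hcL, hs₂b, hxb, one_mul],
        by rw [hsqmul, h, hx2, mul_one, hcz s₂ hs₂, hz2]⟩
  have hsx : ⁅x, s⁆ = z := (hsymm x s).trans (hcz s hsK)
  -- normal form
  let e1 : Bool → X → X := fun i g => if i then g else 1
  let f : Bool × (Bool × Bool) × (Bool × Bool) → X := fun e =>
    e1 e.1 z * (e1 e.2.1.1 a * e1 e.2.1.2 b) * (e1 e.2.2.1 x * e1 e.2.2.2 s)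
  have hsurj : Function.Surjective f := by
    intro g
    obtain ⟨j, k, hk, hg⟩ : ∃ j : Bool, ∃ k ∈ K, g = k * e1 j s := by
      by_cases hgK : g ∈ K
      · exact ⟨false, g, hgK, by simp [e1]⟩
      · exact ⟨true, g * s⁻¹, (Subgroup.mul_mem_iff_of_index_two hKidx).mpr
          (iff_of_false hgK (fun h => hsK (inv_mem_iff.mp h))), by simp [e1]⟩
    obtain ⟨i, m, hm, hk'⟩ : ∃ i : Bool, ∃ m ∈ M, k = m * e1 i x := by
      rcases mem_or_mul_mem (hZM (hsq x)) (heq ▸ hk) with h | h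
      · exact ⟨false, k, h, by simp [e1]⟩
      · exact ⟨true, _, h, by simp [e1]⟩
    haveI := hnorm (Z ⊔ zpowers a) le_sup_left
    haveI := hnorm Z le_rfl
    obtain ⟨l, m', hm', hm''⟩ : ∃ l : Bool, ∃ m' ∈ Z ⊔ zpowers a, m = m' * e1 l b := by
      rcases mem_or_mul_mem (mem_sup_left (hsq b)) (hMeq ▸ hm) with h | h
      · exact ⟨false, m, h, by simp [e1]⟩
      · exact ⟨true, _, h, by simp [e1]⟩
    obtain ⟨k', w, hw, hw'⟩ : ∃ k' : Bool, ∃ w ∈ Z, m' = w * e1 k' a := by
      rcases mem_or_mul_mem (hsq a) hm' with h | h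
      · exact ⟨false, m', h, by simp [e1]⟩
      · exact ⟨true, _, h, by simp [e1]⟩
    obtain ⟨n, rfl⟩ : ∃ n : Bool, e1 n z = w := by
      rcases hZmem w hw with rfl | rfl
      · exact ⟨false, rfl⟩
      · exact ⟨true, rfl⟩
    refine ⟨(n, (k', l), (i, j)), ?_⟩
    rw [hg, hk', hm'', hw']
    simp only [f, mul_assoc]
  have hcard : Nat.card X = 32 := by rw [hXK, hKM, hr]; norm_num
  letI : Fintype X := Fintype.ofFinite X
  have hbij : Function.Bijective f := (Fintype.bijective_iff_surjective_and_card f).mpr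
    ⟨hsurj, by rw [← Nat.card_eq_fintype_card (α := X), hcard]; rfl⟩
  have hPc : ∀ (k l : Bool) (u : X), ⁅a, u⁆ = 1 → ⁅b, u⁆ = 1 → ⁅e1 k a * e1 l b, u⁆ = 1 := by
    intro k l u h h'
    cases k <;> cases l <;> simp [e1, hcL, h, h']
  let g₁ : Bool × Bool → Bool := fun q => q.1 || q.2
  let g₂ : Bool × Bool → Bool := fun q => q.1 && q.2
  have hP : ∀ q : Bool × Bool, (e1 q.1 a * e1 q.2 b) * (e1 q.1 a * e1 q.2 b) = e1 (g₁ q) z := by
    rintro ⟨k, l⟩
    cases k <;> cases l <;> simp only [e1, g₁, Bool.false_eq_true, if_false, if_true, one_mul,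
      mul_one, Bool.or_false, Bool.false_or, Bool.or_true]
    · exact hb2
    · exact ha2
    · rw [hsqmul, ha2, hb2, hab, hz2, one_mul]
  have hR : ∀ q : Bool × Bool, (e1 q.1 x * e1 q.2 s) * (e1 q.1 x * e1 q.2 s) = e1 (g₂ q) z := by
    rintro ⟨k, l⟩
    cases k <;> cases l <;> simp only [e1, g₂, Bool.false_eq_true, if_false, if_true, one_mul,
      mul_one, Bool.and_false, Bool.false_and, Bool.and_true]
    · exact hs2
    · exact hx2
    · rw [hsqmul, hx2, hs2, one_mul, one_mul, hsx]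
  have hfsq : ∀ e, f e * f e = e1 (g₁ e.2.1 != g₂ e.2.2) z := by
    rintro ⟨n, q, r'⟩
    have hc : ⁅e1 q.1 a * e1 q.2 b, e1 r'.1 x * e1 r'.2 s⁆ = 1 := by
      refine hPc _ _ _ ?_ ?_ <;> cases r'.1 <;> cases r'.2 <;>
        simp [e1, hcR, hsymm a x, hsymm b x, hsymm a s, hsymm b s, hxa, hxb, hsa, hsb]
    have hn : e1 n z ∈ Z := by cases n <;> simp [e1, hzZ]
    have hn2 : e1 n z * e1 n z = 1 := by cases n <;> simp [e1, hz2]
    show e1 n z * (e1 q.1 a * e1 q.2 b) * (e1 r'.1 x * e1 r'.2 s) *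
      (e1 n z * (e1 q.1 a * e1 q.2 b) * (e1 r'.1 x * e1 r'.2 s)) = e1 (g₁ q != g₂ r') z
    rw [mul_assoc (e1 n z), hsqmul (e1 n z),
      show ⁅e1 n z, e1 q.1 a * e1 q.2 b * (e1 r'.1 x * e1 r'.2 s)⁆ = 1 from
        hcomm_iff _ _ (hcen _ hn _).symm,
      hn2, one_mul, mul_one, hsqmul, hP, hR, hc, mul_one]
    cases g₁ q <;> cases g₂ r' <;> simp [e1, hz2]
  have hf0 : f (false, (false, false), (false, false)) = 1 := by simp [f, e1]
  refine ⟨hfrat, hcard, ?_⟩
  have hiff : ∀ e, (g₁ e.2.1 = g₂ e.2.2 ∧ e ≠ (false, (false, false), (false, false))) ↔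
      orderOf (f e) = 2 := by
    intro e
    constructor
    · rintro ⟨h1, h2⟩
      refine orderOf_eq_prime ?_ (fun h => h2 (hbij.1 (h.trans hf0.symm)))
      rw [pow_two, hfsq, h1, bne_self_eq_false]; rfl
    · intro h
      refine ⟨?_, fun he => by rw [he, hf0, orderOf_one] at h; omega⟩
      have h' := pow_orderOf_eq_one (f e)
      rw [h, pow_two, hfsq] at h'
      by_contra hne
      rw [bne_iff_ne.mpr hne] at h'
      exact hz1 h'
  rw [← Nat.card_congr ((Equiv.ofBijective f hbij).subtypeEquiv hiff), Nat.card_eq_fintype_card]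
  decide

end CfsgLib.TwoFusion.ScnEmpty
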