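import Cfsg.Agent.Lib.TwoFusion.InvolCentralizer
import Cfsg.Agent.Lib.CharSimple.Basic
import Cfsg.Agent.Lib.Case.TwoNilpotent
import Cfsg.Agent.Lib.Solvable.Core

/-!
# A simple normal subgroup of odd index

A core-free group with quasi-dihedral or wreathed Sylow `2`-subgroup and no subgroup of index `2`
has a simple normal subgroup of odd index.
-/

set_option autoImplicit false

namespace CfsgLib.TwoFusion.SimpleOddIndex

variable {G : Type*} [Group G] [Finite G]

/-- All involutions are conjugate, the Sylow subgroup is generated by its involutions and one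
element, and two of its involutions do not commute. -/
theorem involution_facts (hG : ∀ H : Subgroup G, H.index ≠ 2) (S : Sylow 2 G)
    (hS : Cfsg.IsQuasiDihedral (S : Subgroup G) ∨ Cfsg.IsWreathed (S : Subgroup G)) :
    (∀ a b : G, orderOf a = 2 → orderOf b = 2 → IsConj a b) ∧
    (∃ a b : G, orderOf a = 2 ∧ orderOf b = 2 ∧ a * b ≠ b * a) ∧
    ∃ u : G, ∀ N : Subgroup G, N.Normal → (∀ t : G, orderOf t = 2 → t ∈ N) →
      ∀ s ∈ (S : Subgroup G), ∃ n ∈ N, ∃ i : ℤ, s = n * u ^ i := by
  have : Fact (Nat.Prime 2) := ⟨Nat.prime_two⟩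
  -- every involution is conjugate to a fixed central one
  have hreduce : ∀ c : G, (∀ w ∈ (S : Subgroup G), orderOf w = 2 →
      (∀ s ∈ (S : Subgroup G), s * w = w * s) → w = c) →
      ∀ a b : G, orderOf a = 2 → orderOf b = 2 → IsConj a b := by
    intro c huniq
    have key : ∀ t : G, orderOf t = 2 → IsConj t c := by
      intro t ht
      obtain ⟨S', htS, htc⟩ := InvolCentralizer.conj_into_centre hG S hS ht
      obtain ⟨k, hk⟩ := ConjUtil.sylow_eq_conjMap S S'
      refine isConj_iff.mpr ⟨k⁻¹, huniq _ ?_ ?_ ?_⟩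
      · have h : t ∈ (S' : Subgroup G) := htS
        rw [hk, ConjUtil.mem_conjMap_iff] at h
        simpa using h
      · rw [← ht]; exact (MulAut.conj k⁻¹).orderOf_eq t
      · intro s hs
        have h := htc (k * s * k⁻¹) (by rw [hk]; exact ⟨s, hs, rfl⟩)
        calc s * (k⁻¹ * t * k⁻¹⁻¹) = k⁻¹ * (k * s * k⁻¹ * t) * k := by simp [mul_assoc]
          _ = k⁻¹ * t * k⁻¹⁻¹ * s := by rw [h]; simp [mul_assoc]
    exact fun a b ha hb => (key a ha).trans (key b hb).symm
  rcases hS with hQD | hW
  · obtain ⟨D⟩ := CfsgLib.TwoFusion.exists_qdGens hQD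
    refine ⟨hreduce (QDFusion.cG D) fun w hw ho hc => ?_, ⟨QDFusion.vG D 0, QDFusion.vG D 2,
      QDFusion.orderOf_vG_even D (dvd_zero 2), QDFusion.orderOf_vG_even D (dvd_refl 2), ?_⟩,
      ((D.x : (S : Subgroup G)) : G), ?_⟩
    · rcases D.orderOf_eq_two_cases (s := (⟨w, hw⟩ : (S : Subgroup G)))
        (by rw [← Subgroup.orderOf_coe]; exact ho) with h | ⟨i, -, h⟩
      · exact congrArg Subtype.val h
      · exfalso
        have h1 : D.x ^ (1 : ℤ) * (D.x ^ i * D.y) = D.x ^ i * D.y * D.x ^ (1 : ℤ) := by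
          rw [← h]; exact Subtype.ext (hc _ (D.x ^ (1 : ℤ)).2)
        have h2 := D.commute_zpow_zy_iff.mp h1
        have := D.P_pos
        have := Int.le_of_dvd one_pos h2
        omega
    · intro h
      have h1 : (D.x ^ (0 : ℤ) * D.y) * (D.x ^ (2 : ℤ) * D.y) =
          (D.x ^ (2 : ℤ) * D.y) * (D.x ^ (0 : ℤ) * D.y) := Subtype.ext h
      rw [D.zy_mul_zy, D.zy_mul_zy, D.zpow_eq_iff] at h1
      obtain ⟨c, hc⟩ := h1
      have := D.P_pos
      rcases lt_trichotomy c 0 with hc0 | rfl | hc0
      · nlinarith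
      · nlinarith
      · nlinarith
    · intro N hN hinv s hs
      have hinv' : ∀ i : ℤ, 2 ∣ i → ((D.x ^ i * D.y : (S : Subgroup G)) : G) ∈ N := fun i hi =>
        hinv _ (QDFusion.orderOf_vG_even D hi)
      obtain ⟨i, h | h⟩ := D.normalForm ⟨s, hs⟩
      · refine ⟨1, N.one_mem, i, ?_⟩
        rw [one_mul, ← SubgroupClass.coe_zpow, ← h]
      · refine ⟨((D.x ^ i : (S : Subgroup G)) : G) * ((D.x ^ (0 : ℤ) * D.y : (S : Subgroup G)) : G) *
          ((D.x ^ i : (S : Subgroup G)) : G)⁻¹, hN.conj_mem _ (hinv' 0 (dvd_zero 2)) _, i, ?_⟩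
        rw [← SubgroupClass.coe_zpow, inv_mul_cancel_right, ← Subgroup.coe_mul, zpow_zero, one_mul,
          ← h]
  · obtain ⟨D⟩ := CfsgLib.TwoFusion.exists_wrGens hW
    refine ⟨hreduce (WRFusion.cG D) fun w hw ho hc => ?_, ⟨WRFusion.aG D, WRFusion.zG D,
      WRFusion.orderOf_aG D, WRFusion.orderOf_zG D, ?_⟩, ((D.x : (S : Subgroup G)) : G), ?_⟩
    · exact WRFusion.center_involution D hw hc (fun e => by rw [e, orderOf_one] at ho; omega)
        (by have h := pow_orderOf_eq_one w; rwa [ho, pow_two] at h)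
    · intro h
      have h1 : D.u (2 * D.Q) 0 * (D.u 0 0 * D.z) = D.u 0 0 * D.z * D.u (2 * D.Q) 0 := Subtype.ext h
      rw [D.u_zero, one_mul, D.z_mul_u] at h1
      have h2 : D.u (2 * D.Q) (-(2 * D.Q)) = 1 := by
        have h3 := mul_right_cancel h1
        calc D.u (2 * D.Q) (-(2 * D.Q)) = D.u (2 * D.Q) 0 * (D.u 0 (2 * D.Q))⁻¹ := by
              rw [D.u_inv, D.u_mul]; simp
          _ = 1 := by rw [h3, mul_inv_cancel]
      exact D.not_dvd_two_Q (D.u_eq_one_iff.mp h2).1
    · intro N hN hinv s hs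
      have hz : ((D.z : (S : Subgroup G)) : G) ∈ N :=
        hinv _ (by rw [Subgroup.orderOf_coe]; exact D.hz)
      have hw : ∀ b : ℤ, ((D.u (-b) b : (S : Subgroup G)) : G) ∈ N := by
        intro b
        have h1 : ((D.u (-b) b * D.z : (S : Subgroup G)) : G) ∈ N := hinv _ (by
          rw [Subgroup.orderOf_coe]
          refine orderOf_eq_prime (by rw [D.uz_sq, neg_add_cancel, D.u_zero]) fun e => ?_
          exact D.u_ne_uz 0 0 (-b) b (by rw [D.u_zero, e]))
        have := N.mul_mem h1 (N.inv_mem hz)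
        simpa using this
      have hux : ∀ i : ℤ, D.u i 0 = D.x ^ i := fun i => by simp [WRGens.u]
      obtain ⟨a, b, h | h⟩ := D.normalForm ⟨s, hs⟩
      · refine ⟨_, hw b, a + b, ?_⟩
        rw [← SubgroupClass.coe_zpow, ← Subgroup.coe_mul, ← hux, D.u_mul,
          show -b + (a + b) = a by ring, add_zero, ← h]
      · refine ⟨((D.u (-b) b : (S : Subgroup G)) : G) *
          (((D.x ^ (a + b) : (S : Subgroup G)) : G) * ((D.z : (S : Subgroup G)) : G) *
            ((D.x ^ (a + b) : (S : Subgroup G)) : G)⁻¹),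
          N.mul_mem (hw b) (hN.conj_mem _ hz _), a + b, ?_⟩
        rw [← SubgroupClass.coe_zpow, mul_assoc, inv_mul_cancel_right, ← Subgroup.coe_mul,
          ← Subgroup.coe_mul, ← mul_assoc, ← hux, D.u_mul, show -b + (a + b) = a by ring, add_zero,
          ← h]

theorem centralizer_pi_lt {T : Type*} [Group T] [Finite T] {k : ℕ} {i j : Fin k} (hij : i ≠ j)
    {t u : T} (hu : u * t ≠ t * u) :
    Nat.card (Subgroup.centralizer ({Pi.mulSingle i t * Pi.mulSingle j t} : Set (Fin k → T))) <
      Nat.card (Subgroup.centralizer ({Pi.mulSingle i t} : Set (Fin k → T))) := by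
  set A := Subgroup.centralizer ({Pi.mulSingle i t * Pi.mulSingle j t} : Set (Fin k → T))
  set B := Subgroup.centralizer ({Pi.mulSingle i t} : Set (Fin k → T))
  have hle : A ≤ B := by
    intro f hf
    rw [Subgroup.mem_centralizer_singleton_iff] at hf ⊢
    funext l
    rcases eq_or_ne l i with rfl | hl
    · have h := congrFun hf l
      simpa [Pi.mulSingle_eq_of_ne hij] using h
    · simp [Pi.mulSingle_eq_of_ne hl]
  have hlt : A < B := by
    refine lt_of_le_not_ge hle fun hge => ?_
    have hm : Pi.mulSingle j u ∈ B := by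
      rw [Subgroup.mem_centralizer_singleton_iff]
      exact (Pi.mulSingle_commute (f := fun _ : Fin k => T) hij.symm u t).eq
    have h := Subgroup.mem_centralizer_singleton_iff.mp (hge hm)
    have h' := congrFun h j
    simp [Pi.mulSingle_eq_of_ne hij.symm] at h'
    exact hu h'
  exact Set.Finite.card_lt_card (Set.toFinite _) (SetLike.coe_ssubset_coe.mpr hlt)

/-- Conjugation transports centralizers inside a normal subgroup. -/
theorem card_centralizer_eq {N : Subgroup G} [N.Normal] {s t : N} (h : IsConj (s : G) (t : G)) :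
    Nat.card (Subgroup.centralizer ({s} : Set N)) = Nat.card (Subgroup.centralizer ({t} : Set N)) := by
  obtain ⟨g, hg⟩ := isConj_iff.mp h
  let φ : MulAut N := MulAut.conjNormal g
  have hφ : φ s = t := Subtype.ext (by simp [φ, MulAut.conjNormal_apply, hg])
  have hmap : (Subgroup.centralizer ({s} : Set N)).map φ.toMonoidHom =
      Subgroup.centralizer ({t} : Set N) := by
    ext w
    simp only [Subgroup.mem_map, Subgroup.mem_centralizer_singleton_iff]
    constructor
    · rintro ⟨v, hv, rfl⟩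
      show φ v * t = t * φ v
      rw [← hφ, ← map_mul, hv, map_mul]
    · intro hw
      refine ⟨φ.symm w, φ.injective ?_, φ.apply_symm_apply w⟩
      rw [map_mul, map_mul, MulEquiv.apply_symm_apply, hφ, hw]
  rw [← hmap]
  exact Nat.card_congr (Subgroup.equivMapOfInjective _ φ.toMonoidHom φ.injective).toEquiv

theorem exists_index_two_of_two_power {l : ℕ} (K : Subgroup G) [K.Normal] (hK : K.index = 2 ^ (l + 1)) :
    ∃ H : Subgroup G, H.index = 2 := by
  have : Fact (Nat.Prime 2) := ⟨Nat.prime_two⟩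
  have hcard : Nat.card (G ⧸ K) = 2 ^ (l + 1) := hK
  obtain ⟨H, hH⟩ := Sylow.exists_subgroup_card_pow_prime (G := G ⧸ K) 2 (n := l)
    (by rw [hcard]; exact pow_dvd_pow 2 (by omega))
  refine ⟨H.comap (QuotientGroup.mk' K), ?_⟩
  rw [Subgroup.index_comap_of_surjective _ (QuotientGroup.mk'_surjective K)]
  have h := H.card_mul_index
  rw [hH, hcard, pow_succ] at h
  exact Nat.eq_of_mul_eq_mul_left (pow_pos two_pos _) h

theorem exists_simple_odd_index (hG : ∀ H : Subgroup G, H.index ≠ 2) (S : Sylow 2 G)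
    (hS : Cfsg.IsQuasiDihedral (S : Subgroup G) ∨ Cfsg.IsWreathed (S : Subgroup G))
    (hO : Cfsg.pPrimeCore 2 G = ⊥) :
    ∃ L : Subgroup G, L.Normal ∧ Odd L.index ∧ IsSimpleGroup L ∧ ¬ IsMulCommutative L := by
  classical
  have : Fact (Nat.Prime 2) := ⟨Nat.prime_two⟩
  obtain ⟨hconj, ⟨a, b, ha, hb, hab⟩, u, hu⟩ := involution_facts hG S hS
  haveI : Finite (Subgroup G) := Finite.of_injective _ SetLike.coe_injective
  have hnt : Nontrivial G := ⟨⟨a, 1, fun h => by rw [h, orderOf_one] at ha; omega⟩⟩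
  obtain ⟨L, ⟨hLn, hL⟩, hleast⟩ := Set.exists_min_image
    {N : Subgroup G | N.Normal ∧ N ≠ ⊥} (fun N => Nat.card N) (Set.toFinite _)
    ⟨⊤, inferInstance, fun h => bot_ne_top h.symm⟩
  haveI := hLn
  have hmin : ∀ K : Subgroup G, K.Normal → K ≤ L → K = ⊥ ∨ K = L := fun K hK hKL =>
    or_iff_not_imp_left.2 fun hne => Subgroup.eq_of_le_of_card_ge hKL (hleast K ⟨hK, hne⟩)
  -- all involutions lie in `L`
  have heven : 2 ∣ Nat.card L := by
    by_contra h
    have hle := CfsgLib.Solvable.le_pPrimeCore (p := 2) hLn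
      (Nat.coprime_two_right.mpr (Nat.odd_iff.mpr (Nat.two_dvd_ne_zero.mp h)))
    rw [hO, le_bot_iff] at hle
    exact hL hle
  obtain ⟨t₀, ht₀⟩ := exists_prime_orderOf_dvd_card' 2 heven
  have hinv : ∀ t : G, orderOf t = 2 → t ∈ L := fun t ht => by
    obtain ⟨g, rfl⟩ := isConj_iff.mp (hconj (t₀ : G) t (by rw [Subgroup.orderOf_coe]; exact ht₀) ht)
    exact hLn.conj_mem _ t₀.2 g
  have hncomm : ¬ IsMulCommutative L := fun h =>
    hab (congrArg Subtype.val (h.is_comm.comm ⟨a, hinv a ha⟩ ⟨b, hinv b hb⟩))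
  have hchar : ∀ H : Subgroup L, H.Characteristic → H = ⊥ ∨ H = ⊤ := by
    intro H hH
    haveI := hH
    rcases hmin _ (CfsgLib.Solvable.normal_map_subtype_of_characteristic L H)
      (Subgroup.map_subtype_le H) with h | h
    · exact Or.inl ((Subgroup.map_eq_bot_iff_of_injective _ L.subtype_injective).mp h)
    · refine Or.inr (Subgroup.map_injective L.subtype_injective ?_)
      rw [h, ← MonoidHom.range_eq_map, Subgroup.range_subtype]
  haveI : Nontrivial L := (Subgroup.nontrivial_iff_ne_bot L).2 hL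
  obtain ⟨T, _, hT, k, hk, ⟨e⟩⟩ := CfsgLib.CharSimple.exists_simple_mulEquiv_pi hchar
  haveI : Finite T := by
    haveI : Finite (Fin k → T) := Finite.of_equiv L e.toEquiv
    exact Finite.of_injective (fun t => (fun _ => t : Fin k → T)) fun x y h => congrFun h ⟨0, hk⟩
  -- only one factor
  obtain rfl : k = 1 := by
    by_contra hk1
    set i : Fin k := ⟨0, hk⟩
    set j : Fin k := ⟨1, by omega⟩
    have hij : i ≠ j := by simp [i, j]
    have hTeven : 2 ∣ Nat.card T := by
      have h := Nat.card_congr e.toEquiv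
      rw [Nat.card_fun, Nat.card_fin] at h
      exact Nat.prime_two.dvd_of_dvd_pow (h ▸ heven)
    obtain ⟨t, ht⟩ := exists_prime_orderOf_dvd_card' 2 hTeven
    obtain ⟨v, hv⟩ : ∃ v : T, v * t ≠ t * v := by
      by_contra hall
      push Not at hall
      have hcen : t ∈ Subgroup.center T := Subgroup.mem_center_iff.mpr hall
      rcases IsSimpleGroup.eq_bot_or_eq_top_of_normal (Subgroup.center T) inferInstance with h | h
      · rw [h, Subgroup.mem_bot] at hcen
        rw [hcen, orderOf_one] at ht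
        omega
      · refine hncomm ⟨⟨fun x y => e.injective ?_⟩⟩
        rw [map_mul, map_mul]
        funext l
        exact Subgroup.mem_center_iff.mp (h ▸ Subgroup.mem_top (e y l)) (e x l)
    have ho1 : orderOf (Pi.mulSingle i t : Fin k → T) = 2 := by
      rw [← ht]; exact orderOf_injective (MonoidHom.mulSingle (fun _ : Fin k => T) i) (Pi.mulSingle_injective (M := fun _ : Fin k => T) i) t
    have ho2 : orderOf (Pi.mulSingle i t * Pi.mulSingle j t : Fin k → T) = 2 := by
      refine orderOf_eq_prime ?_ fun h => ?_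
      · rw [(Pi.mulSingle_commute (f := fun _ : Fin k => T) hij t t).mul_pow, ← Pi.mulSingle_pow,
          ← Pi.mulSingle_pow, ← ht, pow_orderOf_eq_one, Pi.mulSingle_one, Pi.mulSingle_one, one_mul]
      · have h' := congrFun h i
        simp [Pi.mulSingle_eq_of_ne hij] at h'
        rw [h', orderOf_one] at ht
        omega
    have hconj' : ∀ f g : Fin k → T, orderOf f = 2 → orderOf g = 2 →
        Nat.card (Subgroup.centralizer ({f} : Set (Fin k → T))) =
          Nat.card (Subgroup.centralizer ({g} : Set (Fin k → T))) := by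
      intro f g hf hg
      have hN : ∀ p : L, Nat.card (Subgroup.centralizer ({e p} : Set (Fin k → T))) =
          Nat.card (Subgroup.centralizer ({p} : Set L)) := by
        intro p
        have hmap : (Subgroup.centralizer ({p} : Set L)).map e.toMonoidHom =
            Subgroup.centralizer ({e p} : Set (Fin k → T)) := by
          ext w
          simp only [Subgroup.mem_map, Subgroup.mem_centralizer_singleton_iff]
          constructor
          · rintro ⟨q, hq, rfl⟩
            show e q * e p = e p * e q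
            rw [← map_mul, hq, map_mul]
          · intro hw
            refine ⟨e.symm w, e.injective ?_, e.apply_symm_apply w⟩
            rw [map_mul, map_mul, MulEquiv.apply_symm_apply, hw]
        rw [← hmap, Subgroup.card_map_of_injective e.injective]
      obtain ⟨p, rfl⟩ := e.surjective f
      obtain ⟨r, rfl⟩ := e.surjective g
      rw [hN, hN]
      refine card_centralizer_eq (hconj _ _ ?_ ?_) <;> rw [Subgroup.orderOf_coe]
      · rwa [MulEquiv.orderOf_eq] at hf
      · rwa [MulEquiv.orderOf_eq] at hg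
    exact (centralizer_pi_lt hij hv).ne (hconj' _ _ ho2 ho1)
  haveI := hT
  have hsimple : IsSimpleGroup L := MulEquiv.isSimpleGroup (e.trans (MulEquiv.funUnique (Fin 1) T))
  refine ⟨L, hLn, ?_, hsimple, hncomm⟩
  -- the quotient has a cyclic Sylow subgroup
  let π := QuotientGroup.mk' L
  set S1 := S.mapSurjective (QuotientGroup.mk'_surjective L) with hS1
  have hcyc : IsCyclic (S1 : Subgroup (G ⧸ L)) := by
    have hle : (S1 : Subgroup (G ⧸ L)) ≤ Subgroup.zpowers (π u) := by
      rintro _ ⟨s, hs, rfl⟩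
      obtain ⟨n, hn, i, rfl⟩ := hu L hLn hinv s hs
      rw [map_mul, show QuotientGroup.mk' L n = 1 from (QuotientGroup.eq_one_iff n).mpr hn, one_mul,
        map_zpow]
      exact Subgroup.zpow_mem _ (Subgroup.mem_zpowers _) i
    exact isCyclic_of_injective (Subgroup.inclusion hle) (Subgroup.inclusion_injective hle)
  obtain ⟨l, hl⟩ := CfsgLib.Case.index_oddCore_of_cyclic (S1 : Subgroup (G ⧸ L)) S1.isPGroup'
    (FusionTools.sylow_index_odd S1) hcyc
  haveI := CfsgLib.Solvable.pPrimeCore_normal 2 (G ⧸ L)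
  rcases l with _ | l
  · rw [pow_zero, Subgroup.index_eq_one] at hl
    have h := CfsgLib.Solvable.pPrimeCore_card_coprime 2 (G ⧸ L)
    rw [hl, Subgroup.card_top, ← Subgroup.index_eq_card] at h
    exact Nat.coprime_two_right.mp h
  · exfalso
    obtain ⟨H, hH⟩ := exists_index_two_of_two_power _ hl
    exact hG _ (by rw [Subgroup.index_comap_of_surjective H (QuotientGroup.mk'_surjective L), hH])

theorem exists_simple_mod_core (hG : ∀ H : Subgroup G, H.index ≠ 2) (S : Sylow 2 G)
    (hS : Cfsg.IsQuasiDihedral (S : Subgroup G) ∨ Cfsg.IsWreathed (S : Subgroup G)) :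
    ∃ L : Subgroup (G ⧸ Cfsg.oddCore G), L.Normal ∧ Odd L.index ∧ IsSimpleGroup L ∧
      ¬ IsMulCommutative L := by
  have : Fact (Nat.Prime 2) := ⟨Nat.prime_two⟩
  haveI : (Cfsg.oddCore G).Normal := CfsgLib.Solvable.pPrimeCore_normal 2 G
  let π := QuotientGroup.mk' (Cfsg.oddCore G)
  have hπ : Function.Surjective π := QuotientGroup.mk'_surjective _
  let S1 := S.mapSurjective hπ
  let f : (S : Subgroup G) →* (S1 : Subgroup (G ⧸ Cfsg.oddCore G)) := π.subgroupMap (S : Subgroup G)
  have hf : Function.Bijective f := by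
    refine ⟨?_, π.subgroupMap_surjective (S : Subgroup G)⟩
    intro p q h
    have h1 : (p : G)⁻¹ * q ∈ Cfsg.oddCore G := QuotientGroup.eq.mp (congrArg Subtype.val h)
    obtain ⟨r, hr⟩ := IsPGroup.iff_orderOf.mp S.isPGroup' (p⁻¹ * q)
    have h2 : orderOf ((p : G)⁻¹ * q) = 2 ^ r := by
      rw [← hr, ← Subgroup.orderOf_coe (p⁻¹ * q)]; rfl
    refine Subtype.ext (inv_mul_eq_one.mp (orderOf_eq_one_iff.mp (Nat.eq_one_of_dvd_coprimes
      ((CfsgLib.Solvable.pPrimeCore_card_coprime 2 G).pow_right r)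
      (Subgroup.orderOf_dvd_natCard _ h1) h2.dvd)))
  let ef := MulEquiv.ofBijective f hf
  refine exists_simple_odd_index (fun H hH => hG (H.comap π) ?_) S1 ?_
    (CfsgLib.Solvable.pPrimeCore_quotient_eq_bot (p := 2) _ rfl)
  · rw [Subgroup.index_comap_of_surjective H hπ, hH]
  · exact hS.imp (QDFusion.isQuasiDihedral_of_mulEquiv ef) (WRFusion.isWreathed_of_mulEquiv ef)

end CfsgLib.TwoFusion.SimpleOddIndex
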