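import Cfsg.Agent.Lib.Invol.GlaubermanZStar
import Cfsg.Agent.Lib.TwoFusion.ConjUtil
import Cfsg.Agent.Lib.TwoFusion.FusionTools
import Cfsg.Prelude.Def_TwoFusion

/-!
# A strongly closed subgroup centralizes the core-free subgroups it normalizes and meets trivially
-/

set_option autoImplicit false

namespace CfsgLib.TwoFusion.StronglyClosedDisjoint

universe u

/-- The absolute form: `G = AH` with `H` normal. -/
theorem commute_of_closed : ∀ (n : ℕ) (G : Type u) [Group G] [Finite G] (S : Sylow 2 G)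
    (A H : Subgroup G) [H.Normal], Nat.card A ≤ n → Cfsg.IsStronglyClosed A (S : Subgroup G) →
      A ⊔ H = ⊤ → A ⊓ H = ⊥ →
      (∀ N : Subgroup G, N.Normal → N ≤ H → Odd (Nat.card N) → N = ⊥) →
      A ≤ Subgroup.centralizer (H : Set G) := by
  intro n
  induction n with
  | zero =>
    intro G _ _ S A H _ hn
    exact absurd hn (by have := Nat.card_pos (α := A); omega)
  | succ n ih =>
    intro G _ _ S A H _ hn hA hsup hinf hcore
    have : Fact (Nat.Prime 2) := ⟨Nat.prime_two⟩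
    rcases eq_or_ne A ⊥ with rfl | hne
    · exact bot_le
    have hA2 : IsPGroup 2 A := S.isPGroup'.to_le hA.1
    haveI : Nontrivial A := A.nontrivial_iff_ne_bot.mpr hne
    haveI := hA2.center_nontrivial
    -- a central involution of `A`
    obtain ⟨k, hk⟩ := IsPGroup.iff_card.mp (hA2.to_subgroup (Subgroup.center A))
    have hdvd : 2 ∣ Nat.card (Subgroup.center A) := by
      rw [hk]
      refine dvd_pow_self 2 fun h0 => ?_
      rw [h0, pow_zero] at hk
      exact absurd hk (Finite.one_lt_card (α := Subgroup.center A)).ne'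
    obtain ⟨a0, ha0⟩ := exists_prime_orderOf_dvd_card' 2 hdvd
    set a : G := ((a0 : A) : G) with ha
    have haA : a ∈ A := (a0 : A).2
    have ha2 : orderOf a = 2 := by rw [ha, Subgroup.orderOf_coe, Subgroup.orderOf_coe, ha0]
    have hac : ∀ x ∈ A, x * a = a * x := fun x hx =>
      congrArg Subtype.val (Subgroup.mem_center_iff.mp a0.2 ⟨x, hx⟩)
    have hdec : ∀ g : G, ∃ h ∈ H, ∃ x ∈ A, h * x = g := fun g => by
      have hg : g ∈ H ⊔ A := by rw [sup_comm, hsup]; trivial
      exact Subgroup.mem_sup_of_normal_left.mp hg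
    have hiso : ∀ g : G, g * a * g⁻¹ ∈ S → g * a * g⁻¹ = a := by
      intro g hg
      have hgA := hA.2 a haA g hg
      obtain ⟨h, hh, x, hx, rfl⟩ := hdec g
      have e : h * x * a * (h * x)⁻¹ = h * a * h⁻¹ := by
        rw [mul_assoc h x a, hac x hx]; simp [mul_assoc]
      rw [e] at hgA ⊢
      have h1 : h * a * h⁻¹ * a⁻¹ ∈ A ⊓ H := by
        refine ⟨A.mul_mem hgA (A.inv_mem haA), ?_⟩
        have := H.mul_mem hh (‹H.Normal›.conj_mem _ (H.inv_mem hh) a)
        simpa [mul_assoc] using this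
      rw [hinf, Subgroup.mem_bot, mul_inv_eq_one] at h1
      exact h1
    obtain ⟨N, hNn, hNodd, hNc⟩ := CfsgLib.Invol.zStar_sylow S a ha2 hiso
    have hNH : N ≤ H := by
      intro m hm
      obtain ⟨h, hh, x, hx, rfl⟩ := hdec m
      obtain ⟨j, hj⟩ := IsPGroup.iff_orderOf.mp hA2 ⟨x, hx⟩
      rw [Subgroup.orderOf_mk] at hj
      have hq : (QuotientGroup.mk (h * x) : G ⧸ H) = QuotientGroup.mk x := by
        rw [QuotientGroup.mk_mul, (QuotientGroup.eq_one_iff h).mpr hh, one_mul]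
      have d1 : orderOf (QuotientGroup.mk x : G ⧸ H) ∣ 2 ^ j :=
        hj ▸ orderOf_map_dvd (QuotientGroup.mk' H) x
      have d2 : orderOf (QuotientGroup.mk x : G ⧸ H) ∣ Nat.card N := by
        rw [← hq]
        exact (orderOf_map_dvd (QuotientGroup.mk' H) (h * x)).trans
          ((Subgroup.orderOf_mk (H := N) _ hm).symm ▸ orderOf_dvd_natCard _)
      have hx1 : (QuotientGroup.mk x : G ⧸ H) = 1 := orderOf_eq_one_iff.mp
        (Nat.eq_one_of_dvd_coprimes ((Nat.coprime_two_left.mpr hNodd).pow_left j) d1 d2)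
      exact H.mul_mem hh ((QuotientGroup.eq_one_iff x).mp hx1)
    rw [hcore N hNn hNH hNodd] at hNc
    have hcent : ∀ g : G, a * g = g * a := fun g => by
      have h1 := Subgroup.mem_bot.mp (hNc g)
      rwa [mul_inv_eq_one, mul_inv_eq_iff_eq_mul] at h1
    set Z := Subgroup.zpowers a with hZ
    have hZc : Z ≤ Subgroup.center G :=
      Subgroup.zpowers_le.mpr (Subgroup.mem_center_iff.mpr fun g => (hcent g).symm)
    haveI : Z.Normal := ⟨fun m hm g => by
      rwa [Subgroup.mem_center_iff.mp (hZc hm) g, mul_inv_cancel_right]⟩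
    have hZA : Z ≤ A := Subgroup.zpowers_le.mpr haA
    let π : G →* G ⧸ Z := QuotientGroup.mk' Z
    have hπs : Function.Surjective π := QuotientGroup.mk'_surjective Z
    haveI : (H.map π).Normal := Subgroup.Normal.map inferInstance π hπs
    have hcomap : ∀ K : Subgroup G, Z ≤ K → ∀ x, π x ∈ K.map π → x ∈ K := fun K hK x hx => by
      obtain ⟨y, hy, hyx⟩ := hx
      have h1 : y⁻¹ * x ∈ Z := QuotientGroup.eq.mp hyx
      simpa using K.mul_mem hy (hK h1)
    have hres := ih (G ⧸ Z) (S.mapSurjective hπs) (A.map π) (H.map π) ?_ ⟨?_, ?_⟩ ?_ ?_ ?_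
    · intro x hx
      rw [Subgroup.mem_centralizer_iff]
      intro h hh
      have h1 := Subgroup.mem_centralizer_iff.mp (hres ⟨x, hx, rfl⟩) (π h) ⟨h, hh, rfl⟩
      rw [← map_mul, ← map_mul] at h1
      have h2 : (x * h)⁻¹ * (h * x) ∈ Z := QuotientGroup.eq.mp h1.symm
      have h3 : (x * h)⁻¹ * (h * x) ∈ A ⊓ H := by
        refine ⟨hZA h2, ?_⟩
        have := H.mul_mem (H.inv_mem hh) (‹H.Normal›.conj_mem h hh x⁻¹)
        simpa [mul_assoc] using this
      rw [hinf, Subgroup.mem_bot, inv_mul_eq_one] at h3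
      exact h3.symm
    · have h1 : Nat.card (A.map π) * 2 ≤ Nat.card A := by
        have h2 := Subgroup.card_mul_index (Z.subgroupOf A)
        rw [Nat.card_congr (Subgroup.subgroupOfEquivOfLe hZA).toEquiv, hZ, Nat.card_zpowers, ha2] at h2
        have hker : (π.comp A.subtype).ker = Z.subgroupOf A := by
          ext x; simp [π, MonoidHom.mem_ker, Subgroup.mem_subgroupOf]
        rw [← hZ] at h2
        rw [← h2, ← hker, Subgroup.index_ker, MonoidHom.range_comp, Subgroup.range_subtype, mul_comm]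
      omega
    · exact Subgroup.map_mono hA.1
    · rintro _ ⟨x, hx, rfl⟩ g hg
      obtain ⟨g, rfl⟩ := hπs g
      rw [← map_inv, ← map_mul, ← map_mul] at hg ⊢
      exact Subgroup.mem_map_of_mem π
        (hA.2 x hx g (hcomap (S : Subgroup G) (hZA.trans hA.1) _ hg))
    · rw [← Subgroup.map_sup, hsup, Subgroup.map_top_of_surjective π hπs]
    · rw [eq_bot_iff]
      rintro _ ⟨⟨x, hx, rfl⟩, y, hy, hyx⟩
      have h1 : y⁻¹ * x ∈ Z := QuotientGroup.eq.mp hyx
      have h2 : y ∈ A := by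
        simpa using A.mul_mem hx (A.inv_mem (hZA h1))
      have h3 : y ∈ A ⊓ H := ⟨h2, hy⟩
      rw [hinf, Subgroup.mem_bot] at h3
      rw [Subgroup.mem_bot, ← hyx, h3, map_one]
    · intro M hMn hMH hModd
      have hK : (M.comap π ⊓ H).Normal := inferInstance
      have hinj : Set.InjOn π (M.comap π ⊓ H : Subgroup G) := by
        intro x hx y hy e
        have h1 : x⁻¹ * y ∈ Z := QuotientGroup.eq.mp e
        have h2 : x⁻¹ * y ∈ A ⊓ H := ⟨hZA h1, H.mul_mem (H.inv_mem hx.2) hy.2⟩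
        rw [hinf, Subgroup.mem_bot] at h2
        exact inv_mul_eq_one.mp h2
      have hmap : (M.comap π ⊓ H).map π = M := by
        refine le_antisymm ((Subgroup.map_mono inf_le_left).trans (Subgroup.map_comap_le _ _)) ?_
        intro m hm
        obtain ⟨h, hh, rfl⟩ := hMH hm
        exact ⟨h, ⟨hm, hh⟩, rfl⟩
      have hcard : Nat.card ↥(M.comap π ⊓ H) = Nat.card M := by
        conv_rhs => rw [← hmap]
        exact (Nat.card_image_of_injOn hinj).symm
      rw [← hmap, hcore _ hK inf_le_right (hcard ▸ hModd), Subgroup.map_bot]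

theorem le_centralizer {G : Type u} [Group G] [Finite G] (S : Sylow 2 G) (A : Subgroup G)
    (hA : Cfsg.IsStronglyClosed A (S : Subgroup G)) (H : Subgroup G)
    (hAH : A ≤ Subgroup.normalizer (H : Set G)) (hO : Cfsg.oddCore ↥H = ⊥) (hdisj : A ⊓ H = ⊥) :
    A ≤ Subgroup.centralizer (H : Set G) := by
  have : Fact (Nat.Prime 2) := ⟨Nat.prime_two⟩
  set K := A ⊔ H with hK
  have hKn : K ≤ Subgroup.normalizer (H : Set G) := sup_le hAH Subgroup.le_normalizer
  haveI : (H.subgroupOf K).Normal := Subgroup.normal_subgroupOf_of_le_normalizer hKn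
  have hAp : IsPGroup 2 (A.subgroupOf K) :=
    (S.isPGroup'.to_le hA.1).of_equiv (Subgroup.subgroupOfEquivOfLe le_sup_left).symm
  obtain ⟨T, hT⟩ := hAp.exists_le_sylow
  obtain ⟨T1, hT1⟩ := (T.isPGroup'.map K.subtype).exists_le_sylow
  obtain ⟨g, hg⟩ := ConjUtil.sylow_eq_conjMap S T1
  have hAT : ∀ x ∈ A, g⁻¹ * x * g ∈ A := by
    intro x hx
    have h1 : x ∈ (T1 : Subgroup G) := hT1 ⟨⟨x, Subgroup.mem_sup_left hx⟩, hT hx, rfl⟩
    rw [hg, ConjUtil.mem_conjMap_iff] at h1
    simpa using hA.2 x hx g⁻¹ (by simpa using h1)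
  have hgA : A.map (MulAut.conj g⁻¹).toMonoidHom = A := Subgroup.eq_of_le_of_card_ge (by
    rintro _ ⟨x, hx, rfl⟩; simpa using hAT x hx) (ConjUtil.card_conjMap _ _).ge
  have hres := commute_of_closed (Nat.card (A.subgroupOf K)) K T (A.subgroupOf K) (H.subgroupOf K)
    le_rfl ⟨hT, fun x hx k hk => ?_⟩ ?_ ?_ ?_
  · intro x hx
    rw [Subgroup.mem_centralizer_iff]
    intro h hh
    exact congrArg Subtype.val (Subgroup.mem_centralizer_iff.mp
      (hres (show (⟨x, Subgroup.mem_sup_left hx⟩ : K) ∈ A.subgroupOf K from hx))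
      ⟨h, Subgroup.mem_sup_right hh⟩ hh)
  · have h1 : ((k * x * k⁻¹ : K) : G) ∈ (T1 : Subgroup G) := hT1 ⟨_, hk, rfl⟩
    rw [hg, ConjUtil.mem_conjMap_iff] at h1
    have h2 : (g⁻¹ * (k : G)) * (x : G) * (g⁻¹ * (k : G))⁻¹ = g⁻¹ * ((k * x * k⁻¹ : K) : G) * g := by
      simp [mul_assoc]
    have h3 := hA.2 (x : G) hx (g⁻¹ * (k : G)) (h2 ▸ h1)
    rw [h2, ← hgA] at h3
    obtain ⟨y, hy, hye⟩ := h3
    show ((k * x * k⁻¹ : K) : G) ∈ A
    simp only [MulEquiv.coe_toMonoidHom, MulAut.conj_apply, inv_inv] at hye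
    rw [mul_right_cancel_iff, mul_left_cancel_iff] at hye
    exact hye ▸ hy
  · rw [← Subgroup.subgroupOf_sup le_sup_left le_sup_right, Subgroup.subgroupOf_self]
  · rw [eq_bot_iff]
    intro x hx
    rw [Subgroup.mem_bot]
    exact Subtype.ext (by have h : (x : G) ∈ A ⊓ H := hx; rwa [hdisj, Subgroup.mem_bot] at h)
  · intro N hNn hNH hNodd
    have hNK : N.map K.subtype ≤ H := by
      rintro _ ⟨x, hx, rfl⟩
      exact hNH hx
    have hnorm : H ≤ Subgroup.normalizer ((N.map K.subtype : Subgroup G) : Set G) := fun h hh =>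
      Subgroup.le_normalizer_map K.subtype
        ⟨⟨h, Subgroup.mem_sup_right hh⟩, by rw [Subgroup.normalizer_eq_top_iff.mpr hNn]; trivial, rfl⟩
    haveI := Subgroup.normal_subgroupOf_of_le_normalizer hnorm
    have hbot := (CfsgLib.Solvable.pPrimeCore_eq_bot_iff (p := 2) (G := H)).mp hO
      ((N.map K.subtype).subgroupOf H) inferInstance (by
        rw [Nat.card_congr (Subgroup.subgroupOfEquivOfLe hNK).toEquiv,
          Subgroup.card_map_of_injective K.subtype_injective]
        exact Nat.coprime_two_right.mpr hNodd)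
    rw [Subgroup.subgroupOf_eq_bot, disjoint_iff, inf_eq_left.mpr hNK,
      Subgroup.map_eq_bot_iff_of_injective _ K.subtype_injective] at hbot
    exact hbot

end CfsgLib.TwoFusion.StronglyClosedDisjoint
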