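import Cfsg.Agent.Lib.TwoFusion.WRFusion

/-!
The index `|N(U) : C(U)|` for the abelian maximal subgroup `U` of a wreathed Sylow 2-subgroup.
-/

set_option autoImplicit false

namespace CfsgLib.TwoFusion.WRFusion

open LocalAut FusionTools Subgroup

variable {G : Type*} [Group G]

/-- Elements of 2-power and of odd order detect membership in a subgroup. -/
theorem mem_of_two_odd [Finite G] {H : Subgroup G} {n : G}
    (h2 : ∀ m ∈ zpowers n, (∃ e : ℕ, orderOf m = 2 ^ e) → m ∈ H)
    (hodd : ∀ m ∈ zpowers n, Odd (orderOf m) → m ∈ H) : n ∈ H := by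
  set N := orderOf n with hN
  have hpos := orderOf_pos n
  set a := 2 ^ N.factorization 2 with ha
  set b := N / a with hb
  have hab : a * b = N := Nat.mul_div_cancel' (Nat.ordProj_dvd N 2)
  have hcop : Nat.Coprime a b :=
    (Nat.coprime_ordCompl Nat.prime_two hpos.ne').pow_left _
  have h1 : n ^ b ∈ H := h2 _ (npow_mem_zpowers n b) ⟨N.factorization 2, by
    rw [orderOf_pow_of_dvd (fun h => by rw [h, mul_zero] at hab; omega) ⟨a, by rw [mul_comm, hab]⟩,
      ← hN, Nat.div_eq_of_eq_mul_left (by rcases Nat.eq_zero_or_pos b with h | h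
                                          · rw [h, mul_zero] at hab; omega
                                          · exact h) hab.symm]⟩
  have h3 : n ^ a ∈ H := hodd _ (npow_mem_zpowers n a) (by
    rw [orderOf_pow_of_dvd (by positivity) (Nat.ordProj_dvd N 2)]
    exact Nat.coprime_two_left.mp (Nat.coprime_ordCompl Nat.prime_two hpos.ne'))
  have hbez := Nat.gcd_eq_gcd_ab a b
  rw [hcop] at hbez
  have e : n = (n ^ a) ^ Nat.gcdA a b * (n ^ b) ^ Nat.gcdB a b := by
    rw [← zpow_natCast n a, ← zpow_natCast n b, ← zpow_mul, ← zpow_mul, ← zpow_add, ← hbez]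
    simp
  rw [e]
  exact mul_mem (zpow_mem h3 _) (zpow_mem h1 _)

/-- The action of the normalizer on the involutions of `U`. -/
abbrev invPerm (U : Subgroup G) :
    normalizer (U : Set G) →* Equiv.Perm {m : U // m ≠ 1 ∧ m * m = 1} :=
  normPerm U (fun m => m ≠ 1 ∧ m * m = 1) (fun σ m => by
    simp only [ne_eq, map_eq_one_iff σ σ.injective, ← map_mul])

variable [Finite G] (S : Sylow 2 G) (D : WRGens (S : Subgroup G))

theorem card_base_involutions :
    Nat.card {m : baseG D // m ≠ 1 ∧ m * m = 1} = 3 := by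
  show Set.ncard {m : baseG D | m ≠ 1 ∧ m * m = 1} = 3
  have hb : ∀ {a b : ℤ}, uG D a b ∈ baseG D := fun {a b} => (mem_baseG D).mpr ⟨a, b, rfl⟩
  have hset : {m : baseG D | m ≠ 1 ∧ m * m = 1} =
      {⟨cG D, cG_mem_baseG D⟩, ⟨aG D, hb⟩, ⟨uG D 0 (2 * D.Q), hb⟩} := by
    ext ⟨t, ht⟩
    constructor
    · rintro ⟨h1, h2⟩
      rcases base_involution_cases D ht (fun h => h1 (Subtype.ext h)) (congrArg Subtype.val h2) with
        rfl | rfl | rfl
      · exact Or.inl rfl
      · exact Or.inr (Or.inl rfl)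
      · exact Or.inr (Or.inr rfl)
    · have key : ∀ i j : ℤ, ¬ (4 * D.Q ∣ 2 * D.Q * i ∧ 4 * D.Q ∣ 2 * D.Q * j) →
          t = uG D (2 * D.Q * i) (2 * D.Q * j) → (⟨t, ht⟩ : baseG D) ≠ 1 ∧
            (⟨t, ht⟩ : baseG D) * ⟨t, ht⟩ = 1 := by
        rintro i j hne rfl
        exact ⟨fun h => hne (D.u_eq_one_iff.mp (Subtype.ext (congrArg Subtype.val h :))),
          Subtype.ext (congrArg Subtype.val (D.u_half_sq i j) :)⟩
      rintro (h | h | h) <;> have h : t = _ := congrArg Subtype.val h
      · exact key 1 1 (fun h' => D.not_dvd_two_Q (by simpa using h'.1)) (by rw [mul_one]; exact h)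
      · exact key 1 0 (fun h' => D.not_dvd_two_Q (by simpa using h'.1))
          (by rw [mul_one, mul_zero]; exact h)
      · exact key 0 1 (fun h' => D.not_dvd_two_Q (by simpa using h'.2))
          (by rw [mul_one, mul_zero]; exact h)
  rw [hset, Set.ncard_eq_three]
  refine ⟨_, _, _, ?_, ?_, ?_, rfl⟩ <;> intro h <;>
    have h := D.u_eq_iff.mp (Subtype.ext (congrArg Subtype.val h :))
  · exact D.not_dvd_two_Q (by simpa using h.2)
  · exact D.not_dvd_two_Q (by simpa using h.1)
  · exact D.not_dvd_two_Q (by simpa using h.1)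

/-- The transposition induced by the involution outside the base. -/
theorem base_transposition :
    ∃ (r : normalizer (baseG D : Set G)) (c : {m : baseG D // m ≠ 1 ∧ m * m = 1}),
      (r : G) = zG D ∧ ((c : baseG D) : G) = cG D ∧ invPerm (baseG D) r ≠ 1 ∧
      invPerm (baseG D) (r * r) = 1 ∧ invPerm (baseG D) r c = c ∧
      ∀ m, invPerm (baseG D) r m = m → m = c := by
  let r : normalizer (baseG D : Set G) := ⟨zG D, le_normalizer_baseG D (D.u 0 0 * D.z).2⟩
  have hr2 : r * r = 1 := Subtype.ext (by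
    show zG D * zG D = 1
    exact zG_sq D)
  let c : {m : baseG D // m ≠ 1 ∧ m * m = 1} := ⟨⟨cG D, cG_mem_baseG D⟩,
    fun h => cG_ne_one D (congrArg Subtype.val h), Subtype.ext (congrArg Subtype.val D.c_mul_c :)⟩
  have hfix : ∀ m, invPerm (baseG D) r m = m → m = c := by
    rintro ⟨⟨t, ht⟩, h1, h2⟩ hm
    have he : zG D * t * (zG D)⁻¹ = t := by
      have := normPerm_apply (baseG D) (fun m => m ≠ 1 ∧ m * m = 1) (fun σ m => by
        simp only [ne_eq, map_eq_one_iff σ σ.injective, ← map_mul]) r ⟨⟨t, ht⟩, h1, h2⟩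
      exact this.symm.trans (congrArg (fun w => ((w : {m : baseG D // _}).1 : G)) hm)
    rcases base_involution_cases D ht (fun h => h1 (Subtype.ext h)) (congrArg Subtype.val h2) with
      rfl | rfl | rfl
    · rfl
    all_goals
      have h3 : D.u 0 0 * D.z * _ * (D.u 0 0 * D.z)⁻¹ = _ := Subtype.ext he
      rw [D.uz_conj_u, D.u_eq_iff] at h3
      exact absurd (by simpa using h3.2) D.not_dvd_two_Q
  have hrc : invPerm (baseG D) r c = c := by
    apply Subtype.ext; apply Subtype.ext
    show zG D * cG D * (zG D)⁻¹ = cG D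
    rw [← cG_comm D (D.u 0 0 * D.z).2, mul_inv_cancel_right]
  refine ⟨r, c, rfl, rfl, fun h => ?_, by rw [hr2, map_one], hrc, hfix⟩
  have h1 := hfix ⟨⟨aG D, (mem_baseG D).mpr ⟨_, _, rfl⟩⟩,
    fun h' => aG_ne_one D (congrArg Subtype.val h'), Subtype.ext (aG_sq D)⟩
    (by rw [h]; rfl)
  exact aG_ne_cG D (congrArg (fun w => ((w : {m : baseG D // _}).1 : G)) h1)

theorem isPGroup_baseG : IsPGroup 2 (baseG D) := S.isPGroup'.to_le (baseG_le D)

theorem relIndex_base_eq :
    (centralizer (baseG D : Set G)).relIndex (normalizer (baseG D : Set G)) =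
      (invPerm (baseG D)).ker.index := by
  have hK : (invPerm (baseG D)).ker =
      (centralizer (baseG D : Set G)).subgroupOf (normalizer (baseG D : Set G)) := by
    apply le_antisymm
    · intro n hn
      refine mem_of_two_odd ?_ ?_
      · rintro m hm ⟨e, he⟩
        have hmK : m ∈ (invPerm (baseG D)).ker := (zpowers_le.mpr hn) hm
        have hp : IsPGroup 2 (zpowers (m : G)) :=
          IsPGroup.of_card (n := e) (by rw [Nat.card_zpowers, Subgroup.orderOf_coe, he])
        obtain ⟨h, hh, hconj⟩ := exists_conj_le (normalizer (baseG D : Set G)) (S : Subgroup G)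
          (zpowers (m : G)) S.isPGroup' (le_normalizer_baseG D)
          ((sylow_index_odd S).of_dvd_nat (Subgroup.relIndex_dvd_index_of_le (le_normalizer_baseG D)))
          hp (zpowers_le.mpr m.2)
        set h' : normalizer (baseG D : Set G) := ⟨h, hh⟩
        have hconjK : h' * m * h'⁻¹ ∈ (invPerm (baseG D)).ker :=
          (MonoidHom.normal_ker _).conj_mem _ hmK _
        have hS := hconj _ (mem_zpowers (m : G))
        have hbase : h * m * h⁻¹ ∈ baseG D := by
          obtain ⟨a, b, e' | e'⟩ := D.normalForm ⟨_, hS⟩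
          · exact (mem_baseG D).mpr ⟨a, b, congrArg Subtype.val e'⟩
          · exfalso
            have hfixa := (normPerm_eq_one_iff _ _ _ _).mp hconjK
              ⟨aG D, (mem_baseG D).mpr ⟨_, _, rfl⟩⟩ ⟨fun h' => aG_ne_one D (congrArg Subtype.val h'), Subtype.ext (aG_sq D)⟩
            have hfixa : h * m * h⁻¹ * aG D * (h * m * h⁻¹)⁻¹ = aG D := hfixa
            rw [show h * m * h⁻¹ = wG D a b from congrArg Subtype.val e'] at hfixa
            have h3 : D.u a b * D.z * D.u (2 * D.Q) 0 * (D.u a b * D.z)⁻¹ = D.u (2 * D.Q) 0 :=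
              Subtype.ext hfixa
            rw [D.uz_conj_u, D.u_eq_iff] at h3
            exact D.not_dvd_two_Q (by simpa using h3.2)
        rw [Subgroup.mem_subgroupOf, Subgroup.mem_centralizer_iff]
        intro t ht
        have ht' : h * t * h⁻¹ ∈ baseG D := (Subgroup.mem_normalizer_iff.mp hh t).mp ht
        calc t * m = h⁻¹ * (h * t * h⁻¹ * (h * m * h⁻¹)) * h := by group
          _ = m * t := by rw [baseG_comm D ht' hbase]; group
      · intro m hm hodd
        have hmK : m ∈ (invPerm (baseG D)).ker := (zpowers_le.mpr hn) hm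
        have hφ : (baseG D).normalizerMonoidHom m = 1 := by
          refine abelian_fix_involutions (isPGroup_baseG S D)
            (fun p q => Subtype.ext (baseG_comm D p.2 q.2))
            (j := orderOf m) (by rw [← map_pow, pow_orderOf_eq_one, map_one]) hodd ?_
          intro t ht
          by_cases h1 : t = 1
          · rw [h1, map_one]
          · exact Subtype.ext ((normPerm_eq_one_iff _ _ _ _).mp hmK t ⟨h1, ht⟩)
        rw [Subgroup.mem_subgroupOf, Subgroup.mem_centralizer_iff]
        intro t ht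
        have h4 : (m : G) * t * (m : G)⁻¹ = t :=
          congrArg Subtype.val (congrArg (fun f : MulAut (baseG D) => f ⟨t, ht⟩) hφ :)
        rw [← mul_inv_eq_iff_eq_mul.mp h4]
    · intro n hn
      rw [MonoidHom.mem_ker, normPerm_eq_one_iff]
      intro t _
      rw [← Subgroup.mem_centralizer_iff.mp (Subgroup.mem_subgroupOf.mp hn) t t.2, mul_inv_cancel_right]
  rw [hK]; rfl

theorem base_index :
    (centralizer (baseG D : Set G)).relIndex (normalizer (baseG D : Set G)) = 2 ∨
      (centralizer (baseG D : Set G)).relIndex (normalizer (baseG D : Set G)) = 6 := by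
  obtain ⟨r, c, -, -, hr, hr2, -⟩ := base_transposition S D
  rw [relIndex_base_eq S D]
  exact index_ker_two_or_six _ (card_base_involutions S D) hr hr2

theorem base_six_iff :
    (centralizer (baseG D : Set G)).relIndex (normalizer (baseG D : Set G)) = 6 ↔
      IsConj (aG D) (cG D) := by
  obtain ⟨r, c, -, hcv, hr, hr2, -, hfix⟩ := base_transposition S D
  let a : {m : baseG D // m ≠ 1 ∧ m * m = 1} := ⟨⟨aG D, (mem_baseG D).mpr ⟨_, _, rfl⟩⟩,
    fun h' => aG_ne_one D (congrArg Subtype.val h'), Subtype.ext (aG_sq D)⟩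
  rw [relIndex_base_eq S D]
  constructor
  · intro h6
    obtain ⟨w, -, -, hall⟩ := exists_odd_fpf _ (card_base_involutions S D) h6
    rcases hall a c with h | h | h
    · exact absurd (by rw [← hcv, h]) (aG_ne_cG D)
    · exact isConj_iff.mpr ⟨w, by rw [← hcv, ← h, normPerm_apply]⟩
    · refine isConj_iff.mpr ⟨(w * w : normalizer (baseG D : Set G)), ?_⟩
      rw [← hcv, ← h, normPerm_apply, normPerm_apply, Subgroup.coe_mul]
      show _ = (w : G) * ((w : G) * aG D * (w : G)⁻¹) * (w : G)⁻¹
      group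
  · intro hac
    obtain ⟨g, hg⟩ := isConj_iff.mp hac
    have hUa : baseG D ≤ centralizer ({aG D} : Set G) := fun u hu =>
      Subgroup.mem_centralizer_singleton_iff.mpr
        (baseG_comm D hu ((mem_baseG D).mpr ⟨_, _, rfl⟩))
    obtain ⟨S', hUS', hS'M⟩ := exists_sylow_between S (centralizer ({aG D} : Set G)) (baseG D)
      (isPGroup_baseG S D) hUa g (fun s hs => by
        rw [Subgroup.mem_centralizer_singleton_iff]
        have e : s * (g * aG D * g⁻¹) = g * aG D * g⁻¹ * s := by rw [hg]; exact (cG_comm D hs).symm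
        calc g⁻¹ * s * g * aG D = g⁻¹ * (s * (g * aG D * g⁻¹)) * g := by group
          _ = aG D * (g⁻¹ * s * g) := by rw [e]; group)
    obtain ⟨D', hk, -⟩ := exists_gens_of_sylow S S' D
    have hbase : baseG D = baseG D' := eq_baseG D' hUS'
      ⟨⟨fun p q => Subtype.ext (baseG_comm D p.2 q.2)⟩⟩ (by rw [card_baseG, hk])
    have hz' : zG D' ∈ normalizer (baseG D : Set G) := by
      rw [hbase]; exact le_normalizer_baseG D' (D'.u 0 0 * D'.z).2
    have hcent : zG D' * aG D * (zG D')⁻¹ = aG D := by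
      rw [Subgroup.mem_centralizer_singleton_iff.mp (hS'M (D'.u 0 0 * D'.z).2), mul_inv_cancel_right]
    set r' : normalizer (baseG D : Set G) := ⟨zG D', hz'⟩
    have hr'2 : invPerm (baseG D) (r' * r') = 1 := by
      rw [show r' * r' = 1 from Subtype.ext (by
        show zG D' * zG D' = 1
        exact zG_sq D'), map_one]
    have hr'a : invPerm (baseG D) r' a = a := by
      apply Subtype.ext; apply Subtype.ext
      exact hcent
    have hr' : invPerm (baseG D) r' ≠ 1 := by
      intro h
      have ha' : aG D' ∈ baseG D := hbase ▸ (mem_baseG D').mpr ⟨_, _, rfl⟩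
      have h2 : zG D' * aG D' * (zG D')⁻¹ = aG D' :=
        (normPerm_eq_one_iff _ _ _ _).mp h ⟨_, ha'⟩ ⟨fun h' => aG_ne_one D' (congrArg Subtype.val h'), Subtype.ext (aG_sq D')⟩
      have h3 : D'.u 0 0 * D'.z * D'.u (2 * D'.Q) 0 * (D'.u 0 0 * D'.z)⁻¹ = D'.u (2 * D'.Q) 0 :=
        Subtype.ext h2
      rw [D'.uz_conj_u, D'.u_eq_iff] at h3
      exact D'.not_dvd_two_Q (by simpa using h3.2)
    refine index_ker_eq_six _ (card_base_involutions S D) hr hr2 hr' hr'2 fun h => ?_
    have h1 : a = c := hfix a (by rw [h]; exact hr'a)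
    exact aG_ne_cG D ((congrArg (fun w => ((w : {m : baseG D // _}).1 : G)) h1).trans hcv)

end CfsgLib.TwoFusion.WRFusion
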