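import Cfsg.Agent.Lib.TwoFusion.WRBaseLocal

/-!
The three classes of `V = Q Z(S)` modulo its centre, `Q` quaternion of order 8.
-/

set_option autoImplicit false

namespace CfsgLib.TwoFusion.WRFusion

open LocalAut FusionTools Subgroup

variable {G : Type*} [Group G]

section Sub

variable {S : Subgroup G} (D : WRGens S)

/-- `qzSub e`, in `G`. -/
def qzG (e : ℤ) : Subgroup G := (D.qzSub e).map S.subtype

theorem qzG_le (e : ℤ) : qzG D e ≤ S := map_subtype_le _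

theorem mem_qzG {e : ℤ} {g : G} : g ∈ qzG D e ↔ ∃ a b : ℤ,
    (g = uG D a b ∧ 2 * D.Q ∣ a - b) ∨ (g = wG D a b ∧ 2 * D.Q ∣ a - b - 2 * e) := by
  constructor
  · rintro ⟨s, ⟨a, b, ⟨rfl, h⟩ | ⟨rfl, h⟩⟩, rfl⟩
    · exact ⟨a, b, Or.inl ⟨rfl, h⟩⟩
    · exact ⟨a, b, Or.inr ⟨rfl, h⟩⟩
  · rintro ⟨a, b, ⟨rfl, h⟩ | ⟨rfl, h⟩⟩
    · exact ⟨_, D.u_mem_qzSub.mpr h, rfl⟩
    · exact ⟨_, D.uz_mem_qzSub.mpr h, rfl⟩

theorem eq_qzG {Q : Subgroup G} (hQS : Q ≤ S) (f : Q ≃* QuaternionGroup 2) :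
    ∃ e : ℤ, Q ⊔ centerG (S := S) = qzG D e := by
  obtain ⟨e, he⟩ := D.exists_qzSub ((Subgroup.subgroupOfEquivOfLe hQS).trans f)
  exact ⟨e, by rw [qzG, ← he, Subgroup.map_sup, Subgroup.subgroupOf_map_subtype, inf_of_le_left hQS,
    centerG]⟩

theorem centerG_le_qzG (e : ℤ) : centerG (S := S) ≤ qzG D e :=
  Subgroup.map_mono (D.center_le_qzSub e)

theorem u_mem_qzG {e a b : ℤ} (h : 2 * D.Q ∣ a - b) : uG D a b ∈ qzG D e :=
  (mem_qzG D).mpr ⟨a, b, Or.inl ⟨rfl, h⟩⟩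

theorem w_mem_qzG {e a b : ℤ} (h : 2 * D.Q ∣ a - b - 2 * e) : wG D a b ∈ qzG D e :=
  (mem_qzG D).mpr ⟨a, b, Or.inr ⟨rfl, h⟩⟩

theorem qzG_noncomm (e : ℤ) :
    ∃ p ∈ qzG D e, ∃ q ∈ qzG D e, p * q ≠ q * p := by
  refine ⟨uG D D.Q (-D.Q), u_mem_qzG D ⟨1, by ring⟩, wG D e (-e), w_mem_qzG D ⟨0, by ring⟩,
    fun h => D.not_dvd_two_Q ?_⟩
  have h := D.u_commute_uz_iff.mp (Subtype.ext h)
  simpa [two_mul] using h

theorem center_qzG {e : ℤ} {m : qzG D e} (hm : m ∈ center (qzG D e)) :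
    ∃ d : ℤ, (m : G) = uG D d d := by
  have hi : uG D D.Q (-D.Q) ∈ qzG D e := u_mem_qzG D ⟨1, by ring⟩
  have hv : wG D e (-e) ∈ qzG D e := w_mem_qzG D ⟨0, by ring⟩
  have h1 := congrArg Subtype.val (Subgroup.mem_center_iff.mp hm ⟨_, hi⟩)
  have h2 := congrArg Subtype.val (Subgroup.mem_center_iff.mp hm ⟨_, hv⟩)
  obtain ⟨a, b, ⟨h, -⟩ | ⟨h, -⟩⟩ := (mem_qzG D).mp m.2
  · refine ⟨a, h.trans (congrArg Subtype.val (D.u_eq_diag ?_))⟩
    simp only [Subgroup.coe_mul, h] at h2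
    exact D.u_commute_uz_iff.mp (Subtype.ext h2).symm
  · exfalso
    simp only [Subgroup.coe_mul, h] at h1
    exact D.not_dvd_two_Q (by simpa [two_mul] using D.u_commute_uz_iff.mp (Subtype.ext h1))

theorem diag_mem_center {e d : ℤ} (h : uG D d d ∈ qzG D e) :
    (⟨_, h⟩ : qzG D e) ∈ center (qzG D e) := by
  rw [Subgroup.mem_center_iff]
  intro g
  apply Subtype.ext
  show (g : G) * uG D d d = uG D d d * g
  exact congrArg Subtype.val (Subgroup.mem_center_iff.mp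
    ((D.mem_center_iff_diag (a := d) (b := d)).mpr (by rw [sub_self]; exact dvd_zero _))
    ⟨(g : G), qzG_le D e g.2⟩)

end Sub

variable [Finite G] (S : Sylow 2 G) (D : WRGens (S : Subgroup G))

/-- The normalizer of `V` centralises the centre of `S`. -/
theorem qz_fix_center (e : ℤ) (n : normalizer (qzG D e : Set G)) (ζ : qzG D e)
    (hζ : ζ ∈ center (qzG D e)) : (qzG D e).normalizerMonoidHom n ζ = ζ := by
  set H : Subgroup (normalizer ((qzG D e) : Set G)) :=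
    { carrier := {m | (qzG D e).normalizerMonoidHom m ζ = ζ}
      one_mem' := by simp
      mul_mem' := fun {a b} ha hb => by
        simp only [Set.mem_setOf_eq, map_mul, MulAut.mul_apply] at *
        rw [hb, ha]
      inv_mem' := fun {a} ha => by
        have ha : (qzG D e).normalizerMonoidHom a ζ = ζ := ha
        show (qzG D e).normalizerMonoidHom a⁻¹ ζ = ζ
        conv_lhs => rw [← ha]
        rw [map_inv, MulAut.inv_apply_self] }
  suffices hn : n ∈ H from hn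
  have hV2 : IsPGroup 2 (qzG D e) := S.isPGroup'.to_le (qzG_le D e)
  refine mem_of_two_odd ?_ ?_
  · rintro m - ⟨j, hj⟩
    have hp : IsPGroup 2 (zpowers (m : G)) :=
      IsPGroup.of_card (n := j) (by rw [Nat.card_zpowers, Subgroup.orderOf_coe, hj])
    obtain ⟨S', hS'⟩ := (hp.to_sup_of_normal_right' hV2 (zpowers_le.mpr m.2)).exists_le_sylow
    obtain ⟨D', -, -⟩ := exists_gens_of_sylow S S' D
    obtain ⟨-, hc⟩ := (mem_centerG (g := (ζ : G))).mp (center_le_centerG D'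
      (fun v hv => hS' (Subgroup.mem_sup_right hv)) (qzG_noncomm D e) ζ.2
      (fun p hp => congrArg Subtype.val (Subgroup.mem_center_iff.mp hζ ⟨p, hp⟩)))
    apply Subtype.ext
    rw [coe_normalizerMonoidHom, hc m (hS' (Subgroup.mem_sup_left (mem_zpowers _))),
      mul_inv_cancel_right]
  · intro m _ hodd
    have hσ : (qzG D e).normalizerMonoidHom m ζ ∈ center (qzG D e) := by
      rw [Subgroup.mem_center_iff]
      intro g
      obtain ⟨g, rfl⟩ := ((qzG D e).normalizerMonoidHom m).surjective g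
      rw [← map_mul, ← map_mul, Subgroup.mem_center_iff.mp hζ g]
    obtain ⟨d, hd⟩ := center_qzG D hζ
    set g : (qzG D e) := ⟨uG D 1 1, centerG_le_qzG D e (centerG_eq D ▸ mem_zpowers _)⟩ with hgdef
    have hgen : ∀ {x : (qzG D e)}, x ∈ center (qzG D e) → ∃ t : ℤ, x = g ^ t := fun {x} hx => by
      obtain ⟨t, ht⟩ := center_qzG D hx
      refine ⟨t, Subtype.ext ?_⟩
      rw [ht, SubgroupClass.coe_zpow]
      show _ = ((D.u 1 1 : (S : Subgroup G)) : G) ^ t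
      rw [← SubgroupClass.coe_zpow, D.u_zpow, one_mul]
    have hg : g ∈ center (qzG D e) := diag_mem_center D _
    have hσg : (qzG D e).normalizerMonoidHom m g ∈ center (qzG D e) := by
      rw [Subgroup.mem_center_iff]
      intro g'
      obtain ⟨g', rfl⟩ := ((qzG D e).normalizerMonoidHom m).surjective g'
      rw [← map_mul, ← map_mul, Subgroup.mem_center_iff.mp hg g']
    obtain ⟨t, ht⟩ := hgen hσg
    have hfix : (qzG D e).normalizerMonoidHom m g = g :=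
      OddAut.fix_zpow (j := orderOf m) (by rw [← map_pow, pow_orderOf_eq_one, map_one]) hodd
        (Z := ⊥) bot_le (fun ζ hζ => by rw [Subgroup.mem_bot.mp hζ, map_one]) hV2
        (ζ₀ := 1) (one_mem _) (m := t) (by rw [ht, mul_one])
    obtain ⟨t', ht'⟩ := hgen hζ
    show (qzG D e).normalizerMonoidHom m ζ = ζ
    rw [ht', map_zpow, hfix]

/-- The data of the action of `N(V)` on `V / Z(V)`. -/
theorem qz_data (e : ℤ) :
    ∃ (iV vV cV : qzG D e) (hi : (iV : qzG D e ⧸ center (qzG D e)) ≠ 1)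
      (_ : (vV : qzG D e ⧸ center (qzG D e)) ≠ 1) (r : normalizer (qzG D e : Set G)),
      (iV : G) = uG D D.Q (-D.Q) ∧ (vV : G) = wG D e (-e) ∧ (cV : G) = cG D ∧
      FourData (qzG D e) iV vV cV ∧
      Nat.card {q : qzG D e ⧸ center (qzG D e) // q ≠ 1} = 3 ∧
      (qzG D e ⊔ centralizer (qzG D e : Set G)).relIndex (normalizer (qzG D e : Set G)) =
        (quotPerm (qzG D e)).ker.index ∧
      quotPerm (qzG D e) r ≠ 1 ∧ quotPerm (qzG D e) (r * r) = 1 ∧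
      ∀ m, quotPerm (qzG D e) r m = m → m = ⟨iV, hi⟩ := by
  set V := qzG D e with hV
  let iV : V := ⟨uG D D.Q (-D.Q), u_mem_qzG D ⟨1, by ring⟩⟩
  let vV : V := ⟨wG D e (-e), w_mem_qzG D ⟨0, by ring⟩⟩
  let cV : V := ⟨cG D, u_mem_qzG D ⟨0, by ring⟩⟩
  have ext' : ∀ {p q : V} {s t : (S : Subgroup G)}, (p : G) = s → (q : G) = t → s = t → p = q :=
    fun hp hq h => Subtype.ext (by rw [hp, hq, h])
  have hdiag : ∀ d : ℤ, ∃ h : uG D d d ∈ V, (⟨_, h⟩ : V) ∈ center V := fun d =>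
    ⟨u_mem_qzG D ⟨0, by ring⟩, diag_mem_center D _⟩
  have hic : iV ∉ center V := fun h => by
    obtain ⟨d, hd⟩ := center_qzG D h
    obtain ⟨h1, h2⟩ := D.u_eq_iff.mp (Subtype.ext hd)
    exact D.not_dvd_two_Q (by have := dvd_sub h1 h2; simpa [two_mul] using this)
  have hvc : vV ∉ center V := fun h => by
    obtain ⟨d, hd⟩ := center_qzG D h
    exact D.u_ne_uz _ _ _ _ (Subtype.ext hd).symm
  have hivc : iV * vV ∉ center V := fun h => by
    obtain ⟨d, hd⟩ := center_qzG D h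
    have hd : D.u D.Q (-D.Q) * (D.u e (-e) * D.z) = D.u d d := Subtype.ext hd
    rw [D.u_mul_uz] at hd
    exact D.u_ne_uz _ _ _ _ hd.symm
  have hdata : FourData V iV vV cV := by
    refine ⟨?_, diag_mem_center D _, fun h => cG_ne_one D (congrArg Subtype.val h), ?_, ?_, ?_, ?_, ?_⟩
    · rintro ⟨g, hg⟩
      obtain ⟨a, b, ⟨rfl, m, hm⟩ | ⟨rfl, m, hm⟩⟩ := (mem_qzG D).mp hg
      · obtain ⟨t, rfl | rfl⟩ := Int.even_or_odd' m
        · obtain ⟨h, hc⟩ := hdiag a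
          refine ⟨_, hc, Or.inl (ext' rfl rfl (D.u_eq_diag ⟨t, by linear_combination hm⟩))⟩
        · obtain ⟨h, hc⟩ := hdiag (a - D.Q)
          refine ⟨_, hc, Or.inr (Or.inl (ext' (s := D.u a b) (t := D.u D.Q (-D.Q) * D.u (a - D.Q) (a - D.Q)) rfl rfl ?_))⟩
          rw [D.u_mul, D.u_eq_iff]
          exact ⟨⟨0, by ring⟩, ⟨-t, by linear_combination -hm⟩⟩
      · obtain ⟨t, rfl | rfl⟩ := Int.even_or_odd' m
        · obtain ⟨h, hc⟩ := hdiag (a - e)
          refine ⟨_, hc, Or.inr (Or.inr (Or.inl (ext' (s := D.u a b * D.z) (t := D.u e (-e) * D.z * D.u (a - e) (a - e)) rfl rfl ?_)))⟩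
          rw [D.uz_mul_u, D.uz_eq_iff]
          exact ⟨⟨0, by ring⟩, ⟨-t, by linear_combination -hm⟩⟩
        · obtain ⟨h, hc⟩ := hdiag (a - D.Q - e)
          refine ⟨_, hc, Or.inr (Or.inr (Or.inr (ext' (s := D.u a b * D.z) (t := D.u D.Q (-D.Q) * (D.u e (-e) * D.z) * D.u (a - D.Q - e) (a - D.Q - e)) rfl rfl ?_)))⟩
          rw [D.u_mul_uz, D.uz_mul_u, D.uz_eq_iff]
          exact ⟨⟨0, by ring⟩, ⟨-t, by linear_combination -hm⟩⟩
    · obtain ⟨h, hc⟩ := hdiag (2 * D.Q)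
      rw [show iV * iV = ⟨_, h⟩ from ext' (s := D.u D.Q (-D.Q) * D.u D.Q (-D.Q)) (t := D.u (2 * D.Q) (2 * D.Q)) rfl rfl
        (by rw [D.u_mul, D.u_eq_iff]; exact ⟨⟨0, by ring⟩, ⟨-1, by ring⟩⟩)]
      exact hc
    · rw [show vV * vV = 1 from ext' (s := D.u e (-e) * D.z * (D.u e (-e) * D.z)) (t := 1) rfl rfl
        (by rw [← pow_two, D.uz_sq, add_neg_cancel, D.u_zero])]
      exact one_mem _
    · refine ext' (s := D.u e (-e) * D.z * D.u D.Q (-D.Q) * (D.u e (-e) * D.z)⁻¹)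
        (t := D.u D.Q (-D.Q) * D.c) rfl rfl ?_
      rw [D.uz_conj_u, WRGens.c, D.u_mul, D.u_eq_iff]
      exact ⟨⟨-1, by ring⟩, ⟨0, by ring⟩⟩
    · refine ext' (s := D.u D.Q (-D.Q) * (D.u e (-e) * D.z) * (D.u D.Q (-D.Q))⁻¹)
        (t := D.u e (-e) * D.z * D.c) rfl rfl ?_
      rw [D.conj_uz, WRGens.c, D.uz_mul_u, D.uz_eq_iff]
      exact ⟨⟨0, by ring⟩, ⟨-1, by ring⟩⟩
    · intro ζ hζ h2
      by_cases h1 : ζ = 1
      · exact Or.inl h1
      · right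
        obtain ⟨d, hd⟩ := center_qzG D hζ
        refine ext' (s := D.u d d) (t := D.c) hd rfl
          (D.diag_involution_eq_c (by rw [sub_self]; exact dvd_zero _) ?_ ?_)
        · rw [pow_two]; apply Subtype.ext
          show uG D d d * uG D d d = 1
          rw [← hd]; exact congrArg Subtype.val h2
        · exact fun h => h1 (Subtype.ext (hd.trans (congrArg Subtype.val h)))
  have hi1 : (iV : V ⧸ center V) ≠ 1 := fun h => hic ((QuotientGroup.eq_one_iff _).mp h)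
  have hv1 : (vV : V ⧸ center V) ≠ 1 := fun h => hvc ((QuotientGroup.eq_one_iff _).mp h)
  have hiv1 : ((iV * vV : V) : V ⧸ center V) ≠ 1 := fun h => hivc ((QuotientGroup.eq_one_iff _).mp h)
  have haV : ∀ t : ℤ, ∀ g ∈ V, uG D (D.Q * t) 0 * g * (uG D (D.Q * t) 0)⁻¹ ∈ V := by
    intro t g hg
    obtain ⟨a, b, ⟨rfl, h⟩ | ⟨rfl, h⟩⟩ := (mem_qzG D).mp hg
    · rw [show uG D (D.Q * t) 0 * uG D a b * (uG D (D.Q * t) 0)⁻¹ = uG D a b from congrArg Subtype.val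
        (show D.u (D.Q * t) 0 * D.u a b * (D.u (D.Q * t) 0)⁻¹ = D.u a b by
          rw [D.u_inv, D.u_mul, D.u_mul, D.u_eq_iff]; exact ⟨⟨0, by ring⟩, ⟨0, by ring⟩⟩)]
      exact hg
    · have e1 : D.u (D.Q * t) 0 * (D.u a b * D.z) * (D.u (D.Q * t) 0)⁻¹ =
          D.u (a + D.Q * t) (b - D.Q * t) * D.z := by
        rw [D.conj_uz, D.uz_eq_iff]; exact ⟨⟨0, by ring⟩, ⟨0, by ring⟩⟩
      rw [show uG D (D.Q * t) 0 * wG D a b * (uG D (D.Q * t) 0)⁻¹ =
        wG D (a + D.Q * t) (b - D.Q * t) from congrArg Subtype.val e1]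
      obtain ⟨m, hm⟩ := h
      exact w_mem_qzG D ⟨m + t, by linear_combination hm⟩
  let r : normalizer (V : Set G) := ⟨uG D D.Q 0, by
    rw [Subgroup.mem_normalizer_iff]
    intro g
    refine ⟨fun hg => by simpa using haV 1 g hg, fun hg => ?_⟩
    have h := haV (-1) _ hg
    rw [show uG D (D.Q * -1) 0 = (uG D D.Q 0)⁻¹ from congrArg Subtype.val
      (show D.u (D.Q * -1) 0 = (D.u D.Q 0)⁻¹ by rw [D.u_inv, mul_neg_one, neg_zero])] at h
    simpa [mul_assoc] using h⟩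
  have hri : quotPerm V r ⟨iV, hi1⟩ = ⟨iV, hi1⟩ := by
    apply Subtype.ext
    rw [quotPerm_apply]
    congr 1
    refine ext' (s := D.u D.Q 0 * D.u D.Q (-D.Q) * (D.u D.Q 0)⁻¹) (t := D.u D.Q (-D.Q)) rfl rfl ?_
    rw [D.u_inv, D.u_mul, D.u_mul, D.u_eq_iff]
    exact ⟨⟨0, by ring⟩, ⟨0, by ring⟩⟩
  have hrv : quotPerm V r ⟨vV, hv1⟩ = ⟨((iV * vV : V) : V ⧸ center V), hiv1⟩ := by
    apply Subtype.ext
    rw [quotPerm_apply]
    congr 1
    refine ext' (s := D.u D.Q 0 * (D.u e (-e) * D.z) * (D.u D.Q 0)⁻¹)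
      (t := D.u D.Q (-D.Q) * (D.u e (-e) * D.z)) rfl rfl ?_
    rw [D.conj_uz, D.u_mul_uz, D.uz_eq_iff]
    exact ⟨⟨0, by ring⟩, ⟨0, by ring⟩⟩
  have hfix : ∀ m, quotPerm V r m = m → m = ⟨iV, hi1⟩ := by
    rintro ⟨q, hq⟩ hm
    obtain ⟨m, rfl⟩ := QuotientGroup.mk_surjective q
    obtain ⟨ζ, hζ, rfl | rfl | rfl | rfl⟩ := hdata.gen m
    · exact absurd ((QuotientGroup.eq_one_iff _).mpr hζ) hq
    · exact Subtype.ext (by simp [(QuotientGroup.eq_one_iff ζ).mpr hζ])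
    · exfalso
      have e1 : (⟨_, hq⟩ : {q : V ⧸ center V // q ≠ 1}) = ⟨vV, hv1⟩ :=
        Subtype.ext (by simp [(QuotientGroup.eq_one_iff ζ).mpr hζ])
      rw [e1, hrv] at hm
      have h := congrArg Subtype.val hm
      simp only [QuotientGroup.mk_mul] at h
      exact hi1 (mul_eq_right.mp h)
    · exfalso
      have e1 : (⟨_, hq⟩ : {q : V ⧸ center V // q ≠ 1}) = ⟨(iV * vV : V), hiv1⟩ :=
        Subtype.ext (by simp [(QuotientGroup.eq_one_iff ζ).mpr hζ])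
      rw [e1, ← hrv] at hm
      have h := (quotPerm V r).injective hm
      rw [hrv] at h
      have h' := congrArg Subtype.val h
      simp only [QuotientGroup.mk_mul] at h'
      exact hi1 (mul_eq_right.mp h')
  refine ⟨iV, vV, cV, hi1, hv1, r, rfl, rfl, rfl, hdata, hdata.card_points hic hvc hivc,
    hdata.relIndex_eq (qz_fix_center S D e), fun h => ?_, ?_, hfix⟩
  · have h1 := hfix ⟨vV, hv1⟩ (by rw [h]; rfl)
    rw [h1, hri] at hrv
    have h2 := congrArg Subtype.val hrv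
    simp only [QuotientGroup.mk_mul] at h2
    exact hv1 (mul_eq_left.mp h2.symm)
  · rw [quotPerm_eq_one_iff]
    intro m
    rw [normalizerMonoidHom_eq_conj V (h := ⟨uG D (2 * D.Q) 0, u_mem_qzG D ⟨1, by ring⟩⟩) (c := (1 : G))
      (one_mem _) (by
        rw [mul_one]
        exact (congrArg Subtype.val (show D.u D.Q 0 * D.u D.Q 0 = D.u (2 * D.Q) 0 by
          rw [D.u_mul, two_mul, zero_add])).symm)]
    exact hdata.abelian _ _

theorem qz_index (e : ℤ) :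
    (qzG D e ⊔ centralizer (qzG D e : Set G)).relIndex (normalizer (qzG D e : Set G)) = 2 ∨
      (qzG D e ⊔ centralizer (qzG D e : Set G)).relIndex (normalizer (qzG D e : Set G)) = 6 := by
  obtain ⟨iV, vV, cV, hi, hv, r, -, -, -, -, hcard, hrel, hr, hr2, -⟩ := qz_data S D e
  rw [hrel]
  exact index_ker_two_or_six _ hcard hr hr2

/-- If `|N(V) : V C(V)| = 6` then `z ~ a`. -/
theorem isConj_of_qz_six (e : ℤ)
    (h6 : (qzG D e ⊔ centralizer (qzG D e : Set G)).relIndex (normalizer (qzG D e : Set G)) = 6) :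
    IsConj (zG D) (aG D) := by
  obtain ⟨iV, vV, cV, hi, hv, r, hiv, hvv, -, hd, hcard, hrel, -⟩ := qz_data S D e
  obtain ⟨w, -, -, hall⟩ := exists_odd_fpf _ hcard (hrel ▸ h6)
  obtain ⟨n, hn⟩ : ∃ n, quotPerm (qzG D e) n ⟨vV, hv⟩ = ⟨iV, hi⟩ := by
    rcases hall ⟨vV, hv⟩ ⟨iV, hi⟩ with h | h | h
    · exact ⟨1, by rw [map_one, h]; rfl⟩
    · exact ⟨w, h⟩
    · exact ⟨w * w, by rw [map_mul]; exact h⟩
  rw [Subtype.ext_iff, quotPerm_apply, QuotientGroup.eq] at hn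
  obtain ⟨d, hd⟩ := center_qzG D hn
  set x := (n : G) * (vV : G) * (n : G)⁻¹ with hx
  have hzv : IsConj (zG D) x := (isConj_wG D (a := e) (b := -e) (by simp)).trans
    (isConj_iff.mpr ⟨(n : G), by rw [hx, hvv]⟩)
  have hd' : x⁻¹ * (iV : G) = uG D d d := hd
  have hxe : x = uG D (D.Q - d) (-D.Q - d) := by
    have : x = (iV : G) * (uG D d d)⁻¹ := by rw [← hd']; group
    rw [this, hiv]
    exact congrArg Subtype.val (show D.u D.Q (-D.Q) * (D.u d d)⁻¹ = D.u (D.Q - d) (-D.Q - d) by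
      rw [D.u_inv, D.u_mul]; rfl)
  obtain ⟨g, hg⟩ := isConj_iff.mp hzv
  refine hzv.trans (base_involution_conj D ((mem_baseG D).mpr ⟨_, _, hxe⟩) ?_ ?_ ?_).symm
  · rw [← hg, Ne, conj_eq_one_iff]
    exact fun h => by have := orderOf_zG D; rw [h, orderOf_one] at this; omega
  · rw [← hg, show g * zG D * g⁻¹ * (g * zG D * g⁻¹) = g * (zG D * zG D) * g⁻¹ by group, zG_sq]
    group
  · intro hc
    rw [hxe] at hc
    obtain ⟨h1, h2⟩ := D.u_eq_iff.mp (Subtype.ext hc)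
    exact D.not_dvd_two_Q (by have := dvd_sub h1 h2; simpa [two_mul] using this)

end CfsgLib.TwoFusion.WRFusion
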