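import Cfsg.Agent.Lib.TwoFusion.ZStarPower
import Cfsg.Agent.Lib.TwoFusion.WRWeakClosed
import Cfsg.Agent.Lib.TwoFusion.QDFusion
import Cfsg.Agent.Lib.TwoFusion.Isolated
import Cfsg.Agent.Lib.TwoFusion.ConjUtil

/-!
# Central modulo the core: weakly closed subgroups of the centre of a Sylow `2`-subgroup
-/

set_option autoImplicit false

namespace CfsgLib.TwoFusion.WeakCentre

open CfsgLib.Solvable

variable {G : Type*} [Group G] [Finite G]

/-- An element of the centre of `S` with weakly closed cyclic subgroups is alone in its fusion class. -/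
theorem eq_of_conj_mem (S : Sylow 2 G) {w : G} (hw : w ∈ S)
    (hcent : ∀ s ∈ (S : Subgroup G), s * w = w * s)
    (hweak : Cfsg.IsWeaklyClosed (Subgroup.zpowers w) (S : Subgroup G)) {g : G}
    (hg : g * w * g⁻¹ ∈ S) : g * w * g⁻¹ = w := by
  have : Fact (Nat.Prime 2) := ⟨Nat.prime_two⟩
  have hgn : g ∈ Subgroup.normalizer ((Subgroup.zpowers w : Subgroup G) : Set G) := by
    rw [ConjUtil.mem_normalizer_iff_conjMap]
    refine hweak.2 g ?_
    rw [MonoidHom.map_zpowers, Subgroup.zpowers_le]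
    exact hg
  set Z := Subgroup.zpowers w with hZ
  set φ := Z.normalizerMonoidHom with hφ
  obtain ⟨r, hr⟩ := IsPGroup.iff_orderOf.mp S.isPGroup' ⟨w, hw⟩
  rw [Subgroup.orderOf_mk] at hr
  have haut : orderOf (φ ⟨g, hgn⟩) ∣ 2 ^ r := by
    have h4 := orderOf_dvd_natCard (φ ⟨g, hgn⟩)
    rw [IsCyclic.card_mulAut, show Nat.card Z = orderOf w from Nat.card_zpowers w, hr] at h4
    rcases Nat.eq_zero_or_pos r with rfl | hr0
    · simpa using h4
    · rw [Nat.totient_prime_pow Nat.prime_two hr0] at h4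
      exact h4.trans (by simpa using pow_dvd_pow 2 (Nat.sub_le r 1))
  -- the centralizer has odd index in the normalizer
  have hSC : (S : Subgroup G) ≤ Subgroup.centralizer (Z : Set G) := fun s hs => by
    rw [Subgroup.mem_centralizer_iff]
    intro v hv
    obtain ⟨e, rfl⟩ := Subgroup.mem_zpowers_iff.mp hv
    exact ((show Commute w s from (hcent s hs).symm).zpow_left e).eq
  have hodd : Odd (orderOf (φ ⟨g, hgn⟩)) := by
    have h1 : Odd φ.ker.index := by
      rw [hφ, Subgroup.normalizerMonoidHom_ker]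
      exact (FusionTools.sylow_index_odd S).of_dvd_nat
        ((Dvd.intro _ (Subgroup.relIndex_mul_index (Subgroup.centralizer_le_normalizer _))).trans
          (Subgroup.index_dvd_of_le hSC))
    rw [Subgroup.index_ker] at h1
    have h2 := orderOf_dvd_natCard (⟨φ ⟨g, hgn⟩, _, rfl⟩ : φ.range)
    rw [← Subgroup.orderOf_coe] at h2
    exact h1.of_dvd_nat h2
  have h1 : φ ⟨g, hgn⟩ = 1 := orderOf_eq_one_iff.mp (Nat.eq_one_of_dvd_coprimes
    ((Nat.coprime_two_right.mpr hodd).pow_right r) dvd_rfl haut)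
  have h2 : ((φ ⟨g, hgn⟩ ⟨w, Subgroup.mem_zpowers w⟩ : Z) : G) = w := by rw [h1]; rfl
  exact h2

/-- Such elements are central modulo the odd core. -/
theorem central_mod_core (S : Sylow 2 G) {Z : Subgroup G} (hZS : Z ≤ S)
    (hcent : ∀ s ∈ (S : Subgroup G), ∀ w ∈ Z, s * w = w * s)
    (hweak : ∀ W ≤ Z, Cfsg.IsWeaklyClosed W (S : Subgroup G)) {w : G} (hw : w ∈ Z) (g : G) :
    w * g * w⁻¹ * g⁻¹ ∈ Cfsg.oddCore G := by
  obtain ⟨r, hr⟩ := IsPGroup.iff_orderOf.mp S.isPGroup' ⟨w, hZS hw⟩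
  rw [Subgroup.orderOf_mk] at hr
  exact ZStarPower.central_mod_core r G S w (hZS hw) (by rw [← hr, pow_orderOf_eq_one])
    (fun i x hx => eq_of_conj_mem S (hZS (Z.pow_mem hw i))
      (fun s hs => hcent s hs _ (Z.pow_mem hw i))
      (hweak _ (Subgroup.zpowers_le.mpr (Z.pow_mem hw i))) hx) g

/-- The Frattini argument: `G = O(G) C(Z)`. -/
theorem exists_core_mul_centralizer (S : Sylow 2 G) {Z : Subgroup G} (hZS : Z ≤ S)
    (hZ : ∀ w ∈ Z, ∀ g : G, w * g * w⁻¹ * g⁻¹ ∈ Cfsg.oddCore G) (h : G) :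
    ∃ o ∈ Cfsg.oddCore G, ∃ c ∈ Subgroup.centralizer (Z : Set G), h = o * c := by
  have : Fact (Nat.Prime 2) := ⟨Nat.prime_two⟩
  haveI hn : (Cfsg.oddCore G).Normal := pPrimeCore_normal 2 G
  set O := Cfsg.oddCore G with hO
  have hOodd : Odd (Nat.card O) := Nat.coprime_two_right.mp (pPrimeCore_card_coprime 2 G)
  have hdisj : ∀ x, x ∈ O → x ∈ (S : Subgroup G) → x = 1 := fun x hxO hxS => by
    obtain ⟨r, hr⟩ := IsPGroup.iff_orderOf.mp S.isPGroup' ⟨x, hxS⟩
    rw [Subgroup.orderOf_mk] at hr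
    exact orderOf_eq_one_iff.mp (Nat.eq_one_of_dvd_coprimes
      ((Nat.coprime_two_right.mpr hOodd).pow_right r) (Subgroup.orderOf_dvd_natCard O hxO) hr.dvd)
  set R := O ⊔ Z with hR
  have hodd : Odd (Z.relIndex R) := by
    rw [Subgroup.relIndex]
    refine hOodd.of_dvd_nat ?_
    have h1 : R = Z ⊔ O := by rw [hR, sup_comm]
    have h2 := Subgroup.card_mul_index (Z.subgroupOf R)
    rw [Nat.card_congr (Subgroup.subgroupOfEquivOfLe (le_sup_right : Z ≤ R)).toEquiv] at h2
    have h3 := Subgroup.card_mul_index (O.subgroupOf R)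
    rw [Nat.card_congr (Subgroup.subgroupOfEquivOfLe (le_sup_left : O ≤ R)).toEquiv] at h3
    have h4 : (O.subgroupOf R).index ∣ Nat.card Z := by
      show O.relIndex R ∣ Nat.card Z
      rw [hR, Subgroup.relIndex_sup_left]
      exact Subgroup.relIndex_dvd_card ..
    obtain ⟨t, ht⟩ := h4
    refine ⟨t, Nat.eq_of_mul_eq_mul_left (Nat.pos_of_ne_zero (Subgroup.index_ne_zero_of_finite
      (H := O.subgroupOf R))) ?_⟩
    rw [mul_comm, h3, ← h2, ht]
    ring
  obtain ⟨r, hrR, hr⟩ := FusionTools.exists_conj_le R Z (Z.map (MulAut.conj h).toMonoidHom)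
    (S.isPGroup'.to_le hZS) le_sup_right hodd ((S.isPGroup'.to_le hZS).map _) (by
      rintro _ ⟨w, hw, rfl⟩
      have h1 : h * w * h⁻¹ = (w * h * w⁻¹ * h⁻¹)⁻¹ * w := by simp [mul_assoc]
      show h * w * h⁻¹ ∈ R
      rw [h1]
      exact R.mul_mem (Subgroup.mem_sup_left (O.inv_mem (hZ w hw h))) (Subgroup.mem_sup_right hw))
  obtain ⟨o, ho, z, hz, rfl⟩ := Subgroup.mem_sup_of_normal_left.mp hrR
  -- `o * z * h` normalizes, hence centralizes, `Z`
  have hC : o * z * h ∈ Subgroup.centralizer (Z : Set G) := by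
    rw [Subgroup.mem_centralizer_iff]
    intro w hw
    set x := o * z * h with hx
    have h1 : x * w * x⁻¹ ∈ Z := by
      have := hr (h * w * h⁻¹) ⟨w, hw, rfl⟩
      simpa [hx, mul_assoc] using this
    have h2 : w * x * w⁻¹ * x⁻¹ ∈ O := hZ w hw x
    have h3 : w * (x * w * x⁻¹)⁻¹ = 1 := hdisj _ (by simpa [mul_assoc] using h2)
      ((S : Subgroup G).mul_mem (hZS hw) ((S : Subgroup G).inv_mem (hZS h1)))
    rw [mul_inv_eq_one, eq_mul_inv_iff_mul_eq] at h3
    exact h3
  -- `z` already centralizes `Z` modulo the core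
  refine ⟨z⁻¹ * o⁻¹ * z, ?_, z⁻¹ * (o * z * h), ?_, by simp [mul_assoc]⟩
  · simpa using hn.conj_mem _ (O.inv_mem ho) z⁻¹
  · refine Subgroup.mul_mem _ ?_ hC
    rw [Subgroup.mem_centralizer_iff]
    intro w hw
    have h2 : w * z⁻¹ * w⁻¹ * z⁻¹⁻¹ ∈ O := hZ w hw z⁻¹
    have h3 := hdisj _ h2 ((S : Subgroup G).mul_mem ((S : Subgroup G).mul_mem
      ((S : Subgroup G).mul_mem (hZS hw) ((S : Subgroup G).inv_mem (hZS hz)))
      ((S : Subgroup G).inv_mem (hZS hw))) ((S : Subgroup G).inv_mem ((S : Subgroup G).inv_mem (hZS hz))))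
    rw [mul_inv_eq_one, mul_inv_eq_iff_eq_mul] at h3
    exact h3

/-- The product of the core with the centre of `S` is normal when an involution of `S` is isolated. -/
theorem core_mul_center_normal (S : Sylow 2 G)
    (hS : Cfsg.IsQuasiDihedral (S : Subgroup G) ∨ Cfsg.IsWreathed (S : Subgroup G)) (z : G)
    (hzS : z ∈ S) (hz : Cfsg.IsIsolatedInvolution z) :
    (Cfsg.oddCore G ⊔ (Subgroup.center (S : Subgroup G)).map (S : Subgroup G).subtype).Normal := by
  set Z := (Subgroup.center (S : Subgroup G)).map (S : Subgroup G).subtype with hZdef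
  haveI hn : (Cfsg.oddCore G).Normal := pPrimeCore_normal 2 G
  have hzc : ∀ s ∈ (S : Subgroup G), s * z = z * s := fun s hs =>
    (Isolated.commute_of_mem_two_group hz S.isPGroup' hzS hs).eq
  have key : ∀ w ∈ Z, ∀ g : G, w * g * w⁻¹ * g⁻¹ ∈ Cfsg.oddCore G := by
    rcases hS with hQD | hW
    · -- the centre is generated by `z`
      obtain ⟨D⟩ := CfsgLib.TwoFusion.exists_qdGens hQD
      have hZc : ∀ t : (S : Subgroup G), t ∈ Subgroup.center (S : Subgroup G) → t = 1 ∨ t = D.x ^ (4 * D.P) := by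
        intro t ht
        obtain ⟨i, rfl | rfl⟩ := D.normalForm t
        · have h := D.commute_zpow_zy_iff.mp (((Subgroup.mem_center_iff.mp ht) (D.x ^ (0 : ℤ) * D.y)).symm)
          obtain ⟨c, rfl⟩ := h
          rcases Int.even_or_odd c with ⟨d, rfl⟩ | ⟨d, rfl⟩
          · exact Or.inl (D.zpow_eq_one_iff.mpr ⟨d, by ring⟩)
          · exact Or.inr (D.zpow_eq_iff.mpr ⟨d, by ring⟩)
        · exfalso
          have h := D.commute_zpow_zy_iff.mp ((Subgroup.mem_center_iff.mp ht) (D.x ^ (1 : ℤ)))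
          have := D.P_pos
          have := Int.le_of_dvd one_pos h
          omega
      have hz1 : (⟨z, hzS⟩ : (S : Subgroup G)) = D.x ^ (4 * D.P) :=
        (hZc _ (Subgroup.mem_center_iff.mpr fun s => Subtype.ext (hzc s s.2))).resolve_left fun e => by
          have h1 : z = 1 := congrArg Subtype.val e
          have := hz.1
          rw [h1, orderOf_one] at this
          omega
      rintro _ ⟨t, ht, rfl⟩ g
      rcases hZc t ht with rfl | rfl
      · simp
      · rw [← hz1]
        exact CfsgLib.Invol.zStar hz g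
    · -- the abelian base is not fused, so subgroups of the centre are weakly closed
      obtain ⟨D⟩ := CfsgLib.TwoFusion.exists_wrGens hW
      have hz2 : z = WRFusion.cG D := WRFusion.center_involution D hzS hzc
        (fun e => by have := hz.1; rw [e, orderOf_one] at this; omega)
        (mul_self_of_orderOf_eq_two hz.1)
      have hac : ¬ IsConj (WRFusion.aG D) (WRFusion.cG D) := by
        intro h
        obtain ⟨g, hg⟩ := isConj_iff.mp h.symm
        have h1 : Commute z (g * z * g⁻¹) := by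
          rw [hz2, hg]
          exact WRFusion.cG_comm D ((D.u (2 * D.Q) 0).2)
        have h2 := hz.2 g h1
        rw [hz2, hg] at h2
        exact WRFusion.aG_ne_cG D h2
      intro w hw g
      exact central_mod_core S (Z := Z) (Subgroup.map_subtype_le _)
        (fun s hs v hv => by
          obtain ⟨t, ht, rfl⟩ := hv
          exact congrArg Subtype.val (Subgroup.mem_center_iff.mp ht ⟨s, hs⟩))
        (fun W hWZ => WRFusion.weakly_closed S D hac W hWZ) hw g
  refine ⟨fun x hx g => ?_⟩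
  obtain ⟨o, ho, w, hw, rfl⟩ := Subgroup.mem_sup_of_normal_left.mp hx
  have h1 : g * (o * w) * g⁻¹ = g * o * g⁻¹ * (w * g * w⁻¹ * g⁻¹)⁻¹ * w := by simp [mul_assoc]
  rw [h1]
  exact Subgroup.mul_mem _ (Subgroup.mem_sup_left (Subgroup.mul_mem _ (hn.conj_mem o ho g)
    (Subgroup.inv_mem _ (key w hw g)))) (Subgroup.mem_sup_right hw)

end CfsgLib.TwoFusion.WeakCentre
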